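import Cfsg.Agent.H424.EPX.OwnG
import Cfsg.Agent.H451.EPX.R1SzIso
import Cfsg.Agent.H137.EPX.R1ReeC

/-!
# Canonical Borel–Tits for all simple groups of Lie type (helper6)

`hasCan_of_lie` : `HasCan p T` for `T` simple of Lie type in characteristic `p`.
-/

set_option autoImplicit false

namespace Cfsg.Agent.TH.Own.Am

open Cfsg.Agent.H284 Cfsg.Agent.H737.EPO Cfsg.Agent.H470.EPO Cfsg.Agent.H424.EPX Cfsg.Agent.KFacts.RgdFilt

variable {T : Type} [Group T] [Finite T] [IsSimpleGroup T] {p : ℕ} [Fact p.Prime]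

theorem hasCan_of_filt (hc : ∃ a b : T, a * b ≠ b * a) (h : HasFilt p T) : HasCan p T := by
  obtain ⟨l, M, A, hC, Tt, n, X, R, hW, hBT, hGG, -, hconn, hX, -⟩ := h.data hc
  exact ⟨T, inferInstance, inferInstance, Fin l, ofRGD R hBT hGG hX hconn, MulEquiv.refl T,
    canV_of_bt _ fun Q hQ h1 => hBT Q hQ h1⟩

theorem hasCan_of_r1 (D : R1 p T) : HasCan p T := by
  refine ⟨T, inferInstance, inferInstance, Unit, D.psys, MulEquiv.refl T, canV_of_bt _ fun Q hQ h1 => ?_⟩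
  obtain ⟨P, hP⟩ := hQ.exists_le_sylow
  obtain ⟨P₀, hP₀⟩ := D.pU.exists_le_sylow
  have h2 : (P₀ : Subgroup T) = D.U := D.mU _ hP₀ P₀.isPGroup'
  obtain ⟨g, rfl⟩ := MulAction.exists_smul_eq T P₀ P
  have h3 : Q ≤ cj g D.U := by
    rw [← h2]
    exact hP
  refine ⟨g, ∅, Set.empty_ne_univ, by rwa [D.psys_V], fun x hx => ?_⟩
  rw [D.psys_P, mem_cj]
  by_contra h4
  obtain ⟨u, hu, hu1⟩ := (Subgroup.bot_or_exists_ne_one Q).resolve_left h1
  have h5 : g⁻¹ * u * g ∈ D.U := mem_cj.1 (h3 hu)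
  have h6 : g⁻¹ * (x⁻¹ * u * x) * g ∈ D.U := mem_cj.1 (h3 ((Subgroup.mem_normalizer_iff''.1 hx u).1 hu))
  have h7 := D.ti' h4 h5 (mem_cj.2 (D.U_le (by simpa [mul_assoc] using h6)))
  apply hu1
  have h8 : u = g * (g⁻¹ * u * g) * g⁻¹ := by group
  rw [h8, h7]
  group

theorem hasCan_of_lie (hc : ∃ a b : T, a * b ≠ b * a) (h : IsLieTypeChar p T) : HasCan p T := by
  have hF : KFacts.RgdLieCharP.IsLieFilt p T → HasCan p T := fun h =>
    hasCan_of_filt hc (KFacts.RgdLieCharP.hasFilt_of_lie h)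
  rcases h with h | h | h | h | h | h | h | h | ⟨rfl, h⟩ | ⟨rfl, h⟩ | ⟨rfl, h⟩
  · exact hF (Or.inl h)
  · exact hF (Or.inr (Or.inl h))
  · exact hF (Or.inr (Or.inr (Or.inl h)))
  · exact hF (Or.inr (Or.inr (Or.inr (Or.inl h))))
  · exact hF (Or.inr (Or.inr (Or.inr (Or.inr (Or.inl h)))))
  · exact hF (Or.inr (Or.inr (Or.inr (Or.inr (Or.inr (Or.inl h))))))
  · exact hF (Or.inr (Or.inr (Or.inr (Or.inr (Or.inr (Or.inr (Or.inl h)))))))
  · exact hF (Or.inr (Or.inr (Or.inr (Or.inr (Or.inr (Or.inr (Or.inr h)))))))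
  · obtain ⟨D, -⟩ := H451.EPX.r1_sz h
    exact hasCan_of_r1 D
  · exact hasCan_TF4 h
  · obtain ⟨D, -⟩ := H137.EPX.r1_isoRee h
    exact hasCan_of_r1 D

/-- a canonical `p`-subgroup above `D` which is not inside the maximal subgroup `H` -/
theorem exists_gt {G : Type*} [Group G] [Finite G] {N H : Subgroup G} (hN : N.Normal) (hc : HasCan p N)
    (hmax : IsCoatom H) (hcore : ¬ N ≤ H)
    (hOp : ∀ K ≤ H, (∀ g ∈ H, ∀ k ∈ K, g * k * g⁻¹ ∈ K) → IsPGroup p K → K = ⊥)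
    {D : Subgroup G} (hD1 : D ≠ ⊥) (hDp : IsPGroup p D) (hDN : D ≤ N) :
    ∃ Q : Subgroup G, IsPGroup p Q ∧ Q ≤ N ∧ D ≤ Q ∧ (∀ g : G, cj g D = D → cj g Q = Q) ∧ ¬ Q ≤ H := by
  obtain ⟨Y, _, _, I₀, S₀, f, hcan⟩ := hc
  obtain ⟨j, hjd⟩ : ∃ j : Y →* G, j = N.subtype.comp f.toMonoidHom := ⟨_, rfl⟩
  have hj : Function.Injective j := by
    rw [hjd]
    exact N.subtype_injective.comp f.injective
  have hr : j.range = N := by
    rw [hjd, MonoidHom.range_comp, MonoidHom.range_eq_top.2 f.surjective, ← MonoidHom.range_eq_map,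
      Subgroup.range_subtype]
  have hn : j.range.Normal := hr ▸ hN
  have hD' : D = (D.comap j).map j := by rw [Subgroup.map_comap_eq, hr, inf_eq_right.2 hDN]
  have hD1' : D.comap j ≠ ⊥ := fun h1 => hD1 (by rw [hD', h1, Subgroup.map_bot])
  obtain ⟨J, g, hJ, h1, h2⟩ := hcan _ (hDp.comap_of_injective j hj) hD1'
  refine ⟨(cj g (S₀.V J)).map j, ((S₀.V_p J).map _).map _, hr ▸ Subgroup.map_le_range _ _,
    hD'.le.trans (Subgroup.map_mono h1), fun a ha => ?_, fun h3 => ?_⟩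
  · refine Subgroup.eq_of_le_of_card_ge ?_ (H284.card_cj a _).ge
    rintro _ ⟨_, ⟨y, hy, rfl⟩, rfl⟩
    obtain ⟨φ, hφ⟩ := H470.EPO.exists_conj hj hn a
    refine ⟨φ y, h2 φ (fun z hz => ?_) y hy, hφ y⟩
    show j (φ z) ∈ D
    rw [hφ, ← ha]
    exact ⟨_, hz, rfl⟩
  · exact not_V_le S₀ hj hn hmax (hr ▸ hcore) hOp hJ (g := g) fun v hv => h3 ⟨v, hv, rfl⟩

end Cfsg.Agent.TH.Own.Am
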