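import Mathlib
import Cfsg.Agent.TH.Boxes
import Cfsg.Agent.TH.Basic

/-!
# S3541, `BoxOwn`: the interface (helper74).  Paper proof: `notes/TH/own74.md`, `notes/TH/own74b.md`.

* `Amb Ω T p m` : all that is used about the action of `G` on `Ω` and about the socle `T`;
* `PS G p I` : a Sylow `p`-subgroup `X` of `D univ` with the groups `D J` generated by the conjugates of `X` in the
  parabolic subgroups, `I` the set of nodes;
* `US` : the system of the product `E` of an orbit of components (`X = U`, `D univ = E`), `Comps` : its components;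
* `FS` : the folded system (`X = O_p(N_{T_a}(U))`, `D univ = E X`, nodes = orbits of `X`), `Fold` : the relation;
* `R1D` : the data for `E` of rank one;
* the boxes `BoxAmb`, `BoxBld`, `BoxR1D`, `BoxFold`, `BoxOne`, `BoxTwo`, `BoxRk1` and `boxOwn_of`.
-/

set_option autoImplicit false

namespace Cfsg.Agent.TH.Own

open MulAction

section Amb

variable {G : Type*} [Group G]

/-- the action of `G` on `Ω`, the socle `T` -/
structure Amb (Ω : Type*) [MulAction G Ω] (T : Subgroup G) (p m : ℕ) : Prop where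
  prime : p.Prime
  nrm : T.Normal
  trans : ∀ a b : Ω, ∃ t ∈ T, t • a = b
  card2 : ∀ a b : Ω, a ≠ b → Nat.card ↥(stabilizer G a ⊓ stabilizer G b) = m
  not2 : ∀ a : Ω, ∃ b c : Ω, b ≠ a ∧ c ≠ a ∧ ∀ h : G, h • a = a → h • b ≠ c
  max : ∀ a : Ω, IsCoatom (stabilizer G a)
  faith : ∀ g : G, (∀ a : Ω, g • a = a) → g = 1
  /-- `T_{ab}` contains a Sylow `p`-subgroup of `T_a` -/
  syl : ∀ (a b : Ω) (P : Subgroup G), IsPGroup p P → P ≤ T → P ≤ stabilizer G a →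
    ∃ t ∈ T, t • a = a ∧ cj t P ≤ stabilizer G b
  /-- canonical Borel–Tits -/
  gt : ∀ (a : Ω) (D : Subgroup G), D ≠ ⊥ → IsPGroup p D → D ≤ T → D ≤ stabilizer G a →
    ∃ Q : Subgroup G, IsPGroup p Q ∧ Q ≤ T ∧ D ≤ Q ∧ (∀ g : G, cj g D = D → cj g Q = Q) ∧ ¬ Q ≤ stabilizer G a
  nsq : ∀ k : ℕ, Nat.card Ω ≠ p ^ (2 * k)

/-- the conjugates of `X` under `L` -/
def Cjs (L X : Subgroup G) : Set (Subgroup G) := {P | ∃ e ∈ L, P = cj e X}

/-- their number -/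
noncomputable def nS (L X : Subgroup G) : ℕ := (Cjs L X).ncard

/-- their intersection -/
def rad (L X : Subgroup G) : Subgroup G := sInf (Cjs L X)

/-- `X` is transitive on its other conjugates -/
def Spl (L X : Subgroup G) : Prop :=
  ∀ P ∈ Cjs L X, P ≠ X → ∀ P' ∈ Cjs L X, P' ≠ X → ∃ x ∈ X, cj x P = P'

/-- adjacent nodes -/
def AdjD {I : Type*} (D : Set I → Subgroup G) (X : Subgroup G) (i j : I) : Prop :=
  i ≠ j ∧ nS (D {i, j}) X ≠ nS (D {i}) X * nS (D {j}) X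

end Amb

/-- a Sylow subgroup `X` of `D univ` and the groups `D J = ⟨X ^ P_J⟩` -/
structure PS (G : Type*) [Group G] (p : ℕ) (I : Type*) where
  X : Subgroup G
  D : Set I → Subgroup G
  isP : IsPGroup p X
  D_empty : D ∅ = X
  mono : ∀ {J L : Set I}, J ⊆ L → D J ≤ D L
  le_iff : ∀ {J L : Set I}, D J ≤ D L → J ⊆ L
  syl : ∀ P : Subgroup G, P ≤ D Set.univ → IsPGroup p P → ∃ R ∈ Cjs (D Set.univ) X, P ≤ R
  ov : ∀ K : Subgroup G, X ≤ K → K ≤ D Set.univ → ∃ J, D J ≤ K ∧ ∀ k ∈ K, cj k X ∈ Cjs (D J) X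
  gen : ∀ (J : Set I) (K : Subgroup G), (∀ P ∈ Cjs (D J) X, P ≤ K) → D J ≤ K
  nrm : ∀ n ∈ D Set.univ, cj n X = X → ∀ J, cj n (D J) = D J
  vx : ∀ J, ∀ P ∈ Cjs (D Set.univ) X, rad (D J) X ≤ P → P ∈ Cjs (D J) X
  rk2 : ∀ j k, j ≠ k → Spl (D {j}) X → Spl (D {k}) X → ∃ e : ℕ,
    nS (D {j, k}) X = nS (D {j}) X * nS (D {k}) X + (nS (D {j}) X - 1) * (nS (D {k}) X - 1) * e ∧ (e = 0 ∨ ¬ p ∣ e)
  endn : ∃ i, ∀ j k, AdjD D X i j → AdjD D X i k → j = k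

/-- `D univ` is a normal subgroup of the stabiliser of `a`, inside `T` -/
structure PS.At {G : Type*} [Group G] {p : ℕ} {I : Type*} (S : PS G p I) {Ω : Type*} [MulAction G Ω]
    (T : Subgroup G) (a : Ω) : Prop where
  leT : S.D Set.univ ≤ T
  fix : S.D Set.univ ≤ stabilizer G a
  nrmH : ∀ h : G, h • a = a → cj h (S.D Set.univ) = S.D Set.univ

/-- the system of a product of components: all nodes split, projections on panels, rigidity -/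
structure US (G : Type*) [Group G] (p : ℕ) (I : Type*) extends PS G p I where
  split : ∀ i, Spl (D {i}) X
  pan : ∀ i, ∀ P ∈ Cjs (D {i}) X, P ≠ X → X ⊓ P ≤ rad (D {i}) X
  proj : ∀ J, ∀ P ∈ Cjs (D J) X, P ≠ X → ∃ i ∈ J, ∃ R ∈ Cjs (D {i}) X, R ≠ X ∧
    ∀ R' ∈ Cjs (D {i}) X, R' ≠ R → Nat.card ↥(R' ⊓ P) < Nat.card ↥(R ⊓ P)
  opp : ∃ P₀ ∈ Cjs (D Set.univ) X, X ⊓ P₀ = ⊥ ∧
    (∀ P ∈ Cjs (D Set.univ) X, X ⊓ P = ⊥ → ∃ u ∈ X, cj u P = P₀) ∧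
    (∀ i, ∃ R ∈ Cjs (D {i}) X, R ⊓ P₀ ≠ ⊥ ∧ ∀ R' ∈ Cjs (D {i}) X, R' ≠ R → R' ⊓ P₀ = ⊥) ∧
    ∀ h : G, cj h (D Set.univ) = D Set.univ → cj h P₀ = P₀ → (∀ i, ∀ R ∈ Cjs (D {i}) X, cj h R = R) →
      ∀ P ∈ Cjs (D Set.univ) X, cj h P = P

/-- the components of `D univ` -/
structure Comps {G : Type*} [Group G] {p : ℕ} {I : Type*} (S : US G p I) (ι : Type*) where
  c : I → ι
  E : ι → Subgroup G
  surj : Function.Surjective c
  quasi : ∀ l, Cfsg.IsQuasisimple ↥(E l)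
  comm : ∀ l l', l ≠ l' → ∀ x ∈ E l, ∀ y ∈ E l', x * y = y * x
  top : S.D Set.univ = ⨆ l, E l
  D_eq : ∀ A : Set ι, S.D (c ⁻¹' A) = S.X ⊔ ⨆ l ∈ A, E l
  X_eq : S.X = ⨆ l, S.X ⊓ E l
  X_ne : ∀ l, S.X ⊓ E l ≠ ⊥
  perm : ∀ h : G, cj h (S.D Set.univ) = S.D Set.univ → ∀ l, ∃ l', cj h (E l) = E l'

/-- the folded system: labels and the nodes which are not split -/
structure FS (G : Type*) [Group G] (p : ℕ) (I : Type*) extends PS G p I where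
  Y : I → Subgroup G
  Y_le : ∀ i, Y i ≤ X
  Y_nrm : ∀ i, ∀ x ∈ X, cj x (Y i) = Y i
  y1 : ∀ i, ∃ P ∈ Cjs (D {i}) X, P ≠ X ∧ Y i ≤ P
  y2 : ∀ (J : Set I) (Z : Subgroup G), Z ≤ X → (∀ x ∈ X, cj x Z = Z) → ∀ P ∈ Cjs (D J) X, P ≠ X → Z ≤ P →
    ∃ i ∈ J, Z ≤ Y i
  y3 : ∀ i k, Y i ≤ Y k → i = k
  multi : ∀ i, ¬ Spl (D {i}) X → ∃ (K : Subgroup G) (a : ℕ), rad (D {i}) X ≤ K ∧ K ≤ X ∧
    p ^ a ∣ nS (D {i}) X - 1 ∧ ¬ p ^ a ∣ {P ∈ Cjs (D {i}) X | K ≤ P}.ncard - 1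
  iso5 : ∀ i, Spl (D {i}) X → (∀ k, ¬ AdjD D X i k) → 5 ≤ nS (D {i}) X

/-- `X = O_p(N_{T_a}(X))`, and rigidity when all panels have three chambers -/
structure FS.At {G : Type*} [Group G] {p : ℕ} {I : Type*} (F : FS G p I) {Ω : Type*} [MulAction G Ω]
    (T : Subgroup G) (a : Ω) : Prop extends F.toPS.At T a where
  maxX : ∀ P : Subgroup G, IsPGroup p P → P ≤ T → P ≤ stabilizer G a → (∀ g ∈ P, cj g F.X = F.X) →
    (∀ g ∈ T, g • a = a → cj g F.X = F.X → cj g P = P) → P ≤ F.X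
  rig2 : (∀ i, Spl (F.D {i}) F.X ∧ nS (F.D {i}) F.X = 3) → ∀ g : G, g • a = a → cj g F.X = F.X →
    (∀ i, cj g (F.D {i}) = F.D {i}) → ∃ x ∈ F.X, ∀ P ∈ Cjs (F.D Set.univ) F.X, cj (x * g) P = P

/-- `F` is the folded system of `S` -/
structure Fold {G : Type*} [Group G] {p : ℕ} {I I' : Type*} (S : US G p I) (F : FS G p I') (κ : I → I')
    {Ω : Type*} [MulAction G Ω] (a : Ω) : Prop where
  surj : Function.Surjective κ
  D_eq : ∀ J, F.D J = S.D (κ ⁻¹' J) ⊔ F.X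
  inf : F.X ⊓ S.D Set.univ = S.X
  nX : ∀ g : G, g • a = a → cj g S.X = S.X → cj g F.X = F.X
  fib : ∀ i k, κ i = κ k → ∃ x ∈ F.X, cj x (S.D {i}) = S.D {k}

section

variable {G : Type*} [Group G]

/-- the subgroup generated by the `p`-elements of `N_{T_a}(X)` -/
def Np (p : ℕ) {Ω : Type*} [MulAction G Ω] (T : Subgroup G) (a : Ω) (X : Subgroup G) : Subgroup G :=
  Subgroup.closure {g | g ∈ T ∧ g • a = a ∧ cj g X = X ∧ ∃ n : ℕ, g ^ p ^ n = 1}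

/-- `Np` is transitive on the nodes -/
def PTrans {p : ℕ} {I : Type*} (S : PS G p I) {Ω : Type*} [MulAction G Ω] (T : Subgroup G) (a : Ω) : Prop :=
  ∀ i k, ∃ g ∈ Np p T a S.X, cj g (S.D {i}) = S.D {k}

/-- the centre of `E` -/
def Zc (E : Subgroup G) : Subgroup G := E ⊓ Subgroup.centralizer (E : Set G)

/-- the stabiliser in `E` of two Sylow subgroups -/
def T0 (E U U' : Subgroup G) : Subgroup G := E ⊓ Subgroup.normalizer (U : Set G) ⊓ Subgroup.normalizer (U' : Set G)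

/-- `L₂(q)` -/
def CaseL (E U U' T1 : Subgroup G) : Prop :=
  T1 = Zc E ∧ Nat.card (Zc E) ≤ 2 ∧ Nat.card U ≤ 2 * (Zc E).relIndex (T0 E U U') + 1

/-- `Sz(q)` -/
def CaseS (p : ℕ) (E U U' T1 : Subgroup G) : Prop :=
  p = 2 ∧ T1 = ⊥ ∧ ∃ q : ℕ, Nat.card U = q ^ 2 ∧ Nat.card (T0 E U U') + 1 = q

/-- `U₃(q)`, `q` odd, and `Ree(q)` -/
def CaseO (p : ℕ) (E U U' T1 : Subgroup G) : Prop :=
  p ≠ 2 ∧ ∃ q : ℕ, Nat.card U = q ^ 3 ∧ q - 1 ∣ 2 * T1.relIndex (T0 E U U') ∧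
    Nat.Coprime (Nat.card (Zc E)) (2 * T1.relIndex (T0 E U U')) ∧
    ∃ t ∈ T1, t ∉ Zc E ∧ t * t = 1 ∧ Nat.card ↥(U ⊓ Subgroup.centralizer {t}) = q

/-- `U₃(q)`, `q` even -/
def CaseE (p : ℕ) (E U U' T1 : Subgroup G) : Prop :=
  p = 2 ∧ ∃ q : ℕ, 4 ≤ q ∧ Nat.card U = q ^ 3 ∧ T1.relIndex (T0 E U U') + 1 = q ∧
    Nat.Coprime (Nat.card (Zc E)) (T1.relIndex (T0 E U U')) ∧ q ^ 2 - 1 ∣ 3 * (Zc E).relIndex (T0 E U U') ∧
    (∀ t ∈ T1, t ∉ Zc E → Nat.card ↥(U ⊓ Subgroup.centralizer {t}) = q) ∧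
    ∀ W : Subgroup G, (∀ w ∈ W, cj w E = E) → (∀ w ∈ W, w * w = 1) → W ⊓ Subgroup.centralizer (E : Set G) = ⊥ →
      Nat.card W ≤ 2 * q

/-- the data for `E` of rank one: the torus is cyclic modulo the centre, its elements outside `T1` are regular -/
def R1D (p : ℕ) (E U : Subgroup G) : Prop :=
  ∃ U' T1 : Subgroup G, U' ∈ Cjs E U ∧ U' ≠ U ∧
    (∃ t₀ ∈ T0 E U U', ∀ t ∈ T0 E U U', ∃ (k : ℕ) (z : G), z ∈ Zc E ∧ t = t₀ ^ k * z) ∧
    Zc E ≤ T1 ∧ T1 ≤ T0 E U U' ∧ T1 ≠ T0 E U U' ∧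
    (∀ t ∈ T0 E U U', t ∉ T1 → ∀ u ∈ U, u * t = t * u → u = 1) ∧
    (CaseL E U U' T1 ∨ CaseS p E U U' T1 ∨ CaseO p E U U' T1 ∨ CaseE p E U U' T1)

end

/-! ### The boxes -/

/-- [AMB] Borel–Tits in `T`, `p ∣ n`, the degree is not an even power of `p` -/
def BoxAmb : Prop :=
  ∀ (G : Type) [Group G] [Finite G] (T H : Subgroup G) (m p : ℕ), LieCtx T H m p → Amb (G ⧸ H) T p m

/-- [BLD] the system of an orbit of components -/
def BoxBld : Prop :=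
  ∀ (G : Type) [Group G] [Finite G] (T H : Subgroup G) (m p : ℕ), LieCtx T H m p → HasOwn p H →
    ∃ (I ι : Type) (_ : Finite I) (_ : Finite ι) (S : US G p I) (C : Comps S ι), S.toPS.At T ((1 : G) : G ⧸ H) ∧
      ∀ l, Cfsg.IsLieTypeChar p (↥(C.E l) ⧸ Subgroup.center ↥(C.E l)) ∧ ¬ p ∣ Nat.card (Zc (C.E l))

/-- [R1D] the data of the four families of rank one -/
def BoxR1D : Prop :=
  ∀ (G : Type) [Group G] [Finite G] (p : ℕ) (E U : Subgroup G), p.Prime → Cfsg.IsQuasisimple ↥E →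
    Cfsg.IsLieTypeChar p (↥E ⧸ Subgroup.center ↥E) → ¬ p ∣ Nat.card (Zc E) → U ≤ E → IsPGroup p U →
    (∀ P : Subgroup G, P ≤ E → IsPGroup p P → ∃ R ∈ Cjs E U, P ≤ R) → Spl E U → R1D p E U

/-- [FOLD] folding -/
def BoxFold : Prop :=
  ∀ (G : Type) [Group G] [Finite G] (Ω : Type) [MulAction G Ω] (T : Subgroup G) (p : ℕ) (a : Ω) (I ι : Type) [Finite I]
    [Finite ι] (S : US G p I) (_ : Comps S ι), p.Prime → T.Normal → S.toPS.At T a →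
    ∃ (I' : Type) (_ : Finite I') (F : FS G p I') (κ : I → I'), F.At T a ∧ Fold S F κ a

/-- [ONE] `Np` is not transitive on the folded nodes -/
def BoxOne : Prop :=
  ∀ (G : Type) [Group G] [Finite G] (Ω : Type) [MulAction G Ω] (T : Subgroup G) (p m : ℕ) (a : Ω) (I : Type) [Finite I]
    (F : FS G p I), Amb Ω T p m → F.At T a → PTrans F.toPS T a

/-- [TWO] `Np` is transitive on the folded nodes, at least two nodes -/
def BoxTwo : Prop :=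
  ∀ (G : Type) [Group G] [Finite G] (Ω : Type) [MulAction G Ω] (T : Subgroup G) (p m : ℕ) (a : Ω) (I ι I' : Type)
    [Finite I] [Finite ι] [Finite I'] (S : US G p I) (_ : Comps S ι) (F : FS G p I') (κ : I → I'),
    Amb Ω T p m → S.toPS.At T a → F.At T a → Fold S F κ a → PTrans F.toPS T a → Subsingleton I

/-- [RK1] one node -/
def BoxRk1 : Prop :=
  ∀ (G : Type) [Group G] [Finite G] (Ω : Type) [MulAction G Ω] (T : Subgroup G) (p m : ℕ) (a : Ω) (I I' : Type)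
    [Unique I] [Finite I'] (S : US G p I) (F : FS G p I') (κ : I → I'),
    Amb Ω T p m → S.toPS.At T a → F.At T a → Fold S F κ a → Cfsg.IsQuasisimple ↥(S.D Set.univ) →
    R1D p (S.D Set.univ) S.X → False

/-- **the assembly** -/
theorem boxOwn_of (h1 : BoxAmb) (h2 : BoxBld) (h3 : BoxR1D) (h4 : BoxFold) (h5 : BoxOne) (h6 : BoxTwo)
    (h7 : BoxRk1) : BoxOwn := by
  intro _ G _ _ T H m p c ho
  have hA := h1 G T H m p c
  obtain ⟨I, ι, _, _, S, C, hS, hE⟩ := h2 G T H m p c ho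
  obtain ⟨I', _, F, κ, hF, hκ⟩ := h4 G (G ⧸ H) T p _ I ι S C c.prime hA.nrm hS
  have hI := h6 G (G ⧸ H) T p m _ I ι I' S C F κ hA hS hF hκ (h5 G (G ⧸ H) T p m _ I' F hA hF)
  obtain ⟨i, -⟩ := S.endn
  let _ : Unique I := uniqueOfSubsingleton i
  have hι : ∀ l, l = C.c i := fun l => by
    obtain ⟨k, rfl⟩ := C.surj l
    rw [Subsingleton.elim k i]
  have h8 : S.D Set.univ = C.E (C.c i) := by
    rw [C.top]
    exact le_antisymm (iSup_le fun l => by rw [hι l]) (le_iSup C.E _)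
  have h9 : ({i} : Set I) = Set.univ := Set.eq_univ_of_forall fun k => Subsingleton.elim k i
  refine h7 G (G ⧸ H) T p m _ I I' S F κ hA hS hF hκ (h8 ▸ C.quasi _) ?_
  have h10 := h3 G p (C.E (C.c i)) S.X c.prime (C.quasi _) (hE _).1 (hE _).2
    (by rw [← h8, ← S.D_empty]; exact S.mono (Set.empty_subset _)) S.isP (by rw [← h8]; exact S.syl)
    (by rw [← h8, ← h9]; exact S.split i)
  rwa [h8]

end Cfsg.Agent.TH.Own
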