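import Mathlib
import Cfsg.Agent.TH.Own.Defs

/-!
# S3541, `BoxOwn`: general lemmas on conjugation, `p`-subgroups and orbits (helper74)
-/

set_option autoImplicit false
set_option linter.unusedSectionVars false
set_option linter.unusedVariables false

namespace Cfsg.Agent.TH.Own

open MulAction

section Cj

variable {G : Type*} [Group G]

theorem cj_inj (g : G) {A B : Subgroup G} (h : cj g A = cj g B) : A = B := by
  rw [← cj_inv_cj g A, h, cj_inv_cj]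

theorem cj_sup (g : G) (A B : Subgroup G) : cj g (A ⊔ B) = cj g A ⊔ cj g B := Subgroup.map_sup _ _ _

theorem cj_iSup {ι : Sort*} (g : G) (A : ι → Subgroup G) : cj g (⨆ i, A i) = ⨆ i, cj g (A i) :=
  Subgroup.map_iSup _ _

theorem cj_bot (g : G) : cj g (⊥ : Subgroup G) = ⊥ := Subgroup.map_bot _

theorem cj_eq_bot {g : G} {A : Subgroup G} : cj g A = ⊥ ↔ A = ⊥ :=
  ⟨fun h => cj_inj g (h.trans (cj_bot g).symm), fun h => by rw [h, cj_bot]⟩

theorem cj_normal (g : G) (T : Subgroup G) [h : T.Normal] : cj g T = T := by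
  ext x
  rw [mem_cj]
  exact ⟨fun hx => by simpa [mul_assoc] using h.conj_mem _ hx g, fun hx => by simpa using h.conj_mem _ hx g⁻¹⟩

theorem conj_mem_cj_iff {H : Subgroup G} {x g : G} : g * x * g⁻¹ ∈ cj g H ↔ x ∈ H := by
  rw [mem_cj]; simp [mul_assoc]

theorem nm_iff {g : G} {K : Subgroup G} : g ∈ Subgroup.normalizer (K : Set G) ↔ cj g K = K :=
  ⟨cj_eq_of_mem_normalizer, mem_normalizer_of_cj_eq⟩

theorem nm_mul {g g' : G} {K : Subgroup G} (h : cj g K = K) (h' : cj g' K = K) : cj (g * g') K = K := by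
  rw [cj_mul, h', h]

theorem nm_inv {g : G} {K : Subgroup G} (h : cj g K = K) : cj g⁻¹ K = K := by
  conv_lhs => rw [← h]
  exact cj_inv_cj g K

theorem nm_conj {g x : G} {K : Subgroup G} (h : cj g K = K) (hx : x ∈ K) : g * x * g⁻¹ ∈ K :=
  h ▸ conj_mem_cj g hx

theorem nm_conj' {g x : G} {K : Subgroup G} (h : cj g K = K) (hx : x ∈ K) : g⁻¹ * x * g ∈ K :=
  mem_cj.1 (h.symm ▸ hx)

theorem nm_cj {g x : G} {K : Subgroup G} (h : cj x K = K) : cj (g * x * g⁻¹) (cj g K) = cj g K := by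
  rw [← cj_mul, inv_mul_cancel_right, cj_mul, h]

theorem nm_cj_iff {g x : G} {K : Subgroup G} : cj x (cj g K) = cj g K ↔ cj (g⁻¹ * x * g) K = K := by
  constructor
  · intro h
    rw [cj_mul, cj_mul, h, cj_inv_cj]
  · intro h
    have h1 := nm_cj (g := g) h
    rwa [show g * (g⁻¹ * x * g) * g⁻¹ = x by group] at h1

theorem nm_of_comm {g : G} {K : Subgroup G} (h : ∀ x ∈ K, g * x = x * g) : cj g K = K := by
  ext x
  rw [mem_cj]
  constructor
  · intro hx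
    have h1 := h _ hx
    have h2 : x = g⁻¹ * x * g := by
      have h3 : g * (g⁻¹ * x * g) = x * g := by group
      rw [h3] at h1
      exact mul_right_cancel h1
    rwa [h2]
  · intro hx
    rw [mul_assoc, ← h x hx, inv_mul_cancel_left]
    exact hx

theorem nm_of_le [Finite G] {g : G} {K : Subgroup G} (h : cj g K ≤ K) : cj g K = K :=
  Subgroup.eq_of_le_of_card_ge h (card_cj g K).ge

theorem nm_of_conj [Finite G] {g : G} {K : Subgroup G} (h : ∀ x ∈ K, g * x * g⁻¹ ∈ K) : cj g K = K :=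
  nm_of_le (by rintro _ ⟨x, hx, rfl⟩; exact h x hx)

theorem nm_inf {g : G} {K L : Subgroup G} (h : cj g K = K) (h' : cj g L = L) : cj g (K ⊓ L) = K ⊓ L := by
  rw [cj_inf, h, h']

theorem nm_sup {g : G} {K L : Subgroup G} (h : cj g K = K) (h' : cj g L = L) : cj g (K ⊔ L) = K ⊔ L := by
  rw [cj_sup, h, h']

theorem cj_normalizer (g : G) (K : Subgroup G) :
    cj g (Subgroup.normalizer (K : Set G)) = Subgroup.normalizer ((cj g K : Subgroup G) : Set G) := by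
  ext x
  rw [mem_cj, nm_iff, nm_iff, nm_cj_iff]

theorem cj_centralizer (g : G) (K : Subgroup G) :
    cj g (Subgroup.centralizer (K : Set G)) = Subgroup.centralizer ((cj g K : Subgroup G) : Set G) := by
  ext x
  rw [mem_cj, Subgroup.mem_centralizer_iff, Subgroup.mem_centralizer_iff]
  constructor
  · rintro h _ ⟨y, hy, rfl⟩
    have h1 := h y hy
    show g * y * g⁻¹ * x = x * (g * y * g⁻¹)
    calc g * y * g⁻¹ * x = g * (y * (g⁻¹ * x * g)) * g⁻¹ := by group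
      _ = g * ((g⁻¹ * x * g) * y) * g⁻¹ := by rw [h1]
      _ = _ := by group
  · intro h y hy
    have h1 : g * y * g⁻¹ * x = x * (g * y * g⁻¹) := h _ (conj_mem_cj g hy)
    calc y * (g⁻¹ * x * g) = g⁻¹ * (g * y * g⁻¹ * x) * g := by group
      _ = g⁻¹ * (x * (g * y * g⁻¹)) * g := by rw [h1]
      _ = _ := by group

theorem cj_closure (g : G) (A : Set G) :
    cj g (Subgroup.closure A) = Subgroup.closure ((fun x => g * x * g⁻¹) '' A) :=
  MonoidHom.map_closure _ _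

theorem le_nm_of_closure {A : Set G} {K : Subgroup G} (h : ∀ x ∈ A, cj x K = K) :
    ∀ x ∈ Subgroup.closure A, cj x K = K := fun _ hx =>
  nm_iff.1 ((Subgroup.closure_le (Subgroup.normalizer (K : Set G))).2 (fun y hy => nm_iff.2 (h y hy)) hx)

theorem nm_of_sup {A B K : Subgroup G} (hA : ∀ x ∈ A, cj x K = K) (hB : ∀ x ∈ B, cj x K = K) :
    ∀ x ∈ A ⊔ B, cj x K = K := fun _ hx =>
  nm_iff.1 ((sup_le (fun y hy => nm_iff.2 (hA y hy)) (fun y hy => nm_iff.2 (hB y hy)) :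
    A ⊔ B ≤ Subgroup.normalizer (K : Set G)) hx)

/-- elements of `P Q` when `P` normalises `Q` -/
theorem mem_sup_nm {P Q : Subgroup G} (h : ∀ x ∈ P, cj x Q = Q) {g : G} (hg : g ∈ P ⊔ Q) :
    ∃ x ∈ P, ∃ y ∈ Q, g = x * y := by
  let L : Subgroup G :=
    { carrier := {g | ∃ x ∈ P, ∃ y ∈ Q, g = x * y}
      one_mem' := ⟨1, one_mem _, 1, one_mem _, (mul_one 1).symm⟩
      mul_mem' := by
        rintro _ _ ⟨x, hx, y, hy, rfl⟩ ⟨x', hx', y', hy', rfl⟩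
        exact ⟨x * x', mul_mem hx hx', x'⁻¹ * y * x' * y', mul_mem (nm_conj' (h x' hx') hy) hy', by group⟩
      inv_mem' := by
        rintro _ ⟨x, hx, y, hy, rfl⟩
        exact ⟨x⁻¹, inv_mem hx, x * y⁻¹ * x⁻¹, nm_conj (h x hx) (inv_mem hy), by group⟩ }
  have h1 : P ⊔ Q ≤ L := sup_le (fun x hx => ⟨x, hx, 1, one_mem _, (mul_one x).symm⟩)
    (fun y hy => ⟨1, one_mem _, y, hy, (one_mul y).symm⟩)
  exact h1 hg

theorem mem_sup_nm' {P Q : Subgroup G} (h : ∀ x ∈ P, cj x Q = Q) {g : G} (hg : g ∈ P ⊔ Q) :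
    ∃ y ∈ Q, ∃ x ∈ P, g = y * x := by
  obtain ⟨x, hx, y, hy, rfl⟩ := mem_sup_nm h hg
  exact ⟨x * y * x⁻¹, nm_conj (h x hx) hy, x, hx, by group⟩

variable {Ω : Type*} [MulAction G Ω]

theorem cj_stab (g : G) (a : Ω) : cj g (stabilizer G a) = stabilizer G (g • a) := by
  ext x
  rw [mem_cj, mem_stabilizer_iff, mem_stabilizer_iff, mul_smul, mul_smul, inv_smul_eq_iff]

theorem cj_le_stab {g : G} {K : Subgroup G} {a : Ω} : cj g K ≤ stabilizer G (g • a) ↔ K ≤ stabilizer G a := by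
  rw [← cj_stab, cj_le_cj_iff]

theorem cj_le_stab' {g : G} {K : Subgroup G} {a : Ω} : cj g K ≤ stabilizer G a ↔ K ≤ stabilizer G (g⁻¹ • a) := by
  rw [← cj_le_stab (g := g) (a := g⁻¹ • a), smul_inv_smul]

theorem le_stab_smul {g : G} {K : Subgroup G} {a : Ω} (hg : cj g K = K) (h : K ≤ stabilizer G a) :
    K ≤ stabilizer G (g • a) := by
  rw [← hg]; exact cj_le_stab.2 h

theorem nm_stab {g : G} {a : Ω} (h : g • a = a) : cj g (stabilizer G a) = stabilizer G a := by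
  rw [cj_stab, h]

/-- the conjugation action on subgroups -/
@[reducible] def cjAct (G : Type*) [Group G] : MulAction G (Subgroup G) where
  smul := cj
  one_smul := cj_one
  mul_smul := cj_mul

/-- the fixed points of a subgroup -/
def Fx (K : Subgroup G) : Set Ω := {b | K ≤ stabilizer G b}

theorem mem_Fx {K : Subgroup G} {b : Ω} : b ∈ (Fx K : Set Ω) ↔ K ≤ stabilizer G b := Iff.rfl

theorem Fx_cj (g : G) (K : Subgroup G) : (Fx (cj g K) : Set Ω) = (fun b => g • b) '' Fx K := by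
  ext b
  rw [mem_Fx, cj_le_stab']
  exact ⟨fun h => ⟨g⁻¹ • b, h, smul_inv_smul g b⟩, by rintro ⟨c, hc, rfl⟩; rw [inv_smul_smul]; exact hc⟩

theorem ncard_Fx_cj (g : G) (K : Subgroup G) : (Fx (cj g K) : Set Ω).ncard = (Fx K : Set Ω).ncard := by
  rw [Fx_cj, Set.ncard_image_of_injective _ (MulAction.injective g)]

/-- the orbit of a subgroup -/
def Orb (L : Subgroup G) (b : Ω) : Set Ω := {c | ∃ g ∈ L, g • b = c}

theorem self_mem_Orb (L : Subgroup G) (b : Ω) : b ∈ Orb L b := ⟨1, one_mem _, one_smul _ _⟩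

theorem smul_mem_Orb {L : Subgroup G} {b c : Ω} {g : G} (hg : g ∈ L) (hc : c ∈ Orb L b) : g • c ∈ Orb L b := by
  obtain ⟨x, hx, rfl⟩ := hc
  exact ⟨g * x, mul_mem hg hx, mul_smul _ _ _⟩

theorem Orb_eq {L : Subgroup G} {b c : Ω} (hc : c ∈ Orb L b) : Orb L c = Orb L b := by
  obtain ⟨x, hx, rfl⟩ := hc
  ext d
  constructor
  · rintro ⟨y, hy, rfl⟩
    exact ⟨y * x, mul_mem hy hx, mul_smul _ _ _⟩
  · rintro ⟨y, hy, rfl⟩
    exact ⟨y * x⁻¹, mul_mem hy (inv_mem hx), by rw [mul_smul, inv_smul_smul]⟩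

theorem ncard_Orb_mul (L : Subgroup G) (b : Ω) :
    (Orb L b).ncard * Nat.card ↥(L ⊓ stabilizer G b) = Nat.card L := by
  have h1 : Orb L b = orbit L b := by
    ext c
    exact ⟨fun ⟨g, hg, h⟩ => ⟨⟨g, hg⟩, h⟩, fun ⟨g, h⟩ => ⟨g, g.2, h⟩⟩
  have h2 : Nat.card ↥(L ⊓ stabilizer G b) = Nat.card (stabilizer L b) :=
    Nat.card_congr
      { toFun := fun x => ⟨⟨x.1, x.2.1⟩, x.2.2⟩
        invFun := fun x => ⟨x.1.1, x.1.2, x.2⟩
        left_inv := fun _ => rfl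
        right_inv := fun _ => rfl }
  rw [h1, h2, ← Nat.card_coe_set_eq, ← Nat.card_prod]
  exact Nat.card_congr (orbitProdStabilizerEquivGroup _ b)

theorem finite_Orb [Finite G] (L : Subgroup G) (b : Ω) : (Orb L b).Finite :=
  (Set.finite_range fun g : G => g • b).subset (by rintro _ ⟨g, -, rfl⟩; exact ⟨g, rfl⟩)

/-- `d` divides the size of an invariant set if it divides all orbit lengths -/
theorem dvd_ncard_of_Orb (L : Subgroup G) {d : ℕ} (A : Set Ω) (hfin : A.Finite)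
    (hinv : ∀ g ∈ L, ∀ b ∈ A, g • b ∈ A) (hd : ∀ b ∈ A, d ∣ (Orb L b).ncard) : d ∣ A.ncard := by
  generalize hn : A.ncard = n
  induction n using Nat.strong_induction_on generalizing A with
  | _ n ih =>
  rcases A.eq_empty_or_nonempty with rfl | ⟨a, ha⟩
  · rw [← hn, Set.ncard_empty]
    exact dvd_zero d
  have h1 : Orb L a ⊆ A := by
    rintro _ ⟨h, hh, rfl⟩
    exact hinv h hh a ha
  have h2 := Set.ncard_sdiff_add_ncard_of_subset h1 hfin
  have h3 : 0 < (Orb L a).ncard := (Set.ncard_pos (hfin.subset h1)).2 ⟨a, self_mem_Orb L a⟩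
  have h4 := ih _ (by omega) (A \ Orb L a) (hfin.subset Set.sdiff_subset) (fun h hh b hb =>
    ⟨hinv h hh b hb.1, fun h5 => hb.2 (by
      have h6 := smul_mem_Orb (inv_mem hh) h5
      rwa [inv_smul_smul] at h6)⟩) (fun b hb => hd b hb.1) rfl
  rw [← hn, ← h2]
  exact dvd_add h4 (hd a ha)

/-- fixed points of a `p`-group modulo `p` -/
theorem modEq_fix {p : ℕ} [Fact p.Prime] {X : Subgroup G} (hX : IsPGroup p X) (A : Set Ω) (hfin : A.Finite)
    (hinv : ∀ g ∈ X, ∀ b ∈ A, g • b ∈ A) : A.ncard ≡ (A ∩ Fx X).ncard [MOD p] := by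
  let B : SubMulAction X Ω := ⟨A, fun g _ hb => hinv g g.2 _ hb⟩
  have : Finite B := hfin
  have h1 := hX.card_modEq_card_fixedPoints B
  have h2 : Nat.card (fixedPoints X B) = Nat.card ↥(A ∩ Fx X) :=
    Nat.card_congr
      { toFun := fun b => ⟨b.1.1, b.1.2, fun x hx => congrArg Subtype.val (b.2 ⟨x, hx⟩)⟩
        invFun := fun b => ⟨⟨b.1, b.2.1⟩, fun x => Subtype.ext (b.2.2 x.2)⟩
        left_inv := fun _ => rfl
        right_inv := fun _ => rfl }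
  rw [h2, Nat.card_coe_set_eq] at h1
  rwa [← Nat.card_coe_set_eq]

/-- a bound for the index -/
theorem card_le_mul [Finite G] {B B' : Subgroup G} {β : Type*} (f : G → β) (A : Set β) (hA : A.Finite)
    (h1 : ∀ g ∈ B, f g ∈ A) (h2 : ∀ g ∈ B, ∀ g' ∈ B, f g = f g' → g⁻¹ * g' ∈ B') :
    Nat.card B ≤ A.ncard * Nat.card B' := by
  classical
  have : Finite A := hA
  let r : A → G := fun x => if h : ∃ g ∈ B, f g = x then h.choose else 1
  have hr : ∀ g (hg : g ∈ B), r ⟨f g, h1 g hg⟩ ∈ B ∧ f (r ⟨f g, h1 g hg⟩) = f g := fun g hg => by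
    have h : ∃ g' ∈ B, f g' = f g := ⟨g, hg, rfl⟩
    simp only [r, dif_pos h]
    exact h.choose_spec
  let φ : B → A × B' := fun g => (⟨f g, h1 g g.2⟩, ⟨(r ⟨f g, h1 g g.2⟩)⁻¹ * g, h2 _ (hr g g.2).1 _ g.2 (hr g g.2).2⟩)
  have hφ : Function.Injective φ := fun g g' h => by
    have h3 : (⟨f g, h1 g g.2⟩ : A) = ⟨f g', h1 g' g'.2⟩ := congrArg Prod.fst h
    have h4 : (r ⟨f g, h1 g g.2⟩)⁻¹ * g = (r ⟨f g', h1 g' g'.2⟩)⁻¹ * g' := congrArg (fun x => (x.2 : G)) h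
    rw [h3] at h4
    exact Subtype.ext (mul_left_cancel h4)
  rw [← Nat.card_coe_set_eq, ← Nat.card_prod]
  exact Nat.card_le_card_of_injective φ hφ

end Cj

section PGrp

variable {G : Type*} [Group G] {p : ℕ}

theorem isP_sup {P Q : Subgroup G} (hP : IsPGroup p P) (hQ : IsPGroup p Q) (h : ∀ x ∈ P, cj x Q = Q) :
    IsPGroup p ↥(P ⊔ Q) := hP.to_sup_of_normal_right' hQ fun x hx => nm_iff.2 (h x hx)

theorem isP_zpowers {g : G} {n : ℕ} (h : g ^ p ^ n = 1) : IsPGroup p (Subgroup.zpowers g) := by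
  rintro ⟨_, k, rfl⟩
  refine ⟨n, Subtype.ext ?_⟩
  show (g ^ k) ^ p ^ n = 1
  rw [← zpow_natCast, ← zpow_mul, mul_comm, zpow_mul, zpow_natCast, h, one_zpow]

theorem exists_pow_of_isP {P : Subgroup G} (hP : IsPGroup p P) {g : G} (hg : g ∈ P) : ∃ n : ℕ, g ^ p ^ n = 1 := by
  obtain ⟨n, hn⟩ := hP ⟨g, hg⟩
  exact ⟨n, congrArg Subtype.val hn⟩

/-- `S` is a maximal `p`-subgroup of `L` -/
structure MaxP (p : ℕ) (L S : Subgroup G) : Prop where
  le : S ≤ L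
  isP : IsPGroup p S
  max : ∀ R : Subgroup G, IsPGroup p R → R ≤ L → S ≤ R → R = S

theorem MaxP.cj {L S : Subgroup G} (h : MaxP p L S) (g : G) : MaxP p (cj g L) (cj g S) where
  le := cj_mono g h.le
  isP := isPGroup_cj h.isP g
  max R hR h1 h2 := by
    have h3 := h.max (TH.cj g⁻¹ R) (isPGroup_cj hR _) ((cj_le_iff _).2 (by rwa [inv_inv]))
      ((cj_le_iff g).1 h2)
    rw [← h3, cj_cj_inv]

theorem MaxP.mono {L L' S : Subgroup G} (h : MaxP p L S) (h1 : S ≤ L') (h2 : L' ≤ L) : MaxP p L' S :=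
  ⟨h1, h.isP, fun R hR h3 h4 => h.max R hR (h3.trans h2) h4⟩

/-- a `p`-subgroup normalised by `S` lies in `S` -/
theorem MaxP.le_of_nm {L S P : Subgroup G} (h : MaxP p L S) (hP : IsPGroup p P) (h1 : P ≤ L)
    (h2 : ∀ x ∈ S, TH.cj x P = P) : P ≤ S := by
  rw [← h.max _ (isP_sup h.isP hP h2) (sup_le h.le h1) le_sup_left]
  exact le_sup_right

/-- a `p`-subgroup normalising `S` lies in `S` -/
theorem MaxP.le_of_nm' {L S P : Subgroup G} (h : MaxP p L S) (hP : IsPGroup p P) (h1 : P ≤ L)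
    (h2 : ∀ x ∈ P, TH.cj x S = S) : P ≤ S := by
  rw [← h.max _ (isP_sup hP h.isP h2) (sup_le h1 h.le) le_sup_right]
  exact le_sup_left

theorem MaxP.mem_of_nm {L S : Subgroup G} (h : MaxP p L S) {g : G} {n : ℕ} (hg : g ^ p ^ n = 1) (h1 : g ∈ L)
    (h2 : TH.cj g S = S) : g ∈ S :=
  h.le_of_nm' (isP_zpowers hg) (Subgroup.zpowers_le.2 h1)
    (fun _ hx => nm_iff.1 ((Subgroup.zpowers_le.2 (nm_iff.2 h2)) hx)) (Subgroup.mem_zpowers g)

variable [Finite G]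

theorem exists_maxP {L P : Subgroup G} (hP : IsPGroup p P) (h : P ≤ L) : ∃ S, P ≤ S ∧ MaxP p L S := by
  obtain ⟨S, ⟨h1, h2, h3⟩, hmax⟩ := Set.exists_max_image {S : Subgroup G | P ≤ S ∧ S ≤ L ∧ IsPGroup p S}
    (fun S => Nat.card S) (Set.toFinite _) ⟨P, le_rfl, h, hP⟩
  exact ⟨S, h1, h2, h3, fun R hR h4 h5 =>
    (Subgroup.eq_of_le_of_card_ge h5 (hmax R ⟨h1.trans h5, h4, hR⟩)).symm⟩

variable [hp : Fact p.Prime]

/-- Sylow's theorem -/
theorem MaxP.exists_cj {L S P : Subgroup G} (h : MaxP p L S) (hP : IsPGroup p P) (h1 : P ≤ L) :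
    ∃ g ∈ L, P ≤ TH.cj g S := by
  let S' : Sylow p L := ⟨S.subgroupOf L, h.isP.comap_subtype, fun {R} hR hle => by
    have h2 := h.max (R.map L.subtype) (hR.map _) (Subgroup.map_subtype_le _)
      (fun x hx => ⟨⟨x, h.le hx⟩, hle hx, rfl⟩)
    rw [← h2]
    exact (Subgroup.comap_map_eq_self_of_injective L.subtype_injective R).symm⟩
  obtain ⟨Q, hQ⟩ := (hP.comap_subtype (K := L)).exists_le_sylow
  obtain ⟨g, hg⟩ := exists_smul_eq L S' Q
  refine ⟨g, g.2, fun x hx => ?_⟩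
  have h2 : (⟨x, h1 hx⟩ : L) ∈ Q := hQ hx
  rw [← hg] at h2
  obtain ⟨y, hy, hy'⟩ := h2
  exact ⟨y, hy, congrArg Subtype.val hy'⟩

theorem MaxP.card_le {L S P : Subgroup G} (h : MaxP p L S) (hP : IsPGroup p P) (h1 : P ≤ L) :
    Nat.card P ≤ Nat.card S := by
  obtain ⟨g, -, hg⟩ := h.exists_cj hP h1
  rw [← card_cj g S]
  exact Subgroup.card_le_of_le hg

theorem MaxP.of_card {L S P : Subgroup G} (h : MaxP p L S) (hP : IsPGroup p P) (h1 : P ≤ L)
    (h2 : Nat.card S ≤ Nat.card P) : MaxP p L P :=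
  ⟨h1, hP, fun R hR h3 h4 => (Subgroup.eq_of_le_of_card_ge h4 ((h.card_le hR h3).trans h2)).symm⟩

theorem MaxP.exists_eq {L S S' : Subgroup G} (h : MaxP p L S) (h' : MaxP p L S') : ∃ g ∈ L, S' = TH.cj g S := by
  obtain ⟨g, hg, h1⟩ := h.exists_cj h'.isP h'.le
  exact ⟨g, hg, (h'.max _ (isPGroup_cj h.isP g) (by rw [← cj_of_mem hg]; exact cj_mono g h.le) h1).symm⟩

/-- intersection with a normal subgroup -/
theorem MaxP.inf {L S N : Subgroup G} (h : MaxP p L S) (h1 : N ≤ L) (h2 : ∀ g ∈ L, TH.cj g N = N) :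
    MaxP p N (S ⊓ N) := by
  obtain ⟨R, -, hR⟩ := exists_maxP (p := p) (L := N) (P := ⊥) IsPGroup.of_bot bot_le
  obtain ⟨g, hg, h3⟩ := h.exists_cj hR.isP (hR.le.trans h1)
  refine hR.of_card (h.isP.to_le inf_le_left) inf_le_right ?_
  rw [← card_cj g (S ⊓ N), cj_inf, h2 g hg]
  exact Subgroup.card_le_of_le (le_inf h3 hR.le)

/-- Frattini -/
theorem MaxP.frattini {N S : Subgroup G} (h : MaxP p N S) {g : G} (hg : TH.cj g N = N) :
    ∃ n ∈ N, TH.cj (n⁻¹ * g) S = S := by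
  obtain ⟨n, hn, h1⟩ := h.exists_eq (hg ▸ h.cj g)
  exact ⟨n, hn, by rw [cj_mul, h1, cj_inv_cj]⟩

theorem MaxP.not_dvd {L S : Subgroup G} (h : MaxP p L S) : ¬ p ∣ S.relIndex L := by
  let S' : Sylow p L := ⟨S.subgroupOf L, h.isP.comap_subtype, fun {R} hR hle => by
    have h2 := h.max (R.map L.subtype) (hR.map _) (Subgroup.map_subtype_le _)
      (fun x hx => ⟨⟨x, h.le hx⟩, hle hx, rfl⟩)
    rw [← h2]
    exact (Subgroup.comap_map_eq_self_of_injective L.subtype_injective R).symm⟩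
  exact S'.not_dvd_index

/-- normalisers grow in `p`-groups -/
theorem exists_nm_of_lt {V Q : Subgroup G} (hQ : IsPGroup p Q) (h1 : V ≤ Q) (h2 : ¬ Q ≤ V) :
    ∃ w ∈ Q, w ∉ V ∧ cj w V = V := by
  have := hQ.isNilpotent
  have h3 : V.subgroupOf Q < ⊤ := lt_top_iff_ne_top.2 fun h => h2 (Subgroup.subgroupOf_eq_top.1 h)
  obtain ⟨w, hw, hw'⟩ := SetLike.exists_of_lt (Group.normalizerCondition_of_isNilpotent _ h3)
  refine ⟨w, w.2, hw', nm_of_conj fun x hx => ?_⟩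
  exact (Subgroup.mem_normalizer_iff.1 hw ⟨x, h1 hx⟩).1 hx

/-- the largest normal `p`-subgroup of `L` -/
def Op (p : ℕ) (L : Subgroup G) : Subgroup G := sSup {P | P ≤ L ∧ IsPGroup p P ∧ ∀ g ∈ L, cj g P = P}

theorem le_Op {L P : Subgroup G} (h1 : P ≤ L) (h2 : IsPGroup p P) (h3 : ∀ g ∈ L, cj g P = P) : P ≤ Op p L :=
  le_sSup ⟨h1, h2, h3⟩

theorem Op_spec (L : Subgroup G) : Op p L ≤ L ∧ IsPGroup p (Op p L) ∧ ∀ g ∈ L, cj g (Op p L) = Op p L := by
  obtain ⟨M, hM, hmax⟩ := Set.exists_max_image {P : Subgroup G | P ≤ L ∧ IsPGroup p P ∧ ∀ g ∈ L, cj g P = P}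
    (fun S => Nat.card S) (Set.toFinite _) ⟨⊥, bot_le, IsPGroup.of_bot, fun g _ => cj_bot g⟩
  have h1 : Op p L = M := le_antisymm (sSup_le fun P hP => by
    have h2 := hmax (P ⊔ M) ⟨sup_le hP.1 hM.1, isP_sup hP.2.1 hM.2.1 fun x hx => hM.2.2 x (hP.1 hx),
      fun g hg => nm_sup (hP.2.2 g hg) (hM.2.2 g hg)⟩
    rw [Subgroup.eq_of_le_of_card_ge (le_sup_right : M ≤ P ⊔ M) h2]
    exact le_sup_left) (le_sSup hM)
  rw [h1]
  exact hM

theorem nm_Op {L : Subgroup G} {g : G} (hg : cj g L = L) : cj g (Op p L) = Op p L := by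
  obtain ⟨h1, h2, h3⟩ := Op_spec (p := p) L
  refine nm_of_le (le_Op ((cj_mono g h1).trans hg.le) (isPGroup_cj h2 g) fun x hx => ?_)
  exact nm_cj_iff.2 (h3 _ (nm_conj' hg hx))

theorem card_eq_pow {P : Subgroup G} (hP : IsPGroup p P) : ∃ n, Nat.card P = p ^ n := IsPGroup.iff_card.1 hP

theorem card_mul_relIndex {A B : Subgroup G} (h : A ≤ B) : Nat.card A * A.relIndex B = Nat.card B := by
  rw [← (A.subgroupOf B).card_mul_index, Nat.card_congr (Subgroup.subgroupOfEquivOfLe h).toEquiv]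
  rfl

theorem relIndex_eq_pow {A P : Subgroup G} (hP : IsPGroup p P) : ∃ n, A.relIndex P = p ^ n := by
  obtain ⟨n, hn⟩ := card_eq_pow hP
  obtain ⟨k, -, hk⟩ := (Nat.dvd_prime_pow hp.1).1 (hn ▸ Subgroup.relIndex_dvd_card A P)
  exact ⟨k, hk⟩

/-- orbits of `p`-groups -/
theorem ncard_Orb_eq_pow {Ω : Type*} [MulAction G Ω] {P : Subgroup G} (hP : IsPGroup p P) (b : Ω) :
    ∃ n, (Orb P b).ncard = p ^ n := by
  obtain ⟨n, hn⟩ := card_eq_pow hP
  obtain ⟨k, -, hk⟩ := (Nat.dvd_prime_pow hp.1).1 (hn ▸ Dvd.intro _ (ncard_Orb_mul P b))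
  exact ⟨k, hk⟩

end PGrp

section Cjs

variable {G : Type*} [Group G] {p : ℕ}

theorem self_mem_Cjs (L X : Subgroup G) : X ∈ Cjs L X := ⟨1, one_mem _, (cj_one X).symm⟩

theorem cj_mem_Cjs {L X P : Subgroup G} {e : G} (he : e ∈ L) (hP : P ∈ Cjs L X) : cj e P ∈ Cjs L X := by
  obtain ⟨f, hf, rfl⟩ := hP
  exact ⟨e * f, mul_mem he hf, (cj_mul _ _ _).symm⟩

theorem Cjs_mono {L L' X : Subgroup G} (h : L ≤ L') : Cjs L X ⊆ Cjs L' X := fun _ ⟨e, he, h1⟩ => ⟨e, h he, h1⟩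

theorem le_of_mem_Cjs {L X P : Subgroup G} (h : X ≤ L) (hP : P ∈ Cjs L X) : P ≤ L := by
  obtain ⟨e, he, rfl⟩ := hP
  rw [← cj_of_mem he]
  exact cj_mono e h

theorem card_of_mem_Cjs {L X P : Subgroup G} (hP : P ∈ Cjs L X) : Nat.card P = Nat.card X := by
  obtain ⟨e, -, rfl⟩ := hP
  exact card_cj e X

theorem isP_of_mem_Cjs {L X P : Subgroup G} (h : IsPGroup p X) (hP : P ∈ Cjs L X) : IsPGroup p P := by
  obtain ⟨e, -, rfl⟩ := hP
  exact isPGroup_cj h e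

theorem Cjs_eq_Orb (L X : Subgroup G) : Cjs L X = @Orb G _ _ (cjAct G) L X := by
  ext P
  exact ⟨fun ⟨e, he, h⟩ => ⟨e, he, h.symm⟩, fun ⟨e, he, h⟩ => ⟨e, he, h.symm⟩⟩

theorem Cjs_eq_of_mem {L X P : Subgroup G} (hP : P ∈ Cjs L X) : Cjs L P = Cjs L X := by
  rw [Cjs_eq_Orb] at hP
  rw [Cjs_eq_Orb, Cjs_eq_Orb]
  exact @Orb_eq G _ _ (cjAct G) _ _ _ hP

theorem Cjs_cj (g : G) (L X : Subgroup G) : Cjs (cj g L) (cj g X) = cj g '' Cjs L X := by
  ext P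
  constructor
  · rintro ⟨_, ⟨e, he, rfl⟩, rfl⟩
    refine ⟨cj e X, ⟨e, he, rfl⟩, ?_⟩
    show _ = cj (g * e * g⁻¹) (cj g X)
    rw [← cj_mul, ← cj_mul, inv_mul_cancel_right]
  · rintro ⟨_, ⟨e, he, rfl⟩, rfl⟩
    exact ⟨g * e * g⁻¹, conj_mem_cj g he, by rw [← cj_mul, ← cj_mul, inv_mul_cancel_right]⟩

theorem mem_Cjs_cj {g : G} {L X P : Subgroup G} : P ∈ Cjs (cj g L) (cj g X) ↔ cj g⁻¹ P ∈ Cjs L X := by
  rw [Cjs_cj]
  exact ⟨by rintro ⟨R, hR, rfl⟩; rwa [cj_inv_cj], fun h => ⟨_, h, cj_cj_inv g P⟩⟩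

theorem cj_mem_Cjs_cj {g : G} {L X P : Subgroup G} : cj g P ∈ Cjs (cj g L) (cj g X) ↔ P ∈ Cjs L X := by
  rw [mem_Cjs_cj, cj_inv_cj]

theorem cj_mem_Cjs_nm {g : G} {L X P : Subgroup G} (h1 : cj g L = L) (h2 : cj g X = X) (hP : P ∈ Cjs L X) :
    cj g P ∈ Cjs L X := by
  rw [← h1, ← h2]; exact cj_mem_Cjs_cj.2 hP

theorem nS_cj (g : G) (L X : Subgroup G) : nS (cj g L) (cj g X) = nS L X := by
  rw [nS, Cjs_cj, Set.ncard_image_of_injective _ fun _ _ h => cj_inj g h]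
  rfl

theorem mem_rad {L X : Subgroup G} {x : G} : x ∈ rad L X ↔ ∀ P ∈ Cjs L X, x ∈ P := Subgroup.mem_sInf

theorem rad_le {L X P : Subgroup G} (hP : P ∈ Cjs L X) : rad L X ≤ P := sInf_le hP

theorem rad_le_self (L X : Subgroup G) : rad L X ≤ X := rad_le (self_mem_Cjs L X)

theorem rad_anti {L L' X : Subgroup G} (h : L ≤ L') : rad L' X ≤ rad L X := sInf_le_sInf (Cjs_mono h)

theorem rad_cj (g : G) (L X : Subgroup G) : rad (cj g L) (cj g X) = cj g (rad L X) := by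
  ext x
  rw [mem_cj, mem_rad, mem_rad]
  constructor
  · intro h P hP
    exact mem_cj.1 (h _ (cj_mem_Cjs_cj.2 hP))
  · intro h P hP
    have h1 := h _ (mem_Cjs_cj.1 hP)
    rw [mem_cj] at h1
    simpa [mul_assoc] using h1

theorem nm_rad' {L X : Subgroup G} {g : G} (h1 : cj g L = L) (h2 : cj g X = X) : cj g (rad L X) = rad L X := by
  rw [← rad_cj, h1, h2]

theorem nm_rad {L X : Subgroup G} {g : G} (hg : g ∈ L) : cj g (rad L X) = rad L X := by
  rw [← rad_cj, cj_of_mem hg, rad, Cjs_eq_of_mem ⟨g, hg, rfl⟩]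
  rfl

theorem le_rad {L X P : Subgroup G} (h1 : P ≤ X) (h2 : ∀ g ∈ L, cj g P = P) : P ≤ rad L X := by
  refine le_sInf ?_
  rintro _ ⟨e, he, rfl⟩
  rw [← h2 e he]
  exact cj_mono e h1

theorem Spl.cj {L X : Subgroup G} (h : Spl L X) (g : G) : Spl (cj g L) (cj g X) := by
  intro P hP h1 P' hP' h2
  obtain ⟨x, hx, h3⟩ := h _ (mem_Cjs_cj.1 hP) (fun h4 => h1 (by rw [← h4, cj_cj_inv])) _ (mem_Cjs_cj.1 hP')
    (fun h4 => h2 (by rw [← h4, cj_cj_inv]))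
  refine ⟨g * x * g⁻¹, conj_mem_cj g hx, ?_⟩
  rw [cj_mul, cj_mul, h3, cj_cj_inv]

theorem spl_cj_iff {L X : Subgroup G} (g : G) : Spl (cj g L) (cj g X) ↔ Spl L X :=
  ⟨fun h => by simpa only [cj_inv_cj] using h.cj g⁻¹, fun h => h.cj g⟩

theorem nS_mul (L X : Subgroup G) :
    nS L X * Nat.card ↥(L ⊓ Subgroup.normalizer (X : Set G)) = Nat.card L := by
  have h1 := @ncard_Orb_mul G _ _ (cjAct G) L X
  have h2 : @stabilizer G _ _ (cjAct G) X = Subgroup.normalizer (X : Set G) := by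
    ext g
    exact nm_iff.symm
  rw [h2, ← Cjs_eq_Orb] at h1
  exact h1

variable [Finite G]

theorem finite_Cjs (L X : Subgroup G) : (Cjs L X).Finite := Set.toFinite _

theorem nS_pos (L X : Subgroup G) : 0 < nS L X := (Set.ncard_pos (finite_Cjs L X)).2 ⟨X, self_mem_Cjs L X⟩

theorem eq_of_le_Cjs {L X P R : Subgroup G} (hP : P ∈ Cjs L X) (hR : R ∈ Cjs L X) (h : P ≤ R) : P = R :=
  Subgroup.eq_of_le_of_card_ge h (by rw [card_of_mem_Cjs hP, card_of_mem_Cjs hR])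

theorem MaxP.of_mem_Cjs {L X P : Subgroup G} (h : MaxP p L X) (hP : P ∈ Cjs L X) : MaxP p L P := by
  obtain ⟨e, he, rfl⟩ := hP
  have h1 := h.cj e
  rwa [cj_of_mem he] at h1

variable [hp : Fact p.Prime]

theorem MaxP.mem_Cjs {L X P : Subgroup G} (h : MaxP p L X) (hP : MaxP p L P) : P ∈ Cjs L X := h.exists_eq hP

theorem MaxP.exists_le_Cjs {L X P : Subgroup G} (h : MaxP p L X) (hP : IsPGroup p P) (h1 : P ≤ L) :
    ∃ R ∈ Cjs L X, P ≤ R := by
  obtain ⟨g, hg, h2⟩ := h.exists_cj hP h1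
  exact ⟨_, ⟨g, hg, rfl⟩, h2⟩

/-- a set of Sylow subgroups which contains `X` and is invariant under `X` -/
theorem MaxP.ncard_modEq {L X : Subgroup G} (h : MaxP p L X) {A : Set (Subgroup G)} (h1 : A ⊆ Cjs L X) (h2 : X ∈ A)
    (h3 : ∀ x ∈ X, ∀ P ∈ A, TH.cj x P ∈ A) : A.ncard ≡ 1 [MOD p] := by
  have h4 := @modEq_fix G _ _ (cjAct G) p _ X h.isP A (Set.toFinite _) h3
  have h5 : A ∩ @Fx G _ _ (cjAct G) X = {X} := by
    ext P
    constructor
    · rintro ⟨hP, hP'⟩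
      exact (eq_of_le_Cjs (self_mem_Cjs L X) (h1 hP)
        ((h.of_mem_Cjs (h1 hP)).le_of_nm' h.isP h.le fun x hx => hP' hx)).symm
    · rintro rfl
      exact ⟨h2, fun x hx => cj_of_mem hx⟩
  rwa [h5, Set.ncard_singleton] at h4

theorem MaxP.nS_modEq {L X : Subgroup G} (h : MaxP p L X) : nS L X ≡ 1 [MOD p] :=
  h.ncard_modEq subset_rfl (self_mem_Cjs L X) fun _ hx _ hP => cj_mem_Cjs (h.le hx) hP

/-- in the split case the number of conjugates is `q + 1`, `q` a power of `p` -/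
theorem Spl.exists_pow {L X : Subgroup G} (h : Spl L X) (hX : IsPGroup p X) (hle : X ≤ L) {P : Subgroup G}
    (hP : P ∈ Cjs L X) (hne : P ≠ X) : ∃ n, nS L X = p ^ n + 1 := by
  obtain ⟨n, hn⟩ := @ncard_Orb_eq_pow G _ p _ _ _ (cjAct G) X hX P
  refine ⟨n, ?_⟩
  have h1 : @Orb G _ _ (cjAct G) X P = Cjs L X \ {X} := by
    ext R
    constructor
    · rintro ⟨x, hx, rfl⟩
      refine ⟨cj_mem_Cjs (hle hx) hP, fun h2 => hne ?_⟩
      have h3 : TH.cj x P = TH.cj x X := by rw [cj_of_mem hx]; exact h2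
      exact cj_inj x h3
    · rintro ⟨hR, hR'⟩
      exact h P hP hne R hR hR'
  rw [h1] at hn
  rw [← hn, nS, Set.ncard_sdiff_singleton_add_one (self_mem_Cjs L X) (finite_Cjs L X)]

end Cjs

end Cfsg.Agent.TH.Own
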