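import Cfsg.Agent.TH.Own.Defs
import Cfsg.Agent.TH.Own.AmbCan
import Cfsg.Agent.TH.Soc
import Cfsg.Agent.TH.ParMain
import Cfsg.Agent.S3608

/-!
# S3541, `BoxAmb` (helper6)
-/

set_option autoImplicit false

namespace Cfsg.Agent.TH.Own

open MulAction

namespace Am

variable {G : Type} [Group G] [Finite G] {T H : Subgroup G} {m p : ℕ}

omit [Finite G] in
theorem nab (hT : AS T) : ∃ a b : T, a * b ≠ b * a := by
  by_contra h
  push Not at h
  exact hT.nonab ⟨⟨h⟩⟩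

theorem five_le (hH : Half H m) : 5 ≤ H.index := by
  obtain ⟨k, hk, h⟩ := hH.exists_index_eq
  have h1 := hH.one_lt_d
  nlinarith

theorem syl (c : LieCtx T H m p) (g : G) {P : Subgroup G} (hP : IsPGroup p P) (hT : P ≤ T) (hH : P ≤ H) :
    ∃ t ∈ T, t ∈ H ∧ cj t P ≤ cj g H := by
  have : Fact p.Prime := ⟨c.prime⟩
  have h1 := c.as.not_dvd_relIndex c.half
    (c.half.not_dvd_d c.prime (Par.dvd_of_lie c.as c.half c.prime c.lie)) g
  obtain ⟨R, -, hR⟩ := exists_sylow_le_of_not_dvd_index h1 (Y := ⊥) IsPGroup.of_bot bot_le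
  obtain ⟨Q, hQ⟩ := (hP.comap_subtype (K := H ⊓ T)).exists_le_sylow
  obtain ⟨a, ha⟩ := exists_smul_eq ↥(H ⊓ T) Q R
  refine ⟨a, a.2.2, a.2.1, ?_⟩
  rintro _ ⟨y, hy, rfl⟩
  have h2 : a * ⟨y, hH hy, hT hy⟩ * a⁻¹ ∈ (R : Subgroup ↥(H ⊓ T)) := by
    rw [← ha]
    exact ⟨⟨y, hH hy, hT hy⟩, hQ hy, rfl⟩
  exact hR h2

theorem gt (c : LieCtx T H m p) (hd : p ∣ H.index) {D : Subgroup G} (h1 : D ≠ ⊥) (hp : IsPGroup p D) (hT : D ≤ T) :
    ∃ Q : Subgroup G, IsPGroup p Q ∧ Q ≤ T ∧ D ≤ Q ∧ (∀ g : G, cj g D = D → cj g Q = Q) ∧ ¬ Q ≤ H := by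
  have : Fact p.Prime := ⟨c.prime⟩
  have := c.as.simple
  refine exists_gt c.as.normal (hasCan_of_lie (nab c.as) c.lie) c.half.max (c.as.not_le c.half)
    (fun K hK hn hKp => c.half.eq_bot_of_isPGroup hd hK (fun g hg => ?_) hKp) h1 hp hT
  exact Subgroup.mem_normalizer_fintype (hn g hg)

theorem sq_ne {p k n : ℕ} (h : ¬ IsSquare n) : p ^ (2 * k) ≠ n := fun e =>
  h ⟨p ^ k, by rw [← e, two_mul, pow_add]⟩

theorem nsq (c : LieCtx T H m p) (k : ℕ) : H.index ≠ p ^ (2 * k) := by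
  intro h
  have h5 := five_le c.half
  have hk : 1 ≤ 2 * k := by
    by_contra h1
    rw [show 2 * k = 0 by omega, pow_zero] at h
    omega
  rcases S3608.result c.as.simple c.as.nonab (H.subgroupOf T) p (2 * k) c.prime hk
    ((c.as.relIndex_eq c.half).trans h) with ⟨h1, h2⟩ | ⟨d, F, _, _, hd, h1, h2⟩ | ⟨h1, -⟩ | ⟨h1, -⟩ | ⟨h1, -⟩
  · exact c.notAlt ⟨_, h1, h2⟩
  · obtain ⟨r, hr⟩ := CharP.exists F
    obtain ⟨n, hr', hn⟩ := FiniteField.card F r
    have hq : 2 ≤ Fintype.card F := Fintype.one_lt_card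
    rw [← h] at h1
    have h3 : r ∣ H.index := by
      refine Par.dvd_of_lie c.as c.half hr' (Or.inl ⟨F, inferInstance, inferInstance, hr, d, hd, fun h4 => ?_, h2⟩)
      subst h4
      by_contra h6
      have h7 : Fintype.card F = 2 ∨ Fintype.card F = 3 := by omega
      rcases h7 with h7 | h7 <;> rw [h7] at h1 <;> omega
    have h4 : r ∣ Fintype.card F ^ d := (hn ▸ dvd_pow_self r n.ne_zero).trans (dvd_pow_self _ (by omega))
    have h6 : r ∣ Fintype.card F ^ d - 1 := h1 ▸ h3.mul_right _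
    have h7 := (Nat.dvd_sub h4 h6)
    rw [Nat.sub_sub_self (Nat.one_le_pow _ _ (by omega)), Nat.dvd_one] at h7
    exact hr'.one_lt.ne' h7
  · exact sq_ne (by decide +kernel) h1
  · exact sq_ne (by decide +kernel) h1
  · exact sq_ne (by decide +kernel) h1

omit [Finite G] in
theorem ctx_cj (c : LieCtx T H m p) (g : G) : LieCtx T (cj g H) m p :=
  ⟨c.as, c.half.cj g, c.prime, c.lie, c.notL2, c.notAlt⟩

end Am

open Am in
/-- **[AMB]** -/
theorem boxAmb : BoxAmb := by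
  intro G _ _ T H m p c
  have hd : p ∣ H.index := Par.dvd_of_lie c.as c.half c.prime c.lie
  refine ⟨c.prime, c.as.normal, fun a b => ?_, fun a b hab => ?_, fun a => ?_, fun a => ?_, fun g hg => ?_,
    fun a b P hP hT hH => ?_, fun a D h1 hp hT _ => ?_, nsq c⟩
  · obtain ⟨a, rfl⟩ := QuotientGroup.mk_surjective a
    obtain ⟨b, rfl⟩ := QuotientGroup.mk_surjective b
    obtain ⟨h, hh, t, ht, e⟩ := c.as.exists_mul c.half (b⁻¹ * a)
    refine ⟨a * t⁻¹ * a⁻¹, c.as.normal.conj_mem _ (inv_mem ht) a, ?_⟩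
    rw [MulAction.Quotient.smul_mk, QuotientGroup.eq, smul_eq_mul]
    have e1 : (a * t⁻¹ * a⁻¹ * a)⁻¹ * b = t * (b⁻¹ * a)⁻¹ := by group
    rw [e1, e, show t * (h * t)⁻¹ = h⁻¹ by group]
    exact inv_mem hh
  · obtain ⟨a, rfl⟩ := QuotientGroup.mk_surjective a
    obtain ⟨b, rfl⟩ := QuotientGroup.mk_surjective b
    rw [stabilizer_coe, stabilizer_coe]
    exact c.half.card_inf' fun h => hab (QuotientGroup.eq.2 h)
  · obtain ⟨a, rfl⟩ := QuotientGroup.mk_surjective a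
    obtain ⟨g, g', hg, hg', h⟩ := c.half.not_two
    refine ⟨(a * g : G), (a * g' : G), fun e => hg ?_, fun e => hg' ?_, fun x hx e => ?_⟩
    · simpa using QuotientGroup.eq.1 e.symm
    · simpa using QuotientGroup.eq.1 e.symm
    · rw [MulAction.Quotient.smul_mk, QuotientGroup.eq, smul_eq_mul] at e
      exact h _ (mem_cj.1 ((smul_coe_eq_iff x a).1 hx)) _ e (by group)
  · obtain ⟨a, rfl⟩ := QuotientGroup.mk_surjective a
    rw [stabilizer_coe]
    exact (c.half.cj a).max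
  · have h1 : Subgroup.zpowers g = ⊥ :=
      c.half.eq_bot_of_le fun x => Subgroup.zpowers_le.2 ((smul_coe_eq_iff g x).1 (hg x))
    exact Subgroup.zpowers_eq_bot.1 h1
  · obtain ⟨a, rfl⟩ := QuotientGroup.mk_surjective a
    obtain ⟨b, rfl⟩ := QuotientGroup.mk_surjective b
    rw [stabilizer_coe] at hH
    obtain ⟨t, ht, h1, h2⟩ := syl (ctx_cj c a) (b * a⁻¹) hP hT hH
    refine ⟨t, ht, (smul_coe_eq_iff t a).2 h1, ?_⟩
    rwa [stabilizer_coe, ← inv_mul_cancel_right b a, cj_mul (b * a⁻¹)]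
  · obtain ⟨a, rfl⟩ := QuotientGroup.mk_surjective a
    rw [stabilizer_coe]
    exact gt (ctx_cj c a) (by rwa [index_cj]) h1 hp hT

end Cfsg.Agent.TH.Own
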