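import Mathlib
import Cfsg.Agent.TH.ParMain

/-!
# S3541, `BoxBld`: Coxeter groups and counting of chambers (helper6)

* `exists_leaf` : some node has at most one neighbour;
* `qq_mul_eq`, `dvd_qq`, `ncard_Pan`, `ncard_two` : the number of chambers of a residue of rank two.
-/

set_option autoImplicit false
set_option linter.unusedSectionVars false

namespace Cfsg.Agent.TH.Own.Bld

open Cfsg.Agent.Tits.Core Cfsg.Agent.Tits.Core.Bldg Cfsg.Agent.Tits.Exchange Cfsg.Agent.Tits Cfsg.Agent.FixBN
open Cfsg.Agent.TH.Par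

variable {I : Type*} {M : CoxeterMatrix I} {W : Type*} [Group W] {cs : CoxeterSystem M W} {C : Type*}

section Cox

variable [F : OppRes.Cox cs]

theorem length_two {j k : I} (h : j ≠ k) : cs.length (cs.simple j * cs.simple k) = 2 := by
  rcases cs.length_mul_simple (cs.simple j) k with h1 | h1 <;> rw [cs.length_simple] at h1
  · exact h1
  · have h2 : cs.simple j * cs.simple k = 1 := cs.length_eq_zero_iff.1 (by omega)
    rw [mul_eq_one_iff_eq_inv, cs.inv_simple] at h2
    exact absurd (F.inj h2) h

theorem desc_step {u : W} {a' a b : I} (h1 : ∀ k, cs.length (u * cs.simple k) < cs.length u → k = a')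
    (h2 : ∀ k, cs.length (u * cs.simple a * cs.simple k) < cs.length (u * cs.simple a) → k = a)
    (hab : cs.simple a * cs.simple b ≠ cs.simple b * cs.simple a) (hb : b ≠ a') (k : I)
    (hk : cs.length (u * cs.simple a * cs.simple b * cs.simple k) < cs.length (u * cs.simple a * cs.simple b)) :
    k = b := by
  by_contra hkb
  have hba : b ≠ a := fun h => hab (by rw [h])
  have h3 : ¬ cs.length (u * cs.simple a * cs.simple b) < cs.length (u * cs.simple a) := fun h => hba (h2 b h)
  have h3' := cs.length_mul_simple (u * cs.simple a) b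
  obtain ⟨v, hv, t, ht, he⟩ := exists_isMinR cs {k, b} (u * cs.simple a * cs.simple b)
  have hk' : cs.simple k ∈ WJ cs {k, b} := simple_mem_WJ cs (by simp)
  have hb' : cs.simple b ∈ WJ cs {k, b} := simple_mem_WJ cs (by simp)
  have e1 : u * cs.simple a = v * (t * cs.simple b) := by rw [← mul_assoc, ← he, cs.simple_mul_simple_cancel_right]
  have l0 := hv t ht
  have l1 := hv _ (mul_mem ht hb')
  have l2 := hv _ (mul_mem ht hk')
  rw [← mul_assoc, ← he] at l2
  rw [← he] at l0
  rw [← e1] at l1
  have n1 : t * cs.simple b ≠ 1 := fun h => by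
    rw [mul_eq_one_iff_eq_inv, cs.inv_simple] at h
    rw [h, length_two (Ne.symm hkb)] at l2
    rw [h, cs.length_simple] at l0
    omega
  obtain ⟨j, hj, hj'⟩ := F.exists_descent (mul_mem ht hb') n1
  rcases hj with rfl | rfl
  swap
  · rw [cs.simple_mul_simple_cancel_right] at hj'
    omega
  have l3 := hv _ (mul_mem (mul_mem ht hb') hk')
  rw [← mul_assoc, ← e1] at l3
  obtain rfl : j = a := h2 j (by omega)
  have e2 : u = v * (t * cs.simple b * cs.simple j) := by rw [← mul_assoc, ← e1, cs.simple_mul_simple_cancel_right]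
  have n2 : t * cs.simple b * cs.simple j ≠ 1 := fun h => by
    rw [mul_assoc, mul_eq_one_iff_eq_inv, mul_inv_rev, cs.inv_simple, cs.inv_simple] at h
    have h4 := cs.length_mul_simple t j
    have h5 : cs.length t = 2 := by rw [h, length_two hkb]
    obtain ⟨c, hc⟩ := cs.length_eq_one_iff.1 (show cs.length (t * cs.simple j) = 1 by omega)
    have h6 : c ∈ ({j, b} : Set I) := F.descent_mem _ _ (mul_mem ht hk') c (by
      rw [hc, cs.simple_mul_simple_self, cs.length_one, cs.length_simple]; omega)
    rw [h] at hc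
    rcases h6 with rfl | rfl
    · rw [mul_eq_right] at hc
      have h7 := length_two (cs := cs) hkb
      rw [hc, cs.length_one] at h7
      omega
    · exact hab (by rw [← cs.simple_mul_simple_cancel_right (w := cs.simple j * cs.simple c) j, hc])
  obtain ⟨i, hi, hi'⟩ := F.exists_descent (mul_mem (mul_mem ht hb') hk') n2
  rcases hi with rfl | rfl
  · rw [cs.simple_mul_simple_cancel_right] at hi'
    omega
  · have l4 := hv _ (mul_mem (mul_mem (mul_mem ht hb') hk') hb')
    rw [← mul_assoc, ← e2] at l4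
    rw [cs.simple_mul_simple_cancel_right] at l3
    exact hb (h1 i (by omega))

/-- **some node has at most one neighbour** -/
theorem exists_leaf (cs : CoxeterSystem M W) [F : OppRes.Cox cs] (i₀ : I) :
    ∃ i, ∀ j k, cs.simple i * cs.simple j ≠ cs.simple j * cs.simple i →
      cs.simple i * cs.simple k ≠ cs.simple k * cs.simple i → j = k := by
  by_contra hcon
  push Not at hcon
  have key : ∀ n : ℕ, ∃ (u : W) (a' a : I), (∀ k, cs.length (u * cs.simple k) < cs.length u → k = a') ∧
      (∀ k, cs.length (u * cs.simple a * cs.simple k) < cs.length (u * cs.simple a) → k = a) ∧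
      n ≤ cs.length (u * cs.simple a) := by
    intro n
    induction n with
    | zero =>
      refine ⟨1, i₀, i₀, fun k hk => by simp at hk, fun k hk => ?_, Nat.zero_le _⟩
      by_contra h
      rw [one_mul, length_two (Ne.symm h), cs.length_simple] at hk
      omega
    | succ n ih =>
      obtain ⟨u, a', a, h1, h2, h3⟩ := ih
      obtain ⟨b, hab, hb⟩ : ∃ b, cs.simple a * cs.simple b ≠ cs.simple b * cs.simple a ∧ b ≠ a' := by
        obtain ⟨j, k, hj, hk, hjk⟩ := hcon a
        by_cases h : j = a'
        · exact ⟨k, hk, fun h' => hjk (h.trans h'.symm)⟩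
        · exact ⟨j, hj, h⟩
      refine ⟨u * cs.simple a, a, b, h2, desc_step h1 h2 hab hb, ?_⟩
      have h4 : ¬ cs.length (u * cs.simple a * cs.simple b) < cs.length (u * cs.simple a) :=
        fun h => hab (by rw [h2 b h])
      have h5 := cs.length_mul_simple (u * cs.simple a) b
      omega
  obtain ⟨u, -, a, -, -, h⟩ := key (cs.length (w0 cs) + 1)
  have h1 := F.len_w0_mul (u * cs.simple a)
  omega

/-- the elements of a parabolic subgroup of rank two -/
theorem cases_two {j k : I} {w : W} (hw : w ∈ WJ cs {j, k}) : w = 1 ∨ w = cs.simple j ∨ w = cs.simple k ∨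
    ∃ v ∈ WJ cs {j, k}, (w = v * (cs.simple j * cs.simple k) ∨ w = v * (cs.simple k * cs.simple j)) ∧
      cs.length w = cs.length v + 2 := by
  by_cases h0 : w = 1
  · exact Or.inl h0
  obtain ⟨x, hx, hx'⟩ := F.exists_descent hw h0
  have h1 := mul_mem hw (simple_mem_WJ cs hx)
  by_cases h2 : w * cs.simple x = 1
  · rw [mul_eq_one_iff_eq_inv, cs.inv_simple] at h2
    rcases hx with rfl | rfl
    · exact Or.inr (Or.inl h2)
    · exact Or.inr (Or.inr (Or.inl h2))
  obtain ⟨y, hy, hy'⟩ := F.exists_descent h1 h2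
  have h3 : y ≠ x := by
    rintro rfl
    rw [cs.simple_mul_simple_cancel_right] at hy'
    omega
  have h4 := cs.length_mul_simple w x
  have h5 := cs.length_mul_simple (w * cs.simple x) y
  have h6 : w = w * cs.simple x * cs.simple y * (cs.simple y * cs.simple x) := by
    rw [← mul_assoc, cs.simple_mul_simple_cancel_right, cs.simple_mul_simple_cancel_right]
  refine Or.inr (Or.inr (Or.inr ⟨_, mul_mem h1 (simple_mem_WJ cs hy), ?_, by omega⟩))
  rcases hx with rfl | rfl <;> rcases hy with rfl | rfl
  · exact absurd rfl h3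
  · exact Or.inr h6
  · exact Or.inl h6
  · exact absurd rfl h3

theorem eq_one_of_comm {j k : I} (h : cs.simple j * cs.simple k = cs.simple k * cs.simple j) {v : W}
    (hv : v ∈ WJ cs {j, k}) (hl : cs.length (v * (cs.simple j * cs.simple k)) = cs.length v + 2) : v = 1 := by
  by_contra h0
  obtain ⟨x, hx, hx'⟩ := F.exists_descent hv h0
  rcases hx with rfl | rfl
  · have h1 := cs.length_mul_simple (v * cs.simple x) k
    rw [← mul_assoc] at hl
    omega
  · have h1 := cs.length_mul_simple (v * cs.simple x) j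
    rw [h, ← mul_assoc] at hl
    omega

end Cox

section Count

variable {Δ : Bldg cs C} [Finite C]

theorem qq_one (x : C) : qq Δ x 1 = 1 := by
  rw [qq, Nat.card_eq_one_iff_exists]
  exact ⟨⟨x, Δ.δ_self x⟩, fun y => Subtype.ext (Δ.eq_of_δ_eq_one y.2).symm⟩

theorem ncard_Pan (x : C) (i : I) : (Δ.Res {i} x).ncard = qq Δ x (cs.simple i) + 1 := by
  have h1 : Δ.Res {i} x = insert x {y | Δ.δ x y = cs.simple i} := by
    rw [← Δ.Pan_eq_Res]
    rfl
  rw [h1, Set.ncard_insert_of_notMem (s := {y | Δ.δ x y = cs.simple i}) fun h => Δ.ne_of_δ_simple h rfl]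
  rfl

theorem ncard_Res [Fintype W] [DecidableEq W] (J : Set I) [DecidablePred (· ∈ WJ cs J)] (x : C) :
    (Δ.Res J x).ncard = ∑ w ∈ Finset.univ.filter (· ∈ WJ cs J), qq Δ x w := by
  classical
  have := Fintype.ofFinite C
  rw [Set.ncard_eq_toFinset_card', Finset.card_eq_sum_card_fiberwise (f := Δ.δ x)
    (t := Finset.univ.filter (· ∈ WJ cs J)) fun y hy => by simpa [mem_Res] using hy]
  refine Finset.sum_congr rfl fun w hw => ?_
  rw [qq, Nat.card_eq_fintype_card, Fintype.card_subtype]
  congr 1
  ext y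
  simp only [Finset.mem_filter, Set.mem_toFinset, Finset.mem_univ, true_and, mem_Res] at hw ⊢
  exact ⟨fun h => h.2, fun h => ⟨h ▸ hw, h⟩⟩

variable {K : Type*} [Group K] [MulAction K C] {p : ℕ} (S : Sys Δ K p) (htr : ∀ x y : C, ∃ g : K, g • x = y)

include S htr

theorem qq_mul_eq (x : C) {v w : W} (h : cs.length (v * w) = cs.length v + cs.length w) :
    qq Δ x (v * w) = qq Δ x v * qq Δ x w := by
  refine le_antisymm ?_ (qq_mul S htr x h)
  choose g hg using htr x
  have h1 : ∀ z y : C, Δ.δ z (g z • y) = Δ.δ x y := fun z y => by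
    have := S.iso (g z) x y
    rwa [hg z] at this
  let f : {y : C // Δ.δ x y = v} × {y : C // Δ.δ x y = w} → {y : C // Δ.δ x y = v * w} :=
    fun a => ⟨g a.1 • a.2.1, Δ.δ_mul_of a.1.2 ((h1 _ _).trans a.2.2) h⟩
  unfold qq
  rw [← Nat.card_prod]
  refine Nat.card_le_card_of_surjective f fun z => ?_
  obtain ⟨y, hy, hy'⟩ := Δ.exists_between z.2 h
  exact ⟨(⟨y, hy⟩, ⟨(g y)⁻¹ • z.1, by rw [← h1 y, smul_inv_smul, hy']⟩), Subtype.ext (smul_inv_smul _ _)⟩

variable [F : OppRes.Cox cs] [hp : Fact p.Prime] (hth : Δ.Thick)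

include hth

theorem dvd_qq (x : C) {w : W} (hw : w ≠ 1) : p ∣ qq Δ x w := by
  obtain ⟨i, hi⟩ := cs.exists_rightDescent_of_ne_one hw
  rw [cs.isRightDescent_iff] at hi
  have h1 := S.card_Pan_eq hth x i
  rw [Δ.Pan_eq_Res, Nat.card_coe_set_eq, ncard_Pan, Nat.cast_add, Nat.cast_one, add_eq_right,
    ZMod.natCast_eq_zero_iff] at h1
  rw [← cs.simple_mul_simple_cancel_right (w := w) i, qq_mul_eq S htr x (by
    rw [cs.simple_mul_simple_cancel_right, cs.length_simple, hi])]
  exact h1.mul_left _

/-- **residues of rank two** -/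
theorem ncard_two [Finite W] (x : C) {j k : I} (hjk : j ≠ k) : ∃ e : ℕ,
    (Δ.Res {j, k} x).ncard = (Δ.Res {j} x).ncard * (Δ.Res {k} x).ncard +
      ((Δ.Res {j} x).ncard - 1) * ((Δ.Res {k} x).ncard - 1) * e ∧ (e = 0 ∨ ¬ p ∣ e) ∧
      (cs.simple j * cs.simple k = cs.simple k * cs.simple j → e = 0) := by
  classical
  have := Fintype.ofFinite W
  have hj : cs.simple j ∈ WJ cs {j, k} := simple_mem_WJ cs (by simp)
  have hk : cs.simple k ∈ WJ cs {j, k} := simple_mem_WJ cs (by simp)
  have l1 := length_two (cs := cs) hjk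
  have l2 := length_two (cs := cs) hjk.symm
  have q1 := qq_mul_eq S htr x (v := cs.simple j) (w := cs.simple k) (by rw [l1, cs.length_simple, cs.length_simple])
  have q2 := qq_mul_eq S htr x (v := cs.simple k) (w := cs.simple j) (by rw [l2, cs.length_simple, cs.length_simple])
  set a := qq Δ x (cs.simple j)
  set b := qq Δ x (cs.simple k)
  set T := Finset.univ.filter (· ∈ WJ cs {j, k}) with hT
  set A : Finset W := {1, cs.simple j, cs.simple k, cs.simple j * cs.simple k} with hA
  have hAT : A ⊆ T := by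
    intro w hw
    simp only [hA, Finset.mem_insert, Finset.mem_singleton] at hw
    rcases hw with rfl | rfl | rfl | rfl <;> simp only [hT, Finset.mem_filter, Finset.mem_univ, true_and]
    exacts [one_mem _, hj, hk, mul_mem hj hk]
  have ne : ∀ {v w : W}, cs.length v ≠ cs.length w → v ≠ w := fun h e => h (by rw [e])
  have hAs : ∑ w ∈ A, qq Δ x w = (a + 1) * (b + 1) := by
    rw [hA, Finset.sum_insert, Finset.sum_insert, Finset.sum_pair, qq_one, q1]
    · ring
    · exact ne (by rw [l1, cs.length_simple]; omega)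
    · simp only [Finset.mem_insert, Finset.mem_singleton, not_or]
      exact ⟨fun h => hjk (F.inj h), ne (by rw [l1, cs.length_simple]; omega)⟩
    · simp only [Finset.mem_insert, Finset.mem_singleton, not_or]
      exact ⟨ne (by simp), ne (by simp), ne (by rw [l1, cs.length_one]; omega)⟩
  have h1 : ∀ w ∈ T \ A, cs.simple j * cs.simple k ≠ cs.simple k * cs.simple j ∧ ∃ e, qq Δ x w = a * b * e ∧
      if w = cs.simple k * cs.simple j then e = 1 else p ∣ e := by
    intro w hw
    simp only [hA, hT, Finset.mem_sdiff, Finset.mem_filter, Finset.mem_univ, true_and, Finset.mem_insert,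
      Finset.mem_singleton, not_or] at hw
    obtain ⟨h0, h1, h2, h3, h4⟩ := hw
    obtain ⟨v, hv, h5, h6⟩ := (((cases_two h0).resolve_left h1).resolve_left h2).resolve_left h3
    refine ⟨fun h => h4 ?_, qq Δ x v, ?_, ?_⟩
    · rw [← h, or_self] at h5
      rw [h5, eq_one_of_comm h hv (h5 ▸ h6), one_mul]
    · rcases h5 with rfl | rfl
      · rw [qq_mul_eq S htr x (by rw [h6, l1]), q1, mul_comm]
      · rw [qq_mul_eq S htr x (by rw [h6, l2]), q2, mul_comm, mul_comm a]
    · split_ifs with h7
      · rw [h7, l2] at h6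
        rw [cs.length_eq_zero_iff.1 (show cs.length v = 0 by omega), qq_one]
      · refine dvd_qq S htr hth x ?_
        rintro rfl
        rw [one_mul, one_mul] at h5
        exact h5.elim h4 h7
  rw [ncard_Pan, ncard_Pan, ncard_Res, ← Finset.sum_sdiff hAT, hAs, add_comm, Nat.add_sub_cancel, Nat.add_sub_cancel]
  by_cases hc : cs.simple j * cs.simple k = cs.simple k * cs.simple j
  · exact ⟨0, by rw [Finset.sum_eq_zero fun w hw => absurd hc (h1 w hw).1, mul_zero], Or.inl rfl, fun _ => rfl⟩
  choose! e he he' using fun w hw => (h1 w hw).2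
  have h2 : cs.simple k * cs.simple j ∈ T \ A := by
    simp only [hA, hT, Finset.mem_sdiff, Finset.mem_filter, Finset.mem_univ, true_and, Finset.mem_insert,
      Finset.mem_singleton, not_or]
    exact ⟨mul_mem hk hj, ne (by rw [l2, cs.length_one]; omega), ne (by rw [l2, cs.length_simple]; omega),
      ne (by rw [l2, cs.length_simple]; omega), Ne.symm hc⟩
  refine ⟨∑ w ∈ T \ A, e w, by rw [Finset.mul_sum, Finset.sum_congr rfl he], Or.inr fun h => ?_, fun h => absurd h hc⟩
  have h3 := he' _ h2
  rw [if_pos rfl] at h3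
  rw [← Finset.add_sum_erase _ _ h2, h3, Nat.dvd_add_left (Finset.dvd_sum fun w hw => by
    have h4 := he' w (Finset.mem_of_mem_erase hw)
    rwa [if_neg (Finset.ne_of_mem_erase hw)] at h4)] at h
  exact hp.1.one_lt.ne' (Nat.dvd_one.1 h)

end Count

end Cfsg.Agent.TH.Own.Bld
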