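import Mathlib
import Cfsg.Agent.TH.Own.BldCox
import Cfsg.Agent.TH.Own.Grp

/-!
# S3541, `BoxBld`: from a thick building to the system `US` (helper6)

`S : Sys Δ K p`, `f : K →* G` injective; `Ux S f x` is the image of `S.U x`, `DJ S f c J` is generated by the groups
`Ux S f y`, `y` in the residue of type `J` of `c`.  `toUS` : the system.
-/

set_option autoImplicit false
set_option linter.unusedSectionVars false

namespace Cfsg.Agent.TH.Own.Bld

open Cfsg.Agent.Tits.Core Cfsg.Agent.Tits.Core.Bldg Cfsg.Agent.Tits.Exchange Cfsg.Agent.Tits Cfsg.Agent.FixBN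
open Cfsg.Agent.TH.Par

variable {I : Type*} {M : CoxeterMatrix I} {W : Type*} [Group W] {cs : CoxeterSystem M W} {C : Type*}
  {Δ : Bldg cs C} {K : Type*} [Group K] [MulAction K C] {p : ℕ} (S : Sys Δ K p) [F : OppRes.Cox cs]

section InK

theorem cj_U (g : K) (x : C) : cj g (S.U x) = S.U (g • x) := by
  ext u
  rw [mem_cj, ← S.conj_mem_U_iff (g := g), show g * (g⁻¹ * u * g) * g⁻¹ = u by group]

/-- the group generated by the groups of a residue -/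
def DK (c : C) (J : Set I) : Subgroup K := ⨆ y ∈ Δ.Res J c, S.U y

theorem U_le_DK {c y : C} {J : Set I} (h : y ∈ Δ.Res J c) : S.U y ≤ DK S c J := le_iSup₂ (f := fun y _ => S.U y) y h

theorem DK_le {c : C} {J : Set I} {L : Subgroup K} (h : ∀ y ∈ Δ.Res J c, S.U y ≤ L) : DK S c J ≤ L := iSup₂_le h

theorem smul_mem_of_DK {c : C} {J : Set I} {t : K} (ht : t ∈ DK S c J) : t • c ∈ Δ.Res J c := by
  let L : Subgroup K :=
    { carrier := {t | t • c ∈ Δ.Res J c}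
      one_mem' := by simpa using Δ.self_mem_Res J c
      mul_mem' := fun {a b} ha hb => by
        rw [Set.mem_ofPred_eq, mul_smul]
        exact Δ.mem_Res_trans ha (S.smul_mem_Res hb)
      inv_mem' := fun {a} ha => by
        have h1 := S.smul_mem_Res (g := a⁻¹) ha
        rw [inv_smul_smul] at h1
        exact Δ.mem_Res_symm h1 }
  refine DK_le S (L := L) (fun y hy u hu => ?_) ht
  have h1 := S.smul_mem_Res (g := u) (Δ.mem_Res_symm hy)
  rw [S.fix y u hu] at h1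
  exact Δ.mem_Res_trans hy h1

variable (hth : Δ.Thick)

include hth

theorem exists_DK {c y : C} {J : Set I} (hy : y ∈ Δ.Res J c) : ∃ t ∈ DK S c J, t • c = y := by
  refine Δ.Res_induction (p := fun y => ∃ t ∈ DK S c J, t • c = y) ⟨1, one_mem _, one_smul _ _⟩ ?_ hy
  rintro _ hy z i hi hz ⟨t, ht, rfl⟩
  obtain ⟨w, hw, h1, h2⟩ := hth.exists_third (i := i) (x := t • c) (t • c) z
  obtain ⟨u, hu, hu'⟩ := S.exists_move ((Δ.δ_eq_of_mem_Pan hw (Δ.self_mem_Pan i _) h1).trans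
    (Δ.δ_eq_of_mem_Pan hw (Δ.mem_Pan_of_δ hz) h2).symm)
  exact ⟨u * t, mul_mem (U_le_DK S (Δ.mem_Res_trans hy (Δ.Pan_subset_Res hi _ hw)) hu) ht, by rw [mul_smul, hu']⟩

include S in
theorem trans_of (x y : C) : ∃ g : K, g • x = y := by
  obtain ⟨t, -, h⟩ := exists_DK S hth (c := x) (y := y) (J := Set.univ) (by rw [Δ.Res_univ]; trivial)
  exact ⟨t, h⟩

theorem eq_of_U_le {x y : C} (h : S.U x ≤ S.U y) : y = x := eq_of_fix S hth fun u hu => S.fix y u (h hu)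

/-- the gate of `y` on a panel -/
theorem lt_of_proj {c y d d' : C} {i : I} (h : Δ.IsProj {i} c y d) (hd' : d' ∈ Δ.Res {i} c) (hne : d' ≠ d) :
    S.U d' ⊓ S.U y < S.U d ⊓ S.U y := by
  have h1 : ∀ u ∈ S.U y, u • d' ∈ Δ.Res {i} c → u • d = d := fun u hu h2 => by
    refine IsProj.unique ?_ h
    have h3 := map_isProj (Δ' := Δ) (α := fun z => u • z) (K := Set.univ) (fun a _ b _ => S.iso u a b)
      (Set.subset_univ _) (by rw [Δ.Res_univ]; trivial) ((Δ.isProj_congr hd').2 h)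
    simp only [S.fix y u hu] at h3
    exact (Δ.isProj_congr h2).1 h3
  refine lt_of_le_of_ne (fun u hu => ⟨S.mem_U_of_fix hu.2 (h1 u hu.2 (by rwa [S.fix _ u hu.1])), hu.2⟩) fun e => ?_
  obtain ⟨z, hz, h2, h3⟩ := hth.exists_third (i := i) (x := c) d d'
  have hd := h.mem
  have h4 : Δ.δ y d' = Δ.δ y z := by
    rw [h.δ_eq hd', h.δ_eq (a := z) (Δ.Pan_eq_Res i c ▸ hz)]
    rw [← Δ.Pan_eq_Res] at hd hd'
    rw [Δ.δ_eq_of_mem_Pan hd hd' hne.symm, Δ.δ_eq_of_mem_Pan hd hz h2.symm]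
  obtain ⟨u, hu, hu'⟩ := S.exists_move h4
  have h5 : u ∈ S.U d' ⊓ S.U y :=
    e ▸ ⟨S.mem_U_of_fix hu (h1 u hu (by rw [hu', ← Δ.Pan_eq_Res]; exact hz)), hu⟩
  exact h3 (hu'.symm.trans (S.fix _ u h5.1))

omit hth F in
theorem inf_eq_bot {x y : C} (h : Δ.Opp x y) : S.U x ⊓ S.U y = ⊥ :=
  eq_bot_iff.2 fun u hu => S.free x y h u hu.1 (S.fix y u hu.2)

theorem opp_of_inf {x y : C} (h : S.U x ⊓ S.U y = ⊥) : Δ.Opp x y := by
  have h1 : Δ.δ y x = w0 cs := by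
    refine F.eq_wJ_of_descents (J := Set.univ) (by rw [WJ_univ]; trivial) fun i _ => ?_
    by_contra h2
    have h3 : Δ.IsProj {i} x y x := Δ.isProj_of_min (Δ.self_mem_Res _ _) fun t ht => by
      rcases mem_WJ_singleton.1 ht with rfl | rfl
      · rw [mul_one, cs.length_one, add_zero]
      · have h4 := cs.length_mul_simple (Δ.δ y x) i
        rw [cs.length_simple]
        omega
    obtain ⟨z, hz⟩ := Δ.exists_δ x (cs.simple i)
    have h4 := lt_of_proj S hth h3 (Δ.Pan_eq_Res i x ▸ Δ.mem_Pan_of_δ hz) (Δ.ne_of_δ_simple hz).symm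
    rw [h] at h4
    exact not_lt_bot h4
  rw [Opp, Δ.symm y x, h1, F.w0_inv]

theorem mem_Res_of_rad {c y : C} {J : Set I} (h : ∀ u, (∀ z ∈ Δ.Res J c, u ∈ S.U z) → u ∈ S.U y) :
    y ∈ Δ.Res J c := by
  have hd := Δ.proj_mem J c y
  set d := Δ.proj J c y with hdd
  rw [eq_of_fix S hth (x := d) (z := y) fun u₀ hu₀ => ?_]
  · exact hd
  obtain ⟨x, hx, hx'⟩ := Δ.exists_δ_mem_Res hd (F.wJ_mem J)
  have h1 : Δ.δ x d = wJ cs J := by rw [Δ.symm d x, hx', F.wJ_inv]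
  have h2 := Δ.δ_mul_proj (u := y) hx
  have h3 := Δ.length_add_proj (u := y) hx
  rw [← hdd] at h2 h3
  rw [h2] at h3
  have h4 := Δ.δ_mul_of rfl (S.δ_smul (y := y) hu₀) h3
  obtain ⟨u, hu, hu'⟩ := S.exists_move (h2.trans h4.symm)
  have h5 : u • d = d := Δ.between_unique h3 (x := x) (z := u₀ • y) (S.δ_smul hu) (by rw [← hu', S.iso]) rfl
    (S.δ_smul hu₀)
  have h6 := S.fixRes hth hu h1 h5
  rw [Δ.Res_eq_of_mem hx] at h6
  rw [← hu']
  exact S.fix y u (h u fun z hz => S.mem_U_of_fix hu (h6 z hz))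

omit hth F in
/-- a map which preserves adjacency preserves the distance -/
theorem δ_map {φ : C → C} (h : ∀ i y z, Δ.δ y z = cs.simple i → Δ.δ (φ y) (φ z) = cs.simple i) (y z : C) :
    Δ.δ (φ y) (φ z) = Δ.δ y z := by
  generalize hn : cs.length (Δ.δ y z) = n
  induction n generalizing z with
  | zero =>
    rw [← Δ.eq_of_δ_eq_one (cs.length_eq_zero_iff.1 hn), Δ.δ_self, Δ.δ_self]
  | succ n ih =>
    obtain ⟨i, hi⟩ := cs.exists_rightDescent_of_ne_one (w := Δ.δ y z) fun h0 => by simp [h0] at hn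
    rw [cs.isRightDescent_iff] at hi
    have hl : cs.length (Δ.δ y z * cs.simple i * cs.simple i) =
        cs.length (Δ.δ y z * cs.simple i) + cs.length (cs.simple i) := by
      rw [cs.simple_mul_simple_cancel_right, cs.length_simple, hi]
    obtain ⟨w, hw, hw'⟩ := Δ.exists_between (cs.simple_mul_simple_cancel_right (w := Δ.δ y z) i).symm hl
    rw [Δ.δ_mul_of ((ih w (by rw [hw]; omega)).trans hw) (h i _ _ hw') hl, cs.simple_mul_simple_cancel_right]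

end InK

variable {G : Type*} [Group G] (f : K →* G)

/-- the image of `S.U x` -/
def Ux (x : C) : Subgroup G := (S.U x).map f

/-- the image of `DK` -/
def DJ (c : C) (J : Set I) : Subgroup G := (DK S c J).map f

theorem cj_Ux (g : K) (x : C) : cj (f g) (Ux S f x) = Ux S f (g • x) := by
  rw [Ux, Ux, ← map_cj, cj_U]

variable {f} (hf : Function.Injective f) (hth : Δ.Thick)

include hf

theorem mem_Ux {x : C} {u : K} : f u ∈ Ux S f x ↔ u ∈ S.U x := Subgroup.mem_map_iff_mem hf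

theorem Ux_inf (x y : C) : Ux S f x ⊓ Ux S f y = (S.U x ⊓ S.U y).map f := (Subgroup.map_inf _ _ f hf).symm

theorem Ux_inf_eq_bot {x y : C} : Ux S f x ⊓ Ux S f y = ⊥ ↔ S.U x ⊓ S.U y = ⊥ := by
  rw [Ux_inf S hf, Subgroup.map_eq_bot_iff_of_injective _ hf]

include hth

theorem Ux_inj : Function.Injective (Ux S f) := fun _ _ h =>
  (eq_of_U_le S hth (Subgroup.map_injective hf h).le).symm

omit hf in
theorem Cjs_eq (c : C) (J : Set I) : Cjs (DJ S f c J) (Ux S f c) = Ux S f '' Δ.Res J c := by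
  ext P
  constructor
  · rintro ⟨_, ⟨t, ht, rfl⟩, rfl⟩
    exact ⟨_, smul_mem_of_DK S ht, (cj_Ux S f t c).symm⟩
  · rintro ⟨y, hy, rfl⟩
    obtain ⟨t, ht, rfl⟩ := exists_DK S hth hy
    exact ⟨f t, ⟨t, ht, rfl⟩, (cj_Ux S f t c).symm⟩

theorem nS_eq (c : C) (J : Set I) : nS (DJ S f c J) (Ux S f c) = (Δ.Res J c).ncard := by
  rw [nS, Cjs_eq S hth, Set.ncard_image_of_injective _ (Ux_inj S hf hth)]

theorem mem_rad_iff {c : C} {J : Set I} {u : K} :
    f u ∈ rad (DJ S f c J) (Ux S f c) ↔ ∀ z ∈ Δ.Res J c, u ∈ S.U z := by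
  rw [mem_rad, Cjs_eq S hth, Set.forall_mem_image]
  exact forall₂_congr fun z _ => mem_Ux S hf

theorem card_lt [Finite K] {c y d d' : C} {i : I} (h : Δ.IsProj {i} c y d) (hd' : d' ∈ Δ.Res {i} c) (hne : d' ≠ d) :
    Nat.card ↥(Ux S f d' ⊓ Ux S f y) < Nat.card ↥(Ux S f d ⊓ Ux S f y) := by
  rw [Ux_inf S hf, Ux_inf S hf, Subgroup.card_map_of_injective hf, Subgroup.card_map_of_injective hf]
  have h1 := lt_of_proj S hth h hd' hne
  exact lt_of_le_of_ne (Subgroup.card_le_of_le h1.le) fun e => h1.ne (Subgroup.eq_of_le_of_card_ge h1.le e.ge)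

variable [hp : Fact p.Prime] [Finite C] [Finite W] (c : C) (i₀ : I)

/-- the system `PS` -/
noncomputable def toPS : PS G p I where
  X := Ux S f c
  D := DJ S f c
  isP := (S.isP c).map f
  D_empty := by
    rw [DJ, DK, Δ.Res_empty, iSup_singleton]
    rfl
  mono h := Subgroup.map_mono (DK_le S fun y hy => U_le_DK S (Δ.Res_mono h c hy))
  le_iff {J L} h i hi := by
    obtain ⟨y, hy⟩ := Δ.exists_δ c (cs.simple i)
    have h1 := Cjs_mono (X := Ux S f c) h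
    rw [Cjs_eq S hth, Cjs_eq S hth] at h1
    obtain ⟨z, hz, e⟩ := h1 ⟨y, Δ.Pan_subset_Res hi c (Δ.mem_Pan_of_δ hy), rfl⟩
    rw [Ux_inj S hf hth e, mem_Res, hy] at hz
    by_contra h2
    exact simple_notMem_WJ h2 hz
  syl P hP h := by
    obtain ⟨x, hx⟩ := S.exists_fix _ (h.comap_of_injective f hf)
    refine ⟨Ux S f x, by rw [Cjs_eq S hth, Δ.Res_univ]; exact ⟨x, trivial, rfl⟩, fun g hg => ?_⟩
    obtain ⟨u, -, rfl⟩ := hP hg
    exact ⟨u, S.max x _ (h.comap_of_injective f hf) hx hg, rfl⟩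
  ov L h1 h2 := by
    have h3 : S.U c ≤ L.comap f := fun u hu => h1 ⟨u, hu, rfl⟩
    obtain ⟨J, hJ⟩ := orbit_eq_Res S hth h3
    refine ⟨J, Subgroup.map_le_iff_le_comap.2 (DK_le S fun y hy => ?_), fun g hg => ?_⟩
    · obtain ⟨t, ht, rfl⟩ := (hJ y).1 hy
      exact U_le_of_mem S h3 ht
    · obtain ⟨t, -, rfl⟩ := h2 hg
      rw [cj_Ux, Cjs_eq S hth]
      exact ⟨_, (hJ _).2 ⟨t, hg, rfl⟩, rfl⟩
  gen J L h := by
    rw [Cjs_eq S hth] at h
    exact Subgroup.map_le_iff_le_comap.2 (DK_le S fun y hy => Subgroup.map_le_iff_le_comap.1 (h _ ⟨y, hy, rfl⟩))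
  nrm := by
    rintro _ ⟨t, -, rfl⟩ h J
    rw [cj_Ux] at h
    have h1 := Ux_inj S hf hth h
    have h2 : ∀ t : K, t • c = c → cj t (DK S c J) ≤ DK S c J := fun t ht =>
      (cj_le_iff t).2 (DK_le S fun y hy => (cj_le_iff t).1 (by
        rw [cj_U]
        exact U_le_DK S (ht ▸ S.smul_mem_Res (g := t) hy)))
    rw [DJ, ← map_cj, le_antisymm (h2 t h1) (by
      have h3 := (cj_le_iff t⁻¹).1 (h2 t⁻¹ (inv_smul_eq_iff.2 h1.symm))
      rwa [inv_inv] at h3)]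
  vx J P hP h := by
    rw [Cjs_eq S hth] at hP ⊢
    obtain ⟨y, -, rfl⟩ := hP
    exact ⟨y, mem_Res_of_rad S hth fun u hu => (mem_Ux S hf).1 (h ((mem_rad_iff S hf hth).2 hu)), rfl⟩
  rk2 j k hjk _ _ := by
    obtain ⟨e, h1, h2, -⟩ := ncard_two S (trans_of S hth) hth c hjk
    exact ⟨e, by rwa [nS_eq S hf hth, nS_eq S hf hth, nS_eq S hf hth], h2⟩
  endn := by
    obtain ⟨i, hi⟩ := exists_leaf cs i₀
    have h1 : ∀ j, AdjD (DJ S f c) (Ux S f c) i j → cs.simple i * cs.simple j ≠ cs.simple j * cs.simple i :=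
      fun j hj h => by
        obtain ⟨e, h1, -, h2⟩ := ncard_two S (trans_of S hth) hth c hj.1
        exact hj.2 (by rw [nS_eq S hf hth, nS_eq S hf hth, nS_eq S hf hth, h1, h2 h, mul_zero, add_zero])
    exact ⟨i, fun j k hj hk => hi j k (h1 j hj) (h1 k hk)⟩

omit hp [Finite C] [Finite W] in
include i₀ in
theorem rigid {c₀ : C} (h₀ : Δ.Opp c c₀) {h : G} (h1 : cj h (DJ S f c Set.univ) = DJ S f c Set.univ)
    (h2 : cj h (Ux S f c₀) = Ux S f c₀) (h3 : ∀ i, ∀ d ∈ Δ.Res {i} c, cj h (Ux S f d) = Ux S f d) (y : C) :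
    cj h (Ux S f y) = Ux S f y := by
  have h4 : ∀ y, ∃ t t' : K, t • c = y ∧ ∀ d, cj h (Ux S f d) = Ux S f d →
      cj h (Ux S f (t • d)) = Ux S f (t' • d) := fun y => by
    obtain ⟨t, ht, e⟩ := exists_DK S hth (c := c) (y := y) (J := Set.univ) (by rw [Δ.Res_univ]; trivial)
    obtain ⟨t', -, e'⟩ := nm_conj h1 ⟨t, ht, rfl⟩
    exact ⟨t, t', e, fun d hd => by rw [← cj_Ux, ← cj_Ux, e', ← cj_mul, cj_mul _ h⁻¹, nm_inv hd]⟩
  have h5 := h3 i₀ c (Δ.self_mem_Res _ _)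
  have h6 : ∀ y, ∃ z, cj h (Ux S f y) = Ux S f z := fun y => by
    obtain ⟨t, t', rfl, e⟩ := h4 y
    exact ⟨_, e c h5⟩
  choose φ hφ using h6
  have h7 : ∀ i y z, Δ.δ y z = cs.simple i → Δ.δ (φ y) (φ z) = cs.simple i := fun i y z hz => by
    obtain ⟨t, t', rfl, e⟩ := h4 y
    obtain ⟨d, rfl⟩ : ∃ d, z = t • d := ⟨t⁻¹ • z, (smul_inv_smul t z).symm⟩
    rw [S.iso] at hz
    rw [Ux_inj S hf hth ((hφ _).symm.trans (e c h5)), Ux_inj S hf hth ((hφ _).symm.trans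
      (e d (h3 i d (Δ.Pan_eq_Res i c ▸ Δ.mem_Pan_of_δ hz)))), S.iso, hz]
  rw [hφ, Rigid.rigid (Δ := Δ) (Δ' := Δ) hth (φ := φ) (ψ := fun y => y) (J := Set.univ) (c := c) (d := c₀)
    (fun a _ b _ => δ_map h7 a b) (fun a _ b _ => rfl)
    (fun i _ d hd => Ux_inj S hf hth ((hφ d).symm.trans (h3 i d (Δ.Pan_eq_Res i c ▸ hd)))) h₀
    (Ux_inj S hf hth ((hφ c₀).symm.trans h2)) y (by rw [Δ.Res_univ]; trivial)]

/-- **the system `US`** -/
noncomputable def toUS [Finite K] : US G p I where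
  toPS := toPS S hf hth c i₀
  split i := by
    show Spl (DJ S f c {i}) (Ux S f c)
    rw [Spl, Cjs_eq S hth, ← Δ.Pan_eq_Res]
    rintro _ ⟨y, hy, rfl⟩ h1 _ ⟨z, hz, rfl⟩ h2
    obtain ⟨u, hu, e⟩ := S.exists_move ((hy.resolve_left fun e => h1 (by rw [e])).trans
      (hz.resolve_left fun e => h2 (by rw [e])).symm)
    exact ⟨f u, ⟨u, hu, rfl⟩, by rw [cj_Ux, e]⟩
  pan i P hP h1 := by
    change P ∈ Cjs (DJ S f c {i}) (Ux S f c) at hP
    rw [Cjs_eq S hth, ← Δ.Pan_eq_Res] at hP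
    obtain ⟨y, hy, rfl⟩ := hP
    rintro _ ⟨⟨u, hu, rfl⟩, hu'⟩
    refine (mem_rad_iff S hf hth).2 fun z hz => S.mem_U_of_fix hu ?_
    exact S.pan c y i (hy.resolve_left fun e => h1 (by rw [e]; rfl)) u hu (S.fix y u ((mem_Ux S hf).1 hu')) z
      (Δ.Pan_eq_Res i c ▸ hz)
  proj J P hP h1 := by
    change P ∈ Cjs (DJ S f c J) (Ux S f c) at hP
    rw [Cjs_eq S hth] at hP
    obtain ⟨y, hy, rfl⟩ := hP
    obtain ⟨i, hi, hi'⟩ := F.exists_descent (Δ.mem_Res_symm hy) fun e => h1 (by rw [Δ.eq_of_δ_eq_one e]; rfl)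
    have h2 := Δ.isProj_proj {i} c y
    refine ⟨i, hi, Ux S f (Δ.proj {i} c y), (Cjs_eq S hth c {i}).ge ⟨_, h2.mem, rfl⟩, fun e => ?_, fun R hR hne => ?_⟩
    · have h3 := h2.isMinR _ (simple_mem_WJ cs rfl)
      rw [Ux_inj S hf hth e] at h3
      omega
    · obtain ⟨d, hd, rfl⟩ := (Cjs_eq S hth c {i}).le hR
      exact card_lt S hf hth h2 hd fun e => hne (by rw [e])
  opp := by
    obtain ⟨c₀, h₀⟩ := Δ.exists_δ c (w0 cs)
    refine ⟨Ux S f c₀, (Cjs_eq S hth c _).ge ⟨c₀, by rw [Δ.Res_univ]; trivial, rfl⟩,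
      (Ux_inf_eq_bot S hf).2 (inf_eq_bot S h₀), fun P hP h => ?_, fun i => ?_, fun h h1 h2 h3 P hP => ?_⟩
    · obtain ⟨y, -, rfl⟩ := (Cjs_eq S hth c _).le hP
      obtain ⟨u, hu, e⟩ := S.trans c y c₀ (opp_of_inf S hth ((Ux_inf_eq_bot S hf).1 h)) h₀
      exact ⟨f u, ⟨u, hu, rfl⟩, by rw [cj_Ux, e]⟩
    · have h2 := Δ.isProj_proj {i} c c₀
      have h3 : Δ.δ c₀ c = w0 cs := by rw [Δ.symm c c₀, h₀, F.w0_inv]
      have h4 : c ≠ Δ.proj {i} c c₀ := fun e => by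
        have h5 := h2.isMinR _ (simple_mem_WJ cs rfl)
        have h6 := F.len_w0_mul (cs.simple i)
        rw [← e, h3] at h5
        rw [cs.length_simple] at h5 h6
        omega
      refine ⟨Ux S f (Δ.proj {i} c c₀), (Cjs_eq S hth c {i}).ge ⟨_, h2.mem, rfl⟩, fun e => ?_, fun R hR hne => ?_⟩
      · have h5 := lt_of_proj S hth h2 (Δ.self_mem_Res _ _) h4
        rw [(Ux_inf_eq_bot S hf).1 e] at h5
        exact not_lt_bot h5
      · obtain ⟨d, hd, rfl⟩ := (Cjs_eq S hth c {i}).le hR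
        refine (Ux_inf_eq_bot S hf).2 (inf_eq_bot S ?_)
        have h5 := h2.mem
        rw [Opp, Δ.symm c₀ d, h2.δ_eq hd, ← F.w0_inv, ← h3, h2.δ_eq (Δ.self_mem_Res _ _)]
        rw [← Δ.Pan_eq_Res] at h5 hd
        rw [Δ.δ_eq_of_mem_Pan h5 hd fun e => hne (by rw [e]), Δ.δ_eq_of_mem_Pan h5 (Δ.self_mem_Pan _ _) h4.symm]
    · obtain ⟨y, -, rfl⟩ := (Cjs_eq S hth c _).le hP
      exact rigid S hf hth c i₀ h₀ h1 h2 (fun i d hd => h3 i _ ((Cjs_eq S hth c {i}).ge ⟨d, hd, rfl⟩)) y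

theorem toUS_D [Finite K] (J : Set I) : (toUS S hf hth c i₀).D J = (DK S c J).map f := rfl

end Cfsg.Agent.TH.Own.Bld
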