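import Mathlib
import Cfsg.Agent.TH.Own.BldSys

/-!
# S3541, `BoxBld`: direct products of split (B,N)-pairs, central extensions (helper6)

* `hasSplit_pi` : a finite direct product of groups with `HasSplit` has `HasSplit`;
* `exists_pull` : a system `Sys` is pulled back along a central extension by a `p'`-group;
* `exists_US` : the system `US` of a central extension of a group with `HasSplit`.
-/

set_option autoImplicit false
set_option linter.unusedSectionVars false

namespace Cfsg.Agent.TH.Own.Bld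

open Cfsg.Agent.Tits.Core Cfsg.Agent.Tits.Core.Bldg Cfsg.Agent.Tits Cfsg.Agent.FixBN Cfsg.Agent.Schreier.BNSch

section Pi

variable {ι : Type*} [Finite ι] [DecidableEq ι] {K : ι → Type*} [∀ l, Group (K l)]

theorem single_mem {H : ∀ l, Subgroup (K l)} {l : ι} {x : K l} (h : x ∈ H l) :
    Pi.mulSingle l x ∈ Subgroup.pi Set.univ H := (Subgroup.mulSingle_mem_pi l x).2 fun _ => h

/-- the product of (B,N)-pairs -/
def piBN (P : ∀ l, Cfsg.BNPair (K l)) : Cfsg.BNPair (∀ l, K l) where
  B := Subgroup.pi Set.univ fun l => (P l).B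
  N := Subgroup.pi Set.univ fun l => (P l).N
  S := {g | ∃ l, ∃ s ∈ (P l).S, g = Pi.mulSingle l s}
  sup_eq_top := by
    rw [eq_top_iff, ← Subgroup.pi_top Set.univ, Subgroup.pi_le_iff]
    intro l
    rw [← (P l).sup_eq_top, Subgroup.map_sup]
    exact sup_le_sup (by rintro _ ⟨x, hx, rfl⟩; exact single_mem hx) (by rintro _ ⟨x, hx, rfl⟩; exact single_mem hx)
  conj_mem n hn t ht l _ := (P l).conj_mem _ (hn l trivial) _ ⟨ht.1 l trivial, ht.2 l trivial⟩
  subset := by
    rintro _ ⟨l, s, hs, rfl⟩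
    exact single_mem ((P l).subset hs)
  sq_mem := by
    rintro _ ⟨l, s, hs, rfl⟩
    rw [← Pi.mulSingle_mul]
    exact single_mem ((P l).sq_mem s hs)
  inj := by
    rintro _ ⟨l, s, hs, rfl⟩ _ ⟨l', s', hs', rfl⟩ h
    have h1 := h l trivial
    by_cases e : l = l'
    · subst e
      simp only [Pi.mul_apply, Pi.inv_apply, Pi.mulSingle_eq_same] at h1
      rw [(P l).inj s hs s' hs' h1]
    · simp only [Pi.mul_apply, Pi.inv_apply, Pi.mulSingle_eq_same, Pi.mulSingle_eq_of_ne e, mul_one] at h1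
      exact absurd (inv_mem_iff.1 h1) (not_mem_B _ hs)
  closure_sup := by
    refine le_antisymm (sup_le ((Subgroup.closure_le _).2 ?_) inf_le_right) (Subgroup.pi_le_iff.2 fun l => ?_)
    · rintro _ ⟨l, s, hs, rfl⟩
      exact single_mem ((P l).subset hs)
    · conv_lhs => rw [← (P l).closure_sup, Subgroup.map_sup, MonoidHom.map_closure]
      refine sup_le_sup (Subgroup.closure_mono ?_) ?_
      · rintro _ ⟨s, hs, rfl⟩
        exact ⟨l, s, hs, rfl⟩
      · rintro _ ⟨x, hx, rfl⟩
        exact ⟨single_mem hx.1, single_mem hx.2⟩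
  mul_mem_union := by
    rintro _ ⟨l, s, hs, rfl⟩ n hn b hb
    have h1 : ∀ x ∈ (P l).B, Function.update b l x ∈ Subgroup.pi Set.univ fun l => (P l).B := fun x hx m _ => by
      by_cases e : m = l
      · subst e
        rwa [Function.update_self]
      · rw [Function.update_of_ne e]
        exact hb m trivial
    refine ((P l).mul_mem_union s hs _ (hn l trivial) _ (hb l trivial)).imp (fun h => ?_) fun h => ?_
    all_goals
      obtain ⟨x, hx, y, hy, e⟩ := DoubleCoset.mem_doubleCoset.1 h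
      refine DoubleCoset.mem_doubleCoset.2 ⟨_, h1 x hx, _, single_mem hy, funext fun m => ?_⟩
      by_cases e' : m = l
      · subst e'
        simpa using e
      · simp [e']
  conj_ne := by
    rintro _ ⟨l, s, hs, rfl⟩ h
    refine (P l).conj_ne s hs (Set.Subset.antisymm ?_ fun b hb => ?_)
    · rintro _ ⟨b, hb, rfl⟩
      simpa using h.le ⟨_, single_mem hb, rfl⟩ l trivial
    · obtain ⟨b', hb', e⟩ := h.ge (single_mem (H := fun l => (P l).B) hb)
      exact ⟨b' l, hb' l trivial, by simpa using congrFun e l⟩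

theorem isP_pi {p : ℕ} {U : ∀ l, Subgroup (K l)} (h : ∀ l, IsPGroup p (U l)) :
    IsPGroup p (Subgroup.pi Set.univ U) := fun u => by
  have := Fintype.ofFinite ι
  choose n hn using fun l => exists_pow_of_isP (h l) (u.2 l trivial)
  refine ⟨∑ l, n l, Subtype.ext (funext fun l => ?_)⟩
  obtain ⟨c, hc⟩ := Nat.exists_eq_add_of_le (Finset.single_le_sum (f := n) (fun _ _ => Nat.zero_le _)
    (Finset.mem_univ l))
  show u.1 l ^ p ^ (∑ l, n l) = 1
  rw [hc, pow_add, pow_mul, hn, one_pow]

theorem split_pi {p : ℕ} (hp : p.Prime) {P : ∀ l, Cfsg.BNPair (K l)} {U : ∀ l, Subgroup (K l)}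
    (h : ∀ l, Split (P l) p (U l)) : Split (piBN P) p (Subgroup.pi Set.univ U) where
  le u hu l _ := (h l).le (hu l trivial)
  norm b hb u hu l _ := (h l).norm _ (hb l trivial) _ (hu l trivial)
  isP := isP_pi fun l => (h l).isP
  cover b hb := by
    choose u hu hu' using fun l => (h l).cover _ (hb l trivial)
    exact ⟨u, fun l _ => hu l, fun l _ => hu' l⟩
  tor := by
    have := Fintype.ofFinite ι
    choose m hm hm' using fun l => (h l).tor
    refine ⟨∏ l, m l, hp.prime.not_dvd_finsetProd fun l _ => hm l, fun t h1 h2 => funext fun l => ?_⟩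
    obtain ⟨c, hc⟩ := Finset.dvd_prod_of_mem m (Finset.mem_univ l)
    rw [Pi.pow_apply, hc, pow_mul, hm' l _ (h1 l trivial) (h2 l trivial), one_pow, Pi.one_apply]
  node := by
    rintro _ ⟨l, s, hs, rfl⟩
    obtain ⟨V, hV⟩ := (h l).node s hs
    refine ⟨Subgroup.pi Set.univ U ⊓ V.comap (Pi.evalMonoidHom K l), inf_le_left, ?_, fun b hb v hv => ?_,
      fun v hv => ?_, fun u hu h1 => ⟨hu, hV.stab _ (hu l trivial) (by simpa using h1 l trivial)⟩⟩
    · obtain ⟨u, hu, hu'⟩ := hV.ne
      exact ⟨_, single_mem hu, fun h1 => hu' (by simpa using h1.2)⟩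
    · exact ⟨fun m _ => (h m).norm _ (hb m trivial) _ (hv.1 m trivial), hV.conj_B _ (hb l trivial) _ hv.2⟩
    · have h1 := hV.conj_s _ hv.2
      refine ⟨fun m _ => ?_, by simpa using h1⟩
      by_cases e : m = l
      · subst e
        simpa using hV.le h1
      · simpa [e] using hv.1 m trivial
  core := by
    refine eq_bot_iff.2 fun g hg => funext fun l => ?_
    have h1 : g l ∈ (P l).B.normalCore := fun x => by simpa using hg (Pi.mulSingle l x) l trivial
    rwa [(h l).core] at h1

theorem hasSplit_pi {p : ℕ} (hp : p.Prime) (l₀ : ι) (h : ∀ l, HasSplit p (K l)) : HasSplit p (∀ l, K l) := by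
  choose P U h1 h2 using h
  obtain ⟨s, hs⟩ := h1 l₀
  exact ⟨piBN P, _, ⟨_, l₀, s, hs, rfl⟩, split_pi hp h2⟩

end Pi

section Pull

variable {E K : Type*} [Group E] [Group K] [Finite E] {p : ℕ} [hp : Fact p.Prime] (π : E →* K)
  (hs : Function.Surjective π) (hc : π.ker ≤ Subgroup.center E)

include hs hc

theorem exists_lift {U : Subgroup K} (hU : IsPGroup p U) : ∃ R : Subgroup E, IsPGroup p R ∧ R.map π = U ∧
    ∀ P : Subgroup E, IsPGroup p P → P.map π ≤ U → P ≤ R := by
  have : Finite K := Finite.of_surjective π hs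
  have := hU.isNilpotent
  let φ : U.comap π →* U := (π.comp (U.comap π).subtype).codRestrict U fun x => x.2
  have h1 : Function.Surjective φ := fun u => by
    obtain ⟨x, hx⟩ := hs u
    exact ⟨⟨x, by rw [Subgroup.mem_comap, hx]; exact u.2⟩, Subtype.ext hx⟩
  have h2 : Group.IsNilpotent (U.comap π) := Subgroup.isNilpotent_of_ker_le_center φ fun x hx =>
    Subgroup.mem_center_iff.2 fun y => Subtype.ext
      (Subgroup.mem_center_iff.1 (hc (show π x = 1 from congrArg Subtype.val hx)) y)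
  obtain ⟨R⟩ : Nonempty (Sylow p (U.comap π)) := inferInstance
  have h3 := R.unique_of_normal (R.normal_of_normalizerCondition (Group.normalizerCondition_of_isNilpotent))
  refine ⟨(R : Subgroup (U.comap π)).map (U.comap π).subtype, R.isPGroup'.map _, le_antisymm ?_ fun u hu => ?_,
    fun P hP h x hx => ?_⟩
  · rintro _ ⟨_, ⟨x, -, rfl⟩, rfl⟩
    exact x.2
  · have h4 := (R.mapSurjective h1).is_maximal' (hU.to_subgroup ⊤) le_top
    obtain ⟨x, hx, e⟩ := h4.le (Subgroup.mem_top (⟨u, hu⟩ : U))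
    exact ⟨x, ⟨x, hx, rfl⟩, congrArg Subtype.val e⟩
  · obtain ⟨Q, hQ⟩ := (hP.comap_subtype (K := U.comap π)).exists_le_sylow
    rw [Subsingleton.elim Q R] at hQ
    exact ⟨⟨x, h ⟨x, hx, rfl⟩⟩, hQ hx, rfl⟩

variable {I : Type*} {M : CoxeterMatrix I} {W : Type*} [Group W] {cs : CoxeterSystem M W} {C : Type*}
  {Δ : Bldg cs C} [MulAction K C]

theorem exists_pull (hz : ∀ z, π z = 1 → ∀ n : ℕ, z ^ p ^ n = 1 → z = 1) (S : Sys Δ K p) :
    letI := MulAction.compHom C π
    Nonempty (Sys Δ E p) := by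
  let := MulAction.compHom C π
  choose R h1 h2 h3 using fun x => exists_lift π hs hc (S.isP x)
  have h4 : ∀ x, ∀ u ∈ R x, π u ∈ S.U x := fun x u hu => (h2 x).le ⟨u, hu, rfl⟩
  exact ⟨{ iso := fun g => S.iso (π g)
           U := R
           fix := fun x u hu => S.fix x _ (h4 x u hu)
           isP := h1
           max := fun x V hV h => h3 x V hV (S.max x _ (hV.map π) (by rintro _ ⟨v, hv, rfl⟩; exact h v hv))
           trans := fun x y z hy hz => by
             obtain ⟨u, hu, e⟩ := S.trans x y z hy hz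
             obtain ⟨r, hr, rfl⟩ := (h2 x).ge hu
             exact ⟨r, hr, e⟩
           free := fun x y h u hu e => by
             obtain ⟨n, hn⟩ := exists_pow_of_isP (h1 x) hu
             exact hz u (S.free x y h _ (h4 x u hu) e) n hn
           pan := fun x y i h u hu => S.pan x y i h _ (h4 x u hu)
           exists_fix := fun V hV => by
             obtain ⟨x, hx⟩ := S.exists_fix _ (hV.map π)
             exact ⟨x, fun v hv => hx _ ⟨v, hv, rfl⟩⟩ }⟩

end Pull

/-- **the system of a central extension of a group with a split (B,N)-pair** -/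
theorem exists_US {G K : Type} [Group G] [Group K] [Finite G] {p : ℕ} [hp : Fact p.Prime] {E : Subgroup G}
    (π : E →* K) (hs : Function.Surjective π) (hc : π.ker ≤ Subgroup.center E)
    (hz : ∀ z, π z = 1 → ∀ n : ℕ, z ^ p ^ n = 1 → z = 1) (h : HasSplit p K) :
    ∃ (I : Type) (_ : Finite I) (S : US G p I), S.D Set.univ ≤ E ∧
      ∀ g ∈ E, ∀ n : ℕ, g ^ p ^ n = 1 → g ∈ S.D Set.univ := by
  have : Finite K := Finite.of_surjective π hs
  obtain ⟨P, U, ⟨s, hs'⟩, h⟩ := h
  have hN : ((P.B ⊓ P.N).subgroupOf P.N).Normal := Tits.OfBN.normal_subgroupOf P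
  obtain ⟨M, cs, hcs⟩ := S0320.result P
  have hI : Finite P.S := FixBN.OfBN.finite_I (Equiv.refl P.S)
  let := MulAction.compHom (K ⧸ P.B) π
  obtain ⟨S⟩ := exists_pull π hs hc hz (FixBN.OfBN.sys (Equiv.refl P.S) cs hcs h)
  refine ⟨P.S, hI, toUS S E.subtype_injective (Tits.OfBN.thick P (Equiv.refl P.S) cs hcs) ((1 : K) : K ⧸ P.B) ⟨s, hs'⟩,
    Subgroup.map_subtype_le _, fun g hg n hn => ?_⟩
  have h1 : IsPGroup p (Subgroup.zpowers (⟨g, hg⟩ : E)) := isP_zpowers (n := n) (Subtype.ext hn)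
  obtain ⟨x, hx⟩ := S.exists_fix _ h1
  exact ⟨⟨g, hg⟩, U_le_DK S (by rw [Res_univ]; trivial) (S.max x _ h1 hx (Subgroup.mem_zpowers _)), rfl⟩

end Cfsg.Agent.TH.Own.Bld
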