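import Mathlib
import Cfsg.Agent.TH.Own.Grp

/-!
# S3541, `BoxOwn`: basic lemmas on `PS` and `Amb`, transport by conjugation (helper74)
-/

set_option autoImplicit false
set_option linter.unusedSectionVars false
set_option linter.unusedVariables false

namespace Cfsg.Agent.TH.Own

open MulAction

variable {G : Type*} [Group G] {p : ℕ} {I : Type*}

namespace PS

variable (S : PS G p I)

/-- the Sylow subgroups of `D J` -/
abbrev Syl (J : Set I) : Set (Subgroup G) := Cjs (S.D J) S.X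

/-- their number -/
noncomputable abbrev W (J : Set I) : ℕ := nS (S.D J) S.X

/-- `O_p(D J)` -/
abbrev V (J : Set I) : Subgroup G := rad (S.D J) S.X

abbrev Split (i : I) : Prop := Spl (S.D {i}) S.X

abbrev Adj (i j : I) : Prop := AdjD S.D S.X i j

/-- the nodes `i` with `D {i} ≤ K` -/
def typ (K : Subgroup G) : Set I := {i | S.D {i} ≤ K}

theorem X_le (J : Set I) : S.X ≤ S.D J := S.D_empty ▸ S.mono (Set.empty_subset J)

theorem le_univ (J : Set I) : S.D J ≤ S.D Set.univ := S.mono (Set.subset_univ J)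

theorem D_inj {J L : Set I} (h : S.D J = S.D L) : J = L := Set.Subset.antisymm (S.le_iff h.le) (S.le_iff h.ge)

theorem D_single_inj {i k : I} (h : S.D {i} = S.D {k}) : i = k := Set.singleton_injective (S.D_inj h)

theorem eq_of_single_le {i k : I} (h : S.D {i} ≤ S.D {k}) : i = k := S.le_iff h rfl

theorem V_le (J : Set I) : S.V J ≤ S.X := rad_le_self _ _

theorem V_isP (J : Set I) : IsPGroup p (S.V J) := S.isP.to_le (S.V_le J)

theorem V_anti {J L : Set I} (h : J ⊆ L) : S.V L ≤ S.V J := rad_anti (S.mono h)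

theorem Syl_mono {J L : Set I} (h : J ⊆ L) : S.Syl J ⊆ S.Syl L := Cjs_mono (S.mono h)

theorem Syl_le {J : Set I} {P : Subgroup G} (h : P ∈ S.Syl J) : P ≤ S.D J := le_of_mem_Cjs (S.X_le J) h

theorem Syl_isP {J : Set I} {P : Subgroup G} (h : P ∈ S.Syl J) : IsPGroup p P := isP_of_mem_Cjs S.isP h

theorem X_mem (J : Set I) : S.X ∈ S.Syl J := self_mem_Cjs _ _

theorem Syl_empty {P : Subgroup G} (h : P ∈ S.Syl ∅) : P = S.X := by
  obtain ⟨e, he, rfl⟩ := h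
  exact cj_of_mem (S.D_empty ▸ he)

theorem V_empty : S.V ∅ = S.X := le_antisymm (S.V_le _) (le_sInf fun P hP => (S.Syl_empty hP).ge)

theorem nm_X {x : G} (hx : x ∈ S.X) (J : Set I) : cj x (S.D J) = S.D J := cj_of_mem (S.X_le J hx)

theorem nm_V {J : Set I} {g : G} (hg : g ∈ S.D J) : cj g (S.V J) = S.V J := nm_rad hg

theorem adj_symm {i j : I} (h : S.Adj i j) : S.Adj j i :=
  ⟨h.1.symm, by rw [Set.pair_comm, mul_comm]; exact h.2⟩

theorem D_le_of_Syl {J L : Set I} (h : S.Syl J ⊆ S.Syl L) : J ⊆ L :=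
  S.le_iff (S.gen J _ fun _ hP => S.Syl_le (h hP))

theorem exists_ne (i : I) : ∃ P ∈ S.Syl {i}, P ≠ S.X := by
  by_contra h
  push Not at h
  exact S.D_le_of_Syl (J := {i}) (L := ∅) (fun P hP => h P hP ▸ S.X_mem ∅) rfl

/-- the overgroups of `X` -/
theorem ov' {K : Subgroup G} (hK : S.X ≤ K) :
    S.D (S.typ K) ≤ K ∧ ∀ k ∈ K, k ∈ S.D Set.univ → cj k S.X ∈ S.Syl (S.typ K) := by
  obtain ⟨J, h1, h2⟩ := S.ov (K ⊓ S.D Set.univ) (le_inf hK (S.X_le _)) inf_le_right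
  have h3 : S.typ K = J := by
    ext i
    constructor
    · intro hi
      refine S.D_le_of_Syl (J := {i}) ?_ rfl
      rintro _ ⟨e, he, rfl⟩
      exact h2 e ⟨hi he, S.le_univ _ he⟩
    · intro hi
      exact (S.mono (Set.singleton_subset_iff.2 hi)).trans (h1.trans inf_le_left)
  rw [h3]
  exact ⟨h1.trans inf_le_left, fun k hk hk' => h2 k ⟨hk, hk'⟩⟩

theorem D_le {K : Subgroup G} {J : Set I} (hK : S.X ≤ K) (h : ∀ i ∈ J, S.D {i} ≤ K) : S.D J ≤ K :=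
  (S.mono h).trans (S.ov' hK).1

theorem typ_D (J : Set I) : S.typ (S.D J) = J := by
  ext i
  exact ⟨fun h => S.le_iff h rfl, fun h => S.mono (Set.singleton_subset_iff.2 h)⟩

theorem D_union (J L : Set I) : S.D (J ∪ L) = S.D J ⊔ S.D L :=
  le_antisymm (S.D_le ((S.X_le J).trans le_sup_left) fun i hi => hi.elim
    (fun h => (S.mono (Set.singleton_subset_iff.2 h)).trans le_sup_left)
    (fun h => (S.mono (Set.singleton_subset_iff.2 h)).trans le_sup_right))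
    (sup_le (S.mono Set.subset_union_left) (S.mono Set.subset_union_right))

/-- a statement which holds on `X` and on all `D {i}`, `i ∈ J` -/
theorem nm_D_of {J : Set I} {K : Subgroup G} (h0 : ∀ x ∈ S.X, cj x K = K) (h : ∀ i ∈ J, ∀ x ∈ S.D {i}, cj x K = K) :
    ∀ x ∈ S.D J, cj x K = K := fun _ hx =>
  nm_iff.1 (S.D_le (K := Subgroup.normalizer (K : Set G)) (fun y hy => nm_iff.2 (h0 y hy))
    (fun i hi y hy => nm_iff.2 (h i hi y hy)) hx)

theorem V_le_iff {J L : Set I} (h : S.V J ≤ S.V L) : L ⊆ J :=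
  S.D_le_of_Syl fun _ hP => S.vx J _ (S.Syl_mono (Set.subset_univ L) hP) (h.trans (rad_le hP))

/-- conjugation -/
def conj (g : G) : PS G p I where
  X := cj g S.X
  D J := cj g (S.D J)
  isP := isPGroup_cj S.isP g
  D_empty := by rw [S.D_empty]
  mono h := cj_mono g (S.mono h)
  le_iff h := S.le_iff ((cj_le_cj_iff g).1 h)
  syl P h1 h2 := by
    obtain ⟨R, hR, h3⟩ := S.syl (cj g⁻¹ P) ((cj_le_iff _).2 (by rwa [inv_inv])) (isPGroup_cj h2 _)
    exact ⟨cj g R, cj_mem_Cjs_cj.2 hR, by rwa [cj_le_iff, inv_inv] at h3⟩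
  ov K h1 h2 := by
    obtain ⟨J, h3, h4⟩ := S.ov (cj g⁻¹ K) ((cj_le_iff g).1 h1) ((cj_le_iff _).2 (by rwa [inv_inv]))
    refine ⟨J, (cj_le_iff g).2 h3, fun k hk => mem_Cjs_cj.2 ?_⟩
    rw [← cj_mul, ← cj_mul]
    exact h4 _ (by simpa using conj_mem_cj g⁻¹ hk)
  gen J K h := (cj_le_iff g).2 (S.gen J _ fun P hP => (cj_le_iff g).1 (h _ (cj_mem_Cjs_cj.2 hP)))
  nrm n hn h J := nm_cj_iff.2 (S.nrm _ (mem_cj.1 hn) (nm_cj_iff.1 h) J)
  vx J P hP h := by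
    rw [rad_cj, cj_le_iff] at h
    exact mem_Cjs_cj.2 (S.vx J _ (mem_Cjs_cj.1 hP) h)
  rk2 j k h h1 h2 := by
    simp only [nS_cj]
    exact S.rk2 j k h ((spl_cj_iff g).1 h1) ((spl_cj_iff g).1 h2)
  endn := by
    simp only [AdjD, nS_cj]
    exact S.endn

theorem conj_W (g : G) (J : Set I) : (S.conj g).W J = S.W J := nS_cj g _ _

theorem conj_V (g : G) (J : Set I) : (S.conj g).V J = cj g (S.V J) := rad_cj g _ _

theorem conj_Split (g : G) (i : I) : (S.conj g).Split i ↔ S.Split i := spl_cj_iff g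

theorem conj_Adj (g : G) (i j : I) : (S.conj g).Adj i j ↔ S.Adj i j := by
  show AdjD (fun J => cj g (S.D J)) (cj g S.X) i j ↔ _
  simp only [AdjD, nS_cj]

theorem At.conj {Ω : Type*} [MulAction G Ω] {T : Subgroup G} [T.Normal] {a : Ω} {S : PS G p I} (h : S.At T a) (g : G) :
    (S.conj g).At T (g • a) where
  leT := (cj_mono g h.leT).trans (cj_normal g T).le
  fix := cj_le_stab.2 h.fix
  nrmH x hx := nm_cj_iff.2 (h.nrmH _ (by rw [mul_smul, mul_smul, hx, inv_smul_smul]))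

variable [Finite G]

theorem maxP : MaxP p (S.D Set.univ) S.X :=
  ⟨S.X_le _, S.isP, fun R hR h1 h2 => by
    obtain ⟨P, hP, h3⟩ := S.syl R h1 hR
    exact (Subgroup.eq_of_le_of_card_ge h2 ((Subgroup.card_le_of_le h3).trans (card_of_mem_Cjs hP).le)).symm⟩

theorem maxP' {K : Subgroup G} (h1 : S.X ≤ K) (h2 : K ≤ S.D Set.univ) : MaxP p K S.X := S.maxP.mono h1 h2

theorem maxD (J : Set I) : MaxP p (S.D J) S.X := S.maxP' (S.X_le J) (S.le_univ J)

theorem maxP_Syl {J : Set I} {P : Subgroup G} (h : P ∈ S.Syl J) : MaxP p (S.D Set.univ) P :=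
  S.maxP.of_mem_Cjs (S.Syl_mono (Set.subset_univ J) h)

theorem W_pos (J : Set I) : 0 < S.W J := nS_pos _ _

theorem W_empty : S.W ∅ = 1 := by
  have : S.Syl ∅ = {S.X} := Set.eq_singleton_iff_unique_mem.2 ⟨S.X_mem _, fun _ => S.Syl_empty⟩
  show (S.Syl ∅).ncard = 1
  rw [this, Set.ncard_singleton]

theorem W_mono {J L : Set I} (h : J ⊆ L) : S.W J ≤ S.W L := Set.ncard_le_ncard (S.Syl_mono h)

variable [hp : Fact p.Prime]

/-- the Sylow subgroups inside an overgroup of `X` -/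
theorem mem_Syl_typ {K P : Subgroup G} (hK : S.X ≤ K) (hP : P ∈ S.Syl Set.univ) (h : P ≤ K) : P ∈ S.Syl (S.typ K) := by
  have h1 : MaxP p (K ⊓ S.D Set.univ) S.X := S.maxP' (le_inf hK (S.X_le _)) inf_le_right
  obtain ⟨k, hk, rfl⟩ := h1.exists_eq ((S.maxP_Syl hP).mono (le_inf h (S.Syl_le hP)) inf_le_right)
  exact (S.ov' hK).2 k hk.1 hk.2

theorem mem_Syl_of_le {J : Set I} {P : Subgroup G} (hP : P ∈ S.Syl Set.univ) (h : P ≤ S.D J) : P ∈ S.Syl J := by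
  have h1 := S.mem_Syl_typ (S.X_le J) hP h
  rwa [S.typ_D] at h1

theorem mem_Syl_inter {J L : Set I} {P : Subgroup G} (h1 : P ∈ S.Syl J) (h2 : P ∈ S.Syl L) : P ∈ S.Syl (J ∩ L) :=
  S.Syl_mono (J := S.typ (S.D J ⊓ S.D L)) (fun i hi => Set.mem_inter (S.le_iff (J := {i}) (le_trans hi inf_le_left) rfl)
      (S.le_iff (J := {i}) (le_trans hi inf_le_right) rfl))
    (S.mem_Syl_typ (K := S.D J ⊓ S.D L) (le_inf (S.X_le J) (S.X_le L)) (S.Syl_mono (Set.subset_univ J) h1)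
      (le_inf (S.Syl_le h1) (S.Syl_le h2)))

theorem eq_X_of_disjoint {J L : Set I} (h : Disjoint J L) {P : Subgroup G} (h1 : P ∈ S.Syl J) (h2 : P ∈ S.Syl L) :
    P = S.X := S.Syl_empty (Set.disjoint_iff_inter_eq_empty.1 h ▸ S.mem_Syl_inter h1 h2)

/-- two Sylow subgroups of `D {i}` generate it -/
theorem D_le_of_two {i : I} {K P : Subgroup G} (hP : P ∈ S.Syl {i}) (hne : P ≠ S.X) (hK : S.X ≤ K) (h : P ≤ K) :
    S.D {i} ≤ K := by
  by_contra h1
  exact hne (S.eq_X_of_disjoint (Set.disjoint_singleton_left.2 h1) hP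
    (S.mem_Syl_typ hK (S.Syl_mono (Set.subset_univ _) hP) h))

theorem D_le_of_two' {i : I} {K P P' : Subgroup G} (hP : P ∈ S.Syl {i}) (hP' : P' ∈ S.Syl {i}) (hne : P ≠ P')
    (h : P ≤ K) (h' : P' ≤ K) : S.D {i} ≤ K := by
  obtain ⟨e, he, rfl⟩ := hP'
  have h1 := S.D_le_of_two (K := cj e⁻¹ K) (cj_mem_Cjs (inv_mem he) hP)
    (fun h2 => hne (by rw [← h2, cj_cj_inv])) ((cj_le_iff e).1 h') (cj_mono _ h)
  rwa [← cj_le_iff, cj_of_mem he] at h1

theorem W_modEq (J : Set I) : S.W J ≡ 1 [MOD p] := (S.maxD J).nS_modEq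

theorem not_dvd_W (J : Set I) : ¬ p ∣ S.W J := fun h =>
  hp.1.one_lt.ne' (Nat.dvd_one.1 ((S.W_modEq J).dvd_iff dvd_rfl |>.1 h))

theorem three_le (i : I) : 3 ≤ S.W {i} := by
  obtain ⟨P, hP, hne⟩ := S.exists_ne i
  have h1 : 1 < S.W {i} := (Set.one_lt_ncard (finite_Cjs _ _)).2 ⟨P, hP, _, S.X_mem _, hne⟩
  have h2 := Nat.le_of_dvd (by omega) ((Nat.modEq_iff_dvd' h1.le).1 (S.W_modEq {i}).symm)
  have h3 := hp.1.two_le
  omega

theorem Split.exists_pow {S : PS G p I} {i : I} (h : S.Split i) : ∃ n, 0 < n ∧ S.W {i} = p ^ n + 1 := by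
  obtain ⟨P, hP, hne⟩ := S.exists_ne i
  obtain ⟨n, hn⟩ := Spl.exists_pow h S.isP (S.X_le _) hP hne
  refine ⟨n, Nat.pos_of_ne_zero ?_, hn⟩
  rintro rfl
  have := S.three_le i
  have h1 : S.W {i} = 2 := hn
  omega

/-- a residue is determined by any of its chambers -/
theorem nm_of_mem_Syl {J : Set I} {g : G} (hg : g ∈ S.D Set.univ) {P : Subgroup G} (h1 : P ∈ S.Syl J)
    (h2 : cj g P ∈ S.Syl J) : cj g (S.D J) = S.D J := by
  obtain ⟨f, hf, rfl⟩ := h1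
  obtain ⟨f', hf', h3⟩ := h2
  have h4 := S.nrm (f'⁻¹ * g * f) (mul_mem (mul_mem (inv_mem (S.le_univ J hf')) hg) (S.le_univ J hf))
    (by rw [cj_mul, cj_mul, h3, cj_inv_cj]) J
  rw [cj_mul, cj_mul, cj_of_mem hf] at h4
  rw [← cj_cj_inv f' (cj g (S.D J)), h4, cj_of_mem hf']

theorem grid_aux {J L : Set I} (h : Disjoint J L) : ∃ φ : S.Syl J × S.Syl L → S.Syl (J ∪ L), Function.Injective φ ∧
    ∀ x, ∃ e ∈ S.D J, ∃ f ∈ S.D L, (φ x : Subgroup G) = cj (e * f) S.X := by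
  choose r hr hr' using fun P : S.Syl J => P.2
  refine ⟨fun x => ⟨cj (r x.1) x.2, cj_mem_Cjs (S.mono Set.subset_union_left (hr x.1))
    (S.Syl_mono Set.subset_union_right x.2.2)⟩, ?_, ?_⟩
  · rintro ⟨P, R⟩ ⟨P', R'⟩ h1
    have h2 : cj (r P) R = cj (r P') R' := congrArg Subtype.val h1
    have h3 : (r P')⁻¹ * r P ∈ S.D J := mul_mem (inv_mem (hr P')) (hr P)
    have h4 := S.nm_of_mem_Syl (S.le_univ J h3) R.2 (by rw [cj_mul, h2, cj_inv_cj]; exact R'.2)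
    have h5 : cj ((r P')⁻¹ * r P) S.X = S.X := S.eq_X_of_disjoint h ⟨_, h3, rfl⟩
      (S.mem_Syl_of_le ⟨_, S.le_univ J h3, rfl⟩ ((cj_mono _ (S.X_le L)).trans h4.le))
    have h6 : P = P' := Subtype.ext (by
      rw [hr' P, hr' P', ← cj_cj_inv (r P') (cj (r P) S.X), ← cj_mul (r P')⁻¹, h5])
    subst h6
    rw [Subtype.ext (cj_inj _ h2)]
  · rintro ⟨P, R, f, hf, rfl⟩
    exact ⟨r P, hr P, f, hf, (cj_mul _ _ _).symm⟩

theorem W_mul_le {J L : Set I} (h : Disjoint J L) : S.W J * S.W L ≤ S.W (J ∪ L) := by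
  obtain ⟨φ, h1, -⟩ := S.grid_aux h
  have h2 := Nat.card_le_card_of_injective φ h1
  rwa [Nat.card_prod, Nat.card_coe_set_eq, Nat.card_coe_set_eq, Nat.card_coe_set_eq] at h2

/-- the grid property -/
theorem grid {J L : Set I} (h : Disjoint J L) (hW : S.W (J ∪ L) = S.W J * S.W L) {P : Subgroup G}
    (hP : P ∈ S.Syl (J ∪ L)) : ∃ e ∈ S.D J, ∃ f ∈ S.D L, P = cj (e * f) S.X := by
  obtain ⟨φ, h1, h2⟩ := S.grid_aux h
  have h3 : Function.Bijective φ := h1.bijective_of_nat_card_le (by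
    rw [Nat.card_prod, Nat.card_coe_set_eq, Nat.card_coe_set_eq, Nat.card_coe_set_eq]
    exact hW.le)
  obtain ⟨x, hx⟩ := h3.2 ⟨P, hP⟩
  obtain ⟨e, he, f, hf, h4⟩ := h2 x
  exact ⟨e, he, f, hf, by rw [← h4, hx]⟩

theorem W_eq_of_grid {J L : Set I} (h : Disjoint J L)
    (hg : ∀ P ∈ S.Syl (J ∪ L), ∃ e ∈ S.D J, ∃ f ∈ S.D L, P = cj (e * f) S.X) : S.W (J ∪ L) = S.W J * S.W L := by
  refine le_antisymm ?_ (S.W_mul_le h)
  choose r hr hr' using fun P : S.Syl J => P.2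
  let ψ : S.Syl J × S.Syl L → Subgroup G := fun x => cj (r x.1) x.2
  have h1 : S.Syl (J ∪ L) ⊆ Set.range ψ := fun P hP => by
    obtain ⟨e, he, f, hf, rfl⟩ := hg P hP
    let R : S.Syl J := ⟨cj e S.X, e, he, rfl⟩
    have h2 : cj ((r R)⁻¹ * e) S.X = S.X := by
      rw [cj_mul]
      exact (congrArg (cj (r R)⁻¹) (hr' R)).trans (cj_inv_cj _ _)
    have h3 := S.nrm _ (S.le_univ J (mul_mem (inv_mem (hr R)) he)) h2 L
    refine ⟨(R, ⟨cj ((r R)⁻¹ * e) (cj f S.X), cj_mem_Cjs_nm h3 h2 ⟨f, hf, rfl⟩⟩), ?_⟩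
    show cj (r R) (cj ((r R)⁻¹ * e) (cj f S.X)) = _
    rw [← cj_mul, mul_inv_cancel_left, cj_mul]
  have h2 := (Set.ncard_le_ncard h1).trans (Finite.card_range_le ψ)
  rwa [Nat.card_prod, Nat.card_coe_set_eq, Nat.card_coe_set_eq] at h2

theorem grid_of_not_adj {j k : I} (hne : j ≠ k) (h : ¬ S.Adj j k) {P : Subgroup G} (hP : P ∈ S.Syl {j, k}) :
    ∃ e ∈ S.D {j}, ∃ f ∈ S.D {k}, P = cj (e * f) S.X :=
  S.grid (Set.disjoint_singleton.2 hne) (by_contra fun h1 => h ⟨hne, h1⟩) hP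

theorem three_mul_le {J : Set I} {i : I} (hi : i ∉ J) : 3 * S.W J ≤ S.W (insert i J) :=
  (Nat.mul_le_mul_right _ (S.three_le i)).trans (S.W_mul_le (Set.disjoint_singleton_left.2 hi))

theorem three_mul_le' {J L : Set I} {i : I} (h : J ⊆ L) (hi : i ∉ J) (hi' : i ∈ L) : 3 * S.W J ≤ S.W L :=
  (S.three_mul_le hi).trans (S.W_mono (Set.insert_subset hi' h))

theorem pow_le_W {J : Set I} (hJ : J.Finite) : 3 ^ J.ncard ≤ S.W J := by
  induction J, hJ using Set.Finite.induction_on with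
  | empty => rw [Set.ncard_empty, pow_zero]; exact S.W_pos _
  | insert hi hs ih =>
    rw [Set.ncard_insert_of_notMem hi hs, pow_succ']
    exact (Nat.mul_le_mul_left _ ih).trans (S.three_mul_le hi)

theorem pow_mul_le {J L A : Set I} (hA : A.Finite) (h : Disjoint A J) (h1 : A ⊆ L) (h2 : J ⊆ L) :
    3 ^ A.ncard * S.W J ≤ S.W L :=
  ((Nat.mul_le_mul_right _ (S.pow_le_W hA)).trans (S.W_mul_le h)).trans (S.W_mono (Set.union_subset h1 h2))

/-- automorphisms permute the `D J` -/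
theorem exists_set {h : G} (h1 : cj h (S.D Set.univ) = S.D Set.univ) (h2 : cj h S.X = S.X) (J : Set I) :
    ∃ L, cj h (S.D J) = S.D L := by
  have h3 : S.X ≤ cj h (S.D J) := h2.ge.trans (cj_mono h (S.X_le J))
  refine ⟨S.typ (cj h (S.D J)), le_antisymm ((cj_le_iff h).2 (S.gen J _ fun P hP => (cj_le_iff h).1 ?_))
    (S.ov' h3).1⟩
  exact S.Syl_le (S.mem_Syl_typ h3 (cj_mem_Cjs_nm h1 h2 (S.Syl_mono (Set.subset_univ J) hP))
    (cj_mono h (S.Syl_le hP)))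

theorem exists_perm {h : G} (h1 : cj h (S.D Set.univ) = S.D Set.univ) (h2 : cj h S.X = S.X) (i : I) :
    ∃ k, cj h (S.D {i}) = S.D {k} := by
  have h0 : ∀ {g : G}, cj g S.X = S.X → ∀ (k : I) (L : Set I), cj g (S.D {k}) = S.D L → L.Nonempty := by
    intro g hg k L h3
    rw [Set.nonempty_iff_ne_empty]
    rintro rfl
    rw [S.D_empty, ← hg] at h3
    exact Set.singleton_ne_empty k (S.D_inj ((cj_inj g h3).trans S.D_empty.symm))
  obtain ⟨L, hL⟩ := S.exists_set h1 h2 {i}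
  obtain ⟨k, hk⟩ := h0 h2 i L hL
  obtain ⟨L', hL'⟩ := S.exists_set (nm_inv h1) (nm_inv h2) {k}
  have h3 : S.D L' ≤ S.D {i} := by
    rw [← hL', cj_le_iff, inv_inv, hL]
    exact S.mono (Set.singleton_subset_iff.2 hk)
  have h4 : L' = {i} := (h0 (nm_inv h2) k L' hL').subset_singleton_iff.1 (S.le_iff h3)
  exact ⟨k, by rw [← h4, ← hL', cj_cj_inv]⟩

/-- the image of `D J` from the images of the `D {i}` -/
theorem cj_D_eq {h : G} (h2 : cj h S.X = S.X) {J L : Set I} (h3 : ∀ i ∈ J, ∃ k ∈ L, cj h (S.D {i}) = S.D {k})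
    (h4 : ∀ k ∈ L, ∃ i ∈ J, cj h (S.D {i}) = S.D {k}) : cj h (S.D J) = S.D L := by
  refine le_antisymm ((cj_le_iff h).2 (S.D_le ((cj_le_iff h).1 (h2.le.trans (S.X_le L))) fun i hi => ?_))
    (S.D_le (h2.ge.trans (cj_mono h (S.X_le J))) fun k hk => ?_)
  · obtain ⟨k, hk, h5⟩ := h3 i hi
    rw [← cj_le_iff, h5]
    exact S.mono (Set.singleton_subset_iff.2 hk)
  · obtain ⟨i, hi, h5⟩ := h4 k hk
    rw [← h5]
    exact cj_mono h (S.mono (Set.singleton_subset_iff.2 hi))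

theorem W_eq_of_cj {h : G} (h2 : cj h S.X = S.X) {J L : Set I} (h3 : cj h (S.D J) = S.D L) : S.W L = S.W J := by
  show nS (S.D L) S.X = _
  rw [← h3]
  conv_lhs => rw [← h2]
  exact nS_cj _ _ _

theorem V_eq_of_cj {h : G} (h2 : cj h S.X = S.X) {J L : Set I} (h3 : cj h (S.D J) = S.D L) :
    cj h (S.V J) = S.V L := by
  show _ = rad (S.D L) S.X
  rw [← rad_cj, h3, h2]

theorem split_of_cj {h : G} (h2 : cj h S.X = S.X) {i k : I} (h3 : cj h (S.D {i}) = S.D {k}) (h4 : S.Split i) :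
    S.Split k := by
  have := Spl.cj h4 h
  rwa [h3, h2] at this

theorem adj_of_cj {h : G} (h2 : cj h S.X = S.X) {i k i' k' : I} (h3 : cj h (S.D {i}) = S.D {i'})
    (h4 : cj h (S.D {k}) = S.D {k'}) (h5 : S.Adj i k) : S.Adj i' k' := by
  refine ⟨fun h6 => h5.1 (S.D_single_inj (cj_inj h (by rw [h3, h4, h6]))), ?_⟩
  have h6 : cj h (S.D {i, k}) = S.D {i', k'} := by
    rw [Set.insert_eq, Set.insert_eq, S.D_union, S.D_union, cj_sup, h3, h4]
  show S.W {i', k'} ≠ S.W {i'} * S.W {k'}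
  rw [S.W_eq_of_cj h2 h3, S.W_eq_of_cj h2 h4, S.W_eq_of_cj h2 h6]
  exact h5.2

/-- the normal closure of `V J` in `D L` -/
def RR (J L : Set I) : Subgroup G := ⨆ e : S.D L, cj (e : G) (S.V J)

theorem V_le_RR (J L : Set I) : S.V J ≤ S.RR J L := by
  have := le_iSup (fun e : S.D L => cj (e : G) (S.V J)) 1
  rw [Subgroup.coe_one, cj_one] at this
  exact this

theorem RR_le {J L : Set I} : S.RR J L ≤ S.D L :=
  iSup_le fun e => (cj_mono _ ((S.V_le J).trans (S.X_le L))).trans (cj_of_mem e.2).le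

theorem nm_RR {J L : Set I} {g : G} (hg : g ∈ S.D L) : cj g (S.RR J L) = S.RR J L := by
  refine nm_of_le ?_
  rw [RR, cj_iSup]
  exact iSup_le fun e => by
    rw [← cj_mul]
    exact le_iSup (fun e : S.D L => cj (e : G) (S.V J)) ⟨g * e, mul_mem hg e.2⟩

theorem cj_RR {h : G} {J L J' L' : Set I} (h3 : cj h (S.V J) = S.V J') (h4 : cj h (S.D L) = S.D L') :
    cj h (S.RR J L) = S.RR J' L' := by
  have key : ∀ {h : G} {J L J' L' : Set I}, cj h (S.V J) = S.V J' → cj h (S.D L) = S.D L' →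
      cj h (S.RR J L) ≤ S.RR J' L' := by
    intro h J L J' L' h3 h4
    rw [RR, cj_iSup]
    refine iSup_le fun e => ?_
    have h5 : cj h (cj (e : G) (S.V J)) = cj (h * e * h⁻¹) (S.V J') := by
      rw [← h3, ← cj_mul, ← cj_mul, inv_mul_cancel_right]
    rw [h5]
    exact le_iSup (fun e : S.D L' => cj (e : G) (S.V J')) ⟨_, h4 ▸ conj_mem_cj h e.2⟩
  refine le_antisymm (key h3 h4) ?_
  have h5 := key (h := h⁻¹) (J := J') (L := L') (J' := J) (L' := L) (by rw [← h3, cj_inv_cj])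
    (by rw [← h4, cj_inv_cj])
  rwa [cj_le_iff, inv_inv] at h5

/-- in a grid, `D J` normalises the normal closure of `V J` in `D L` -/
theorem nm_RR_of_grid {J L : Set I} (h : Disjoint J L) (hW : S.W (J ∪ L) = S.W J * S.W L) {g : G} (hg : g ∈ S.D J) :
    cj g (S.RR J L) = S.RR J L := by
  refine nm_of_le ?_
  rw [RR, cj_iSup]
  refine iSup_le fun e => ?_
  have h1 : g * e ∈ S.D (L ∪ J) := mul_mem (S.mono Set.subset_union_right hg) (S.mono Set.subset_union_left e.2)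
  obtain ⟨e', he', f, hf, h2⟩ := S.grid h.symm (by rw [Set.union_comm, mul_comm]; exact hW) ⟨_, h1, rfl⟩
  have h3 : cj ((e' * f)⁻¹ * (g * e)) S.X = S.X := by rw [cj_mul, h2, cj_inv_cj]
  have h4 := S.V_eq_of_cj h3 (S.nrm _ (mul_mem (inv_mem (mul_mem (S.le_univ _ he') (S.le_univ _ hf)))
    (S.le_univ _ h1)) h3 J)
  have h5 : cj g (cj (e : G) (S.V J)) = cj e' (S.V J) := by
    rw [← cj_mul, ← cj_cj_inv (e' * f) (cj (g * e) (S.V J)), ← cj_mul (e' * f)⁻¹, h4, cj_mul, S.nm_V hf]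
  rw [h5]
  exact le_iSup (fun e : S.D L => cj (e : G) (S.V J)) ⟨e', he'⟩

theorem nm_RR_of_not_adj {j k : I} (hne : j ≠ k) (h : ¬ S.Adj j k) {g : G} (hg : g ∈ S.D {j}) :
    cj g (S.RR {j} {k}) = S.RR {j} {k} :=
  S.nm_RR_of_grid (Set.disjoint_singleton.2 hne) (by_contra fun h1 => h ⟨hne, h1⟩) hg

theorem RR_sup {J : Set I} {k : I} (hk : k ∉ J) : S.RR J {k} ⊔ S.X = S.D {k} := by
  refine le_antisymm (sup_le S.RR_le (S.X_le _)) ?_
  by_contra h
  have h1 : ∀ g ∈ S.RR J {k}, cj g S.X = S.X := fun g hg =>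
    S.eq_X_of_disjoint (L := S.typ (S.RR J {k} ⊔ S.X)) (Set.disjoint_singleton_left.2 h) ⟨g, S.RR_le hg, rfl⟩
      ((S.ov' le_sup_right).2 g (Subgroup.mem_sup_left hg) (S.le_univ _ (S.RR_le hg)))
  have h2 : S.RR J {k} ≤ S.X := iSup_le fun e =>
    (S.maxD {k}).le_of_nm' (isPGroup_cj (S.V_isP J) _)
      ((le_iSup (fun e : S.D {k} => cj (e : G) (S.V J)) e).trans S.RR_le)
      fun x hx => h1 x (le_iSup (fun e : S.D {k} => cj (e : G) (S.V J)) e hx)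
  exact hk (S.V_le_iff ((S.V_le_RR J {k}).trans (le_rad h2 fun g hg => S.nm_RR hg)) rfl)

end PS

/-- conjugation -/
def US.conj (S : US G p I) (g : G) : US G p I where
  toPS := S.toPS.conj g
  split i := (S.split i).cj g
  pan i P hP hne := by
    have h1 := S.pan i _ (mem_Cjs_cj.1 hP) fun h => hne (by rw [← cj_cj_inv g P, h]; rfl)
    show cj g S.X ⊓ P ≤ rad (cj g _) (cj g _)
    rw [rad_cj, ← cj_cj_inv g P, ← cj_inf]
    exact cj_mono g h1
  proj J P hP hne := by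
    obtain ⟨i, hi, R, hR, h1, h2⟩ := S.proj J _ (mem_Cjs_cj.1 hP) fun h => hne (by rw [← cj_cj_inv g P, h]; rfl)
    refine ⟨i, hi, cj g R, cj_mem_Cjs_cj.2 hR, fun h => h1 (cj_inj g h), fun R' hR' h3 => ?_⟩
    have h4 := h2 _ (mem_Cjs_cj.1 hR') fun h => h3 (by rw [← h, cj_cj_inv])
    rwa [← cj_inf, card_cj, ← card_cj g (R ⊓ _), cj_inf, cj_cj_inv] at h4
  opp := by
    obtain ⟨P₀, h1, h2, h3, h4, h5⟩ := S.opp
    refine ⟨cj g P₀, cj_mem_Cjs_cj.2 h1, ?_, fun P hP h6 => ?_, fun i => ?_, fun h h6 h7 h8 P hP => ?_⟩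
    · show cj g S.X ⊓ _ = _
      rw [← cj_inf, h2, cj_bot]
    · obtain ⟨u, hu, h7⟩ := h3 _ (mem_Cjs_cj.1 hP) (cj_inj g (by rw [cj_inf, cj_cj_inv, cj_bot]; exact h6))
      exact ⟨g * u * g⁻¹, conj_mem_cj g hu, by rw [cj_mul, cj_mul, h7]⟩
    · obtain ⟨R, hR, h6, h7⟩ := h4 i
      refine ⟨cj g R, cj_mem_Cjs_cj.2 hR, by rwa [← cj_inf, Ne, cj_eq_bot], fun R' hR' h8 => ?_⟩
      rw [← cj_cj_inv g R', ← cj_inf, cj_eq_bot]
      exact h7 _ (mem_Cjs_cj.1 hR') fun h => h8 (by rw [← h, cj_cj_inv])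
    · have h9 := h5 (g⁻¹ * h * g) (nm_cj_iff.1 h6) (nm_cj_iff.1 h7)
        (fun i R hR => nm_cj_iff.1 (h8 i _ (cj_mem_Cjs_cj.2 hR))) _ (mem_Cjs_cj.1 hP)
      rw [← cj_cj_inv g P]
      exact nm_cj_iff.2 h9

/-- conjugation -/
def FS.conj (F : FS G p I) (g : G) : FS G p I where
  toPS := F.toPS.conj g
  Y i := cj g (F.Y i)
  Y_le i := cj_mono g (F.Y_le i)
  Y_nrm i x hx := nm_cj_iff.2 (F.Y_nrm i _ (mem_cj.1 hx))
  y1 i := by
    obtain ⟨P, hP, h1, h2⟩ := F.y1 i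
    exact ⟨cj g P, cj_mem_Cjs_cj.2 hP, fun h => h1 (cj_inj g h), cj_mono g h2⟩
  y2 J Z h1 h2 P hP h3 h4 := by
    obtain ⟨i, hi, h5⟩ := F.y2 J (cj g⁻¹ Z) ((cj_le_iff _).2 (by rw [inv_inv]; exact h1))
      (fun x hx => nm_cj_iff.2 (by rw [inv_inv]; exact h2 _ (conj_mem_cj g hx))) _ (mem_Cjs_cj.1 hP)
      (fun h => h3 (by rw [← cj_cj_inv g P, h]; rfl)) (cj_mono _ h4)
    exact ⟨i, hi, by rwa [cj_le_iff, inv_inv] at h5⟩
  y3 i k h := F.y3 i k ((cj_le_cj_iff g).1 h)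
  multi i hi := by
    obtain ⟨K, a, h1, h2, h3, h4⟩ := F.multi i fun h => hi (h.cj g)
    refine ⟨cj g K, a, (rad_cj g _ _).le.trans (cj_mono g h1), cj_mono g h2, (nS_cj g _ _).symm ▸ h3, ?_⟩
    have h5 : {P ∈ Cjs (cj g (F.D {i})) (cj g F.X) | cj g K ≤ P} = cj g '' {P ∈ Cjs (F.D {i}) F.X | K ≤ P} := by
      ext P
      constructor
      · rintro ⟨h6, h7⟩
        exact ⟨cj g⁻¹ P, ⟨mem_Cjs_cj.1 h6, (cj_le_iff g).1 h7⟩, cj_cj_inv g P⟩
      · rintro ⟨R, ⟨h6, h7⟩, rfl⟩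
        exact ⟨cj_mem_Cjs_cj.2 h6, cj_mono g h7⟩
    show ¬ p ^ a ∣ {P ∈ Cjs (cj g (F.D {i})) (cj g F.X) | cj g K ≤ P}.ncard - 1
    rwa [h5, Set.ncard_image_of_injective _ fun _ _ h => cj_inj g h]
  iso5 i h1 h2 := (nS_cj g _ _).symm ▸ F.iso5 i ((spl_cj_iff g).1 h1) fun k hk => h2 k ((F.toPS.conj_Adj g i k).2 hk)

section At

variable {Ω : Type*} [MulAction G Ω] {T : Subgroup G} {a : Ω}

theorem FS.At.conj [hT : T.Normal] {F : FS G p I} (h : F.At T a) (g : G) : (F.conj g).At T (g • a) where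
  toAt := h.toAt.conj g
  maxX P h1 h2 h3 h4 h5 := by
    have h6 := h.maxX (cj g⁻¹ P) (isPGroup_cj h1 _) ((cj_mono _ h2).trans (cj_normal _ T).le)
      (cj_le_stab'.2 (by rwa [inv_inv])) (fun x hx => by
        have h7 := nm_cj_iff.1 (h4 _ (mem_cj.1 hx))
        rwa [show g⁻¹ * (g⁻¹⁻¹ * x * g⁻¹) * g = x by group] at h7)
      (fun x hx hxa hxX => nm_cj_iff.2 (h5 _ (by simpa using hT.conj_mem x hx g)
        (by rw [mul_smul, mul_smul, inv_smul_smul, hxa, inv_inv]) (by rw [inv_inv]; exact nm_cj hxX)))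
    rwa [cj_le_iff, inv_inv] at h6
  rig2 h1 x hx h2 h3 := by
    obtain ⟨y, hy, h4⟩ := h.rig2 (fun i => ⟨(spl_cj_iff g).1 (h1 i).1, (nS_cj g _ _).symm.trans (h1 i).2⟩)
      (g⁻¹ * x * g) (by rw [mul_smul, mul_smul, hx, inv_smul_smul]) (nm_cj_iff.1 h2) fun i => nm_cj_iff.1 (h3 i)
    refine ⟨g * y * g⁻¹, conj_mem_cj g hy, fun P hP => ?_⟩
    rw [← cj_cj_inv g P, nm_cj_iff, show g⁻¹ * (g * y * g⁻¹ * x) * g = y * (g⁻¹ * x * g) by group]
    exact h4 _ (mem_Cjs_cj.1 hP)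

theorem Fold.conj {I' : Type*} {S : US G p I} {F : FS G p I'} {κ : I → I'} (h : Fold S F κ a) (g : G) :
    Fold (S.conj g) (F.conj g) κ (g • a) where
  surj := h.surj
  D_eq J := (congrArg (cj g) (h.D_eq J)).trans (cj_sup _ _ _)
  inf := (cj_inf _ _ _).symm.trans (congrArg (cj g) h.inf)
  nX x hx h1 := nm_cj_iff.2 (h.nX _ (by rw [mul_smul, mul_smul, hx, inv_smul_smul]) (nm_cj_iff.1 h1))
  fib i k h1 := by
    obtain ⟨x, hx, h2⟩ := h.fib i k h1
    refine ⟨g * x * g⁻¹, conj_mem_cj g hx, ?_⟩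
    show cj _ (cj g (S.D {i})) = cj g (S.D {k})
    rw [← cj_mul, inv_mul_cancel_right, cj_mul, h2]

theorem quasi_equiv {A B : Type*} [Group A] [Group B] (e : A ≃* B) (h : Cfsg.IsQuasisimple A) :
    Cfsg.IsQuasisimple B := by
  have h1 := h.1
  have h2 := h.2
  refine ⟨Group.IsPerfect.ofSurjective (f := e.toMonoidHom) e.surjective, ?_⟩
  exact (QuotientGroup.congr (Subgroup.center A) (Subgroup.center B) e (by
    ext x
    obtain ⟨y, rfl⟩ := e.surjective x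
    refine (Subgroup.mem_map_iff_mem (f := (e : A →* B)) e.injective).trans ?_
    rw [Subgroup.mem_center_iff, Subgroup.mem_center_iff]
    refine ⟨fun h3 b => ?_, fun h3 a => e.injective (by rw [map_mul, map_mul]; exact h3 _)⟩
    obtain ⟨a, rfl⟩ := e.surjective b
    rw [← map_mul, ← map_mul, h3])).symm.isSimpleGroup

/-- conjugation -/
def Comps.conj {S : US G p I} {ι : Type*} (C : Comps S ι) (g : G) : Comps (S.conj g) ι where
  c := C.c
  E l := cj g (C.E l)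
  surj := C.surj
  quasi l := quasi_equiv ((C.E l).equivMapOfInjective _ (MulAut.conj g).injective) (C.quasi l)
  comm l l' h := by
    rintro _ ⟨x, hx, rfl⟩ _ ⟨y, hy, rfl⟩
    rw [← map_mul, ← map_mul, C.comm l l' h x hx y hy]
  top := (congrArg (cj g) C.top).trans (cj_iSup _ _)
  D_eq A := (congrArg (cj g) (C.D_eq A)).trans (by simp only [cj_sup, cj_iSup]; rfl)
  X_eq := (congrArg (cj g) C.X_eq).trans (by simp only [cj_iSup, cj_inf]; rfl)
  X_ne l h := C.X_ne l (cj_eq_bot.1 ((cj_inf g _ _).trans h))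
  perm h h1 l := by
    obtain ⟨l', h2⟩ := C.perm _ (nm_cj_iff.1 h1) l
    exact ⟨l', by rw [← h2, ← cj_mul, ← cj_mul, show g * (g⁻¹ * h * g) = h * g by group]⟩

end At

namespace Amb

variable {Ω : Type*} [MulAction G Ω] {T : Subgroup G} {m : ℕ} (A : Amb Ω T p m)

include A

theorem finite [Finite G] : Finite Ω := by
  rcases isEmpty_or_nonempty Ω with h | ⟨⟨a⟩⟩
  · infer_instance
  · exact Finite.of_surjective (fun g : G => g • a) fun b => by
      obtain ⟨t, -, ht⟩ := A.trans a b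
      exact ⟨t, ht⟩

theorem eq_bot_of_fix {N : Subgroup G} (h : ∀ b : Ω, N ≤ stabilizer G b) : N = ⊥ :=
  (Subgroup.eq_bot_iff_forall _).2 fun x hx => A.faith x fun b => h b hx

/-- a non-trivial normal subgroup of `G_a` has normaliser `G_a` -/
theorem smul_eq_of_nm {a : Ω} {N : Subgroup G} (h0 : N ≠ ⊥) (h1 : N ≤ stabilizer G a)
    (h2 : ∀ h : G, h • a = a → cj h N = N) {g : G} (hg : cj g N = N) : g • a = a := by
  by_contra h3
  have h4 := (A.max a).2 (Subgroup.normalizer (N : Set G))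
    (lt_of_le_of_ne (fun h hh => nm_iff.2 (h2 h hh)) fun h5 => h3 (by
      have h6 := nm_iff.2 hg
      rwa [← h5] at h6))
  refine h0 (A.eq_bot_of_fix fun b => ?_)
  obtain ⟨t, -, rfl⟩ := A.trans a b
  exact le_stab_smul (nm_iff.1 (h4 ▸ Subgroup.mem_top t)) h1

/-- `O_p(T_a) = 1` -/
theorem eq_bot_of_nm {a : Ω} {P : Subgroup G} (hP : IsPGroup p P) (h1 : P ≤ T) (h2 : P ≤ stabilizer G a)
    (h3 : ∀ g ∈ T, g • a = a → cj g P = P) : P = ⊥ :=
  A.eq_bot_of_fix fun b => by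
    obtain ⟨t, ht, h4, h5⟩ := A.syl a b P hP h1 h2
    rwa [h3 t ht h4] at h5

/-- the group is not doubly transitive -/
theorem not_trans {a : Ω} {P : Subgroup G} (hP : IsPGroup p P) (h1 : P ≤ T) (h2 : P ≤ stabilizer G a)
    (h : ∀ b c : Ω, b ≠ a → c ≠ a → P ≤ stabilizer G b → P ≤ stabilizer G c → ∃ g : G, g • a = a ∧ g • b = c) :
    False := by
  obtain ⟨b, c, hb, hc, h3⟩ := A.not2 a
  obtain ⟨t, -, h4, h5⟩ := A.syl a b P hP h1 h2
  obtain ⟨s, -, h6, h7⟩ := A.syl a c P hP h1 h2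
  obtain ⟨g, h8, h9⟩ := h (t⁻¹ • b) (s⁻¹ • c) (fun h => hb (by rw [← h4, ← h, smul_inv_smul]))
    (fun h => hc (by rw [← h6, ← h, smul_inv_smul])) (cj_le_stab'.1 h5) (cj_le_stab'.1 h7)
  refine h3 (s * g * t⁻¹) ?_ ?_
  · rw [mul_smul, mul_smul, inv_smul_eq_iff.2 h4.symm, h8, h6]
  · rw [mul_smul, mul_smul, h9, smul_inv_smul]

variable [Finite G]

/-- a common Sylow subgroup of `T_a` and `T_b` -/
theorem exists_S (a b : Ω) {P : Subgroup G} (hP : IsPGroup p P) (h1 : P ≤ T) (h2 : P ≤ stabilizer G a)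
    (h3 : P ≤ stabilizer G b) :
    ∃ R, P ≤ R ∧ MaxP p (T ⊓ stabilizer G a) R ∧ MaxP p (T ⊓ stabilizer G b) R := by
  have := Fact.mk A.prime
  have := A.nrm
  obtain ⟨R, h4, hR⟩ := exists_maxP (L := T ⊓ stabilizer G a ⊓ stabilizer G b) hP (le_inf (le_inf h1 h2) h3)
  have key : ∀ x y : Ω, MaxP p (T ⊓ stabilizer G x ⊓ stabilizer G y) R → MaxP p (T ⊓ stabilizer G x) R := by
    intro x y h
    obtain ⟨R', -, hR'⟩ := exists_maxP (p := p) (L := T ⊓ stabilizer G x) (P := ⊥) IsPGroup.of_bot bot_le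
    obtain ⟨t, ht, h5, h6⟩ := A.syl x y R' hR'.isP (hR'.le.trans inf_le_left) (hR'.le.trans inf_le_right)
    refine hR'.of_card h.isP (h.le.trans inf_le_left) ?_
    rw [← card_cj t R']
    exact h.card_le (isPGroup_cj hR'.isP t) (le_inf ((cj_mono t hR'.le).trans (cj_of_mem (H := T ⊓ stabilizer G x) ⟨ht, h5⟩).le) h6)
  exact ⟨R, h4, key a b hR, key b a (by rwa [inf_right_comm])⟩

/-- orbits of `G_{ay}` on `z` and of `G_{az}` on `y` -/
theorem ncard_Orb_eq {a y z : Ω} (hy : y ≠ a) (hz : z ≠ a) :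
    (Orb (stabilizer G a ⊓ stabilizer G y) z).ncard = (Orb (stabilizer G a ⊓ stabilizer G z) y).ncard := by
  have h1 := ncard_Orb_mul (stabilizer G a ⊓ stabilizer G y) z
  have h2 := ncard_Orb_mul (stabilizer G a ⊓ stabilizer G z) y
  rw [A.card2 a y hy.symm] at h1
  rw [A.card2 a z hz.symm, inf_right_comm] at h2
  exact Nat.eq_of_mul_eq_mul_right Nat.card_pos (h1.trans h2.symm)

end Amb

namespace PS.At

variable {Ω : Type*} [MulAction G Ω] {T : Subgroup G} {m : ℕ} {a : Ω} {S : PS G p I} (h : S.At T a)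

include h

theorem D_le (J : Set I) : S.D J ≤ T ⊓ stabilizer G a := (S.le_univ J).trans (le_inf h.leT h.fix)

theorem X_le : S.X ≤ T ⊓ stabilizer G a := (S.X_le Set.univ).trans (h.D_le _)

theorem D_fix (J : Set I) : S.D J ≤ stabilizer G a := (h.D_le J).trans inf_le_right

theorem X_fix : S.X ≤ stabilizer G a := h.X_le.trans inf_le_right

theorem D_T (J : Set I) : S.D J ≤ T := (h.D_le J).trans inf_le_left

theorem X_T : S.X ≤ T := h.X_le.trans inf_le_left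

variable [Finite G] [hp : Fact p.Prime]

theorem inf_mem {R : Subgroup G} (hR : MaxP p (T ⊓ stabilizer G a) R) : R ⊓ S.D Set.univ ∈ S.Syl Set.univ :=
  S.maxP.mem_Cjs (hR.inf (h.D_le _) fun g hg => h.nrmH g hg.2)

theorem inf_eq {R P : Subgroup G} (hR : MaxP p (T ⊓ stabilizer G a) R) {J : Set I} (hP : P ∈ S.Syl J) (h1 : P ≤ R) :
    R ⊓ S.D Set.univ = P :=
  (S.maxP_Syl hP).max _ (hR.isP.to_le inf_le_left) inf_le_right (le_inf h1 ((S.Syl_le hP).trans (S.le_univ J)))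

/-- a `p`-subgroup of `T_a` which contains a Sylow subgroup of `D univ` normalises it -/
theorem nm_of_le {R P : Subgroup G} (hR : IsPGroup p R) (h0 : R ≤ stabilizer G a) {J : Set I} (hP : P ∈ S.Syl J)
    (h1 : P ≤ R) {g : G} (hg : g ∈ R) : cj g P = P := by
  have h2 : R ⊓ S.D Set.univ = P :=
    (S.maxP_Syl hP).max _ (hR.to_le inf_le_left) inf_le_right (le_inf h1 ((S.Syl_le hP).trans (S.le_univ J)))
  rw [← h2]
  exact nm_inf (cj_of_mem hg) (h.nrmH g (h0 hg))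

theorem cj_mem_Syl {g : G} (hg : g • a = a) {P : Subgroup G} (hP : P ∈ S.Syl Set.univ) : cj g P ∈ S.Syl Set.univ :=
  S.maxP.mem_Cjs (h.nrmH g hg ▸ (S.maxP_Syl hP).cj g)

/-- the formula for `m` -/
theorem m_eq (A : Amb Ω T p m) {b : Ω} (hb : b ≠ a) (hX : S.X ≤ stabilizer G b) :
    S.W (S.typ (stabilizer G b)) *
      Nat.card ↥(stabilizer G a ⊓ stabilizer G b ⊓ Subgroup.normalizer (S.X : Set G)) = m := by
  rw [← A.card2 a b hb.symm, ← nS_mul (stabilizer G a ⊓ stabilizer G b) S.X]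
  congr 1
  show Set.ncard _ = Set.ncard _
  congr 1
  ext P
  constructor
  · rintro ⟨e, he, rfl⟩
    exact ⟨e, ⟨h.D_fix _ he, (S.ov' hX).1 he⟩, rfl⟩
  · rintro ⟨k, hk, rfl⟩
    exact S.mem_Syl_typ hX (h.cj_mem_Syl hk.1 (S.X_mem _)) ((cj_mono k hX).trans (cj_of_mem hk.2).le)

/-- every point is fixed by a Sylow subgroup of `D univ` -/
theorem exists_Syl (A : Amb Ω T p m) {b : Ω} {K : Subgroup G} (hK : IsPGroup p K) (h1 : K ≤ S.D Set.univ)
    (h2 : K ≤ stabilizer G b) : ∃ P ∈ S.Syl Set.univ, K ≤ P ∧ P ≤ stabilizer G b := by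
  obtain ⟨R, h3, h4, h5⟩ := A.exists_S a b hK (h1.trans h.leT) (h1.trans h.fix) h2
  exact ⟨_, h.inf_mem h4, le_inf h3 h1, inf_le_left.trans (h5.le.trans inf_le_right)⟩

theorem V_univ (A : Amb Ω T p m) : S.V Set.univ = ⊥ :=
  A.eq_bot_of_fix fun b => by
    obtain ⟨P, hP, -, h1⟩ := h.exists_Syl A (b := b) (K := ⊥) IsPGroup.of_bot bot_le bot_le
    exact (rad_le hP).trans h1

omit h in
theorem _root_.Cfsg.Agent.TH.Own.PS.V_ne_bot (S : PS G p I) {J : Set I} (hJ : J ≠ Set.univ) : S.V J ≠ ⊥ := fun h =>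
  hJ (Set.eq_univ_of_univ_subset (S.V_le_iff (h ▸ bot_le)))

omit h in
theorem _root_.Cfsg.Agent.TH.Own.PS.X_ne_bot (S : PS G p I) : S.X ≠ ⊥ := by
  obtain ⟨i, -⟩ := S.endn
  rw [← S.V_empty]
  exact S.V_ne_bot fun h => Set.notMem_empty i (h ▸ Set.mem_univ i)

/-- a normal `p`-subgroup of `D univ` is trivial -/
theorem eq_bot_of_nm (A : Amb Ω T p m) {P : Subgroup G} (hP : IsPGroup p P) (h1 : P ≤ S.D Set.univ)
    (h2 : ∀ g ∈ S.D Set.univ, cj g P = P) : P = ⊥ :=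
  le_bot_iff.1 (h.V_univ A ▸ le_rad (S.maxP.le_of_nm hP h1 fun x hx => h2 x (S.X_le _ hx)) h2)

theorem smul_eq (A : Amb Ω T p m) {g : G} (hg : cj g (S.D Set.univ) = S.D Set.univ) : g • a = a :=
  A.smul_eq_of_nm (fun h1 => S.X_ne_bot (le_bot_iff.1 (h1 ▸ S.X_le _))) h.fix h.nrmH hg

/-- an element which fixes all Sylow subgroups centralises `D univ` -/
theorem comm_of_fix (A : Amb Ω T p m) {g : G} (hg : ∀ P ∈ S.Syl Set.univ, cj g P = P) :
    ∀ e ∈ S.D Set.univ, g * e = e * g := by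
  have h1 : S.D Set.univ ≤ Subgroup.centralizer {g} := S.gen _ _ fun P hP x hx => by
    have h2 : g * x * g⁻¹ * x⁻¹ ∈ P := mul_mem (nm_conj (hg P hP) hx) (inv_mem hx)
    have h3 : g * x * g⁻¹ * x⁻¹ ∈ S.V Set.univ := mem_rad.2 fun R hR => by
      obtain ⟨n, hn⟩ := exists_pow_of_isP (S.Syl_isP hP) h2
      refine (S.maxP_Syl hR).mem_of_nm hn (S.Syl_le hP h2) ?_
      rw [cj_mul, cj_mul, cj_mul, nm_inv (hg _ (cj_mem_Cjs (inv_mem (S.Syl_le hP hx)) hR)), cj_cj_inv, hg R hR]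
    rw [h.V_univ A, Subgroup.mem_bot, mul_inv_eq_one, mul_inv_eq_iff_eq_mul] at h3
    exact Subgroup.mem_centralizer_singleton_iff.2 h3.symm
  exact fun e he => (Subgroup.mem_centralizer_singleton_iff.1 (h1 he)).symm

end PS.At

end Cfsg.Agent.TH.Own
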