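import Mathlib
import Cfsg.Agent.TH.Own.BldPi
import Cfsg.Agent.TH.Own.Core
import Cfsg.Agent.SignalizersComponents.Components

/-!
# S3541, `BoxBld`: central products of quasisimple groups (helper6)

* `exists_US_prod` : the system `US` of the product;
* `exists_comps` : its components.
-/

set_option autoImplicit false
set_option linter.unusedSectionVars false

namespace Cfsg.Agent.TH.Own.Bld

open Cfsg.Agent.FixBN

variable {G : Type} [Group G] [Finite G] {p : ℕ} [hp : Fact p.Prime]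

/-- a non-central `p`-element -/
def PE (p : ℕ) (L : Subgroup G) : Prop := ∃ x : L, x ∉ Subgroup.center L ∧ ∃ n : ℕ, x ^ p ^ n = 1

theorem pe_of_hasSplit {L : Subgroup G} (h : HasSplit p (L ⧸ Subgroup.center L)) : PE p L := by
  obtain ⟨P, U, ⟨s, hs⟩, h⟩ := h
  obtain ⟨V, hV⟩ := h.node s hs
  obtain ⟨u, hu, hu'⟩ := hV.ne
  obtain ⟨R, h1, h2, -⟩ := exists_lift (QuotientGroup.mk' _) (QuotientGroup.mk'_surjective _)
    (QuotientGroup.ker_mk' _).le h.isP
  obtain ⟨r, hr, rfl⟩ := h2.ge hu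
  exact ⟨r, fun h3 => hu' (by rw [QuotientGroup.mk'_apply, (QuotientGroup.eq_one_iff r).2 h3]; exact one_mem _),
    exists_pow_of_isP h1 hr⟩

theorem le_of_pe {L N : Subgroup G} (hq : Cfsg.IsQuasisimple L) (h : PE p L)
    (hN : ∀ g ∈ L, ∀ n : ℕ, g ^ p ^ n = 1 → g ∈ N) : L ≤ N := by
  have h1 : (Subgroup.closure {x : L | ∃ n : ℕ, x ^ p ^ n = 1}).Normal := by
    refine ⟨fun x hx g => ?_⟩
    have h2 := conj_mem_cj g hx
    rw [cj_closure] at h2
    refine Subgroup.closure_mono ?_ h2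
    rintro _ ⟨y, ⟨n, hn⟩, rfl⟩
    exact ⟨n, by rw [conj_pow, hn, mul_one, mul_inv_cancel]⟩
  obtain ⟨x, hx, hx'⟩ := h
  have h2 := (SignalizersComponents.Components.quasisimple_normal hq _ h1).resolve_right
    fun h2 => hx (h2 (Subgroup.subset_closure hx'))
  have h3 : Subgroup.closure {x : L | ∃ n : ℕ, x ^ p ^ n = 1} ≤ N.subgroupOf L :=
    (Subgroup.closure_le _).2 fun y ⟨n, hn⟩ => hN y y.2 n (congrArg Subtype.val hn)
  exact fun g hg => h3 (h2.ge (Subgroup.mem_top ⟨g, hg⟩))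

variable {ι : Type} [Finite ι] {E : ι → Subgroup G}
  (comm : ∀ l l', l ≠ l' → ∀ x ∈ E l, ∀ y ∈ E l', x * y = y * x)

include comm

theorem nm_E {g : G} (hg : g ∈ ⨆ l, E l) (l : ι) : cj g (E l) = E l := by
  refine nm_iff.1 ((iSup_le fun m x hx => nm_iff.2 ?_ : ⨆ l, E l ≤ Subgroup.normalizer (E l : Set G)) hg)
  by_cases e : m = l
  · exact cj_of_mem (e ▸ hx)
  · exact nm_of_comm (comm m l e x hx)

theorem exists_US_prod (l₀ : ι) (hq : ∀ l, Cfsg.IsQuasisimple (E l))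
    (h : ∀ l, HasSplit p (E l ⧸ Subgroup.center (E l)))
    (hz : ∀ z ∈ Zc (⨆ l, E l), ∀ n : ℕ, z ^ p ^ n = 1 → z = 1) :
    ∃ (I : Type) (_ : Finite I) (S : US G p I), S.D Set.univ = ⨆ l, E l := by
  classical
  have := Fintype.ofFinite ι
  let Φ := Subgroup.noncommPiCoprod (H := E) fun l l' e x y hx hy => comm l l' e x hx y hy
  have hΦ : Φ.range = ⨆ l, E l := Subgroup.noncommPiCoprod_range
  have hs : ∀ l (x : E l), Φ (Pi.mulSingle l x) = x := fun l x => Subgroup.noncommPiCoprod_mulSingle l x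
  let π₀ : (∀ l, E l) →* ∀ l, E l ⧸ Subgroup.center (E l) :=
    MonoidHom.pi fun l => (QuotientGroup.mk' _).comp (Pi.evalMonoidHom _ l)
  have h1 : ∀ y, π₀ y = 1 ↔ ∀ l, y l ∈ Subgroup.center (E l) := fun y =>
    funext_iff.trans (forall_congr' fun l => QuotientGroup.eq_one_iff _)
  have h2 : Φ.rangeRestrict.ker ≤ π₀.ker := fun y hy => (h1 y).2 fun l => Subgroup.mem_center_iff.2 fun x => by
    have h3 : Φ y = 1 := congrArg Subtype.val hy
    have h4 : y * Pi.mulSingle l x * y⁻¹ = Pi.mulSingle l (y l * x * (y l)⁻¹) := by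
      funext m
      by_cases e : m = l
      · subst e
        simp
      · simp [e]
    have h5 := congrArg Φ h4
    rw [map_mul, map_mul, map_inv, h3, one_mul, inv_one, mul_one, hs, hs] at h5
    exact eq_mul_inv_iff_mul_eq.1 (Subtype.ext h5)
  let π := Φ.rangeRestrict.liftOfSurjective Φ.rangeRestrict_surjective ⟨π₀, h2⟩
  have h3 : ∀ y, π (Φ.rangeRestrict y) = π₀ y := fun y => MonoidHom.liftOfRightInverse_comp_apply _ _ _ _ y
  have h4 : π.ker ≤ Subgroup.center Φ.range := fun z hz => Subgroup.mem_center_iff.2 fun x => by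
    obtain ⟨y, rfl⟩ := Φ.rangeRestrict_surjective z
    obtain ⟨x, rfl⟩ := Φ.rangeRestrict_surjective x
    rw [← map_mul, ← map_mul]
    exact congrArg _ (funext fun l => Subgroup.mem_center_iff.1 ((h1 y).1 ((h3 y).symm.trans hz) l) (x l))
  obtain ⟨I, hI, S, h5, h6⟩ := exists_US (p := p) π (fun k => by
      choose y hy using fun l => QuotientGroup.mk'_surjective _ (k l)
      exact ⟨_, (h3 y).trans (funext hy)⟩) h4
    (fun z h5 n hn => Subtype.ext (hz z (hΦ ▸ ⟨z.2, fun x hx =>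
      congrArg Subtype.val (Subgroup.mem_center_iff.1 (h4 h5) ⟨x, hx⟩)⟩) n (congrArg Subtype.val hn)))
    (hasSplit_pi hp.1 l₀ h)
  refine ⟨I, hI, S, le_antisymm (hΦ ▸ h5) (iSup_le fun l => le_of_pe (hq l) (pe_of_hasSplit (h l)) fun g hg => ?_)⟩
  exact h6 g (hΦ ▸ le_iSup E l hg)

theorem eq_iSup {X : Subgroup G} (hX : MaxP p (⨆ l, E l) X) : X = ⨆ l, X ⊓ E l := by
  classical
  have := Fintype.ofFinite ι
  let Φ := Subgroup.noncommPiCoprod (H := E) fun l l' e x y hx hy => comm l l' e x hx y hy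
  have hΦ : Φ.range = ⨆ l, E l := Subgroup.noncommPiCoprod_range
  have hs : ∀ l (x : E l), Φ (Pi.mulSingle l x) = x := fun l x => Subgroup.noncommPiCoprod_mulSingle l x
  have h1 : ∀ l, MaxP p (E l) (X ⊓ E l) := fun l => hX.inf (le_iSup E l) fun g hg => nm_E comm hg l
  let Q : Subgroup (∀ l, E l) := Subgroup.pi Set.univ fun l => (X ⊓ E l).subgroupOf (E l)
  have h2 : MaxP p ⊤ Q := ⟨le_top, isP_pi fun l => (h1 l).isP.comap_subtype, fun R hR _ h => le_antisymm (fun y hy l _ => by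
    have h3 := (h1 l).max (R.map ((E l).subtype.comp (Pi.evalMonoidHom (fun l => E l) l))) (hR.map _)
      (by rintro _ ⟨y, -, rfl⟩; exact (y l).2)
      fun x hx => ⟨Pi.mulSingle l ⟨x, hx.2⟩, h (single_mem hx), by simp⟩
    exact h3.le ⟨y, hy, rfl⟩) h⟩
  have h3 : Q.map Φ ≤ ⨆ l, X ⊓ E l := by
    rw [Subgroup.map_le_iff_le_comap, Subgroup.pi_le_iff]
    rintro l _ ⟨x, hx, rfl⟩
    rw [Subgroup.mem_comap, MonoidHom.mulSingle_apply, hs]
    exact le_iSup (fun l => X ⊓ E l) l hx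
  have h4 : (⨆ l, X ⊓ E l) ≤ X := iSup_le fun l => inf_le_left
  refine le_antisymm (Subgroup.relIndex_eq_one.1 ?_) h4
  obtain ⟨n, hn⟩ := relIndex_eq_pow (A := ⨆ l, X ⊓ E l) hX.isP
  rcases n with _ | n
  · exact hn
  refine absurd ?_ h2.not_dvd
  have h5 := (Dvd.intro _ (Subgroup.relIndex_mul_relIndex _ _ _ h4 hX.le)).trans
    (Subgroup.relIndex_dvd_of_le_left _ h3)
  rw [← hΦ, MonoidHom.range_eq_map, Subgroup.relIndex_map_map, top_sup_eq, hn] at h5
  exact ((dvd_pow_self p n.succ_ne_zero).trans h5).trans (Subgroup.relIndex_dvd_of_le_left _ le_sup_left)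

theorem exists_comps {I : Type} (S : US G p I) (top : S.D Set.univ = ⨆ l, E l) (hq : ∀ l, Cfsg.IsQuasisimple (E l))
    (h : ∀ l, PE p (E l)) (perm : ∀ h : G, cj h (⨆ l, E l) = ⨆ l, E l → ∀ l, ∃ l', cj h (E l) = E l') :
    ∃ C : Comps S ι, C.E = E := by
  let K : Set ι → Subgroup G := fun A => S.X ⊔ ⨆ l ∈ A, E l
  have hM : MaxP p (⨆ l, E l) S.X := by rw [← top]; exact S.maxP
  have hX := eq_iSup comm hM
  have hK : ∀ A, K A ≤ S.D Set.univ := fun A => sup_le (S.X_le _) (iSup₂_le fun l _ => (le_iSup E l).trans top.ge)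
  have hE : ∀ {A l}, l ∈ A → E l ≤ K A := fun {A l} hl => (le_iSup₂ (f := fun l _ => E l) l hl).trans le_sup_right
  have h1 : ∀ A, S.D (S.typ (K A)) = K A := fun A => by
    refine le_antisymm (S.ov' le_sup_left).1 (sup_le (S.X_le _) (iSup₂_le fun l hl => le_of_pe (hq l) (h l)
      fun g hg n hn => ?_))
    obtain ⟨k, hk, h2⟩ := (S.maxP' le_sup_left (hK A)).exists_cj (isP_zpowers hn) (Subgroup.zpowers_le.2 (hE hl hg))
    exact S.Syl_le ((S.ov' le_sup_left).2 k hk (hK A hk)) (h2 (Subgroup.mem_zpowers g))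
  have h2 : ∀ A, ∀ m ∉ A, ∀ g ∈ K A, cj g (S.X ⊓ E m) = S.X ⊓ E m := fun A m hm =>
    nm_of_sup (fun x hx => nm_inf (cj_of_mem hx) (nm_E comm (hM.le hx) m)) fun x hx =>
      nm_iff.1 ((iSup₂_le fun l hl y hy => nm_iff.2 (nm_of_comm fun z hz =>
        comm l m (fun e => hm (e ▸ hl)) y hy z hz.2) :
          ⨆ l ∈ A, E l ≤ Subgroup.normalizer ((S.X ⊓ E m : Subgroup G) : Set G)) hx)
  have h3 : ∀ i, ∃ l, S.D {i} ≤ K {l} := fun i => by
    have h4 : S.D Set.univ ≤ S.D (⋃ l, S.typ (K {l})) := top.le.trans (iSup_le fun l =>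
      ((hE (A := {l}) rfl).trans (h1 {l}).ge).trans (S.mono (Set.subset_iUnion (fun l => S.typ (K {l})) l)))
    obtain ⟨l, hl⟩ := Set.mem_iUnion.1 (S.le_iff h4 (Set.mem_univ i))
    exact ⟨l, hl⟩
  choose c hc using h3
  have h4 : ∀ A, c ⁻¹' A = S.typ (K A) := fun A => by
    ext i
    refine ⟨fun hi => (hc i).trans (sup_le_sup_left (biSup_mono fun l hl => hl ▸ hi) _), fun hi => ?_⟩
    by_contra h5
    obtain ⟨_, ⟨g, hg, rfl⟩, h6⟩ := S.exists_ne i
    refine h6 ?_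
    rw [hX, cj_iSup]
    refine iSup_congr fun m => ?_
    by_cases e : m = c i
    · exact h2 A m (e ▸ h5) g (hi hg)
    · exact h2 {c i} m e g (hc i hg)
  have h5 : ∀ A, S.D (c ⁻¹' A) = K A := fun A => by rw [h4, h1]
  refine ⟨⟨c, E, fun l => ?_, hq, comm, top, h5, hX, fun l e => ?_, fun g hg => perm g (by rw [← top]; exact hg)⟩, rfl⟩
  · by_contra h6
    have h7 := (hE (A := {l}) rfl).trans (h5 {l}).ge
    rw [Set.eq_empty_of_forall_notMem (s := c ⁻¹' {l}) fun i hi => h6 ⟨i, hi⟩, S.D_empty] at h7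
    have h8 := (hq l).1
    have h9 := (hq l).2
    have : Nontrivial (E l) := (QuotientGroup.mk'_surjective (Subgroup.center (E l))).nontrivial
    exact Group.IsPerfect.not_isNilpotent (E l) (S.isP.to_le h7).isNilpotent
  · obtain ⟨x, hx, n, hn⟩ := h l
    obtain ⟨g, -, h6⟩ := (hM.inf (le_iSup E l) fun g hg => nm_E comm hg l).exists_cj
      (isP_zpowers (g := (x : G)) (congrArg Subtype.val hn)) (Subgroup.zpowers_le.2 x.2)
    rw [e, cj_bot] at h6
    exact hx (by rw [show x = 1 from Subtype.ext (h6 (Subgroup.mem_zpowers _))]; exact one_mem _)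

end Cfsg.Agent.TH.Own.Bld
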