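import Mathlib
import Cfsg.Agent.TH.Own.BldCmp
import Cfsg.Agent.TH.ParMain
import Cfsg.Agent.H296.Lift
import Cfsg.Agent.H498.LieFree
import Cfsg.Agent.OddHalf.Known
import Cfsg.Agent.Fischer919.CentralQuot
import Cfsg.Agent.Schreier.ClassAll
import Cfsg.Agent.Schreier.PSU
import Cfsg.Agent.Schreier.TwESix
import Cfsg.Agent.Schreier.ThreeD4
import Cfsg.Agent.Schreier.TwFFour
import Cfsg.Agent.Schreier.Sz
import Cfsg.Agent.Schreier.ReeG
import Cfsg.Agent.Schreier.ChevIso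

/-!
# S3541, `BoxBld` (helper6)

`boxBld : BoxBld`, the system of the product of an orbit of components of the point stabiliser.
-/

set_option autoImplicit false

namespace Cfsg.Agent.TH.Own

open Cfsg.Agent.Schreier

namespace Bld

/-- the Schreier property of the groups of Lie type -/
theorem sch_lie {K : Type} [Group K] [Finite K] [IsSimpleGroup K] (hK : ¬ IsMulCommutative K) {p : ℕ}
    (h : Cfsg.IsLieTypeChar p K) : Basic.Sch K := by
  rcases h with ⟨F, _, _, _, n, h⟩ | ⟨F, _, _, _, n, h⟩ | ⟨F, _, _, _, n, q, h⟩ | ⟨F, _, _, _, n, h⟩ |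
    ⟨F, i, j, _, n, h⟩ | ⟨F, i, j, _, n, a, b, h⟩ | ⟨F, i, j, _, h | h | h | h | h⟩ | ⟨F, i, j, _, q, hq, h | h⟩ |
    ⟨-, h⟩ | ⟨-, F, _, _, m, _, hF, ⟨e⟩⟩ | ⟨-, h⟩
  · exact ClassAll.sch_psl ⟨F, _, _, n, h⟩
  · exact ClassAll.sch_psp ⟨F, _, _, n, h⟩
  · exact PSU.sch_of_isPSU ⟨F, _, _, n, q, h⟩
  · exact ClassAll.sch_pomegaOdd ⟨F, _, _, n, h⟩
  · exact ClassAll.sch_pomegaPlus ⟨F, i, j, n, h⟩
  · exact ClassAll.sch_pomegaMinus ⟨F, i, j, n, a, b, h⟩
  · exact ChevIso.chevG2 K hK ⟨F, i, j, h⟩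
  · exact ChevIso.f4 K hK ⟨F, i, j, h⟩
  · exact ChevIso.e6 K hK ⟨F, i, j, h⟩
  · exact ChevIso.e7 K hK ⟨F, i, j, h⟩
  · exact ChevIso.e8 K hK ⟨F, i, j, h⟩
  · exact TwESix.sch_of_iso2E6 ⟨F, i, j, q, hq, h⟩
  · exact ThreeD4.sch_of_iso ⟨F, i, j, q, hq, h⟩
  · exact Sz.schFor h
  · exact Basic.Sch.of_equiv e.symm (TwFFour.sch hF)
  · exact ReeG.schFor h

variable {G : Type} [Group G]

/-- perfect subgroups lie in the socle -/
theorem le_socle {T L : Subgroup G} (hT : AS T) (hs : Basic.Sch T) (hL : Group.IsPerfect L) : L ≤ T := by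
  have := hT.normal
  have := Group.IsPerfect.map (MulAut.conjNormal : G →* MulAut T) (H := L)
  intro x hx
  obtain ⟨t, ht⟩ := hs (L.map MulAut.conjNormal) Subgroup.commutator_eq_self ⟨x, hx, rfl⟩
  have h1 : (t : G)⁻¹ * x ∈ Subgroup.centralizer (T : Set G) := fun y hy => by
    have h3 := congrArg Subtype.val (DFunLike.congr_fun ht ⟨y, hy⟩)
    have h2 : (t : G) * y * (t : G)⁻¹ = x * y * x⁻¹ := h3
    calc y * ((t : G)⁻¹ * x) = (t : G)⁻¹ * ((t : G) * y * (t : G)⁻¹) * x := by group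
      _ = (t : G)⁻¹ * x * y := by rw [h2]; group
  rw [hT.cent, Subgroup.mem_bot, inv_mul_eq_one] at h1
  exact h1 ▸ t.2

end Bld

open Bld

theorem boxBld : BoxBld := by
  rintro G _ _ T H m p c ⟨E₀, hE₀, hlie⟩
  have hp : Fact p.Prime := ⟨c.prime⟩
  have := c.as.simple
  let ι := {L : Subgroup G // ∃ h ∈ H, L = cj h (E₀.map H.subtype)}
  let E : ι → Subgroup G := Subtype.val
  have h1 : ∀ l : ι, ∃ K : Subgroup H, Cfsg.IsComponent K ∧ E l = K.map H.subtype ∧ Nonempty (E₀ ≃* E l) := by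
    rintro ⟨_, h, hh, rfl⟩
    obtain ⟨h2, ⟨e⟩⟩ := H296.Lift.comp_map (MulAut.conj (⟨h, hh⟩ : H)) hE₀
    have h3 : cj h (E₀.map H.subtype) = (cj (⟨h, hh⟩ : H) E₀).map H.subtype := (map_cj H.subtype ⟨h, hh⟩ E₀).symm
    exact ⟨_, h2, h3, ⟨(e.trans (Subgroup.equivMapOfInjective _ _ H.subtype_injective)).trans
      (MulEquiv.subgroupCongr h3.symm)⟩⟩
  have hq : ∀ l, Cfsg.IsQuasisimple (E l) := fun l => by
    obtain ⟨-, -, -, ⟨e⟩⟩ := h1 l
    exact quasi_equiv e hE₀.2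
  have hl : ∀ l, Cfsg.IsLieTypeChar p (E l ⧸ Subgroup.center (E l)) := fun l => by
    obtain ⟨-, -, -, ⟨e⟩⟩ := h1 l
    obtain ⟨e'⟩ := Fischer919.CentralQuot.equiv_quotient_center e
    exact OddHalf.Known.isLieTypeChar_congr e' hlie
  have hs : ∀ l, FixBN.HasSplit p (E l ⧸ Subgroup.center (E l)) := fun l =>
    have := (hq l).2
    H498.LieFree.hasSplit_of_lieChar c.prime (hl l)
  have comm : ∀ l l', l ≠ l' → ∀ x ∈ E l, ∀ y ∈ E l', x * y = y * x := fun l l' e x hx y hy => by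
    obtain ⟨K, hK, h2, -⟩ := h1 l
    obtain ⟨K', hK', h3, -⟩ := h1 l'
    obtain ⟨x, h4, rfl⟩ := h2.le hx
    obtain ⟨y, h5, rfl⟩ := h3.le hy
    have h6 := Subgroup.commutator_eq_bot_iff_le_centralizer.1
      (SignalizersComponents.Components.component_commutator_eq_bot_of_ne hK hK' fun e' =>
        e (Subtype.ext (h2.trans (e' ▸ h3.symm))))
    exact (congrArg Subtype.val (h6 h4 y h5)).symm
  have hH : ⨆ l, E l ≤ H := iSup_le fun l => by
    obtain ⟨K, -, h2, -⟩ := h1 l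
    exact h2.le.trans (Subgroup.map_subtype_le K)
  have h2 : ∀ h ∈ H, ∀ l, ∃ l', cj h (E l) = E l' := by
    rintro h hh ⟨_, g, hg, rfl⟩
    exact ⟨⟨_, h * g, mul_mem hh hg, rfl⟩, (cj_mul h g _).symm⟩
  have h3 : ∀ h ∈ H, cj h (⨆ l, E l) ≤ ⨆ l, E l := fun h hh => by
    rw [cj_iSup]
    exact iSup_le fun l => (h2 h hh l).elim fun l' e => e.le.trans (le_iSup E l')
  have h4 : ∀ h ∈ H, cj h (⨆ l, E l) = ⨆ l, E l := fun h hh =>
    le_antisymm (h3 h hh) (by simpa only [inv_inv] using (cj_le_iff h⁻¹).1 (h3 h⁻¹ (inv_mem hh)))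
  let l₀ : ι := ⟨_, 1, one_mem H, rfl⟩
  have h5 : Subgroup.normalizer ((⨆ l, E l : Subgroup G) : Set G) = H := by
    refine c.half.normalizer_eq (fun e => ?_) hH fun h hh => nm_iff.2 (h4 h hh)
    obtain ⟨x, hx, -⟩ := pe_of_hasSplit (hs l₀)
    exact hx (by rw [show x = 1 from Subtype.ext (e.le (le_iSup E l₀ x.2))]; exact one_mem _)
  have hz : ∀ z ∈ Zc (⨆ l, E l), ∀ n : ℕ, z ^ p ^ n = 1 → z = 1 := fun z hz n hn => by
    have h6 := c.half.eq_bot_of_isPGroup (Par.dvd_of_lie c.as c.half c.prime c.lie)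
      ((Op_spec (p := p) (Zc (⨆ l, E l))).1.trans (inf_le_left.trans hH))
      (fun h hh => nm_iff.2 (nm_Op (nm_inf (h4 h hh) (by rw [cj_centralizer, h4 h hh])))) (Op_spec _).2.1
    refine h6.le (le_Op (Subgroup.zpowers_le.2 hz) (isP_zpowers hn) (fun g hg => nm_of_comm fun x hx => ?_)
      (Subgroup.mem_zpowers z))
    exact (Subgroup.zpowers_le.2 hz hx).2 g hg.1
  obtain ⟨I, hI, S, top⟩ := exists_US_prod comm l₀ hq hs hz
  obtain ⟨C, hC⟩ := exists_comps comm S top hq (fun l => pe_of_hasSplit (hs l))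
    fun h hh => h2 h (h5.le (nm_iff.2 hh))
  refine ⟨I, ι, hI, inferInstance, S, C, ⟨top.le.trans (iSup_le fun l => le_socle c.as (sch_lie c.as.nonab c.lie) (hq l).1),
    by rw [stabilizer_coe, cj_one, top]; exact hH, fun h hh => ?_⟩, fun l => ?_⟩
  · rw [smul_coe_eq_iff, cj_one] at hh
    rw [top, h4 h hh]
  · have h9 : ∀ L : Subgroup G, L = E l → ¬ p ∣ Nat.card (Zc (E l)) →
        Cfsg.IsLieTypeChar p (L ⧸ Subgroup.center L) ∧ ¬ p ∣ Nat.card (Zc L) := by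
      rintro _ rfl h
      exact ⟨hl l, h⟩
    refine h9 _ (congrFun hC l) fun h6 => ?_
    obtain ⟨z, h7⟩ := exists_prime_orderOf_dvd_card' p h6
    have h8 : (z : G) = 1 := by
      refine hz z ⟨le_iSup E l z.2.1, fun x hx => ((iSup_le fun l' y hy => ?_ :
        ⨆ l, E l ≤ Subgroup.centralizer {(z : G)}) hx _ rfl).symm⟩ 1
        (by rw [pow_one, ← h7]; exact congrArg Subtype.val (pow_orderOf_eq_one z))
      rw [Subgroup.mem_centralizer_singleton_iff]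
      by_cases e : l' = l
      · exact z.2.2 y (e ▸ hy)
      · exact comm l' l e y hy z z.2.1
    rw [show z = 1 from Subtype.ext h8, orderOf_one] at h7
    exact c.prime.one_lt.ne h7

end Cfsg.Agent.TH.Own
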