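import Mathlib
import Cfsg.Agent.TH.Own.Grp

/-!
# S3541, `BoxOwn`: a group with `q + 1` Sylow subgroups acting on a `p`-group which is the union of their
centralisers (helper74)
-/

set_option autoImplicit false
set_option linter.unusedSectionVars false
set_option linter.unusedVariables false

namespace Cfsg.Agent.TH.Own

open MulAction

/-- a set partitioned into pieces of the same size -/
theorem ncard_eq_mul {α β : Type*} {A : Set α} {B : Set β} (hA : A.Finite) (hB : B.Finite) (f : β → Set α) {c : ℕ}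
    (h1 : ∀ x ∈ A, ∃ y ∈ B, x ∈ f y) (h2 : ∀ y ∈ B, f y ⊆ A) (h3 : ∀ y ∈ B, ∀ y' ∈ B, ∀ x ∈ f y, x ∈ f y' → y = y')
    (h4 : ∀ y ∈ B, (f y).ncard = c) : A.ncard = B.ncard * c := by
  have := hB.fintype
  have : Finite A := hA
  let φ : (Σ y : B, f y) → A := fun x => ⟨x.2, h2 _ x.1.2 x.2.2⟩
  have hφ : Function.Bijective φ := by
    constructor
    · rintro ⟨⟨y, hy⟩, x, hx⟩ ⟨⟨y', hy'⟩, x', hx'⟩ h
      have h5 : x = x' := congrArg Subtype.val h
      subst h5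
      have h6 : y = y' := h3 y hy y' hy' x hx hx'
      subst h6
      rfl
    · rintro ⟨x, hx⟩
      obtain ⟨y, hy, h5⟩ := h1 x hx
      exact ⟨⟨⟨y, hy⟩, x, h5⟩, rfl⟩
  have : ∀ y : B, Finite (f y) := fun y => hA.subset (h2 _ y.2)
  rw [← Nat.card_coe_set_eq, ← Nat.card_eq_of_bijective φ hφ, Nat.card_sigma,
    Finset.sum_congr rfl fun (y : B) _ => (Nat.card_coe_set_eq (f y)).trans (h4 _ y.2), Finset.sum_const, Finset.card_univ,
    smul_eq_mul, ← Nat.card_eq_fintype_card, Nat.card_coe_set_eq]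

theorem arith_val {p a b s : ℕ} (hp : p.Prime) (hb : 0 < b) (hs : 0 < s) (h : p ^ a + s = s * p ^ b + p ^ b) (c : ℕ) :
    p ^ c ∣ s ↔ c ≤ b := by
  have h1 : 1 < p ^ b := Nat.one_lt_pow hb.ne' hp.one_lt
  have h2 : b < a := (Nat.pow_lt_pow_iff_right hp.one_lt).1 (by nlinarith)
  constructor
  · intro h3
    by_contra h4
    have h5 : p ^ (b + 1) ∣ s := (pow_dvd_pow p (by omega)).trans h3
    have h6 : p ^ (b + 1) ∣ s * p ^ b + p ^ b := h ▸ dvd_add (pow_dvd_pow p h2) h5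
    have h7 := (Nat.dvd_add_right (h5.mul_right _)).1 h6
    have := (Nat.pow_dvd_pow_iff_le_right hp.one_lt).1 h7
    omega
  · intro h3
    have h4 : p ^ c ∣ p ^ b := pow_dvd_pow p h3
    have h5 : p ^ c ∣ p ^ a + s := h ▸ dvd_add (h4.mul_left _) h4
    exact (Nat.dvd_add_right (pow_dvd_pow p (by omega))).1 h5

theorem arith_split {p a b n : ℕ} (hp : p.Prime) (hb : 0 < b) (h : p ^ a + p ^ n = p ^ n * p ^ b + p ^ b) :
    b = n ∧ p ^ a = p ^ n * p ^ n := by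
  have h0 : 0 < p ^ n := pow_pos hp.pos n
  have h1 := (arith_val hp hb h0 h n).1 dvd_rfl
  have h2 := (Nat.pow_dvd_pow_iff_le_right hp.one_lt).1 ((arith_val hp hb h0 h b).2 le_rfl)
  have h3 : b = n := le_antisymm h2 h1
  subst h3
  exact ⟨rfl, by omega⟩

variable {G : Type*} [Group G] {p : ℕ}

theorem Spl.of_mem {D X P : Subgroup G} (h : Spl D X) (hP : P ∈ Cjs D X) : Spl D P := by
  obtain ⟨e, he, rfl⟩ := hP
  have h1 := h.cj e
  rwa [cj_of_mem he] at h1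

/-- two conjugates generate -/
theorem Spl.le_of_two {D X P P' K : Subgroup G} (h : Spl D X) (gen : ∀ K, (∀ P ∈ Cjs D X, P ≤ K) → D ≤ K)
    (hP : P ∈ Cjs D X) (hP' : P' ∈ Cjs D X) (hne : P ≠ P') (h1 : P ≤ K) (h2 : P' ≤ K) : D ≤ K := by
  refine gen K fun R hR => ?_
  by_cases h3 : R = P
  · rwa [h3]
  · rw [← Cjs_eq_of_mem hP] at hP' hR
    obtain ⟨x, hx, rfl⟩ := h.of_mem hP P' hP' hne.symm R hR h3
    exact (cj_mono x h2).trans (cj_of_mem (h1 hx)).le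

section Abs

variable {D X : Subgroup G} {N : Type*} [Group N] [MulDistribMulAction D N]

variable (D N) in
/-- the centraliser in `N` of `P` -/
def CC (P : Subgroup G) : Subgroup N where
  carrier := {w | ∀ x : D, (x : G) ∈ P → x • w = w}
  one_mem' x _ := smul_one x
  mul_mem' {a b} ha hb x hx := by rw [smul_mul', ha x hx, hb x hx]
  inv_mem' {a} ha x hx := by rw [smul_inv', ha x hx]

theorem smul_mem_CC {P : Subgroup G} {w : N} (hw : w ∈ CC D N P) (e : D) : e • w ∈ CC D N (cj (e : G) P) := by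
  intro x hx
  have h1 := hw (e⁻¹ * x * e) (mem_cj.1 hx)
  rwa [mul_smul, mul_smul, inv_smul_eq_iff] at h1

theorem smul_eq_of_CC {w : N} (hw : w ∈ CC D N D) (e : D) : e • w = w := hw e e.2

theorem CC_D_le (P : Subgroup G) : CC D N D ≤ CC D N P := fun _ hw x _ => hw x x.2

theorem smul_mem_CC_D {w : N} (e : D) : e • w ∈ CC D N D ↔ w ∈ CC D N D :=
  ⟨fun h => by
    have h1 := smul_eq_of_CC h e⁻¹
    rw [inv_smul_smul] at h1
    rwa [h1], fun h => by rwa [smul_eq_of_CC h]⟩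

variable (p D X N) in
/-- the hypotheses -/
structure Sp : Prop where
  mx : MaxP p D X
  spl : Spl D X
  gen : ∀ K, (∀ P ∈ Cjs D X, P ≤ K) → D ≤ K
  isP : IsPGroup p N
  cov : ∀ w : N, ∃ P ∈ Cjs D X, w ∈ CC D N P
  act : ∃ w ∈ CC D N X, w ∉ CC D N D

namespace Sp

variable [Finite G] [Finite N] [hp : Fact p.Prime] (h : Sp p D X N)

include h

theorem of_mem {P : Subgroup G} (hP : P ∈ Cjs D X) : Sp p D P N where
  mx := h.mx.of_mem_Cjs hP
  spl := h.spl.of_mem hP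
  gen := by rw [Cjs_eq_of_mem hP]; exact h.gen
  isP := h.isP
  cov := by rw [Cjs_eq_of_mem hP]; exact h.cov
  act := by
    obtain ⟨e, he, rfl⟩ := hP
    obtain ⟨w, h1, h2⟩ := h.act
    exact ⟨(⟨e, he⟩ : D) • w, smul_mem_CC h1 ⟨e, he⟩, fun h3 => h2 ((smul_mem_CC_D _).1 h3)⟩

theorem eq_of_mem {P P' : Subgroup G} (hP : P ∈ Cjs D X) (hP' : P' ∈ Cjs D X) {w : N} (h1 : w ∈ CC D N P)
    (h2 : w ∈ CC D N P') (h3 : w ∉ CC D N D) : P = P' := by
  by_contra hne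
  have h4 := h.spl.le_of_two h.gen (K := (stabilizer D w).map D.subtype) hP hP' hne
    (fun x hx => ⟨⟨x, le_of_mem_Cjs h.mx.le hP hx⟩, h1 _ hx, rfl⟩)
    (fun x hx => ⟨⟨x, le_of_mem_Cjs h.mx.le hP' hx⟩, h2 _ hx, rfl⟩)
  refine h3 fun x hx => ?_
  obtain ⟨y, hy, hy'⟩ := h4 hx
  rw [← Subtype.ext hy']
  exact hy

theorem exists_ne : ∃ P ∈ Cjs D X, P ≠ X := by
  by_contra h1
  push Not at h1
  obtain ⟨w, h2, h3⟩ := h.act
  exact h3 fun x hx => h2 x (h.gen X (fun P hP => (h1 P hP).le) hx)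

theorem exists_pow : ∃ n, nS D X = p ^ n + 1 := by
  obtain ⟨P, hP, hne⟩ := h.exists_ne
  exact h.spl.exists_pow h.mx.isP h.mx.le hP hne

theorem count {M : Subgroup N} (hM : ∀ (e : D), ∀ w ∈ M, e • w ∈ M) (h0 : CC D N D ≤ M) :
    Nat.card M + nS D X * Nat.card (CC D N D) = nS D X * Nat.card ↥(M ⊓ CC D N X) + Nat.card (CC D N D) := by
  have h1 : ((M : Set N) \ CC D N D).ncard = (Cjs D X).ncard * (((M ⊓ CC D N X : Subgroup N) : Set N) \ CC D N D).ncard :=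
    ncard_eq_mul (Set.toFinite _) (Set.toFinite _) (fun P => ((M ⊓ CC D N P : Subgroup N) : Set N) \ CC D N D)
      (fun w hw => by
        obtain ⟨P, hP, h2⟩ := h.cov w
        exact ⟨P, hP, ⟨hw.1, h2⟩, hw.2⟩)
      (fun P _ w hw => ⟨hw.1.1, hw.2⟩)
      (fun P hP P' hP' w hw hw' => h.eq_of_mem hP hP' hw.1.2 hw'.1.2 hw.2)
      (by
        rintro _ ⟨e, he, rfl⟩
        rw [← Set.ncard_image_of_injective (((M ⊓ CC D N X : Subgroup N) : Set N) \ CC D N D)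
          (MulAction.injective (⟨e, he⟩ : D))]
        congr 1
        ext w
        constructor
        · rintro ⟨⟨h2, h3⟩, h4⟩
          refine ⟨(⟨e, he⟩ : D)⁻¹ • w, ⟨⟨hM _ _ h2, ?_⟩, fun h5 => h4 ((smul_mem_CC_D _).1 h5)⟩, smul_inv_smul _ _⟩
          have h5 := smul_mem_CC h3 (⟨e, he⟩ : D)⁻¹
          rwa [Subgroup.coe_inv, cj_inv_cj] at h5
        · rintro ⟨v, ⟨⟨h2, h3⟩, h4⟩, rfl⟩
          exact ⟨⟨hM _ _ h2, smul_mem_CC h3 ⟨e, he⟩⟩, fun h5 => h4 ((smul_mem_CC_D _).1 h5)⟩)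
  have h2 := Set.ncard_sdiff_add_ncard_of_subset (s := (CC D N D : Set N)) (t := (M : Set N)) h0
  have h3 := Set.ncard_sdiff_add_ncard_of_subset (s := (CC D N D : Set N))
    (t := ((M ⊓ CC D N X : Subgroup N) : Set N)) (le_inf h0 (CC_D_le X))
  have e : ∀ K : Subgroup N, Nat.card K = (K : Set N).ncard := fun K => Nat.card_coe_set_eq (K : Set N)
  rw [e, e, e, ← h2, ← h3, h1, nS]
  ring

theorem card_of_inv {M : Subgroup N} (hM : ∀ (e : D), ∀ w ∈ M, e • w ∈ M) (h0 : CC D N D ≤ M) (h1 : ¬ M ≤ CC D N D)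
    {n : ℕ} (hn : nS D X = p ^ n + 1) : Nat.card ↥(M ⊓ CC D N X) = p ^ n * Nat.card (CC D N D) ∧
      Nat.card M = p ^ n * p ^ n * Nat.card (CC D N D) := by
  have h2 := h.count hM h0
  obtain ⟨a, ha⟩ := relIndex_eq_pow (A := CC D N D) (h.isP.to_subgroup M)
  obtain ⟨b, hb⟩ := relIndex_eq_pow (A := CC D N D) (h.isP.to_subgroup (M ⊓ CC D N X))
  have h3 := card_mul_relIndex h0
  have h4 := card_mul_relIndex (le_inf h0 (CC_D_le X) : CC D N D ≤ M ⊓ CC D N X)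
  rw [ha] at h3
  rw [hb] at h4
  have h5 : 0 < Nat.card (CC D N D) := Nat.card_pos
  rw [← h3, ← h4, hn] at h2
  have h6 : p ^ a + p ^ n = p ^ n * p ^ b + p ^ b := Nat.eq_of_mul_eq_mul_left h5 (by linarith)
  have h7 : 0 < b := Nat.pos_of_ne_zero (by
    rintro rfl
    have h8 : p ^ a = 1 := by rw [pow_zero] at h6; omega
    rw [h8, Subgroup.relIndex_eq_one] at ha
    exact h1 ha)
  obtain ⟨rfl, h8⟩ := arith_split hp.1 h7 h6
  rw [← h3, ← h4, h8]
  exact ⟨mul_comm _ _, mul_comm _ _⟩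

theorem card_top {n : ℕ} (hn : nS D X = p ^ n + 1) : Nat.card (CC D N X) = p ^ n * Nat.card (CC D N D) ∧
    Nat.card N = p ^ n * p ^ n * Nat.card (CC D N D) := by
  obtain ⟨w, h1, h2⟩ := h.act
  have h3 := h.card_of_inv (M := ⊤) (fun _ _ _ => trivial) le_top (fun h3 => h2 (h3 trivial)) hn
  rwa [top_inf_eq, Subgroup.card_top] at h3

/-- irreducibility -/
theorem eq_top {M : Subgroup N} (hM : ∀ (e : D), ∀ w ∈ M, e • w ∈ M) (h0 : CC D N D ≤ M) (h1 : ¬ M ≤ CC D N D) :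
    M = ⊤ := by
  obtain ⟨n, hn⟩ := h.exists_pow
  exact Subgroup.eq_top_of_card_eq _ ((h.card_of_inv hM h0 h1 hn).2.trans (h.card_top hn).2.symm)

theorem normal0 : (CC D N D).Normal := by
  obtain ⟨w₀, -, h2⟩ := h.act
  obtain ⟨w, -, h3, h4⟩ := exists_nm_of_lt (V := CC D N D) (Q := ⊤) (h.isP.to_subgroup ⊤) le_top
    fun h5 => h2 (h5 trivial)
  refine Subgroup.normalizer_eq_top_iff.1 (h.eq_top (fun e v hv => nm_iff.2 (nm_of_conj fun x hx => ?_))
    Subgroup.le_normalizer fun h5 => h3 (h5 (nm_iff.2 h4)))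
  have h5 := (smul_mem_CC_D e).2 (nm_conj (nm_iff.1 hv) hx)
  rwa [smul_mul', smul_mul', smul_inv', smul_eq_of_CC hx] at h5

theorem comm_mem (a b : N) : a * b * a⁻¹ * b⁻¹ ∈ CC D N D := by
  have := h.normal0
  obtain ⟨w₀, -, h2⟩ := h.act
  have : Nontrivial (N ⧸ CC D N D) := ⟨⟨w₀, 1, fun h3 => h2 ((QuotientGroup.eq_one_iff w₀).1 h3)⟩⟩
  have h3 := (h.isP.to_quotient (CC D N D)).bot_lt_center
  have h4 : ∀ v : N, v ∈ (Subgroup.center (N ⧸ CC D N D)).comap (QuotientGroup.mk' _) ↔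
      ∀ y : N, v * y * v⁻¹ * y⁻¹ ∈ CC D N D := fun v => by
    rw [Subgroup.mem_comap, Subgroup.mem_center_iff]
    constructor
    · intro h5 y
      rw [← QuotientGroup.eq_one_iff, QuotientGroup.mk_mul, QuotientGroup.mk_mul, QuotientGroup.mk_mul,
        QuotientGroup.mk_inv, QuotientGroup.mk_inv, ← show (y : N ⧸ CC D N D) * v = v * y from h5 y]
      group
    · intro h5 y
      induction y using QuotientGroup.induction_on with
      | _ y =>
      have h6 := (QuotientGroup.eq_one_iff _).2 (h5 y)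
      rw [QuotientGroup.mk_mul, QuotientGroup.mk_mul, QuotientGroup.mk_mul, QuotientGroup.mk_inv,
        QuotientGroup.mk_inv, mul_inv_eq_one, mul_inv_eq_iff_eq_mul] at h6
      exact h6.symm
  have h5 := h.eq_top (M := (Subgroup.center (N ⧸ CC D N D)).comap (QuotientGroup.mk' _))
    (fun e v hv => (h4 _).2 fun y => by
      have h6 := (smul_mem_CC_D e).2 ((h4 v).1 hv (e⁻¹ • y))
      rwa [smul_mul', smul_mul', smul_mul', smul_inv', smul_inv', smul_inv_smul] at h6)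
    (fun v hv => (h4 _).2 fun y => by
      have h6 := mul_mem hv (h.normal0.conj_mem _ (inv_mem hv) y)
      rwa [← mul_assoc, ← mul_assoc] at h6)
    (fun h6 => by
      obtain ⟨x, hx, hx'⟩ := SetLike.exists_of_lt h3
      induction x using QuotientGroup.induction_on with
      | _ x => exact hx' ((QuotientGroup.eq_one_iff x).2 (h6 hx)))
  exact (h4 a).1 (h5 ▸ trivial) b

theorem normal_of_le {M : Subgroup N} (h0 : CC D N D ≤ M) : M.Normal := ⟨fun x hx g => by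
  have h1 := mul_mem (h0 (h.comm_mem g x)) hx
  rwa [inv_mul_cancel_right] at h1⟩

theorem normalC (P : Subgroup G) : (CC D N P).Normal := h.normal_of_le (CC_D_le P)

/-- `N` is the product of two components -/
theorem exists_mul {P : Subgroup G} (hP : P ∈ Cjs D X) (hne : P ≠ X) (y : N) :
    ∃ z ∈ CC D N X, ∃ y' ∈ CC D N P, y = z * y' := by
  obtain ⟨n, hn⟩ := h.exists_pow
  have := h.normalC P
  have h1 : CC D N X ⊓ CC D N P = CC D N D := le_antisymm (fun w hw => by_contra fun h2 =>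
    hne (h.eq_of_mem hP (self_mem_Cjs D X) hw.2 hw.1 h2)) (le_inf (CC_D_le _) (CC_D_le _))
  have h2 := (h.card_top hn).1
  have h3 := ((h.of_mem hP).card_top (n := n) (by rw [nS, Cjs_eq_of_mem hP]; exact hn)).1
  have h4 := card_mul_relIndex (inf_le_left : CC D N X ⊓ CC D N P ≤ CC D N X)
  have h5 := card_mul_relIndex (le_sup_right : CC D N P ≤ CC D N X ⊔ CC D N P)
  rw [Subgroup.relIndex_sup_right] at h5
  rw [Subgroup.inf_relIndex_left, h1, h2] at h4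
  have h6 : (CC D N P).relIndex (CC D N X) = p ^ n := Nat.eq_of_mul_eq_mul_left Nat.card_pos (h4.trans (mul_comm _ _))
  have h7 : CC D N X ⊔ CC D N P = ⊤ := Subgroup.eq_top_of_card_eq _ (by rw [← h5, h6, h3, (h.card_top hn).2]; ring)
  exact mem_sup_nm (fun x _ => cj_normal x _) (h7 ▸ trivial)

theorem cj_eq_of_smul {P : Subgroup G} (hP : P ∈ Cjs D X) {e : D} {y : N} (h1 : y ∈ CC D N P) (h2 : y ∉ CC D N D)
    {P' : Subgroup G} (hP' : P' ∈ Cjs D X) (h3 : e • y ∈ CC D N P') : cj (e : G) P = P' :=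
  h.eq_of_mem (cj_mem_Cjs e.2 hP) hP' (smul_mem_CC h1 e) h3 fun h4 => h2 ((smul_mem_CC_D e).1 h4)

/-- an element of `X` which fixes a second component is trivial on `N / N0` -/
theorem triv_of_fix {x : D} (hx : (x : G) ∈ X) {P : Subgroup G} (hP : P ∈ Cjs D X) (hne : P ≠ X)
    (hxP : cj (x : G) P = P) (y : N) : y⁻¹ * x • y ∈ CC D N D := by
  have hn0 := h.normal0
  -- a fixed coset in `CC P`
  obtain ⟨y₀, h1, h2, h3⟩ : ∃ y₀ ∈ CC D N P, y₀ ∉ CC D N D ∧ y₀⁻¹ * x • y₀ ∈ CC D N D := by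
    let σ : N →* N := MulDistribMulAction.toMonoidHom N x
    obtain ⟨k, hk⟩ := exists_pow_of_isP h.mx.isP hx
    have hk' : x ^ p ^ k = 1 := Subtype.ext hk
    let act : MulAction D (N ⧸ CC D N D) :=
      { smul := fun e => Quotient.map' (fun w => e • w) fun a b hab => by
          rw [QuotientGroup.leftRel_apply] at hab ⊢
          rw [← smul_inv', ← smul_mul']
          exact (smul_mem_CC_D e).2 hab
        one_smul := fun a => Quotient.inductionOn' a fun a => congrArg Quotient.mk'' (one_smul D a)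
        mul_smul := fun e f a => Quotient.inductionOn' a fun a => congrArg Quotient.mk'' (mul_smul e f a) }
    have h4 := @modEq_fix D _ _ act p _ _ (isP_zpowers hk')
      (((CC D N P).map (QuotientGroup.mk' (CC D N D)) : Subgroup _) : Set _) (Set.toFinite _)
      (by
        rintro g hg _ ⟨w, hw, rfl⟩
        have h5 : cj (g : G) P = P :=
          nm_iff.1 ((Subgroup.zpowers_le (H := (Subgroup.normalizer (P : Set G)).comap D.subtype)).2 (nm_iff.2 hxP) hg)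
        exact ⟨g • w, h5 ▸ smul_mem_CC hw g, rfl⟩)
    obtain ⟨w, h5, h6⟩ := (h.of_mem hP).act
    obtain ⟨c, hc⟩ := card_eq_pow ((h.isP.to_quotient (CC D N D)).to_subgroup ((CC D N P).map (QuotientGroup.mk' _)))
    have h7 : c ≠ 0 := by
      rintro rfl
      rw [pow_zero, Subgroup.card_eq_one] at hc
      have h8 : (QuotientGroup.mk' (CC D N D)) w ∈ (CC D N P).map (QuotientGroup.mk' _) := ⟨w, h5, rfl⟩
      rw [hc] at h8
      exact h6 ((QuotientGroup.eq_one_iff w).1 h8)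
    rw [← Nat.card_coe_set_eq, SetLike.coe_sort_coe, hc] at h4
    have h8 := (h4.dvd_iff dvd_rfl).1 (dvd_pow_self p h7)
    have h9 : (1 : N ⧸ CC D N D) ∈ ((CC D N P).map (QuotientGroup.mk' (CC D N D)) : Set _) ∩
        @Fx D _ _ act (Subgroup.zpowers x) := ⟨one_mem _, fun g _ => congrArg Quotient.mk'' (smul_one g)⟩
    have h10 := lt_of_lt_of_le hp.1.one_lt (Nat.le_of_dvd ((Set.ncard_pos (Set.toFinite _)).2 ⟨_, h9⟩) h8)
    obtain ⟨_, ⟨⟨v, hv, rfl⟩, h11⟩, h12⟩ := Set.exists_ne_of_one_lt_ncard h10 1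
    refine ⟨v, hv, fun h13 => h12 ((QuotientGroup.eq_one_iff v).2 h13), ?_⟩
    exact QuotientGroup.eq.1 (h11 (Subgroup.mem_zpowers x)).symm
  -- `x` fixes all components
  have h4 : ∀ R ∈ Cjs D X, cj (x : G) R = R := fun R hR => by
    by_cases h5 : R = X
    · rw [h5]; exact cj_of_mem hx
    obtain ⟨z, hz, y', hy', h6⟩ := h.exists_mul hR h5 y₀
    have h7 : y' ∉ CC D N D := fun h8 =>
      hne (h.eq_of_mem hP (self_mem_Cjs D X) h1 (h6 ▸ mul_mem hz (CC_D_le X h8)) h2)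
    refine h.cj_eq_of_smul hR hy' h7 hR ?_
    rw [h6, smul_mul', hz x hx, mul_inv_rev, mul_assoc, inv_mul_cancel_left] at h3
    exact (mul_mem_cancel_left (inv_mem hy')).1 (CC_D_le R h3)
  have h5 : ∀ y ∈ CC D N P, y⁻¹ * x • y ∈ CC D N D := fun y hy => by
    by_cases h6 : y ∈ CC D N D
    · rw [smul_eq_of_CC h6, inv_mul_cancel]; exact one_mem _
    obtain ⟨z, hz, hz'⟩ := h.act
    obtain ⟨R, hR, h7⟩ := h.cov (y * z)
    have h8 : R ≠ P := by
      rintro rfl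
      exact hne (h.eq_of_mem hP (self_mem_Cjs D X) ((mul_mem_cancel_left hy).1 h7) hz hz')
    by_contra h9
    refine h8 (h.eq_of_mem hR hP ?_ (mul_mem (inv_mem hy) (hxP ▸ smul_mem_CC hy x)) h9)
    have h10 := (h.normalC R).conj_mem _ (mul_mem (inv_mem h7) (h4 R hR ▸ smul_mem_CC h7 x)) z
    rw [smul_mul', hz x hx] at h10
    rwa [show z * ((y * z)⁻¹ * (x • y * z)) * z⁻¹ = y⁻¹ * x • y by group] at h10
  obtain ⟨z, hz, y', hy', rfl⟩ := h.exists_mul hP hne y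
  rw [smul_mul', hz x hx, mul_inv_rev, mul_assoc, inv_mul_cancel_left]
  exact h5 y' hy'

/-- `X` is trivial on `N / C(X)` -/
theorem shear {x : D} (hx : (x : G) ∈ X) (y : N) : y⁻¹ * x • y ∈ CC D N X := by
  obtain ⟨P, hP, h1⟩ := h.cov (y⁻¹ * x • y)
  by_cases hne : P = X
  · rwa [hne] at h1
  obtain ⟨z, hz, y', hy', rfl⟩ := h.exists_mul hP hne y
  by_cases h2 : y' ∈ CC D N D
  · rw [smul_mul', hz x hx, smul_eq_of_CC h2, inv_mul_cancel]; exact one_mem _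
  refine CC_D_le X (h.triv_of_fix hx hP hne (h.cj_eq_of_smul hP hy' h2 hP ?_) _)
  rw [smul_mul', hz x hx, mul_inv_rev, mul_assoc, inv_mul_cancel_left] at h1
  exact (mul_mem_cancel_left (inv_mem hy')).1 h1

theorem exists_shear {y z : N} (hy : y ∉ CC D N X) (hz : z ∈ CC D N X) :
    ∃ x : D, (x : G) ∈ X ∧ (y * z)⁻¹ * x • y ∈ CC D N D := by
  obtain ⟨P, hP, h1⟩ := h.cov y
  obtain ⟨P', hP', h2⟩ := h.cov (y * z)
  obtain ⟨x, hx, h3⟩ := h.spl P hP (fun h3 => hy (h3 ▸ h1)) P' hP'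
    (fun h3 => hy ((mul_mem_cancel_right hz).1 (h3 ▸ h2)))
  refine ⟨⟨x, h.mx.le hx⟩, hx, by_contra fun h4 => ?_⟩
  have h5 : P' = X := h.eq_of_mem hP' (self_mem_Cjs D X)
    (mul_mem (inv_mem h2) (h3 ▸ smul_mem_CC h1 ⟨x, h.mx.le hx⟩))
    (by rw [mul_inv_rev, mul_assoc]; exact mul_mem (inv_mem hz) (h.shear hx y)) h4
  exact hy ((mul_mem_cancel_right hz).1 (h5 ▸ h2))

/-- `N_D(X)` is transitive on the non-trivial cosets in `C(X)` -/
theorem trans {z z' : N} (hz : z ∈ CC D N X) (h1 : z ∉ CC D N D) (hz' : z' ∈ CC D N X) (h2 : z' ∉ CC D N D) :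
    ∃ d : D, cj (d : G) X = X ∧ z'⁻¹ * d • z ∈ CC D N D := by
  obtain ⟨P, hP, hne⟩ := h.exists_ne
  have hP' := h.of_mem hP
  obtain ⟨y, hy, hy'⟩ := hP'.act
  have hX := self_mem_Cjs D X
  have h3 : ∀ {v : N}, v ∈ CC D N X → v ∉ CC D N D → v ∉ CC D N P := fun a b c => hne (h.eq_of_mem hP hX c a b)
  have h4 : y ∉ CC D N X := fun c => h3 c hy' hy
  obtain ⟨x₁, -, e1⟩ := hP'.exists_shear (h3 hz h1) hy
  obtain ⟨x₂, -, e2⟩ := h.exists_shear (y := z * y) (z := y⁻¹ * (z⁻¹ * z') * y)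
    (fun c => h4 ((mul_mem_cancel_left hz).1 c)) (by
      have := (h.normalC X).conj_mem _ (mul_mem (inv_mem hz) hz') y⁻¹
      rwa [inv_inv] at this)
  obtain ⟨x₃, -, e3⟩ := hP'.exists_shear (y := z' * y) (z := y⁻¹)
    (fun c => h3 hz' h2 ((mul_mem_cancel_right hy).1 c)) (inv_mem hy)
  have h5 : z'⁻¹ * (x₃ * x₂ * x₁) • z ∈ CC D N D := by
    have h6 := mul_mem (mul_mem e3 ((smul_mem_CC_D x₃).2 e2)) ((smul_mem_CC_D (x₃ * x₂)).2 e1)
    rw [show z * y * (y⁻¹ * (z⁻¹ * z') * y) = z' * y by group, mul_inv_cancel_right, smul_mul' x₃ (z' * y)⁻¹,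
      smul_inv', smul_mul' (x₃ * x₂) (z * y)⁻¹, smul_inv', ← mul_smul, ← mul_smul] at h6
    convert h6 using 1
    group
  exact ⟨_, h.cj_eq_of_smul hX hz h1 hX ((mul_mem_cancel_left (inv_mem hz')).1 (CC_D_le X h5)), h5⟩

theorem fix_of_triv {c : D} (hc : ∀ y : N, y⁻¹ * c • y ∈ CC D N D) {P : Subgroup G} (hP : P ∈ Cjs D X) :
    cj (c : G) P = P := by
  obtain ⟨y, hy, hy'⟩ := (h.of_mem hP).act
  exact h.cj_eq_of_smul hP hy hy' hP ((mul_mem_cancel_left (inv_mem hy)).1 (CC_D_le P (hc y)))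

/-- `X / O_p(D)` is abelian -/
theorem comm_mem_rad {x x' : G} (hx : x ∈ X) (hx' : x' ∈ X) : x * x' * x⁻¹ * x'⁻¹ ∈ rad D X := by
  let a : D := ⟨x, h.mx.le hx⟩
  let b : D := ⟨x', h.mx.le hx'⟩
  have h1 : ∀ y : N, ((b * a) • y)⁻¹ * (a * b) • y ∈ CC D N D := fun y => by
    have h2 := h.shear (x := a) hx y
    have h3 := h.shear (x := b) hx' y
    have h4 : (a * b) • y = y * (y⁻¹ * a • y) * (y⁻¹ * b • y) := by
      rw [mul_inv_cancel_left, ← h3 a hx, ← smul_mul', mul_inv_cancel_left, mul_smul]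
    have h5 : (b * a) • y = y * (y⁻¹ * b • y) * (y⁻¹ * a • y) := by
      rw [mul_inv_cancel_left, ← h2 b hx', ← smul_mul', mul_inv_cancel_left, mul_smul]
    have h6 := h.comm_mem (y⁻¹ * a • y)⁻¹ (y⁻¹ * b • y)⁻¹
    rw [h4, h5]
    convert h6 using 1
    group
  have h2 : x * x' * x⁻¹ * x'⁻¹ ∈ X := mul_mem (mul_mem (mul_mem hx hx') (inv_mem hx)) (inv_mem hx')
  obtain ⟨n, hn⟩ := exists_pow_of_isP h.mx.isP h2
  refine mem_rad.2 fun P hP => (h.mx.of_mem_Cjs hP).mem_of_nm hn (h.mx.le h2) ?_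
  have h3 := h.fix_of_triv (c := a * b * (b * a)⁻¹) (fun y => by
    have h4 := h1 ((b * a)⁻¹ • y)
    rwa [smul_inv_smul, ← mul_smul] at h4) hP
  rwa [show ((a * b * (b * a)⁻¹ : D) : G) = x * x' * x⁻¹ * x'⁻¹ by
    show x * x' * (x' * x)⁻¹ = _
    group] at h3

/-- `C(X) = Z(C(X)) N0` -/
theorem exists_central {z : N} (hz : z ∈ CC D N X) :
    ∃ k ∈ CC D N X, (∀ v ∈ CC D N X, k * v = v * k) ∧ k⁻¹ * z ∈ CC D N D := by
  obtain ⟨P, hP, hne⟩ := h.exists_ne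
  obtain ⟨y, hy, hy'⟩ := (h.of_mem hP).act
  have h1 : y ∉ CC D N X := fun c => hne (h.eq_of_mem hP (self_mem_Cjs D X) hy c hy')
  obtain ⟨x, hx, h2⟩ := h.exists_shear h1 hz
  refine ⟨y⁻¹ * x • y, h.shear hx y, fun v hv => ?_, ?_⟩
  · have h3 := (h.normalC X).conj_mem v hv y x hx
    rw [smul_mul', smul_mul', smul_inv', hv x hx] at h3
    calc y⁻¹ * x • y * v = y⁻¹ * (x • y * v * (x • y)⁻¹) * x • y := by group
      _ = _ := by rw [h3]; group
  · have h3 := inv_mem h2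
    rwa [show ((y * z)⁻¹ * x • y)⁻¹ = (y⁻¹ * x • y)⁻¹ * z by group] at h3

end Sp

end Abs

end Cfsg.Agent.TH.Own
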