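import Mathlib
import Cfsg.Agent.TH.Own.SpAbs

/-!
# S3541, `BoxOwn`: the complements in the situation `Sp` (helper74)
-/

set_option autoImplicit false
set_option linter.unusedSectionVars false
set_option linter.unusedVariables false

namespace Cfsg.Agent.TH.Own

open MulAction

variable {G : Type*} [Group G] {p : ℕ} {D X : Subgroup G} {N : Type*} [Group N] [MulDistribMulAction D N]

variable (D N) in
/-- the commutator subgroup `[C(X), B]` -/
def Br (X B : Subgroup G) : Subgroup N :=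
  Subgroup.closure {v | ∃ u ∈ CC D N X, ∃ d : D, (d : G) ∈ B ∧ v = u⁻¹ * d • u}

theorem mem_Br {B : Subgroup G} {u : N} (hu : u ∈ CC D N X) {d : D} (hd : (d : G) ∈ B) : u⁻¹ * d • u ∈ Br D N X B :=
  Subgroup.subset_closure ⟨u, hu, d, hd, rfl⟩

theorem Br_le {B : Subgroup G} {K : Subgroup N} (h : ∀ u ∈ CC D N X, ∀ d : D, (d : G) ∈ B → u⁻¹ * d • u ∈ K) :
    Br D N X B ≤ K := (Subgroup.closure_le K).2 (by rintro _ ⟨u, hu, d, hd, rfl⟩; exact h u hu d hd)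

theorem smul_mem_Br {B : Subgroup G} {e : D} (he : (e : G) ∈ B) {v : N} (hv : v ∈ Br D N X B) : e • v ∈ Br D N X B :=
  Br_le (K := (Br D N X B).comap (MulDistribMulAction.toMonoidHom N e)) (fun u hu d hd => by
    have h1 := mul_mem (inv_mem (mem_Br hu he)) (mem_Br (d := e * d) hu (mul_mem he hd))
    rw [mul_inv_rev, inv_inv, mul_assoc, mul_inv_cancel_left, mul_smul, ← smul_inv', ← smul_mul'] at h1
    exact h1) hv

theorem smul_mem_CC_nm {e : D} (he : cj (e : G) X = X) {w : N} (hw : w ∈ CC D N X) : e • w ∈ CC D N X :=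
  he ▸ smul_mem_CC hw e

variable (D N) in
/-- the centre of `C(X)` -/
def ZC (X : Subgroup G) : Subgroup N where
  carrier := {k | k ∈ CC D N X ∧ ∀ v ∈ CC D N X, v * k = k * v}
  one_mem' := ⟨one_mem _, fun v _ => by rw [mul_one, one_mul]⟩
  mul_mem' {a b} ha hb := ⟨mul_mem ha.1 hb.1, fun v hv => by
    rw [← mul_assoc, ha.2 v hv, mul_assoc, hb.2 v hv, mul_assoc]⟩
  inv_mem' {a} ha := ⟨inv_mem ha.1, fun v hv => by
    rw [mul_inv_eq_iff_eq_mul, mul_assoc, ha.2 v hv, inv_mul_cancel_left]⟩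

theorem mem_ZC {k : N} : k ∈ ZC D N X ↔ k ∈ CC D N X ∧ ∀ v ∈ CC D N X, v * k = k * v := Iff.rfl

theorem smul_mem_ZC {e : D} {k : N} (hk : k ∈ ZC D N X) : e • k ∈ ZC D N (cj (e : G) X) :=
  ⟨smul_mem_CC hk.1 e, fun v hv => by
    have h1 := smul_mem_CC hv e⁻¹
    rw [Subgroup.coe_inv, cj_inv_cj] at h1
    have h2 := congrArg (e • ·) (hk.2 _ h1)
    simpa only [smul_mul', smul_inv_smul] using h2⟩

namespace Sp

variable [Finite G] [Finite N] [hp : Fact p.Prime] (h : Sp p D X N)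

include h

theorem exists_ZC {u : N} (hu : u ∈ CC D N X) : ∃ k ∈ ZC D N X, k⁻¹ * u ∈ CC D N D ∧ ∀ d : D, u⁻¹ * d • u = k⁻¹ * d • k := by
  obtain ⟨k, h1, h2, h3⟩ := h.exists_central hu
  refine ⟨k, ⟨h1, fun v hv => (h2 v hv).symm⟩, h3, fun d => ?_⟩
  have h4 := smul_eq_of_CC h3 d
  have h5 := (smul_mem_ZC (e := d) ⟨h1, fun v hv => (h2 v hv).symm⟩).2 _ (CC_D_le _ h3)
  have h6 := h2 _ (CC_D_le X h3)
  generalize hn : k⁻¹ * u = n at h3 h4 h5 h6
  obtain rfl : u = k * n := by rw [← hn, mul_inv_cancel_left]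
  rw [smul_mul', h4, ← h5, h6]
  group

theorem Br_le_ZC : Br D N X (Subgroup.normalizer (X : Set G)) ≤ ZC D N X :=
  Br_le fun u hu d hd => by
    obtain ⟨k, h1, -, h2⟩ := h.exists_ZC hu
    rw [h2]
    exact mul_mem (inv_mem h1) (nm_iff.1 hd ▸ smul_mem_ZC (e := d) h1)

/-- coprime action -/
theorem eq_one_of_Br {v : N} (h1 : v ∈ Br D N X (Subgroup.normalizer (X : Set G))) (h2 : v ∈ CC D N D) : v = 1 := by
  classical
  let B : Subgroup G := D ⊓ Subgroup.normalizer (X : Set G)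
  let ι : B →* D := Subgroup.inclusion inf_le_left
  let _ : CommGroup (ZC D N X) := { (inferInstance : Group (ZC D N X)) with
    mul_comm := fun a b => Subtype.ext (b.2.2 a a.2.1) }
  have hm : ∀ (b : B), ∀ k ∈ ZC D N X, ι b • k ∈ ZC D N X := fun b k hk => by
    have h3 := smul_mem_ZC (e := ι b) hk
    rwa [show cj ((ι b : D) : G) X = X from nm_iff.1 b.2.2] at h3
  let f : B → ZC D N X →* ZC D N X := fun b =>
    { toFun := fun k => ⟨ι b • (k : N), hm b k k.2⟩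
      map_one' := Subtype.ext (smul_one _)
      map_mul' := fun a c => Subtype.ext (smul_mul' _ _ _) }
  have := Fintype.ofFinite (B ⧸ X.subgroupOf B)
  let ν : ZC D N X →* ZC D N X := ∏ c : B ⧸ X.subgroupOf B, f c.out⁻¹
  have hν : ∀ k, ν k = ∏ c : B ⧸ X.subgroupOf B, f c.out⁻¹ k := fun k => MonoidHom.finsetProd_apply _ _ _
  have h3 : ∀ (b : B) k, ν (f b k) = ν k := fun b k => by
    rw [hν, hν]
    refine Fintype.prod_equiv (MulAction.toPerm b⁻¹) _ _ fun c => Subtype.ext ?_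
    obtain ⟨x, hx⟩ := QuotientGroup.mk_out_eq_mul (X.subgroupOf B) (b⁻¹ * c.out)
    have h4 : (MulAction.toPerm b⁻¹) c = ((b⁻¹ * c.out : B) : B ⧸ X.subgroupOf B) :=
      (MulAction.Quotient.mk_smul_out (X.subgroupOf B) b⁻¹ c).symm
    rw [h4, hx]
    show ι c.out⁻¹ • ι b • (k : N) = ι (b⁻¹ * c.out * x)⁻¹ • (k : N)
    rw [mul_inv_rev, mul_inv_rev, inv_inv, map_mul, map_mul, mul_smul, mul_smul]
    exact ((hm _ _ (hm _ _ k.2)).1 (ι (x : B)⁻¹) (inv_mem (show ((x : B) : G) ∈ X from x.2))).symm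
  obtain ⟨k, hk, rfl⟩ : v ∈ ν.ker.map (ZC D N X).subtype := Br_le (fun u hu d hd => by
    obtain ⟨k, h4, -, h5⟩ := h.exists_ZC hu
    refine ⟨(⟨k, h4⟩ : ZC D N X)⁻¹ * f ⟨d, d.2, hd⟩ ⟨k, h4⟩, ?_, (h5 d).symm⟩
    show ν _ = 1
    rw [map_mul, h3, map_inv, inv_mul_cancel]) h1
  have h4 : k ^ X.relIndex B = 1 := by
    have h5 : ν k = 1 := hk
    rw [hν, Finset.prod_congr rfl (g := fun _ => k) fun c _ => Subtype.ext (smul_eq_of_CC h2 _), Finset.prod_const,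
      Finset.card_univ, ← Nat.card_eq_fintype_card] at h5
    exact h5
  have h5 := (h.mx.mono (L' := B) (le_inf h.mx.le Subgroup.le_normalizer) inf_le_left).not_dvd
  obtain ⟨n, hn⟩ := h.isP (k : N)
  have h6 : (k : N) ^ X.relIndex B = 1 := congrArg Subtype.val h4
  have h7 := Nat.dvd_gcd (orderOf_dvd_of_pow_eq_one hn) (orderOf_dvd_of_pow_eq_one h6)
  rw [Nat.Coprime.pow_left n ((Nat.Prime.coprime_iff_not_dvd hp.1).2 h5), Nat.dvd_one, orderOf_eq_one_iff] at h7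
  exact h7

theorem exists_three (h3 : nS D X ≠ 3) :
    ∃ z ∈ CC D N X, ∃ z' ∈ CC D N X, z ∉ CC D N D ∧ z' ∉ CC D N D ∧ z⁻¹ * z' ∉ CC D N D := by
  obtain ⟨n, hn⟩ := h.exists_pow
  obtain ⟨z, hz, hz'⟩ := h.act
  by_contra h1
  push Not at h1
  have h2 := (h.card_top hn).1
  have h4 := card_le_mul (B := CC D N X) (B' := CC D N D) (fun v => v ∈ CC D N D) Set.univ (Set.toFinite _)
    (fun _ _ => trivial) (fun g hg g' hg' h5 => by
      by_cases h6 : g ∈ CC D N D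
      · exact mul_mem (inv_mem h6) (h5 ▸ h6)
      · exact h1 g hg g' hg' h6 (h5 ▸ h6))
  rw [Set.ncard_univ, h2, Nat.card_eq_fintype_card (α := Prop), Fintype.card_prop] at h4
  have h5 := Nat.le_of_mul_le_mul_right h4 Nat.card_pos
  have h6 : p ^ n ≠ 1 := fun h7 => by
    rw [h7, one_mul] at h2
    exact hz' (Subgroup.eq_of_le_of_card_ge (CC_D_le X) h2.le ▸ hz)
  have h7 := pow_pos hp.1.pos n
  omega

/-- `q > 2`: `C(X) = [C(X), B] N0` -/
theorem exists_Br (h3 : nS D X ≠ 3) {z : N} (hz : z ∈ CC D N X) :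
    ∃ u ∈ Br D N X (Subgroup.normalizer (X : Set G)), u⁻¹ * z ∈ CC D N D := by
  by_cases h1 : z ∈ CC D N D
  · exact ⟨1, one_mem _, by rwa [inv_one, one_mul]⟩
  obtain ⟨a, ha, b, hb, h2, h4, h5⟩ := h.exists_three h3
  obtain ⟨d, hd, h6⟩ := h.trans ha h2 hb h4
  have h7 : a⁻¹ * d • a ∉ CC D N D := fun h8 => h5 (by
    have h9 := mul_mem h8 (inv_mem h6)
    rwa [show a⁻¹ * d • a * (b⁻¹ * d • a)⁻¹ = a⁻¹ * b by group] at h9)
  have h8 := mem_Br (B := Subgroup.normalizer (X : Set G)) ha (nm_iff.2 hd)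
  obtain ⟨e, he, h9⟩ := h.trans (h.Br_le_ZC h8).1 h7 hz h1
  refine ⟨_, smul_mem_Br (nm_iff.2 he) h8, ?_⟩
  have h10 := inv_mem h9
  rwa [mul_inv_rev, inv_inv] at h10

theorem mem_of_two (h3 : nS D X = 3) {z z' : N} (hz : z ∈ CC D N X) (hz' : z' ∈ CC D N X) (h1 : z ∉ CC D N D)
    (h2 : z' ∉ CC D N D) : z⁻¹ * z' ∈ CC D N D := by
  obtain ⟨n, hn⟩ := h.exists_pow
  have h4 := card_mul_relIndex (CC_D_le X : CC D N D ≤ _)
  rw [(h.card_top hn).1, show p ^ n = 2 by omega, mul_comm] at h4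
  have h5 : ((CC D N D).subgroupOf (CC D N X)).index = 2 := Nat.eq_of_mul_eq_mul_right Nat.card_pos h4
  exact (Subgroup.mul_mem_iff_of_index_two h5 (a := (⟨z, hz⟩ : CC D N X)⁻¹) (b := ⟨z', hz'⟩)).2
    (iff_of_false (fun h6 => h1 (inv_mem_iff.1 h6)) h2)

/-- `q = 2`: `N_D(X)` centralises `C(X)` -/
theorem smul_eq_of_two (h3 : nS D X = 3) {d : D} (hd : cj (d : G) X = X) {z : N} (hz : z ∈ CC D N X) : d • z = z := by
  by_cases h1 : z ∈ CC D N D
  · exact smul_eq_of_CC h1 d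
  have h2 := h.eq_one_of_Br (mem_Br hz (nm_iff.2 hd))
    (h.mem_of_two h3 hz (smul_mem_CC_nm hd hz) h1 fun h4 => h1 ((smul_mem_CC_D d).1 h4))
  rw [← mul_inv_cancel_left z (d • z), h2, mul_one]

/-- `q = 2`: `[C(X), D]` is a four group -/
theorem exists_omega (h3 : nS D X = 3) : ∃ ω ∈ Br D N X D, ω ∈ CC D N X ∧ ω ∉ CC D N D ∧
    ∀ f ∈ Br D N X D, f ∈ CC D N X → f = 1 ∨ f = ω := by
  obtain ⟨a₀, ha₀, ha₀'⟩ := h.act
  obtain ⟨a, ha, h1, -⟩ := h.exists_ZC ha₀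
  have ha' : a ∉ CC D N D := fun h2 => ha₀' ((mul_mem_cancel_left (inv_mem h2)).1 h1)
  have hX := self_mem_Cjs D X
  -- the three Sylow subgroups
  obtain ⟨P, R, hPR, hC⟩ : ∃ P R, P ≠ R ∧ Cjs D X \ {X} = {P, R} := by
    rw [← Set.ncard_eq_two, Set.ncard_sdiff_singleton_of_mem hX]
    exact congrArg (· - 1) h3
  have hP : P ∈ Cjs D X \ {X} := hC ▸ Or.inl rfl
  have hR : R ∈ Cjs D X \ {X} := hC ▸ Or.inr rfl
  have hall : ∀ Y ∈ Cjs D X, Y = X ∨ Y = P ∨ Y = R := fun Y hY => by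
    by_cases h2 : Y = X
    · exact Or.inl h2
    · exact Or.inr (show Y ∈ ({P, R} : Set _) from hC ▸ ⟨hY, h2⟩)
  have horb : ∀ d e : D, cj (d : G) X = cj (e : G) X → d • a = e • a := fun d e h2 => by
    have h4 := h.smul_eq_of_two h3 (d := e⁻¹ * d) (by
      rw [Subgroup.coe_mul, Subgroup.coe_inv, cj_mul, h2, cj_inv_cj]) ha.1
    rwa [mul_smul, inv_smul_eq_iff] at h4
  obtain ⟨⟨d, hd, rfl⟩, hPX⟩ := hP
  obtain ⟨⟨e, he, rfl⟩, hRX⟩ := hR
  let d' : D := ⟨d, hd⟩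
  let e' : D := ⟨e, he⟩
  obtain ⟨b, hb⟩ : ∃ b, b = d' • a := ⟨_, rfl⟩
  obtain ⟨c, hc⟩ : ∃ c, c = e' • a := ⟨_, rfl⟩
  have hbP : b ∈ ZC D N (cj d X) := hb ▸ smul_mem_ZC (e := d') ha
  have hcR : c ∈ ZC D N (cj e X) := hc ▸ smul_mem_ZC (e := e') ha
  have hb' : b ∉ CC D N D := fun h2 => ha' ((smul_mem_CC_D d').1 (hb ▸ h2))
  have hc' : c ∉ CC D N D := fun h2 => ha' ((smul_mem_CC_D e').1 (hc ▸ h2))
  have hP : cj d X ∈ Cjs D X := ⟨d, hd, rfl⟩
  have hR : cj e X ∈ Cjs D X := ⟨e, he, rfl⟩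
  have h3' : ∀ {Y}, Y ∈ Cjs D X → nS D Y = 3 := fun hY => by rw [nS, Cjs_eq_of_mem hY]; exact h3
  have habc : ∀ g : D, g • a = a ∨ g • a = b ∨ g • a = c := fun g => by
    rcases hall (cj g X) ⟨g, g.2, rfl⟩ with h2 | h2 | h2
    · exact Or.inl (h.smul_eq_of_two h3 h2 ha.1)
    · exact Or.inr (Or.inl (hb ▸ horb g d' h2))
    · exact Or.inr (Or.inr (hc ▸ horb g e' h2))
  have hbX : b ∉ CC D N X := fun h2 => hPX (h.eq_of_mem hP hX hbP.1 h2 hb')
  have hcX : c ∉ CC D N X := fun h2 => hRX (h.eq_of_mem hR hX hcR.1 h2 hc')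
  have hcP : c ∉ CC D N (cj d X) := fun h2 => hPR (h.eq_of_mem hP hR h2 hcR.1 hc')
  have haP : a ∉ CC D N (cj d X) := fun h2 => hPX (h.eq_of_mem hP hX h2 ha.1 ha')
  -- `a b c` is fixed
  have hn : a * b * c ∈ CC D N D := by
    obtain ⟨Y, hY, h2⟩ := h.cov (a * b)
    rcases hall Y hY with rfl | rfl | rfl
    · exact absurd ((mul_mem_cancel_left ha.1).1 h2) hbX
    · exact absurd ((mul_mem_cancel_right hbP.1).1 h2) haP
    · have h4 := (h.of_mem hR).mem_of_two (h3' hR) (inv_mem h2) hcR.1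
        (fun h5 => hbX ((mul_mem_cancel_left ha.1).1 (CC_D_le X (inv_mem_iff.1 h5)))) hc'
      rwa [inv_inv] at h4
  have hsq : ∀ g : D, g • a * g • a = a * a := fun g => by
    have h2 := h.mem_of_two h3 (inv_mem ha.1) ha.1 (fun h4 => ha' (inv_mem_iff.1 h4)) ha'
    rw [inv_inv] at h2
    rw [← smul_mul', smul_eq_of_CC h2]
  -- an element of `X` which swaps `b` and `c`
  obtain ⟨x, hx, hxP⟩ := h.spl _ hP hPX _ hR hRX
  let x' : D := ⟨x, h.mx.le hx⟩
  have hxa : x' • a = a := ha.1 x' hx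
  have hxb : x' • b = c := by
    rw [hb, hc, ← mul_smul]
    exact horb _ _ (by rw [Subgroup.coe_mul, cj_mul]; exact hxP)
  have hxc : x' • c = b := by
    rcases habc (x' * e') with h2 | h2 | h2 <;> rw [mul_smul, ← hc] at h2
    · exact absurd ((MulAction.injective x' (h2.trans hxa.symm)) ▸ ha.1) hcX
    · exact h2
    · exact absurd ((MulAction.injective x' (h2.trans hxb.symm)) ▸ hbP.1) hcP
  have hbc : b * c = c * b := by
    have h2 := smul_eq_of_CC hn x'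
    rw [smul_mul', smul_mul', hxa, hxb, hxc, mul_assoc, mul_assoc] at h2
    exact (mul_left_cancel h2).symm
  have hab : a * b = b * a := by
    have h2 := hbP.2 _ (CC_D_le _ hn)
    rw [mul_assoc, mul_assoc, ← hbc, ← mul_assoc, ← mul_assoc, ← mul_assoc, ← mul_assoc] at h2
    exact mul_right_cancel (mul_right_cancel h2)
  have hac : a * c = c * a := by
    have h2 := congrArg (x' • ·) hab
    simpa only [smul_mul', hxa, hxb] using h2
  have hbb : b * b = a * a := hb ▸ hsq d'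
  have hcc : c * c = a * a := hc ▸ hsq e'
  have k1 : ∀ {u v : N}, u * v = v * u → u * u = v * v → u⁻¹ * v = v⁻¹ * u := fun {u v} h4 h5 => by
    calc u⁻¹ * v = u⁻¹ * (v * v) * v⁻¹ := by group
      _ = u * v⁻¹ := by rw [← h5]; group
      _ = v⁻¹ * (v * u) * v⁻¹ := by group
      _ = _ := by rw [← h4]; group
  have e1 := k1 hab hbb.symm
  have e2 := k1 hac hcc.symm
  have e3 := k1 hbc (hbb.trans hcc.symm)
  let F : Subgroup N :=
    { carrier := {f | ∃ u v, (u = a ∨ u = b ∨ u = c) ∧ (v = a ∨ v = b ∨ v = c) ∧ f = u⁻¹ * v}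
      one_mem' := ⟨a, a, Or.inl rfl, Or.inl rfl, (inv_mul_cancel a).symm⟩
      inv_mem' := by
        rintro _ ⟨u, v, hu, hv, rfl⟩
        exact ⟨v, u, hv, hu, by group⟩
      mul_mem' := by
        have k2 : ∀ u v, (u = a ∨ u = b ∨ u = c) → (v = a ∨ v = b ∨ v = c) → u⁻¹ * v = v⁻¹ * u := by
          rintro u v (rfl | rfl | rfl) (rfl | rfl | rfl)
          exacts [rfl, e1, e2, e1.symm, rfl, e3, e2.symm, e3.symm, rfl]
        rintro _ _ ⟨u, v, hu, hv, rfl⟩ ⟨u', v', hu', hv', rfl⟩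
        by_cases c1 : v = u'
        · exact ⟨u, v', hu, hv', by rw [c1]; group⟩
        by_cases c2 : v = v'
        · exact ⟨u, u', hu, hu', by rw [k2 u' v' hu' hv', c2]; group⟩
        by_cases c3 : u = u'
        · exact ⟨v, v', hv, hv', by rw [k2 u v hu hv, c3]; group⟩
        by_cases c4 : u = v'
        · exact ⟨v, u', hv, hu', by rw [k2 u v hu hv, k2 u' v' hu' hv', c4]; group⟩
        by_cases c5 : u = v
        · exact ⟨u', v', hu', hv', by rw [c5]; group⟩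
        by_cases c6 : u' = v'
        · exact ⟨u, v, hu, hv, by rw [c6]; group⟩
        exfalso
        rcases hu with rfl | rfl | rfl <;> rcases hv with rfl | rfl | rfl <;> rcases hu' with rfl | rfl | rfl <;>
          rcases hv' with rfl | rfl | rfl <;> simp at c1 c2 c3 c4 c5 c6 }
  have hF : Br D N X D ≤ F := Br_le fun u hu g _ => by
    by_cases h2 : u ∈ CC D N D
    · rw [smul_eq_of_CC h2, inv_mul_cancel]; exact one_mem _
    have h4 := h.mem_of_two h3 ha.1 hu ha' h2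
    have h5 := (smul_mem_ZC (e := g) ha).2 _ (CC_D_le _ h4)
    have h6 := ha.2 _ (CC_D_le _ h4)
    have h7 := smul_eq_of_CC h4 g
    generalize hn : a⁻¹ * u = n at h4 h5 h6 h7
    obtain rfl : u = a * n := by rw [← hn, mul_inv_cancel_left]
    refine ⟨a, g • a, Or.inl rfl, habc g, ?_⟩
    rw [smul_mul', h7, ← h5, ← h6]
    group
  have hω : b⁻¹ * c ∈ Br D N X D := by
    have h2 := mul_mem (inv_mem (mem_Br (B := D) (d := d') ha.1 hd)) (mem_Br (B := D) (d := e') ha.1 he)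
    rwa [← hb, ← hc, show (a⁻¹ * b)⁻¹ * (a⁻¹ * c) = b⁻¹ * c by group] at h2
  have hω' : b⁻¹ * c ∉ CC D N D := fun h2 => hcP ((mul_mem_cancel_left (inv_mem hbP.1)).1 (CC_D_le _ h2))
  refine ⟨b⁻¹ * c, hω, ?_, hω', fun f hf hfX => ?_⟩
  · obtain ⟨Y, hY, h2⟩ := h.cov (b⁻¹ * c)
    rcases hall Y hY with rfl | rfl | rfl
    · exact h2
    · exact absurd ((mul_mem_cancel_left (inv_mem hbP.1)).1 h2) hcP
    · exact absurd (h.eq_of_mem hP hR hbP.1 (inv_mem_iff.1 ((mul_mem_cancel_right hcR.1).1 h2)) hb') hPR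
  · obtain ⟨u, v, hu, hv, rfl⟩ := hF hf
    rcases hu with rfl | rfl | rfl <;> rcases hv with rfl | rfl | rfl
    · exact Or.inl (inv_mul_cancel _)
    · exact absurd ((mul_mem_cancel_left (inv_mem ha.1)).1 hfX) hbX
    · exact absurd ((mul_mem_cancel_left (inv_mem ha.1)).1 hfX) hcX
    · exact absurd (inv_mem_iff.1 ((mul_mem_cancel_right ha.1).1 hfX)) hbX
    · exact Or.inl (inv_mul_cancel _)
    · exact Or.inr rfl
    · exact absurd (inv_mem_iff.1 ((mul_mem_cancel_right ha.1).1 hfX)) hcX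
    · exact Or.inr e3.symm
    · exact Or.inl (inv_mul_cancel _)

end Sp

end Cfsg.Agent.TH.Own
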