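import Mathlib
import Cfsg.Agent.TH.Own.SpTwo
import Cfsg.Agent.TH.Own.Core

/-!
# S3541, `BoxOwn`: modules (helper74)

* `Cm Q V K` : the elements of `Q` centralised by `K` modulo `V`;
* `Md p a D X V Q` : `Q / V` is regular on `Q a`, normalised by `D ≤ G_a`, every point of `Q a` is fixed by a conjugate
  of `X` under `D`;
* `Ac p a D X V Q` : moreover `D` is split of rank one and acts non-trivially (SPREAD, the affine lemma).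
-/

set_option autoImplicit false
set_option linter.unusedSectionVars false
set_option linter.unusedVariables false

namespace Cfsg.Agent.TH.Own

open MulAction

variable {G : Type*} [Group G] {p : ℕ} {Ω : Type*} [MulAction G Ω]

/-- the elements of `Q` centralised by `K` modulo `V` -/
def Cm (Q V K : Subgroup G) : Subgroup G where
  carrier := {w | w ∈ Q ∧ cj w V = V ∧ ∀ k ∈ K, w⁻¹ * (k * w * k⁻¹) ∈ V}
  one_mem' := ⟨one_mem _, cj_one V, fun k _ => by simp⟩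
  mul_mem' {a b} ha hb := ⟨mul_mem ha.1 hb.1, nm_mul ha.2.1 hb.2.1, fun k hk => by
    have h1 := mul_mem (nm_conj' hb.2.1 (ha.2.2 k hk)) (hb.2.2 k hk)
    convert h1 using 1
    group⟩
  inv_mem' {a} ha := ⟨inv_mem ha.1, nm_inv ha.2.1, fun k hk => by
    have h1 := nm_conj ha.2.1 (inv_mem (ha.2.2 k hk))
    convert h1 using 1
    group⟩

section Cm

variable {Q V K L : Subgroup G}

theorem mem_Cm {w : G} : w ∈ Cm Q V K ↔ w ∈ Q ∧ cj w V = V ∧ ∀ k ∈ K, w⁻¹ * (k * w * k⁻¹) ∈ V := Iff.rfl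

theorem Cm_le : Cm Q V K ≤ Q := fun _ h => h.1

theorem Cm_anti (h : K ≤ L) : Cm Q V L ≤ Cm Q V K := fun _ hw => ⟨hw.1, hw.2.1, fun k hk => hw.2.2 k (h hk)⟩

theorem Cm_mono {Q' : Subgroup G} (h : Q ≤ Q') : Cm Q V K ≤ Cm Q' V K := fun _ hw => ⟨h hw.1, hw.2⟩

theorem Cm_Cm (h : L ≤ K) : Cm (Cm Q V L) V K = Cm Q V K :=
  le_antisymm (Cm_mono Cm_le) fun _ hw => ⟨Cm_anti h hw, hw.2⟩

theorem le_Cm (h1 : V ≤ Q) (h2 : ∀ k ∈ K, cj k V = V) : V ≤ Cm Q V K := fun _ hv =>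
  ⟨h1 hv, cj_of_mem hv, fun k hk => mul_mem (inv_mem hv) (nm_conj (h2 k hk) hv)⟩

theorem conj_mem_Cm {w : G} (hw : w ∈ Cm Q V K) (g : G) : g * w * g⁻¹ ∈ Cm (cj g Q) (cj g V) (cj g K) :=
  ⟨conj_mem_cj g hw.1, nm_cj hw.2.1, by
    rintro _ ⟨k, hk, rfl⟩
    have h1 := conj_mem_cj g (hw.2.2 k hk)
    convert h1 using 1
    show _ * (g * k * g⁻¹ * _ * (g * k * g⁻¹)⁻¹) = _
    group⟩

theorem cj_Cm (g : G) : cj g (Cm Q V K) = Cm (cj g Q) (cj g V) (cj g K) := by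
  refine le_antisymm (by rintro _ ⟨w, hw, rfl⟩; exact conj_mem_Cm hw g) fun w hw => mem_cj.2 ?_
  have h1 := conj_mem_Cm hw g⁻¹
  rwa [cj_inv_cj, cj_inv_cj, cj_inv_cj, inv_inv] at h1

theorem nm_Cm {g : G} (h1 : cj g Q = Q) (h2 : cj g V = V) (h3 : cj g K = K) : cj g (Cm Q V K) = Cm Q V K := by
  rw [cj_Cm, h1, h2, h3]

/-- `Cm Q V K` normalises `K V` -/
theorem nm_sup_of_Cm {w : G} (hw : w ∈ Cm Q V K) : cj w (K ⊔ V) = K ⊔ V := by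
  have key : ∀ {w : G}, w ∈ Cm Q V K → cj w⁻¹ (K ⊔ V) ≤ K ⊔ V := fun {w} hw => by
    rw [cj_sup, nm_inv hw.2.1]
    refine sup_le ?_ le_sup_right
    rintro _ ⟨k, hk, rfl⟩
    have h1 := mul_mem (Subgroup.mem_sup_right (S := K) (hw.2.2 k hk)) (Subgroup.mem_sup_left hk)
    convert h1 using 1
    show w⁻¹ * k * w⁻¹⁻¹ = _
    group
  refine le_antisymm (inv_inv w ▸ key (inv_mem hw)) ?_
  have h1 := cj_mono w (key hw)
  rwa [cj_cj_inv] at h1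

theorem nm_of_Cm {w : G} (hw : w ∈ Cm Q V K) (h : V ≤ K) : cj w K = K := by
  have h1 := nm_sup_of_Cm hw
  rwa [sup_of_le_left h] at h1

/-- `Cm` by points -/
theorem mem_Cm_iff {b : Ω} (hb : Q ⊓ stabilizer G b = V) (nm : ∀ w ∈ Q, cj w V = V) (h1 : K ≤ stabilizer G b)
    (h2 : ∀ k ∈ K, cj k Q = Q) {w : G} : w ∈ Cm Q V K ↔ w ∈ Q ∧ K ≤ stabilizer G (w • b) := by
  refine and_congr_right fun hw => ⟨fun h k hk => ?_, fun h => ⟨nm w hw, fun k hk => ?_⟩⟩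
  · have h3 : (w⁻¹ * (k * w * k⁻¹)) • b = b := (hb.ge (h.2 k hk)).2
    rwa [mul_smul, mul_smul, mul_smul, show k⁻¹ • b = b from h1 (inv_mem hk), inv_smul_eq_iff] at h3
  · refine hb.le (Subgroup.mem_inf.2 ⟨mul_mem (inv_mem hw) (nm_conj (h2 k hk) hw), ?_⟩)
    show (w⁻¹ * (k * w * k⁻¹)) • b = b
    rw [mul_smul, mul_smul, mul_smul, show k⁻¹ • b = b from h1 (inv_mem hk), inv_smul_eq_iff]
    exact h hk

theorem reg_smul {b : Ω} (hb : Q ⊓ stabilizer G b = V) (nm : ∀ w ∈ Q, cj w V = V) {w : G} (hw : w ∈ Q) :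
    Q ⊓ stabilizer G (w • b) = V := by
  rw [← cj_stab, ← nm w hw, ← hb, cj_inf, cj_of_mem hw]

theorem reg_mono {b : Ω} (hb : Q ⊓ stabilizer G b = V) {M : Subgroup G} (h1 : V ≤ M) (h2 : M ≤ Q) :
    M ⊓ stabilizer G b = V :=
  le_antisymm ((inf_le_inf_right _ h2).trans hb.le) (le_inf h1 (hb.ge.trans inf_le_right))

theorem ncard_Orb_reg {b : Ω} (hb : Q ⊓ stabilizer G b = V) {M : Subgroup G} (h1 : V ≤ M) (h2 : M ≤ Q) :
    (Orb M b).ncard * Nat.card V = Nat.card M := by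
  rw [← reg_mono hb h1 h2, ncard_Orb_mul]

/-- the fixed points of `K` in `Q b` -/
theorem Orb_inter_Fx {b : Ω} (hb : Q ⊓ stabilizer G b = V) (nm : ∀ w ∈ Q, cj w V = V) (h1 : K ≤ stabilizer G b)
    (h2 : ∀ k ∈ K, cj k Q = Q) : Orb Q b ∩ Fx K = Orb (Cm Q V K) b := by
  ext c
  constructor
  · rintro ⟨⟨w, hw, rfl⟩, h3⟩
    exact ⟨w, (mem_Cm_iff hb nm h1 h2).2 ⟨hw, h3⟩, rfl⟩
  · rintro ⟨w, hw, rfl⟩
    exact ⟨⟨w, hw.1, rfl⟩, ((mem_Cm_iff hb nm h1 h2).1 hw).2⟩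

theorem smul_mem_Orb_nm {b c : Ω} {g : G} (h1 : cj g Q = Q) (h2 : g • b ∈ Orb Q b) (hc : c ∈ Orb Q b) :
    g • c ∈ Orb Q b := by
  obtain ⟨w, hw, rfl⟩ := hc
  have h3 := smul_mem_Orb (nm_conj h1 hw) h2
  rwa [← mul_smul, inv_mul_cancel_right, mul_smul] at h3

/-- the commutators `[Cm X, B]` -/
def BrG (Q V X B : Subgroup G) : Subgroup G :=
  Subgroup.closure {v | ∃ u ∈ Cm Q V X, ∃ d ∈ B, v = u⁻¹ * (d * u * d⁻¹)}

theorem mem_BrG {X B : Subgroup G} {u d : G} (hu : u ∈ Cm Q V X) (hd : d ∈ B) :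
    u⁻¹ * (d * u * d⁻¹) ∈ BrG Q V X B := Subgroup.subset_closure ⟨u, hu, d, hd, rfl⟩

theorem BrG_le {X B M : Subgroup G} (h : ∀ u ∈ Cm Q V X, ∀ d ∈ B, u⁻¹ * (d * u * d⁻¹) ∈ M) : BrG Q V X B ≤ M :=
  (Subgroup.closure_le M).2 (by rintro _ ⟨u, hu, d, hd, rfl⟩; exact h u hu d hd)

theorem conj_mem_BrG {X B : Subgroup G} {e v : G} (he : e ∈ B) (hv : v ∈ BrG Q V X B) : e * v * e⁻¹ ∈ BrG Q V X B :=
  mem_cj.1 (BrG_le (M := cj e⁻¹ (BrG Q V X B)) (fun u hu d hd => mem_cj.2 (by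
    have h1 := mul_mem (inv_mem (mem_BrG hu he)) (mem_BrG hu (mul_mem he hd))
    convert h1 using 1
    group)) hv) |> fun h => by rwa [inv_inv] at h

end Cm

variable (p) in
/-- a module at the point `a` -/
structure Md (a : Ω) (D X V Q : Subgroup G) : Prop where
  isP : IsPGroup p Q
  reg : Q ⊓ stabilizer G a = V
  nm : ∀ w ∈ Q, cj w V = V
  fix : D ≤ stabilizer G a
  nQ : ∀ g ∈ D, cj g Q = Q
  cov : ∀ w ∈ Q, ∃ P ∈ Cjs D X, P ≤ stabilizer G (w • a)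

namespace Md

variable {a : Ω} {D X V Q : Subgroup G} (h : Md p a D X V Q)

include h

theorem V_le : V ≤ Q := h.reg.ge.trans inf_le_left

theorem V_fix : V ≤ stabilizer G a := h.reg.ge.trans inf_le_right

theorem nV {g : G} (hg : g ∈ D) : cj g V = V := h.reg ▸ nm_inf (h.nQ g hg) (nm_stab (h.fix hg))

theorem mem_Cm {K : Subgroup G} (hK : K ≤ D) {w : G} : w ∈ Cm Q V K ↔ w ∈ Q ∧ K ≤ stabilizer G (w • a) :=
  mem_Cm_iff h.reg h.nm (hK.trans h.fix) fun k hk => h.nQ k (hK hk)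

theorem V_le_Cm {K : Subgroup G} (hK : K ≤ D) : V ≤ Cm Q V K := le_Cm h.V_le fun _ hk => h.nV (hK hk)

theorem conj_mem {K : Subgroup G} {w e : G} (hw : w ∈ Cm Q V K) (he : e ∈ D) : e * w * e⁻¹ ∈ Cm Q V (cj e K) := by
  have h1 := conj_mem_Cm hw e
  rwa [h.nQ e he, h.nV he] at h1

theorem cov' (hX : X ≤ D) {w : G} (hw : w ∈ Q) : ∃ P ∈ Cjs D X, w ∈ Cm Q V P := by
  obtain ⟨P, hP, h1⟩ := h.cov w hw
  exact ⟨P, hP, (h.mem_Cm (le_of_mem_Cjs hX hP)).2 ⟨hw, h1⟩⟩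

theorem of_mem {P : Subgroup G} (hP : P ∈ Cjs D X) : Md p a D P V Q :=
  ⟨h.isP, h.reg, h.nm, h.fix, h.nQ, by rw [Cjs_eq_of_mem hP]; exact h.cov⟩

theorem conj (g : G) : Md p (g • a) (cj g D) (cj g X) (cj g V) (cj g Q) where
  isP := isPGroup_cj h.isP g
  reg := by rw [← cj_stab, ← cj_inf, h.reg]
  nm w hw := nm_cj_iff.2 (h.nm _ (mem_cj.1 hw))
  fix := cj_le_stab.2 h.fix
  nQ x hx := nm_cj_iff.2 (h.nQ _ (mem_cj.1 hx))
  cov w hw := by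
    obtain ⟨P, hP, h1⟩ := h.cov _ (mem_cj.1 hw)
    refine ⟨cj g P, cj_mem_Cjs_cj.2 hP, ?_⟩
    rw [← cj_le_stab (g := g), ← mul_smul, ← mul_assoc, mul_inv_cancel_left, mul_smul] at h1
    exact h1

/-- invariant submodules -/
theorem sub {M : Subgroup G} (h1 : V ≤ M) (h2 : M ≤ Q) (h3 : ∀ g ∈ D, cj g M = M) : Md p a D X V M :=
  ⟨h.isP.to_le h2, reg_mono h.reg h1 h2, fun w hw => h.nm w (h2 hw), h.fix, h3, fun w hw => h.cov w (h2 hw)⟩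

/-- a non-trivial element centralised by `X` -/
theorem exists_Cm (hX : X ≤ D) (hne : ¬ Q ≤ V) : ∃ w ∈ Cm Q V X, w ∉ V := by
  obtain ⟨w, hw, h1⟩ := SetLike.not_le_iff_exists.1 hne
  obtain ⟨_, ⟨e, he, rfl⟩, h2⟩ := h.cov' hX hw
  have h3 := h.conj_mem h2 (inv_mem he)
  rw [cj_inv_cj] at h3
  refine ⟨_, h3, fun h4 => h1 ?_⟩
  have h5 := nm_conj (h.nV he) h4
  rwa [show e * (e⁻¹ * w * e⁻¹⁻¹) * e⁻¹ = w by group] at h5

/-- passive modules -/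
theorem eq_of_pas (hX : X ≤ D) (h1 : Cm Q V X ≤ Cm Q V D) : Cm Q V D = Q :=
  le_antisymm Cm_le fun w hw => by
    obtain ⟨_, ⟨e, he, rfl⟩, h2⟩ := h.cov' hX hw
    have h3 := h.conj_mem h2 (inv_mem he)
    rw [cj_inv_cj] at h3
    have h4 := h.conj_mem (h1 h3) he
    rwa [cj_of_mem he, show e * (e⁻¹ * w * e⁻¹⁻¹) * e⁻¹ = w by group] at h4

theorem normal : (V.subgroupOf Q).Normal := ⟨fun v hv g => show (g : G) * v * (g : G)⁻¹ ∈ V from nm_conj (h.nm g g.2) hv⟩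

/-- conjugation on `Q` -/
def cQ (e : D) : Q →* Q where
  toFun w := ⟨e * w * e⁻¹, nm_conj (h.nQ e e.2) w.2⟩
  map_one' := Subtype.ext (by simp)
  map_mul' x y := Subtype.ext (show (e : G) * (x * y) * (e : G)⁻¹ = e * x * (e : G)⁻¹ * (e * y * (e : G)⁻¹) by group)

/-- the action of `D` on `Q / V` -/
@[reducible] def qa [(V.subgroupOf Q).Normal] : MulDistribMulAction D (Q ⧸ V.subgroupOf Q) where
  smul e := QuotientGroup.map _ _ (h.cQ e) fun _ hv => nm_conj (h.nV e.2) hv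
  one_smul x := QuotientGroup.induction_on x fun w =>
    congrArg QuotientGroup.mk (Subtype.ext (show ((1 : D) : G) * w * ((1 : D) : G)⁻¹ = w by simp))
  mul_smul e f x := QuotientGroup.induction_on x fun w => congrArg QuotientGroup.mk (Subtype.ext
    (show ((e * f : D) : G) * w * ((e * f : D) : G)⁻¹ = e * (f * w * (f : G)⁻¹) * (e : G)⁻¹ by
      rw [Subgroup.coe_mul]; group))
  smul_mul e x y := map_mul (QuotientGroup.map _ _ (h.cQ e) fun _ hv => nm_conj (h.nV e.2) hv) x y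
  smul_one e := map_one (QuotientGroup.map _ _ (h.cQ e) fun _ hv => nm_conj (h.nV e.2) hv)

theorem mem_CC [(V.subgroupOf Q).Normal] {P : Subgroup G} (hP : P ≤ D) (w : Q) :
    (w : Q ⧸ V.subgroupOf Q) ∈ @CC G _ D _ _ h.qa P ↔ (w : G) ∈ Cm Q V P := by
  constructor
  · exact fun h1 => ⟨w.2, h.nm w w.2, fun k hk => (QuotientGroup.eq (a := w) (b := h.cQ ⟨k, hP hk⟩ w)).1 (h1 ⟨k, hP hk⟩ hk).symm⟩
  · exact fun h1 x hx => ((QuotientGroup.eq (a := w) (b := h.cQ x w)).2 (h1.2.2 x hx)).symm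

theorem index_CC [(V.subgroupOf Q).Normal] {P : Subgroup G} (hP : P ≤ D) :
    (Cm Q V P).relIndex Q = (@CC G _ D _ _ h.qa P).index := by
  rw [← Subgroup.index_comap_of_surjective _ (QuotientGroup.mk'_surjective (V.subgroupOf Q)), Subgroup.relIndex]
  congr 1
  ext w
  exact (h.mem_CC hP w).symm

theorem mem_Br [(V.subgroupOf Q).Normal] (hX : X ≤ D) {B : Subgroup G} (hB : B ≤ D) {w : Q}
    (hw : (w : G) ∈ BrG Q V X B) : (w : Q ⧸ V.subgroupOf Q) ∈ @Br G _ D _ _ h.qa X B := by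
  obtain ⟨w', h1, h2⟩ := BrG_le (M := ((@Br G _ D _ _ h.qa X B).comap (QuotientGroup.mk' _)).map Q.subtype)
    (fun u hu d hd => ⟨(⟨u, hu.1⟩ : Q)⁻¹ * h.cQ ⟨d, hB hd⟩ ⟨u, hu.1⟩,
      @Own.mem_Br G _ D X _ _ h.qa B _ ((h.mem_CC hX ⟨u, hu.1⟩).2 hu) ⟨d, hB hd⟩ hd, rfl⟩) hw
  rw [← Subtype.ext h2]
  exact h1

theorem exists_BrG [(V.subgroupOf Q).Normal] (hX : X ≤ D) {B : Subgroup G} {v : Q ⧸ V.subgroupOf Q}
    (hv : v ∈ @Br G _ D _ _ h.qa X B) : ∃ w : Q, (w : G) ∈ BrG Q V X (D ⊓ B) ∧ (w : Q ⧸ V.subgroupOf Q) = v :=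
  @Br_le G _ D X _ _ h.qa B (((BrG Q V X (D ⊓ B)).subgroupOf Q).map (QuotientGroup.mk' _)) (fun u hu d hd => by
    induction u using QuotientGroup.induction_on with
    | _ u => exact ⟨u⁻¹ * h.cQ d u, mem_BrG ((h.mem_CC hX u).1 hu) ⟨d.2, hd⟩, rfl⟩) v hv

end Md

variable (p) in
/-- an active module of a split group of rank one -/
structure Ac (a : Ω) (D X V Q : Subgroup G) : Prop extends Md p a D X V Q where
  mx : MaxP p D X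
  spl : Spl D X
  gen : ∀ K, (∀ P ∈ Cjs D X, P ≤ K) → D ≤ K
  act : ¬ Cm Q V X ≤ Cm Q V D

namespace Ac

variable [Finite G] [hp : Fact p.Prime] {a : Ω} {D X V Q : Subgroup G} (h : Ac p a D X V Q)

include h

theorem sp [(V.subgroupOf Q).Normal] : @Sp G _ p D X _ _ h.toMd.qa :=
  @Sp.mk G _ p D X _ _ h.toMd.qa h.mx h.spl h.gen (h.isP.to_quotient _)
    (fun w => by
      induction w using QuotientGroup.induction_on with
      | _ w =>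
      obtain ⟨P, hP, h1⟩ := h.toMd.cov' h.mx.le w.2
      exact ⟨P, hP, (h.toMd.mem_CC (le_of_mem_Cjs h.mx.le hP) w).2 h1⟩)
    (by
      obtain ⟨w, h1, h2⟩ := SetLike.not_le_iff_exists.1 h.act
      exact ⟨(⟨w, h1.1⟩ : Q), (h.toMd.mem_CC h.mx.le _).2 h1, fun h3 => h2 ((h.toMd.mem_CC le_rfl _).1 h3)⟩)

theorem two {P P' K : Subgroup G} (hP : P ∈ Cjs D X) (hP' : P' ∈ Cjs D X) (hne : P ≠ P') (h1 : P ≤ K) (h2 : P' ≤ K) :
    D ≤ K := h.spl.le_of_two h.gen hP hP' hne h1 h2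

theorem of_mem {P : Subgroup G} (hP : P ∈ Cjs D X) : Ac p a D P V Q where
  toMd := h.toMd.of_mem hP
  mx := h.mx.of_mem_Cjs hP
  spl := h.spl.of_mem hP
  gen := by rw [Cjs_eq_of_mem hP]; exact h.gen
  act h1 := by
    obtain ⟨e, he, rfl⟩ := hP
    refine h.act fun w hw => ?_
    have h2 := h.toMd.conj_mem (h1 (h.toMd.conj_mem hw he)) (inv_mem he)
    rwa [cj_of_mem (inv_mem he), show e⁻¹ * (e * w * e⁻¹) * e⁻¹⁻¹ = w by group] at h2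

theorem conj (g : G) : Ac p (g • a) (cj g D) (cj g X) (cj g V) (cj g Q) where
  toMd := h.toMd.conj g
  mx := h.mx.cj g
  spl := h.spl.cj g
  gen K h1 := (cj_le_iff g).2 (h.gen _ fun P hP => (cj_le_iff g).1 (h1 _ (cj_mem_Cjs_cj.2 hP)))
  act h1 := by
    rw [← cj_Cm, ← cj_Cm, cj_le_cj_iff] at h1
    exact h.act h1

theorem eq_of_mem {P P' : Subgroup G} (hP : P ∈ Cjs D X) (hP' : P' ∈ Cjs D X) {w : G} (h1 : w ∈ Cm Q V P)
    (h2 : w ∈ Cm Q V P') (h3 : w ∉ Cm Q V D) : P = P' := by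
  by_contra hne
  exact h3 ((h.toMd.mem_Cm le_rfl).2 ⟨h1.1, h.two hP hP' hne ((h.toMd.mem_Cm (le_of_mem_Cjs h.mx.le hP)).1 h1).2
    ((h.toMd.mem_Cm (le_of_mem_Cjs h.mx.le hP')).1 h2).2⟩)

theorem exists_pow : ∃ n, nS D X = p ^ n + 1 := by
  have := h.toMd.normal
  exact @Sp.exists_pow G _ p D X _ _ h.toMd.qa _ _ _ h.sp

/-- **SPREAD**, the orders -/
theorem card {q : ℕ} (hq : nS D X = q + 1) :
    Nat.card (Cm Q V X) = q * Nat.card (Cm Q V D) ∧ Nat.card Q = q * q * Nat.card (Cm Q V D) := by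
  have := h.toMd.normal
  let _ := h.toMd.qa
  obtain ⟨n, hn⟩ := h.exists_pow
  obtain rfl : q = p ^ n := by omega
  obtain ⟨h1, h2⟩ := h.sp.card_top hn
  have h3 := (CC D (Q ⧸ V.subgroupOf Q) X).card_mul_index
  have h4 := (CC D (Q ⧸ V.subgroupOf Q) D).card_mul_index
  rw [h2, ← h.toMd.index_CC le_rfl, mul_comm] at h4
  rw [h1, h2, ← h.toMd.index_CC h.mx.le, mul_assoc, mul_assoc, mul_comm (Nat.card _)] at h3
  have h0 := pow_pos hp.1.pos n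
  have h5 := Nat.eq_of_mul_eq_mul_right Nat.card_pos h4
  have h6 := Nat.eq_of_mul_eq_mul_right Nat.card_pos (Nat.eq_of_mul_eq_mul_left h0 h3)
  have h7 := card_mul_relIndex (Cm_le : Cm Q V D ≤ Q)
  have h8 := card_mul_relIndex (Cm_le : Cm Q V X ≤ Q)
  rw [h5] at h7
  rw [h6, ← h7] at h8
  exact ⟨Nat.eq_of_mul_eq_mul_right h0 (h8.trans (by ring)), by rw [← h7]; ring⟩

theorem two_le {q : ℕ} (hq : nS D X = q + 1) : 2 ≤ q := by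
  obtain ⟨n, hn⟩ := h.exists_pow
  have h1 := (h.card hq).1
  have h2 := pow_pos hp.1.pos n
  by_contra h3
  obtain rfl : q = 1 := by omega
  rw [one_mul] at h1
  exact h.act (Subgroup.eq_of_le_of_card_ge (Cm_anti h.mx.le) h1.le).ge

/-- irreducibility -/
theorem eq_top {M : Subgroup G} (h0 : Cm Q V D ≤ M) (h1 : M ≤ Q) (h2 : ∀ e ∈ D, ∀ w ∈ M, e * w * e⁻¹ ∈ M)
    (h3 : ¬ M ≤ Cm Q V D) : M = Q := by
  have := h.toMd.normal
  let _ := h.toMd.qa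
  have h4 := h.sp.eq_top (M := (M.subgroupOf Q).map (QuotientGroup.mk' _))
    (by rintro e _ ⟨w, hw, rfl⟩; exact ⟨h.toMd.cQ e w, h2 e e.2 w hw, rfl⟩)
    (fun v hv => by
      induction v using QuotientGroup.induction_on with
      | _ v => exact ⟨v, h0 ((h.toMd.mem_CC le_rfl v).1 hv), rfl⟩)
    (fun h4 => h3 fun w hw => (h.toMd.mem_CC le_rfl ⟨w, h1 hw⟩).1 (h4 ⟨⟨w, h1 hw⟩, hw, rfl⟩))
  refine le_antisymm h1 fun w hw => ?_
  obtain ⟨v, hv, h5⟩ : ((⟨w, hw⟩ : Q) : Q ⧸ V.subgroupOf Q) ∈ (M.subgroupOf Q).map (QuotientGroup.mk' _) :=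
    h4 ▸ trivial
  exact (mul_mem_cancel_left (inv_mem (show (v : G) ∈ M from hv))).1
    (h0 (h.toMd.V_le_Cm le_rfl ((QuotientGroup.eq (a := v) (b := ⟨w, hw⟩)).1 h5)))

theorem comm_mem {u v : G} (hu : u ∈ Q) (hv : v ∈ Q) : u * v * u⁻¹ * v⁻¹ ∈ Cm Q V D := by
  have := h.toMd.normal
  let _ := h.toMd.qa
  exact (h.toMd.mem_CC le_rfl ((⟨u, hu⟩ : Q) * (⟨v, hv⟩ : Q) * (⟨u, hu⟩ : Q)⁻¹ * (⟨v, hv⟩ : Q)⁻¹)).1
    (h.sp.comm_mem ((⟨u, hu⟩ : Q) : Q ⧸ V.subgroupOf Q) (⟨v, hv⟩ : Q))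

theorem nm_of_le {M : Subgroup G} (h0 : Cm Q V D ≤ M) (h1 : M ≤ Q) {w : G} (hw : w ∈ Q) : cj w M = M :=
  Own.nm_of_conj fun x hx => by
    have h2 := mul_mem (h0 (h.comm_mem hw (h1 hx))) hx
    rwa [inv_mul_cancel_right] at h2

theorem exists_mul {P : Subgroup G} (hP : P ∈ Cjs D X) (hne : P ≠ X) {y : G} (hy : y ∈ Q) :
    ∃ z ∈ Cm Q V X, ∃ y' ∈ Cm Q V P, y = z * y' := by
  have := h.toMd.normal
  let _ := h.toMd.qa
  obtain ⟨z, hz, y', hy', h1⟩ := h.sp.exists_mul hP hne ((⟨y, hy⟩ : Q) : Q ⧸ V.subgroupOf Q)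
  induction z using QuotientGroup.induction_on with
  | _ z =>
  refine ⟨z, (h.toMd.mem_CC h.mx.le z).1 hz, _, (h.toMd.mem_CC (le_of_mem_Cjs h.mx.le hP) (z⁻¹ * ⟨y, hy⟩)).1 ?_,
    (mul_inv_cancel_left _ _).symm⟩
  rw [QuotientGroup.mk_mul, QuotientGroup.mk_inv, h1, inv_mul_cancel_left]
  exact hy'

theorem triv_of_fix {x : G} (hx : x ∈ X) {P : Subgroup G} (hP : P ∈ Cjs D X) (hne : P ≠ X) (hxP : cj x P = P) {y : G}
    (hy : y ∈ Q) : y⁻¹ * (x * y * x⁻¹) ∈ Cm Q V D := by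
  have := h.toMd.normal
  let _ := h.toMd.qa
  exact (h.toMd.mem_CC le_rfl ((⟨y, hy⟩ : Q)⁻¹ * h.toMd.cQ ⟨x, h.mx.le hx⟩ ⟨y, hy⟩)).1
    (h.sp.triv_of_fix (x := ⟨x, h.mx.le hx⟩) hx hP hne hxP ((⟨y, hy⟩ : Q) : Q ⧸ V.subgroupOf Q))

/-- an element of `X` which fixes a second Sylow subgroup fixes all -/
theorem mem_rad_of_fix {x : G} (hx : x ∈ X) {P : Subgroup G} (hP : P ∈ Cjs D X) (hne : P ≠ X) (hxP : cj x P = P) :
    x ∈ rad D X := by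
  have := h.toMd.normal
  let _ := h.toMd.qa
  obtain ⟨n, hn⟩ := exists_pow_of_isP h.mx.isP hx
  exact mem_rad.2 fun R hR => (h.mx.of_mem_Cjs hR).mem_of_nm hn (h.mx.le hx)
    (h.sp.fix_of_triv (h.sp.triv_of_fix (x := ⟨x, h.mx.le hx⟩) hx hP hne hxP) hR)

theorem shear {x : G} (hx : x ∈ X) {y : G} (hy : y ∈ Q) : y⁻¹ * (x * y * x⁻¹) ∈ Cm Q V X := by
  have := h.toMd.normal
  let _ := h.toMd.qa
  exact (h.toMd.mem_CC h.mx.le ((⟨y, hy⟩ : Q)⁻¹ * h.toMd.cQ ⟨x, h.mx.le hx⟩ ⟨y, hy⟩)).1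
    (h.sp.shear (x := ⟨x, h.mx.le hx⟩) hx ((⟨y, hy⟩ : Q) : Q ⧸ V.subgroupOf Q))

/-- `N_D(X)` is transitive on the non-trivial cosets -/
theorem trans {z z' : G} (hz : z ∈ Cm Q V X) (h1 : z ∉ Cm Q V D) (hz' : z' ∈ Cm Q V X) (h2 : z' ∉ Cm Q V D) :
    ∃ d ∈ D, cj d X = X ∧ z'⁻¹ * (d * z * d⁻¹) ∈ Cm Q V D := by
  have := h.toMd.normal
  let _ := h.toMd.qa
  obtain ⟨d, h3, h4⟩ := h.sp.trans ((h.toMd.mem_CC h.mx.le ⟨z, hz.1⟩).2 hz)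
    (fun c => h1 ((h.toMd.mem_CC le_rfl ⟨z, hz.1⟩).1 c)) ((h.toMd.mem_CC h.mx.le ⟨z', hz'.1⟩).2 hz')
    (fun c => h2 ((h.toMd.mem_CC le_rfl ⟨z', hz'.1⟩).1 c))
  exact ⟨d, d.2, h3, (h.toMd.mem_CC le_rfl ((⟨z', hz'.1⟩ : Q)⁻¹ * h.toMd.cQ d ⟨z, hz.1⟩)).1 h4⟩

theorem comm_mem_rad {x x' : G} (hx : x ∈ X) (hx' : x' ∈ X) : x * x' * x⁻¹ * x'⁻¹ ∈ rad D X := by
  have := h.toMd.normal
  let _ := h.toMd.qa
  exact h.sp.comm_mem_rad hx hx'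

theorem BrG_le_Cm : BrG Q V X (D ⊓ Subgroup.normalizer (X : Set G)) ≤ Cm Q V X :=
  BrG_le fun u hu d hd => mul_mem (inv_mem hu) (nm_iff.1 hd.2 ▸ h.toMd.conj_mem hu hd.1)

theorem mem_V_of_BrG {v : G} (h1 : v ∈ BrG Q V X (D ⊓ Subgroup.normalizer (X : Set G))) (h2 : v ∈ Cm Q V D) :
    v ∈ V := by
  have := h.toMd.normal
  let _ := h.toMd.qa
  have h3 := h.toMd.mem_Br h.mx.le inf_le_left (w := ⟨v, h2.1⟩) h1
  exact (QuotientGroup.eq_one_iff (⟨v, h2.1⟩ : Q)).1 (h.sp.eq_one_of_Br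
    (Br_le (fun u hu d hd => Own.mem_Br hu (Subgroup.mem_inf.1 hd).2) h3) ((h.toMd.mem_CC le_rfl _).2 h2))

theorem exists_three (h3 : nS D X ≠ 3) :
    ∃ z ∈ Cm Q V X, ∃ z' ∈ Cm Q V X, z ∉ Cm Q V D ∧ z' ∉ Cm Q V D ∧ z⁻¹ * z' ∉ Cm Q V D := by
  have := h.toMd.normal
  let _ := h.toMd.qa
  obtain ⟨z, hz, z', hz', h1, h2, h4⟩ := h.sp.exists_three h3
  induction z using QuotientGroup.induction_on with
  | _ z =>
  induction z' using QuotientGroup.induction_on with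
  | _ z' =>
  exact ⟨z, (h.toMd.mem_CC h.mx.le z).1 hz, z', (h.toMd.mem_CC h.mx.le z').1 hz',
    fun c => h1 ((h.toMd.mem_CC le_rfl z).2 c), fun c => h2 ((h.toMd.mem_CC le_rfl z').2 c),
    fun c => h4 ((h.toMd.mem_CC le_rfl (z⁻¹ * z')).2 c)⟩

theorem exists_BrG (h3 : nS D X ≠ 3) {z : G} (hz : z ∈ Cm Q V X) :
    ∃ u ∈ BrG Q V X (D ⊓ Subgroup.normalizer (X : Set G)), u⁻¹ * z ∈ Cm Q V D := by
  have := h.toMd.normal
  let _ := h.toMd.qa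
  obtain ⟨u, h1, h2⟩ := h.sp.exists_Br h3 ((h.toMd.mem_CC h.mx.le ⟨z, hz.1⟩).2 hz)
  obtain ⟨w, h4, rfl⟩ := h.toMd.exists_BrG h.mx.le h1
  exact ⟨w, h4, (h.toMd.mem_CC le_rfl (w⁻¹ * (⟨z, hz.1⟩ : Q))).1 h2⟩

theorem mem_of_two (h3 : nS D X = 3) {z z' : G} (hz : z ∈ Cm Q V X) (hz' : z' ∈ Cm Q V X) (h1 : z ∉ Cm Q V D)
    (h2 : z' ∉ Cm Q V D) : z⁻¹ * z' ∈ Cm Q V D := by
  have := h.toMd.normal
  let _ := h.toMd.qa
  exact (h.toMd.mem_CC le_rfl ((⟨z, hz.1⟩ : Q)⁻¹ * (⟨z', hz'.1⟩ : Q))).1 (h.sp.mem_of_two h3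
    ((h.toMd.mem_CC h.mx.le ⟨z, hz.1⟩).2 hz) ((h.toMd.mem_CC h.mx.le ⟨z', hz'.1⟩).2 hz')
    (fun c => h1 ((h.toMd.mem_CC le_rfl ⟨z, hz.1⟩).1 c)) (fun c => h2 ((h.toMd.mem_CC le_rfl ⟨z', hz'.1⟩).1 c)))

theorem BrG_le_Q : BrG Q V X D ≤ Q := BrG_le fun u hu d hd => mul_mem (inv_mem hu.1) (nm_conj (h.nQ d hd) hu.1)

theorem exists_omega (h3 : nS D X = 3) : ∃ ω ∈ BrG Q V X D, ω ∈ Cm Q V X ∧ ω ∉ Cm Q V D ∧
    ∀ f ∈ BrG Q V X D, f ∈ Cm Q V X → f ∈ V ∨ ω⁻¹ * f ∈ V := by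
  have := h.toMd.normal
  let _ := h.toMd.qa
  obtain ⟨ω, h1, h2, h4, h5⟩ := h.sp.exists_omega h3
  obtain ⟨w, h6, rfl⟩ := h.toMd.exists_BrG h.mx.le h1
  rw [inf_idem] at h6
  refine ⟨w, h6, (h.toMd.mem_CC h.mx.le w).1 h2, fun c => h4 ((h.toMd.mem_CC le_rfl w).2 c), fun f hf h7 => ?_⟩
  rcases h5 _ (h.toMd.mem_Br h.mx.le le_rfl (w := ⟨f, h7.1⟩) hf) ((h.toMd.mem_CC h.mx.le _).2 h7) with h8 | h8
  · exact Or.inl ((QuotientGroup.eq_one_iff (⟨f, h7.1⟩ : Q)).1 h8)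
  · exact Or.inr ((QuotientGroup.eq (a := w) (b := ⟨f, h7.1⟩)).1 h8.symm)

/-- **the affine lemma** -/
theorem aff {b : Ω} (hb : Q ⊓ stabilizer G b = V) (hX : X ≤ stabilizer G b)
    (cov : ∀ w ∈ Q, ∃ P ∈ Cjs D X, P ≤ stabilizer G (w • b)) : ∃ z ∈ Cm Q V X, D ≤ stabilizer G (z • b) := by
  by_contra hc
  push Not at hc
  have hXQ : ∀ k ∈ X, cj k Q = Q := fun k hk => h.nQ k (h.mx.le hk)
  obtain ⟨n, hn⟩ := h.exists_pow
  have hq := h.two_le hn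
  let A : Set (Subgroup G) := {P ∈ Cjs D X | ∃ c ∈ Orb Q b, P ≤ stabilizer G c}
  have hZ := ncard_Orb_reg hb (h.toMd.V_le_Cm h.mx.le) Cm_le
  have h1 : (Orb Q b).ncard = A.ncard * (Orb (Cm Q V X) b).ncard :=
    ncard_eq_mul (finite_Orb _ _) (Set.toFinite _) (fun P => Orb Q b ∩ Fx P)
      (by
        rintro _ ⟨w, hw, rfl⟩
        obtain ⟨P, hP, h2⟩ := cov w hw
        exact ⟨P, ⟨hP, _, ⟨w, hw, rfl⟩, h2⟩, ⟨w, hw, rfl⟩, h2⟩)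
      (fun _ _ => Set.inter_subset_left)
      (by
        rintro P hP P' hP' _ ⟨⟨w, hw, rfl⟩, h2⟩ h3
        by_contra hne
        have h4 := h.two hP.1 hP'.1 hne h2 h3.2
        exact hc w ((mem_Cm_iff hb h.nm hX hXQ).2 ⟨hw, h.mx.le.trans h4⟩) h4)
      (by
        rintro P ⟨hP, _, ⟨w, hw, rfl⟩, h2⟩
        have h3 := reg_smul hb h.nm hw
        have h4 := le_of_mem_Cjs h.mx.le hP
        rw [← Orb_eq (L := Q) ⟨w, hw, rfl⟩, Orb_inter_Fx h3 h.nm h2 fun k hk => h.nQ k (h4 hk)]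
        have h5 := ncard_Orb_reg h3 (h.toMd.V_le_Cm h4) Cm_le
        rw [((h.of_mem hP).card (q := p ^ n) (by rw [nS, Cjs_eq_of_mem hP]; exact hn)).1, ← (h.card hn).1, ← hZ] at h5
        exact Nat.eq_of_mul_eq_mul_right Nat.card_pos h5)
  have h2 := ncard_Orb_reg hb h.toMd.V_le le_rfl
  rw [h1, mul_assoc, hZ, (h.card hn).1, (h.card hn).2, ← mul_assoc] at h2
  have h3 : A.ncard = p ^ n :=
    Nat.eq_of_mul_eq_mul_right (by omega) (Nat.eq_of_mul_eq_mul_right Nat.card_pos h2)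
  have hXA : X ∈ A := ⟨self_mem_Cjs D X, b, self_mem_Orb _ _, hX⟩
  obtain ⟨P, hP, hne⟩ := Set.exists_ne_of_one_lt_ncard (s := A) (by omega) X
  have h4 : A = Cjs D X := Set.Subset.antisymm (fun _ h => h.1) fun R hR => by
    by_cases h5 : R = X
    · rwa [h5]
    obtain ⟨x, hx, rfl⟩ := h.spl P hP.1 hne R hR h5
    obtain ⟨c, hc1, hc2⟩ := hP.2
    exact ⟨hR, x • c, smul_mem_Orb_nm (hXQ x hx) ((show x • b = b from hX hx).symm ▸ self_mem_Orb _ _) hc1,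
      cj_le_stab.2 hc2⟩
  rw [h4] at h3
  have h5 : nS D X = p ^ n := h3
  omega

end Ac

end Cfsg.Agent.TH.Own
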