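import Mathlib
import Cfsg.Agent.TH.Own.Mod

/-!
# S3541, `BoxOwn`: modules of the groups `D J`, existence (helper74)
-/

set_option autoImplicit false
set_option linter.unusedSectionVars false
set_option linter.unusedVariables false

namespace Cfsg.Agent.TH.Own

open MulAction

variable {G : Type*} [Group G] {p : ℕ} {Ω : Type*} [MulAction G Ω] {I : Type*}

variable (Ω) in
/-- `Q / V` is semiregular on the fixed points of `V` -/
def Semi (V Q : Subgroup G) : Prop := ∀ b : Ω, V ≤ stabilizer G b → Q ⊓ stabilizer G b = V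

theorem Semi.mono {V Q M : Subgroup G} (h : Semi Ω V Q) (h1 : V ≤ M) (h2 : M ≤ Q) : Semi Ω V M :=
  fun b hb => reg_mono (h b hb) h1 h2

/-- the node `j` is active in the module `Q / V` -/
def PS.Act (S : PS G p I) (V Q : Subgroup G) (j : I) : Prop := ¬ Cm Q V S.X ≤ Cm Q V (S.D {j})

theorem PS.Act.cj {S : PS G p I} {V Q : Subgroup G} {j k : I} (h : S.Act V Q j) {g : G} (h1 : TH.cj g S.X = S.X)
    (h2 : TH.cj g (S.D {j}) = S.D {k}) : S.Act (TH.cj g V) (TH.cj g Q) k := fun h3 => by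
  rw [← h1, ← h2, ← cj_Cm, ← cj_Cm, cj_le_cj_iff] at h3
  exact h h3

variable [Finite G] [hp : Fact p.Prime]

theorem PS.exists_Syl_of_fix (S : PS G p I) {c : Ω} {P K : Subgroup G} (hP : P ∈ S.Syl Set.univ)
    (h1 : P ≤ stabilizer G c) (hK : IsPGroup p K) (h2 : K ≤ S.D Set.univ) (h3 : K ≤ stabilizer G c) :
    ∃ R ∈ S.Syl Set.univ, K ≤ R ∧ R ≤ stabilizer G c := by
  obtain ⟨g, hg, h4⟩ := ((S.maxP_Syl hP).mono (L' := S.D Set.univ ⊓ stabilizer G c) (le_inf (S.Syl_le hP) h1)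
    inf_le_left).exists_cj hK (le_inf h2 h3)
  exact ⟨_, cj_mem_Cjs hg.1 hP, h4, (cj_mono g h1).trans (cj_of_mem hg.2).le⟩

theorem PS.At.exists_Syl_V {T : Subgroup G} {m : ℕ} {a : Ω} {S : PS G p I} (h : S.At T a) (A : Amb Ω T p m) {L : Set I}
    {b : Ω} (hb : S.V L ≤ stabilizer G b) : ∃ P ∈ S.Syl L, P ≤ stabilizer G b := by
  obtain ⟨P, hP, h1, h2⟩ := h.exists_Syl A (S.V_isP L) ((S.V_le L).trans (S.X_le _)) hb
  exact ⟨P, S.vx L P hP h1, h2⟩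

namespace Md

variable {S : PS G p I} {a : Ω} {J : Set I} {V Q : Subgroup G} (h : Md p a (S.D J) S.X V Q)

include h

theorem mem_X {w : G} : w ∈ Cm Q V S.X ↔ w ∈ Q ∧ S.X ≤ stabilizer G (w • a) := h.mem_Cm (S.X_le J)

theorem mem_D {L : Set I} (hL : L ⊆ J) {w : G} : w ∈ Cm Q V (S.D L) ↔ w ∈ Q ∧ S.D L ≤ stabilizer G (w • a) :=
  h.mem_Cm (S.mono hL)

theorem mem_D_of {L : Set I} (hL : L ⊆ J) {w : G} (h1 : w ∈ Cm Q V S.X) (h2 : ∀ i ∈ L, w ∈ Cm Q V (S.D {i})) :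
    w ∈ Cm Q V (S.D L) :=
  (h.mem_D hL).2 ⟨h1.1, S.D_le (h.mem_X.1 h1).2 fun i hi =>
    ((h.mem_D (Set.singleton_subset_iff.2 (hL hi))).1 (h2 i hi)).2⟩

/-- restriction to a subset of the nodes -/
theorem restrict {L : Set I} (hL : L ⊆ J) : Md p a (S.D L) S.X V (Cm Q V (S.V L)) where
  isP := h.isP.to_le Cm_le
  reg := reg_mono h.reg (h.V_le_Cm ((S.V_le L).trans (S.X_le J))) Cm_le
  nm w hw := hw.2.1
  fix := (S.mono hL).trans h.fix
  nQ g hg := nm_Cm (h.nQ g (S.mono hL hg)) (h.nV (S.mono hL hg)) (S.nm_V hg)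
  cov w hw := by
    obtain ⟨P, hP, h1⟩ := h.cov w hw.1
    obtain ⟨R, hR, h2, h3⟩ := S.exists_Syl_of_fix (S.Syl_mono (Set.subset_univ J) hP) h1 (S.V_isP L)
      ((S.V_le L).trans (S.X_le _)) ((h.mem_Cm ((S.V_le L).trans (S.X_le J))).1 hw).2
    exact ⟨R, S.vx L R hR h2, h3⟩

theorem exists_act (h1 : ¬ Cm Q V S.X ≤ Cm Q V (S.D J)) : ∃ j ∈ J, S.Act V Q j := by
  by_contra h2
  push Not at h2
  exact h1 fun w hw => h.mem_D_of subset_rfl hw fun i hi => not_not.1 (h2 i hi) hw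

/-- if no node is active then `D J` is trivial on `Q / V` -/
theorem eq_of_not_act (h1 : ∀ j ∈ J, ¬ S.Act V Q j) : Cm Q V (S.D J) = Q :=
  h.eq_of_pas (S.X_le J) (by_contra fun h2 => by
    obtain ⟨j, hj, h3⟩ := h.exists_act h2
    exact h1 j hj h3)

theorem ac {j : I} (hj : j ∈ J) (h1 : S.Split j) (h2 : S.Act V Q j) :
    Ac p a (S.D {j}) S.X V (Cm Q V (S.V {j})) where
  toMd := h.restrict (Set.singleton_subset_iff.2 hj)
  mx := S.maxD _
  spl := h1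
  gen := S.gen _
  act := by rwa [Cm_Cm (S.V_le _), Cm_Cm ((S.V_le _).trans (S.X_le _))]

theorem card_X {j : I} (hj : j ∈ J) (h1 : S.Split j) (h2 : S.Act V Q j) {q : ℕ} (hq : S.W {j} = q + 1) :
    Nat.card (Cm Q V S.X) = q * Nat.card (Cm Q V (S.D {j})) ∧
      Nat.card (Cm Q V (S.V {j})) = q * q * Nat.card (Cm Q V (S.D {j})) := by
  have h3 := (h.ac hj h1 h2).card hq
  rwa [Cm_Cm (S.V_le _), Cm_Cm ((S.V_le _).trans (S.X_le _))] at h3

/-- the affine lemma -/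
theorem aff {T : Subgroup G} {m : ℕ} (hS : S.At T a) (A : Amb Ω T p m) (hs : Semi Ω V Q) {j : I} (hj : j ∈ J)
    (h1 : S.Split j) (h2 : S.Act V Q j) {b : Ω} (hX : S.X ≤ stabilizer G b) (hV : V ≤ stabilizer G b) :
    ∃ z ∈ Cm Q V S.X, S.D {j} ≤ stabilizer G (z • b) := by
  have h3 := h.ac hj h1 h2
  have h4 := (h.ac hj h1 h2).aff (hs.mono h3.toMd.V_le Cm_le b hV) hX fun w hw => hS.exists_Syl_V A
    ((mem_Cm_iff (hs b hV) h.nm ((S.V_le _).trans hX) fun k hk => h.nQ k (S.X_le J (S.V_le _ hk))).1 hw).2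
  rwa [Cm_Cm (S.V_le _)] at h4

theorem cntK {j : I} (hj : j ∈ J) {K : Subgroup G} (h1 : S.V {j} ≤ K) (h2 : K ≤ S.X) :
    Nat.card (Cm Q V K) + {P ∈ S.Syl {j} | K ≤ P}.ncard * Nat.card (Cm Q V (S.D {j})) =
      {P ∈ S.Syl {j} | K ≤ P}.ncard * Nat.card (Cm Q V S.X) + Nat.card (Cm Q V (S.D {j})) := by
  have hD : S.D {j} ≤ S.D J := S.mono (Set.singleton_subset_iff.2 hj)
  have hK : K ≤ S.D J := h2.trans (S.X_le J)
  have h3 : ((Cm Q V K : Set G) \ Cm Q V (S.D {j})).ncard =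
      {P ∈ S.Syl {j} | K ≤ P}.ncard * ((Cm Q V S.X : Set G) \ Cm Q V (S.D {j})).ncard :=
    ncard_eq_mul (Set.toFinite _) (Set.toFinite _) (fun P => (Cm Q V P : Set G) \ Cm Q V (S.D {j}))
      (fun w hw => by
        obtain ⟨P, hP, h4⟩ := h.cov w hw.1.1
        obtain ⟨R, hR, h5, h6⟩ := S.exists_Syl_of_fix (S.Syl_mono (Set.subset_univ J) hP) h4 (S.isP.to_le h2)
          (h2.trans (S.X_le _)) ((h.mem_Cm hK).1 hw.1).2
        have h7 := S.vx _ R hR (h1.trans h5)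
        exact ⟨R, ⟨h7, h5⟩, (h.mem_Cm ((S.Syl_le h7).trans hD)).2 ⟨hw.1.1, h6⟩, hw.2⟩)
      (fun P hP w hw => ⟨Cm_anti hP.2 hw.1, hw.2⟩)
      (fun P hP P' hP' w hw hw' => by_contra fun hne => hw.2 ((h.mem_Cm hD).2 ⟨hw.1.1,
        S.D_le_of_two' hP.1 hP'.1 hne ((h.mem_Cm ((S.Syl_le hP.1).trans hD)).1 hw.1).2
          ((h.mem_Cm ((S.Syl_le hP'.1).trans hD)).1 hw'.1).2⟩))
      (by
        rintro _ ⟨⟨e, he, rfl⟩, -⟩
        have h4 := cj_Cm (Q := Q) (V := V) (K := S.X) e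
        have h5 := cj_Cm (Q := Q) (V := V) (K := S.D {j}) e
        rw [h.nQ e (hD he), h.nV (hD he)] at h4 h5
        rw [cj_of_mem he] at h5
        rw [← h4]
        conv_lhs => rw [← h5]
        exact (congrArg Set.ncard (Set.image_sdiff (MulAut.conj e).injective _ _).symm).trans
          (Set.ncard_image_of_injective _ (MulAut.conj e).injective))
  have h4 := Set.ncard_sdiff_add_ncard_of_subset (s := (Cm Q V (S.D {j}) : Set G)) (t := (Cm Q V K : Set G))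
    (Cm_anti (h2.trans (S.X_le _)))
  have h5 := Set.ncard_sdiff_add_ncard_of_subset (s := (Cm Q V (S.D {j}) : Set G)) (t := (Cm Q V S.X : Set G))
    (Cm_anti (S.X_le _))
  have e : ∀ K : Subgroup G, Nat.card K = (K : Set G).ncard := fun K => Nat.card_coe_set_eq (K : Set G)
  rw [e, e, e, ← h4, ← h5, h3]
  ring

theorem dvd_iff_of_act {j : I} (hj : j ∈ J) (h0 : S.Act V Q j) :
    ∃ b, ∀ K, S.V {j} ≤ K → K ≤ S.X → ∀ c, ¬ p ^ c ∣ {P ∈ S.Syl {j} | K ≤ P}.ncard - 1 ↔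
      (b < c ∧ {P ∈ S.Syl {j} | K ≤ P}.ncard ≠ 1) := by
  obtain ⟨b, hb⟩ := relIndex_eq_pow (A := Cm Q V (S.D {j})) (h.isP.to_le (Cm_le (V := V) (K := S.X)))
  have h1 := card_mul_relIndex (Cm_anti (Q := Q) (V := V) (S.X_le {j}))
  have hb0 : 0 < b := Nat.pos_of_ne_zero (by
    rintro rfl
    rw [pow_zero, Subgroup.relIndex_eq_one] at hb
    exact h0 hb)
  refine ⟨b, fun K h2 h3 c => ?_⟩
  obtain ⟨y, hy⟩ := relIndex_eq_pow (A := Cm Q V (S.D {j})) (h.isP.to_le (Cm_le (V := V) (K := K)))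
  have h4 := card_mul_relIndex (Cm_anti (Q := Q) (V := V) (h3.trans (S.X_le {j})))
  have h5 := h.cntK hj h2 h3
  have h6 : 0 < {P ∈ S.Syl {j} | K ≤ P}.ncard := (Set.ncard_pos (Set.toFinite _)).2 ⟨_, S.X_mem _, h3⟩
  generalize {P ∈ S.Syl {j} | K ≤ P}.ncard = r at h5 h6
  obtain ⟨s, rfl⟩ : ∃ s, r = s + 1 := ⟨r - 1, by omega⟩
  rw [← h4, ← h1, hy, hb] at h5
  have h7 : p ^ y + s = s * p ^ b + p ^ b :=
    Nat.eq_of_mul_eq_mul_left (Nat.card_pos (α := Cm Q V (S.D {j}))) (by linarith)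
  rw [Nat.add_sub_cancel]
  rcases Nat.eq_zero_or_pos s with rfl | hs
  · simp
  · rw [arith_val hp.1 hb0 hs h7 c]
    omega

end Md

/-- a node which is not split is never active -/
theorem FS.split_of_act {F : FS G p I} {a : Ω} {J : Set I} {V Q : Subgroup G} (h : Md p a (F.D J) F.X V Q) {j : I}
    (hj : j ∈ J) (h0 : F.toPS.Act V Q j) : F.toPS.Split j := by
  by_contra h1
  obtain ⟨K, c, h2, h3, h4, h5⟩ := F.multi j h1
  obtain ⟨b, hb⟩ := Md.dvd_iff_of_act (S := F.toPS) h hj h0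
  have h6 : {P ∈ F.toPS.Syl {j} | F.toPS.V {j} ≤ P} = F.toPS.Syl {j} :=
    Set.sep_eq_self_iff_mem_true.2 fun P hP => rad_le hP
  have h7 := hb _ le_rfl (F.toPS.V_le _) c
  rw [h6] at h7
  have h8 := F.toPS.three_le j
  exact h7.2 ⟨((hb K h2 h3 c).1 h5).1, fun h9 => by
    have h10 : F.toPS.W {j} = 1 := h9
    omega⟩ h4

section Ex

variable {T : Subgroup G} {m : ℕ} {a : Ω}

/-- Borel–Tits for a clean subgroup -/
theorem Amb.exists_Q (A : Amb Ω T p m) {V : Subgroup G} (h0 : V ≠ ⊥) (hV : IsPGroup p V) (h1 : V ≤ T)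
    (h2 : V ≤ stabilizer G a) (clean : ∀ P : Subgroup G, IsPGroup p P → P ≤ T → P ≤ stabilizer G a → V ≤ P →
      (∀ g : G, g • a = a → cj g V = V → cj g P = P) → P ≤ V) :
    ∃ Q : Subgroup G, IsPGroup p Q ∧ Q ≤ T ∧ Q ⊓ stabilizer G a = V ∧ (∀ w ∈ Q, cj w V = V) ∧ ¬ Q ≤ V ∧
      ∀ g : G, cj g V = V → cj g Q = Q := by
  obtain ⟨Q, hQ, h3, h4, h5, h6⟩ := A.gt a V h0 hV h1 h2
  have h7 : Q ⊓ stabilizer G a = V := le_antisymm (clean _ (hQ.to_le inf_le_left) (inf_le_left.trans h3) inf_le_right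
    (le_inf h4 h2) fun g hg hg' => nm_inf (h5 g hg') (nm_stab hg)) (le_inf h4 h2)
  obtain ⟨w, hw, h8, h9⟩ := exists_nm_of_lt hQ h4 fun h => h6 (h.trans h2)
  refine ⟨Q ⊓ Subgroup.normalizer (V : Set G), hQ.to_le inf_le_left, inf_le_left.trans h3,
    reg_mono h7 (le_inf h4 Subgroup.le_normalizer) inf_le_left, fun w hw => nm_iff.1 hw.2,
    fun h => h8 (h ⟨hw, nm_iff.2 h9⟩), fun g hg => nm_inf (h5 g hg) (by rw [cj_normalizer, hg])⟩

/-- the `Q`-trick -/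
theorem reg_of_nm {V Q R : Subgroup G} (hQ : IsPGroup p Q) (h1 : Q ≤ T) (h2 : Q ⊓ stabilizer G a = V) {b : Ω}
    (hb : V ≤ stabilizer G b) (hR : MaxP p (T ⊓ stabilizer G b) R) (h3 : R ≤ stabilizer G a)
    (h4 : ∀ g ∈ R, cj g Q = Q) : Q ⊓ stabilizer G b = V :=
  le_antisymm ((le_inf inf_le_left ((hR.le_of_nm (hQ.to_le inf_le_left) (inf_le_inf_right _ h1)
    fun g hg => nm_inf (h4 g hg) (nm_stab (hR.le hg).2)).trans h3)).trans h2.le) (le_inf (h2.ge.trans inf_le_left) hb)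

theorem mem_Np {X : Subgroup G} {g : G} (h1 : g ∈ T) (h2 : g • a = a) (h3 : cj g X = X) {n : ℕ} (h4 : g ^ p ^ n = 1) :
    g ∈ Np p T a X := Subgroup.subset_closure ⟨h1, h2, h3, n, h4⟩

theorem Np_le (X : Subgroup G) : Np p T a X ≤ T ⊓ stabilizer G a ⊓ Subgroup.normalizer (X : Set G) :=
  (Subgroup.closure_le _).2 fun _ h => ⟨⟨h.1, h.2.1⟩, nm_iff.2 h.2.2.1⟩

theorem Np_T {X : Subgroup G} {g : G} (h : g ∈ Np p T a X) : g ∈ T := (Np_le X h).1.1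

theorem Np_fix {X : Subgroup G} {g : G} (h : g ∈ Np p T a X) : g • a = a := (Np_le X h).1.2

theorem Np_nm {X : Subgroup G} {g : G} (h : g ∈ Np p T a X) : cj g X = X := nm_iff.1 (Np_le X h).2

theorem nm_Np [hT : T.Normal] {X : Subgroup G} {g : G} (h1 : g • a = a) (h2 : cj g X = X) :
    cj g (Np p T a X) = Np p T a X :=
  nm_of_le ((cj_le_iff g).2 ((Subgroup.closure_le _).2 fun x ⟨h3, h4, h5, n, h6⟩ => mem_cj.2 (by
    rw [inv_inv]
    refine mem_Np (hT.conj_mem x h3 g) ?_ (nm_mul (nm_mul h2 h5) (nm_inv h2)) (n := n) (by rw [conj_pow, h6]; simp)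
    rw [mul_smul, mul_smul, inv_smul_eq_iff.2 h1.symm, h4, h1])))

theorem PS.At.le_Np {S : PS G p I} (h : S.At T a) {P : Subgroup G} (hP : IsPGroup p P) (h1 : P ≤ T)
    (h2 : P ≤ stabilizer G a) (h3 : S.X ≤ P) : P ≤ Np p T a S.X := fun g hg => by
  obtain ⟨n, hn⟩ := exists_pow_of_isP hP hg
  exact mem_Np (h1 hg) (h2 hg) (h.nm_of_le hP h2 (S.X_mem ∅) h3 hg) hn

theorem PS.At.X_le_Np {S : PS G p I} (h : S.At T a) : S.X ≤ Np p T a S.X := h.le_Np S.isP h.X_T h.X_fix le_rfl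

/-- a `p`-subgroup of `T_a` normalised by `Np` lies in `X` -/
theorem FS.At.le_X [hT : T.Normal] {F : FS G p I} (h : F.At T a) {P : Subgroup G} (hP : IsPGroup p P) (h1 : P ≤ T)
    (h2 : P ≤ stabilizer G a) (h3 : ∀ g ∈ Np p T a F.X, cj g P = P) : P ≤ F.X := by
  have h4 : P ≤ Np p T a F.X := le_sup_right.trans (h.toAt.le_Np
    (isP_sup F.isP hP fun x hx => h3 x (h.toAt.X_le_Np hx)) (sup_le h.toAt.X_T h1) (sup_le h.toAt.X_fix h2) le_sup_left)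
  obtain ⟨h5, h6, -⟩ := Op_spec (p := p) (Np p T a F.X)
  exact (le_Op h4 hP h3).trans (h.maxX _ h6 (fun g hg => Np_T (h5 hg)) (fun g hg => Np_fix (h5 hg))
    (fun g hg => Np_nm (h5 hg)) fun g _ hg hg' => nm_Op (nm_Np hg hg'))

/-- **existence (i)**: `J` is invariant under `Np` -/
theorem FS.At.exists_md {F : FS G p I} (h : F.At T a) (A : Amb Ω T p m) {J : Set I} (hJ : J ≠ Set.univ)
    (inv : ∀ g ∈ Np p T a F.X, cj g (F.D J) = F.D J) :
    ∃ Q : Subgroup G, Md p a (F.D J) F.X (F.toPS.V J) Q ∧ Q ≤ T ∧ ¬ Q ≤ F.toPS.V J ∧ Semi Ω (F.toPS.V J) Q ∧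
      ∀ g : G, cj g (F.toPS.V J) = F.toPS.V J → cj g Q = Q := by
  have := A.nrm
  have hN : ∀ g ∈ Np p T a F.X, cj g (F.toPS.V J) = F.toPS.V J := fun g hg => nm_rad' (inv g hg) (Np_nm hg)
  obtain ⟨Q, hQ, h1, h2, h3, h4, h5⟩ := A.exists_Q (a := a) (F.toPS.V_ne_bot hJ) (F.toPS.V_isP J)
    ((F.toPS.V_le J).trans h.toAt.X_T) ((F.toPS.V_le J).trans h.toAt.X_fix) fun P hP h1 h2 _ h4 =>
      le_rad (h.le_X hP h1 h2 fun g hg => h4 g (Np_fix hg) (hN g hg))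
        fun g hg => h4 g (h.toAt.D_fix J hg) (F.toPS.nm_V hg)
  refine ⟨Q, ⟨hQ, h2, h3, h.toAt.D_fix J, fun g hg => h5 g (F.toPS.nm_V hg), fun w hw => h.toAt.exists_Syl_V A
    (le_stab_smul (h3 w hw) ((F.toPS.V_le J).trans h.toAt.X_fix))⟩, h1, h4, fun b hb => ?_, h5⟩
  obtain ⟨R, h6, h7, h8⟩ := A.exists_S a b (F.toPS.V_isP J) ((F.toPS.V_le J).trans h.toAt.X_T)
    ((F.toPS.V_le J).trans h.toAt.X_fix) hb
  refine reg_of_nm hQ h1 h2 hb h8 (h7.le.trans inf_le_right) fun g hg => h5 g ?_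
  obtain ⟨e, he, h9⟩ := F.vx J _ (h.toAt.inf_mem h7) (le_inf h6 ((F.toPS.V_le J).trans (F.toPS.X_le _)))
  have h10 : cj e⁻¹ R ≤ Np p T a F.X := h.toAt.le_Np (isPGroup_cj h7.isP _)
    ((cj_mono _ (h7.le.trans inf_le_left)).trans (cj_normal _ T).le)
    ((cj_mono _ (h7.le.trans inf_le_right)).trans (cj_of_mem (inv_mem (h.toAt.D_fix J he))).le)
    ((cj_le_iff e).1 (h9 ▸ inf_le_left))
  have h11 := hN _ (h10 (conj_mem_cj e⁻¹ hg))
  rw [inv_inv, ← nm_cj_iff, F.toPS.nm_V he] at h11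
  exact h11

/-- `C_A(K)` -/
abbrev CA (T : Subgroup G) (a : Ω) (K : Subgroup G) : Subgroup G :=
  T ⊓ stabilizer G a ⊓ Subgroup.centralizer (K : Set G)

theorem nm_CA [hT : T.Normal] {K : Subgroup G} {g : G} (h1 : g • a = a) (h2 : cj g K = K) :
    cj g (CA T a K) = CA T a K :=
  nm_inf (nm_inf (cj_normal g T) (nm_stab h1)) (by rw [cj_centralizer, h2])

theorem nm_of_CA {K V : Subgroup G} (h : V ≤ CA T a K) {g : G} (hg : g ∈ K) : cj g V = V :=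
  nm_of_comm fun _ hx => (h hx).2 g hg

/-- a `p`-subgroup of `G_a` normalised by `D univ` centralises it -/
theorem PS.At.comm_of_nm {S : PS G p I} (h : S.At T a) (A : Amb Ω T p m) {P : Subgroup G} (hP : IsPGroup p P)
    (h2 : P ≤ stabilizer G a) (h3 : ∀ g ∈ S.D Set.univ, cj g P = P) :
    P ≤ Subgroup.centralizer (S.D Set.univ : Set G) := fun x hx e he => by
  have h4 := h.eq_bot_of_nm A (P := P ⊓ S.D Set.univ) (hP.to_le inf_le_left) inf_le_right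
    fun g hg => nm_inf (h3 g hg) (cj_of_mem hg)
  have h5 : e * x * e⁻¹ * x⁻¹ ∈ P ⊓ S.D Set.univ := Subgroup.mem_inf.2 ⟨mul_mem (nm_conj (h3 e he) hx) (inv_mem hx), by
    have h6 := mul_mem (show e ∈ S.D Set.univ from he) (nm_conj (h.nrmH x (h2 hx)) (inv_mem he))
    rwa [← mul_assoc, ← mul_assoc] at h6⟩
  rwa [h4, Subgroup.mem_bot, mul_inv_eq_one, mul_inv_eq_iff_eq_mul] at h5

/-- **existence (ii)**: `V` is a Sylow subgroup of the centraliser of `D univ` -/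
theorem PS.At.exists_md {S : PS G p I} (h : S.At T a) (A : Amb Ω T p m) {V : Subgroup G}
    (hV : MaxP p (CA T a (S.D Set.univ)) V) (h0 : V ≠ ⊥) :
    ∃ Q : Subgroup G, Md p a (S.D Set.univ) S.X V Q ∧ Q ≤ T ∧ ¬ Q ≤ V ∧ Semi Ω V Q ∧
      ∀ g : G, cj g V = V → cj g Q = Q := by
  have := A.nrm
  have hT : V ≤ T := hV.le.trans (inf_le_left.trans inf_le_left)
  have ha : V ≤ stabilizer G a := hV.le.trans (inf_le_left.trans inf_le_right)
  obtain ⟨Q, hQ, h1, h2, h3, h4, h5⟩ := A.exists_Q (a := a) h0 hV.isP hT ha fun P hP h1 h2 h3 h4 =>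
    (hV.max P hP (le_inf (le_inf h1 h2) (h.comm_of_nm A hP h2 fun g hg => h4 g (h.fix hg) (nm_of_CA hV.le hg))) h3).le
  refine ⟨Q, ⟨hQ, h2, h3, h.fix, fun g hg => h5 g (nm_of_CA hV.le hg), fun w hw => ?_⟩, h1, h4, fun b hb => ?_, h5⟩
  · obtain ⟨P, hP, -, h6⟩ := h.exists_Syl A (b := w • a) (K := ⊥) IsPGroup.of_bot bot_le bot_le
    exact ⟨P, hP, h6⟩
  obtain ⟨R, h6, h7, h8⟩ := A.exists_S a b hV.isP hT ha hb
  refine reg_of_nm hQ h1 h2 hb h8 (h7.le.trans inf_le_right) fun g hg => h5 g ?_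
  rw [← hV.max (R ⊓ CA T a (S.D Set.univ)) (h7.isP.to_le inf_le_left) inf_le_right (le_inf h6 hV.le)]
  exact nm_inf (cj_of_mem hg) (nm_CA (h7.le hg).2 (h.nrmH g (h7.le hg).2))

/-- the subgroup generated by the `p'`-elements -/
def Opp (p : ℕ) (L : Subgroup G) : Subgroup G := Subgroup.closure {g | g ∈ L ∧ Nat.Coprime p (orderOf g)}

theorem Opp_le (L : Subgroup G) : Opp p L ≤ L := (Subgroup.closure_le _).2 fun _ h => h.1

theorem nm_Opp {L : Subgroup G} {g : G} (hg : cj g L = L) : cj g (Opp p L) = Opp p L :=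
  nm_of_le ((cj_le_iff g).2 ((Subgroup.closure_le _).2 fun x hx => mem_cj.2 (by
    rw [inv_inv]
    exact Subgroup.subset_closure ⟨nm_conj hg hx.1, by
      rw [show g * x * g⁻¹ = MulAut.conj g x from rfl, MulEquiv.orderOf_eq]; exact hx.2⟩)))

theorem Opp_sup {D V : Subgroup G} (hV : IsPGroup p V) (h : ∀ v ∈ V, cj v D = D) : Opp p (D ⊔ V) = Opp p D := by
  refine le_antisymm (Subgroup.closure_mono fun g hg => ⟨?_, hg.2⟩) (Subgroup.closure_mono fun g hg =>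
    ⟨Subgroup.mem_sup_left hg.1, hg.2⟩)
  obtain ⟨d, hd, v, hv, rfl⟩ := mem_sup_nm' h (sup_comm D V ▸ hg.1)
  obtain ⟨n, hn⟩ := exists_pow_of_isP hV hv
  have h1 : ∀ k : ℕ, (d * v) ^ k * (v ^ k)⁻¹ ∈ D := fun k => by
    induction k with
    | zero => simp
    | succ k ih =>
      have h2 := mul_mem hd (nm_conj (h v hv) ih)
      rwa [show d * (v * ((d * v) ^ k * (v ^ k)⁻¹) * v⁻¹) = (d * v) ^ (k + 1) * (v ^ (k + 1))⁻¹ by
        rw [pow_succ' (d * v), pow_succ' v]; group] at h2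
  have h2 := h1 (p ^ n)
  rw [hn, inv_one, mul_one] at h2
  obtain ⟨k, hk⟩ := exists_pow_eq_self_of_coprime (Nat.Coprime.pow_left n hg.2)
  rw [← hk]
  exact pow_mem h2 k

theorem isP_of_Opp {L : Subgroup G} (h : Opp p L = ⊥) : IsPGroup p L := fun g => by
  obtain ⟨n, r, hr, h1⟩ := Nat.exists_eq_pow_mul_and_not_dvd (orderOf_pos (g : G)).ne' p hp.1.ne_one
  refine ⟨n, Subtype.ext ?_⟩
  have h2 : (g : G) ^ p ^ n ∈ Opp p L := Subgroup.subset_closure ⟨pow_mem g.2 _,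
    Nat.Coprime.coprime_dvd_right (orderOf_dvd_of_pow_eq_one (n := r) (by rw [← pow_mul, ← h1, pow_orderOf_eq_one]))
      ((Nat.Prime.coprime_iff_not_dvd hp.1).2 hr)⟩
  rwa [h, Subgroup.mem_bot] at h2

theorem PS.not_isP (S : PS G p I) (i : I) : ¬ IsPGroup p (S.D {i}) := fun h =>
  Set.singleton_ne_empty i (S.D_inj (((S.maxD {i}).max _ h le_rfl (S.X_le _)).trans S.D_empty.symm))

/-- the normaliser of `D univ ⊔ V` fixes `a` -/
theorem PS.At.smul_eq_of_sup {S : PS G p I} (h : S.At T a) (A : Amb Ω T p m) {V : Subgroup G} (hV : IsPGroup p V)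
    (h1 : V ≤ stabilizer G a) {w : G} (hw : cj w (S.D Set.univ ⊔ V) = S.D Set.univ ⊔ V) : w • a = a := by
  obtain ⟨i, -⟩ := S.endn
  refine A.smul_eq_of_nm (N := Opp p (S.D Set.univ)) (fun h2 => S.not_isP i ((isP_of_Opp h2).to_le (S.le_univ _)))
    ((Opp_le _).trans h.fix) (fun g hg => nm_Opp (h.nrmH g hg)) ?_
  rw [← Opp_sup hV fun v hv => h.nrmH v (h1 hv)]
  exact nm_Opp hw

/-- a module of `D univ` is active -/
theorem Md.exists_act_univ {S : PS G p I} {V Q : Subgroup G} (h : Md p a (S.D Set.univ) S.X V Q) (hS : S.At T a)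
    (A : Amb Ω T p m) (h1 : ¬ Q ≤ V) : ∃ j, S.Act V Q j := by
  by_contra h2
  push Not at h2
  refine h1 fun w hw => h.reg.le ⟨hw, hS.smul_eq_of_sup A (h.isP.to_le h.V_le) h.V_fix (nm_sup_of_Cm (Q := Q) ?_)⟩
  rwa [h.eq_of_not_act fun j _ => h2 j]

end Ex

end Cfsg.Agent.TH.Own
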