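import Mathlib
import Cfsg.Agent.TH.Own.ModPS

/-!
# S3541, `BoxOwn`: the counting lemmas CNT, RANK2, AFF2, PT (helper74)
-/

set_option autoImplicit false
set_option linter.unusedSectionVars false
set_option linter.unusedVariables false

namespace Cfsg.Agent.TH.Own

open MulAction

variable {G : Type*} [Group G] {p : ℕ} {Ω : Type*} [MulAction G Ω] {I : Type*}

theorem sum_ite_eq_ncard {α : Type*} {A : Set α} (hA : A.Finite) (q : α → Prop) [DecidablePred q] :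
    ∑ b ∈ hA.toFinset, (if q b then (1 : ℚ) else 0) = ({b ∈ A | q b}.ncard : ℚ) := by
  rw [Finset.sum_boole, ← Set.ncard_coe_finset]
  congr 2
  ext b
  simp

theorem exists_mul_of_relIndex [Finite G] {A B Z : Subgroup G} (hA : A ≤ Z) (h : B.relIndex A = B.relIndex Z) {z : G}
    (hz : z ∈ Z) : ∃ u ∈ A, ∃ v ∈ B, z = u * v := by
  have h1 : ∀ L : Subgroup G, (Orb L ((1 : G) : G ⧸ B)).ncard = B.relIndex L := fun L => by
    have h2 := ncard_Orb_mul L ((1 : G) : G ⧸ B)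
    rw [show stabilizer G ((1 : G) : G ⧸ B) = B from stabilizer_quotient B,
      ← card_mul_relIndex (inf_le_left : L ⊓ B ≤ L), Subgroup.inf_relIndex_left, mul_comm] at h2
    exact Nat.eq_of_mul_eq_mul_left Nat.card_pos h2
  have h2 : Orb A ((1 : G) : G ⧸ B) = Orb Z ((1 : G) : G ⧸ B) :=
    Set.eq_of_subset_of_ncard_le (fun _ ⟨g, hg, h3⟩ => ⟨g, hA hg, h3⟩) (by rw [h1, h1, h])
  obtain ⟨u, hu, h3⟩ : z • ((1 : G) : G ⧸ B) ∈ Orb A ((1 : G) : G ⧸ B) := h2 ▸ ⟨z, hz, rfl⟩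
  have h4 : ((u * 1 : G) : G ⧸ B) = ((z * 1 : G) : G ⧸ B) := h3
  rw [mul_one, mul_one] at h4
  exact ⟨u, hu, u⁻¹ * z, QuotientGroup.eq.1 h4, by group⟩

theorem arith_rank2 {p a b c n e : ℕ} (hp : p.Prime) (ha : 0 < a) (hb : 0 < b) (hc : c ≤ a + b)
    (he : e = 0 ∨ ¬ p ∣ e) (h : ((p : ℤ) ^ n - 1) * ((p ^ a + 1) * (p ^ b + 1)) =
      ((p ^ a + 1) * (p ^ b + 1) + p ^ a * p ^ b * e) * (p ^ c + 1) * (p ^ a * p ^ b - 1)) : c = a + b ∧ e = 0 := by
  have hp' : Prime (p : ℤ) := Nat.prime_iff_prime_int.1 hp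
  have h1 : (1 : ℤ) < p := by exact_mod_cast hp.one_lt
  have hu : ¬ (p : ℤ) ∣ (p ^ a + 1) * (p ^ b + 1) := fun h2 => by
    rcases hp'.dvd_or_dvd h2 with h3 | h3
    · exact hp'.not_dvd_one ((dvd_add_right (dvd_pow_self _ ha.ne')).1 h3)
    · exact hp'.not_dvd_one ((dvd_add_right (dvd_pow_self _ hb.ne')).1 h3)
  rw [← pow_add] at h
  have h2 : (1 : ℤ) < p ^ (a + b) := one_lt_pow₀ h1 (by omega)
  have h3 : (0 : ℤ) < p ^ c := by positivity
  have h4 : (0 : ℤ) < (p ^ a + 1) * (p ^ b + 1) := by positivity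
  generalize ((p : ℤ) ^ a + 1) * (p ^ b + 1) = u at h hu h4
  have h5 : c < n := (pow_lt_pow_iff_right₀ h1).1 (by
    have h6 : (0 : ℤ) ≤ p ^ (a + b) * e := by positivity
    have h7 : u * (p ^ c + 1) * 1 ≤ (u + p ^ (a + b) * e) * (p ^ c + 1) * (p ^ (a + b) - 1) := by
      gcongr
      · omega
      · omega
    rw [← h] at h7
    nlinarith)
  have h6 : (p : ℤ) ^ (c + 1) ∣ p ^ n := pow_dvd_pow _ h5
  have h7 : c = a + b := by
    by_contra h8
    have h9 : (p : ℤ) ^ (c + 1) ∣ p ^ (a + b) := pow_dvd_pow _ (by omega)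
    have h10 : (p : ℤ) ^ (c + 1) ∣ p ^ c * u := by
      rw [show (p : ℤ) ^ c * u = p ^ (a + b) * ((u + p ^ (a + b) * e) * (p ^ c + 1) - e * (p ^ c + 1)) - p ^ n * u by
        linarith]
      exact dvd_sub (h9.mul_right _) (h6.mul_right _)
    rw [pow_succ] at h10
    exact hu ((mul_dvd_mul_iff_left h3.ne').1 h10)
  refine ⟨h7, he.resolve_right fun h8 => h8 ?_⟩
  rw [← h7] at h
  have h9 : (p : ℤ) ^ (c + 1) ∣ p ^ c * p ^ c := by
    rw [← pow_add]; exact pow_dvd_pow _ (by omega)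
  have h10 : (p : ℤ) ^ (c + 1) ∣ p ^ c * e := by
    rw [show (p : ℤ) ^ c * e = p ^ c * p ^ c * (u + e * p ^ c) - p ^ n * u by linarith]
    exact dvd_sub (h9.mul_right _) (h6.mul_right _)
  rw [pow_succ] at h10
  exact_mod_cast (mul_dvd_mul_iff_left h3.ne').1 h10

variable [Finite G] [hp : Fact p.Prime]

namespace PS

variable (S : PS G p I)

theorem ncard_Syl_fix {L : Set I} {b : Ω} (hb : S.X ≤ stabilizer G b) :
    {P ∈ S.Syl L | P ≤ stabilizer G b}.ncard = S.W (S.typ (stabilizer G b) ∩ L) := by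
  congr 1
  ext P
  exact ⟨fun h => S.mem_Syl_inter (S.mem_Syl_typ hb (S.Syl_mono (Set.subset_univ L) h.1) h.2) h.1,
    fun h => ⟨S.Syl_mono Set.inter_subset_right h,
      (S.Syl_le (S.Syl_mono Set.inter_subset_left h)).trans (S.ov' hb).1⟩⟩

theorem ncard_Syl_smul {L : Set I} {e : G} (he : e ∈ S.D L) (b : Ω) :
    {P ∈ S.Syl L | P ≤ stabilizer G (e • b)}.ncard = {P ∈ S.Syl L | P ≤ stabilizer G b}.ncard := by
  rw [← Set.ncard_image_of_injective {P ∈ S.Syl L | P ≤ stabilizer G b} fun _ _ h => cj_inj e h]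
  congr 1
  ext P
  constructor
  · exact fun h => ⟨cj e⁻¹ P, ⟨cj_mem_Cjs (inv_mem he) h.1, cj_le_stab'.2 (by rw [inv_inv]; exact h.2)⟩, cj_cj_inv e P⟩
  · rintro ⟨R, h, rfl⟩
    exact ⟨cj_mem_Cjs he h.1, cj_le_stab.2 h.2⟩

open Classical in
/-- **CNT** -/
theorem cnt {L : Set I} {Θ : Set Ω} (hfin : Θ.Finite) (inv : ∀ g ∈ S.D L, ∀ b ∈ Θ, g • b ∈ Θ)
    (cov : ∀ b ∈ Θ, ∃ P ∈ S.Syl L, P ≤ stabilizer G b) :
    (Θ.ncard : ℚ) = S.W L * ∑ b ∈ hfin.toFinset,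
      if S.X ≤ stabilizer G b then 1 / (S.W (S.typ (stabilizer G b) ∩ L) : ℚ) else 0 := by
  let n : Ω → ℚ := fun b => {P ∈ S.Syl L | P ≤ stabilizer G b}.ncard
  have h1 : (Θ.ncard : ℚ) = ∑ b ∈ hfin.toFinset, ∑ P ∈ (finite_Cjs (S.D L) S.X).toFinset,
      (if P ≤ stabilizer G b then 1 else 0) * (1 / n b) := by
    rw [Set.ncard_eq_toFinset_card Θ hfin, Finset.card_eq_sum_ones, Nat.cast_sum]
    refine Finset.sum_congr rfl fun b hb => ?_
    rw [← Finset.sum_mul, sum_ite_eq_ncard, Nat.cast_one, mul_one_div_cancel]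
    exact Nat.cast_ne_zero.2 ((Set.ncard_pos (Set.toFinite _)).2 (cov b (hfin.mem_toFinset.1 hb))).ne'
  rw [h1, Finset.sum_comm, show S.W L = (finite_Cjs (S.D L) S.X).toFinset.card from Set.ncard_eq_toFinset_card _ _,
    ← nsmul_eq_mul, ← Finset.sum_const]
  refine Finset.sum_congr rfl fun P hP => ?_
  obtain ⟨e, he, rfl⟩ := (finite_Cjs _ _).mem_toFinset.1 hP
  symm
  refine Finset.sum_equiv (MulAction.toPerm e) (fun b => ?_) fun b hb => ?_
  · rw [hfin.mem_toFinset, hfin.mem_toFinset]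
    exact ⟨inv e he b, fun h => by
      have h2 := inv _ (inv_mem he) _ h
      rwa [MulAction.toPerm_apply, inv_smul_smul] at h2⟩
  · simp only [MulAction.toPerm_apply, cj_le_stab, n, S.ncard_Syl_smul he]
    split_ifs with h
    · rw [S.ncard_Syl_fix h, one_mul]
    · rw [zero_mul]

/-- CNT for two nodes -/
theorem cnt2 {j k : I} (hne : j ≠ k) {Θ : Set Ω} (hfin : Θ.Finite) (inv : ∀ g ∈ S.D {j, k}, ∀ b ∈ Θ, g • b ∈ Θ)
    (cov : ∀ b ∈ Θ, ∃ P ∈ S.Syl {j, k}, P ≤ stabilizer G b) :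
    (Θ.ncard : ℚ) = S.W {j, k} * ((Θ ∩ Fx S.X).ncard + (1 / S.W {j} - 1) * (Θ ∩ Fx (S.D {j})).ncard +
      (1 / S.W {k} - 1) * (Θ ∩ Fx (S.D {k})).ncard +
      (1 / S.W {j, k} - 1 / S.W {j} - 1 / S.W {k} + 1) * (Θ ∩ Fx (S.D {j, k})).ncard) := by
  classical
  rw [S.cnt hfin inv cov]
  congr 1
  have e : ∀ K : Subgroup G, ((Θ ∩ Fx K).ncard : ℚ) = ∑ b ∈ hfin.toFinset, if K ≤ stabilizer G b then 1 else 0 :=
    fun K => (sum_ite_eq_ncard hfin _).symm
  rw [e, e, e, e, Finset.mul_sum, Finset.mul_sum, Finset.mul_sum, ← Finset.sum_add_distrib, ← Finset.sum_add_distrib,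
    ← Finset.sum_add_distrib]
  refine Finset.sum_congr rfl fun b _ => ?_
  have h1 : S.D {j, k} ≤ stabilizer G b ↔ S.D {j} ≤ stabilizer G b ∧ S.D {k} ≤ stabilizer G b := by
    rw [show ({j, k} : Set I) = {j} ∪ {k} from rfl, S.D_union, sup_le_iff]
  by_cases hX : S.X ≤ stabilizer G b
  · by_cases hj : S.D {j} ≤ stabilizer G b <;> by_cases hk : S.D {k} ≤ stabilizer G b
    · have : S.typ (stabilizer G b) ∩ {j, k} = {j, k} := Set.inter_eq_right.2 (Set.pair_subset hj hk)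
      simp only [this, h1, hX, hj, hk, and_self, if_true]
      ring
    · have : S.typ (stabilizer G b) ∩ {j, k} = {j} := by
        ext i
        exact ⟨fun h => h.2.elim id fun h2 => absurd (show i = k from h2 ▸ rfl) fun h3 => hk (h3 ▸ h.1),
          fun h => by rw [show i = j from h]; exact ⟨hj, Or.inl rfl⟩⟩
      simp only [this, h1, hX, hj, hk, and_false, if_true, if_false]
      ring
    · have : S.typ (stabilizer G b) ∩ {j, k} = {k} := by
        ext i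
        exact ⟨fun h => h.2.elim (fun h2 => absurd h2 fun h3 => hj (h3 ▸ h.1)) id,
          fun h => by rw [show i = k from h]; exact ⟨hk, Or.inr rfl⟩⟩
      simp only [this, h1, hX, hj, hk, false_and, if_true, if_false]
      ring
    · have : S.typ (stabilizer G b) ∩ {j, k} = ∅ := Set.eq_empty_of_forall_notMem fun i h =>
        h.2.elim (fun h3 => hj (h3 ▸ h.1)) fun h3 => hk ((show i = k from h3) ▸ h.1)
      simp only [this, S.W_empty, h1, hX, hj, hk, and_self, if_true, if_false]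
      ring
  · have h2 : ∀ J, ¬ S.D J ≤ stabilizer G b := fun J h => hX ((S.X_le J).trans h)
    simp only [hX, h2, if_false]
    ring

end PS

namespace Md

variable {S : PS G p I} {a : Ω} {J : Set I} {V Q : Subgroup G} (h : Md p a (S.D J) S.X V Q)

include h

theorem ncard_inter {b : Ω} (hb : Q ⊓ stabilizer G b = V) {K : Subgroup G} (hK : K ≤ S.D J) (h1 : K ≤ stabilizer G b) :
    ((Orb Q b ∩ Fx K).ncard : ℚ) * Nat.card V = Nat.card (Cm Q V K) := by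
  rw [Orb_inter_Fx hb h.nm h1 fun k hk => h.nQ k (hK hk)]
  exact_mod_cast ncard_Orb_reg hb (h.V_le_Cm hK) Cm_le

/-- the linear count for two nodes -/
theorem cnt2 {j k : I} (hne : j ≠ k) (hj : j ∈ J) (hk : k ∈ J) :
    (Nat.card (Cm Q V (S.V {j, k})) : ℚ) = S.W {j, k} * (Nat.card (Cm Q V S.X) +
      (1 / S.W {j} - 1) * Nat.card (Cm Q V (S.D {j})) + (1 / S.W {k} - 1) * Nat.card (Cm Q V (S.D {k})) +
      (1 / S.W {j, k} - 1 / S.W {j} - 1 / S.W {k} + 1) * Nat.card (Cm Q V (S.D {j, k}))) := by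
  have h1 := h.restrict (Set.pair_subset hj hk)
  have h2 := S.cnt2 hne (finite_Orb (Cm Q V (S.V {j, k})) a)
    (fun g hg b hb => smul_mem_Orb_nm (h1.nQ g hg) ((show g • a = a from h1.fix hg).symm ▸ self_mem_Orb _ _) hb)
    (by rintro _ ⟨w, hw, rfl⟩; exact h1.cov w hw)
  have e : ∀ L : Set I, L ⊆ {j, k} → ((Orb (Cm Q V (S.V {j, k})) a ∩ Fx (S.D L)).ncard : ℚ) * Nat.card V =
      Nat.card (Cm Q V (S.D L)) := fun L hL => by
    rw [h1.ncard_inter h1.reg (S.mono hL) ((S.mono hL).trans h1.fix), Cm_Cm ((S.V_le _).trans (S.X_le _))]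
  have e0 := e ∅ (Set.empty_subset _)
  rw [S.D_empty] at e0
  rw [← e0, ← e {j} (by simp), ← e {k} (by simp), ← e {j, k} subset_rfl,
    ← ncard_Orb_reg h1.reg h1.V_le le_rfl, Nat.cast_mul, h2]
  ring

theorem Cm_pair {j k : I} (hj : j ∈ J) (hk : k ∈ J) :
    Cm Q V (S.D {j, k}) = Cm Q V (S.D {j}) ⊓ Cm Q V (S.D {k}) :=
  le_antisymm (le_inf (Cm_anti (S.mono (by simp))) (Cm_anti (S.mono (by simp)))) fun w hw =>
    h.mem_D_of (Set.pair_subset hj hk) (Cm_anti (S.X_le _) hw.1) (by rintro i (rfl | rfl); exacts [hw.1, hw.2])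

/-- **RANK2** -/
theorem rank2 {j k : I} (hne : j ≠ k) (hj : j ∈ J) (hk : k ∈ J) (sj : S.Split j) (sk : S.Split k)
    (aj : S.Act V Q j) (ak : S.Act V Q k) :
    ¬ S.Adj j k ∧ ∀ z ∈ Cm Q V S.X, ∃ u ∈ Cm Q V (S.D {j}), ∃ v ∈ Cm Q V (S.D {k}), z = u * v := by
  obtain ⟨s, hs, h1⟩ := sj.exists_pow
  obtain ⟨t, ht, h2⟩ := sk.exists_pow
  obtain ⟨e, h3, he⟩ := S.rk2 j k hne sj sk
  have h3' : S.W {j, k} = (p ^ s + 1) * (p ^ t + 1) + p ^ s * p ^ t * e := by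
    have h4 : S.W {j, k} = S.W {j} * S.W {k} + (S.W {j} - 1) * (S.W {k} - 1) * e := h3
    rwa [h1, h2, Nat.add_sub_cancel, Nat.add_sub_cancel] at h4
  have h4 := h.cnt2 hne hj hk
  have h5 := (h.card_X hj sj aj h1).1
  have h6 := (h.card_X hk sk ak h2).1
  obtain ⟨n, hn⟩ := relIndex_eq_pow (A := Cm Q V (S.D {j, k})) (h.isP.to_le (Cm_le (V := V) (K := S.V {j, k})))
  obtain ⟨c, hc⟩ := relIndex_eq_pow (A := Cm Q V (S.D {j, k})) (h.isP.to_le (Cm_le (V := V) (K := S.X)))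
  have h7 := card_mul_relIndex (Cm_anti (Q := Q) (V := V) ((S.V_le {j, k}).trans (S.X_le {j, k})))
  have h8 := card_mul_relIndex (Cm_anti (Q := Q) (V := V) (S.X_le {j, k}))
  have i1 : (Cm Q V (S.D {j})).relIndex (Cm Q V S.X) = p ^ s := Nat.eq_of_mul_eq_mul_left Nat.card_pos
    ((card_mul_relIndex (Cm_anti (S.X_le {j}))).trans (h5.trans (mul_comm _ _)))
  have i2 : (Cm Q V (S.D {k})).relIndex (Cm Q V S.X) = p ^ t := Nat.eq_of_mul_eq_mul_left Nat.card_pos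
    ((card_mul_relIndex (Cm_anti (S.X_le {k}))).trans (h6.trans (mul_comm _ _)))
  have h9 : c ≤ s + t := (Nat.pow_le_pow_iff_right hp.1.one_lt).1 (by
    rw [← hc, h.Cm_pair hj hk, pow_add, ← i1, ← i2]
    exact Subgroup.relIndex_inf_le)
  rw [hn] at h7
  rw [hc] at h8
  have hp0 : (0 : ℚ) < p := by exact_mod_cast hp.1.pos
  have h10 : (Nat.card (Cm Q V (S.D {j})) : ℚ) = Nat.card (Cm Q V (S.D {j, k})) * p ^ c / p ^ s := by
    rw [eq_div_iff (by positivity), mul_comm]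
    exact_mod_cast (h8.trans h5).symm
  have h11 : (Nat.card (Cm Q V (S.D {k})) : ℚ) = Nat.card (Cm Q V (S.D {j, k})) * p ^ c / p ^ t := by
    rw [eq_div_iff (by positivity), mul_comm]
    exact_mod_cast (h8.trans h6).symm
  have h12 : (0 : ℚ) < Nat.card (Cm Q V (S.D {j, k})) := by exact_mod_cast Nat.card_pos
  have h13 : (0 : ℚ) < S.W {j, k} := by exact_mod_cast S.W_pos _
  rw [h10, h11, ← h7, ← h8, h1, h2] at h4
  push_cast at h4
  have h14 : ((p : ℚ) ^ n - 1) * ((p ^ s + 1) * (p ^ t + 1)) = S.W {j, k} * (p ^ c + 1) * (p ^ s * p ^ t - 1) := by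
    field_simp at h4
    have h15 : (0 : ℚ) < p ^ s * p ^ t := by positivity
    apply mul_left_cancel₀ h15.ne'
    linarith
  rw [h3'] at h14
  obtain ⟨h15, rfl⟩ := arith_rank2 (n := n) hp.1 hs ht h9 he (by exact_mod_cast h14)
  refine ⟨fun h16 => h16.2 (by simpa using h3), fun z hz => exists_mul_of_relIndex (Cm_anti (S.X_le _)) ?_ hz⟩
  have h16 := Subgroup.relIndex_mul_relIndex (Cm Q V (S.D {j, k})) (Cm Q V (S.D {j})) (Cm Q V S.X)
    (Cm_anti (S.mono (by simp))) (Cm_anti (S.X_le _))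
  rw [hc, i1, h15, pow_add, h.Cm_pair hj hk, Subgroup.inf_relIndex_left, mul_comm] at h16
  rw [i2]
  exact Nat.eq_of_mul_eq_mul_left (pow_pos hp.1.pos s) h16

/-- **AFF2** -/
theorem aff2 {T : Subgroup G} {m : ℕ} (hS : S.At T a) (A : Amb Ω T p m) (hs : Semi Ω V Q) {j k : I} (hj : j ∈ J)
    (hk : k ∈ J) (sj : S.Split j) (aj : S.Act V Q j) (ak : ¬ S.Act V Q k) (adj : S.Adj j k) {b : Ω}
    (hX : S.X ≤ stabilizer G b) (hV : V ≤ stabilizer G b) : S.D {k} ≤ stabilizer G b := by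
  have ak' : Cm Q V (S.D {k}) = Cm Q V S.X := le_antisymm (Cm_anti (S.X_le _)) (not_not.1 ak)
  have key : ∀ {z : G} {c : Ω}, z ∈ Cm Q V S.X → V ≤ stabilizer G c → S.D {k} ≤ stabilizer G (z • c) →
      S.D {k} ≤ stabilizer G c := fun {z c} hz h1 h2 => by
    have h3 := le_stab_smul (nm_inv (nm_sup_of_Cm (ak' ▸ hz))) (sup_le h2 (le_stab_smul hz.2.1 h1))
    rw [inv_smul_smul] at h3
    exact le_sup_left.trans h3
  obtain ⟨z, hz, hc⟩ := h.aff hS A hs hj sj aj hX hV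
  refine key hz hV (by_contra fun hck => ?_)
  have hcV := le_stab_smul hz.2.1 hV
  generalize z • b = c at hc hck hcV
  have hcX : S.X ≤ stabilizer G c := (S.X_le _).trans hc
  have h1 := h.restrict (Set.pair_subset hj hk)
  have hr := hs.mono h1.V_le Cm_le c hcV
  obtain ⟨n, hn0, hn⟩ := sj.exists_pow
  obtain ⟨h2, h3⟩ := h.card_X hj sj aj hn
  have h4 := h.cnt2 adj.1 hj hk
  rw [h.Cm_pair hj hk, ak', inf_of_le_left (Cm_anti (S.X_le _)), h2, hn] at h4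
  have hC : (0 : ℚ) < Nat.card (Cm Q V (S.D {j})) := by exact_mod_cast Nat.card_pos
  have hW : (0 : ℚ) < S.W {j, k} := by exact_mod_cast S.W_pos _
  have hk3 : (3 : ℚ) ≤ S.W {k} := by exact_mod_cast S.three_le k
  have hq : (2 : ℚ) ≤ (p : ℚ) ^ n := by exact_mod_cast Nat.one_lt_pow hn0.ne' hp.1.one_lt
  have hWle : ((p : ℚ) ^ n + 1) * S.W {k} ≤ S.W {j, k} := by
    have h5 := S.W_mul_le (Set.disjoint_singleton.2 adj.1)
    rw [hn] at h5
    exact_mod_cast h5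
  have hcov : ∀ w ∈ Cm Q V (S.V {j, k}), ∃ P ∈ S.Syl {j, k}, P ≤ stabilizer G (w • c) := fun w hw =>
    hS.exists_Syl_V A ((mem_Cm_iff (hs c hcV) h.nm ((S.V_le _).trans hcX)
      fun k hk => h.nQ k (S.X_le J (S.V_le _ hk))).1 hw).2
  let K : Subgroup G :=
    { carrier := {g | cj g (Cm Q V (S.V {j, k})) = Cm Q V (S.V {j, k}) ∧ g • c ∈ Orb (Cm Q V (S.V {j, k})) c}
      one_mem' := ⟨cj_one _, (one_smul G c).symm ▸ self_mem_Orb _ _⟩
      mul_mem' := fun {x y} hx hy => ⟨nm_mul hx.1 hy.1, (mul_smul x y c).symm ▸ smul_mem_Orb_nm hx.1 hx.2 hy.2⟩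
      inv_mem' := fun {x} hx => ⟨nm_inv hx.1, by
        obtain ⟨w, hw, h5⟩ := hx.2
        exact ⟨x⁻¹ * w⁻¹ * x, nm_conj' hx.1 (inv_mem hw), by rw [mul_smul, ← h5, mul_smul, inv_smul_smul]⟩⟩ }
  have hK : ∀ g ∈ S.D {j, k}, ∀ w ∈ Cm Q V (S.V {j, k}), g • w • c = w • c → g ∈ K := fun g hg w hw h5 =>
    ⟨h1.nQ g hg, g * w⁻¹ * g⁻¹ * w, mul_mem (nm_conj (h1.nQ g hg) (inv_mem hw)) hw, by
      rw [mul_smul, ← h5, mul_smul, inv_smul_smul, mul_smul, inv_smul_smul]⟩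
  have hjK : S.D {j} ≤ K := fun g hg => hK g (S.mono (by simp) hg) 1 (one_mem _) (by rw [one_smul]; exact hc hg)
  have hXK : S.X ≤ K := (S.X_le _).trans hjK
  push_cast at h4
  by_cases hkK : S.D {k} ≤ K
  · have h5 : S.D {j, k} ≤ K := S.D_le hXK (by rintro i (rfl | rfl); exacts [hjK, hkK])
    have h6 := S.cnt2 adj.1 (finite_Orb (Cm Q V (S.V {j, k})) c)
      (fun g hg b hb => smul_mem_Orb_nm (h5 hg).1 (h5 hg).2 hb) (by rintro _ ⟨w, hw, rfl⟩; exact hcov w hw)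
    have h7 : Orb (Cm Q V (S.V {j, k})) c ∩ Fx (S.D {k}) = ∅ := Set.eq_empty_of_forall_notMem (by
      rintro _ ⟨⟨w, hw, rfl⟩, h7⟩
      exact hck (key ((mem_Cm_iff (hs c hcV) h.nm hcX fun k hk => h.nQ k (S.X_le J hk)).2
        ⟨hw.1, (S.X_le _).trans h7⟩) hcV h7))
    have h8 : Orb (Cm Q V (S.V {j, k})) c ∩ Fx (S.D {j, k}) = ∅ :=
      Set.eq_empty_of_forall_notMem fun d hd => Set.notMem_empty d (h7 ▸ ⟨hd.1, (S.mono (by simp)).trans hd.2⟩)
    have e1 := h1.ncard_inter hr (S.X_le _) hcX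
    have e2 := h1.ncard_inter hr (K := S.D {j}) (S.mono (by simp)) hc
    have e3 : ((Orb (Cm Q V (S.V {j, k})) c).ncard : ℚ) * Nat.card V = Nat.card (Cm Q V (S.V {j, k})) := by
      exact_mod_cast ncard_Orb_reg hr h1.V_le le_rfl
    rw [Cm_Cm (S.V_le _), h2] at e1
    rw [Cm_Cm ((S.V_le _).trans (S.X_le _))] at e2
    rw [h7, h8, Set.ncard_empty, hn] at h6
    push_cast at h6 e1
    have h9 : (Nat.card (Cm Q V (S.V {j, k})) : ℚ) =
        S.W {j, k} * (p ^ n + (1 / (p ^ n + 1) - 1)) * Nat.card (Cm Q V (S.D {j})) := by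
      rw [← e3, h6]
      linear_combination (S.W {j, k} : ℚ) * e1 + (S.W {j, k} : ℚ) * (1 / (p ^ n + 1) - 1) * e2
    rw [h9] at h4
    have h10 : (S.W {j, k} : ℚ) * (S.W {k} + (p ^ n - 1) * (S.W {k} - 1) * (p ^ n + 1)) = S.W {k} * (p ^ n + 1) := by
      field_simp at h4
      linarith
    have h11 : (0 : ℚ) ≤ (p ^ n - 1) * (S.W {k} - 1) * (p ^ n + 1) := by
      have : (0 : ℚ) ≤ p ^ n - 1 := by linarith
      have : (0 : ℚ) ≤ S.W {k} - 1 := by linarith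
      positivity
    nlinarith
  · have h5 : Cm Q V (S.V {j, k}) = Cm Q V (S.V {j}) := le_antisymm (fun w hw => by
      obtain ⟨P, hP, h5⟩ := hcov w hw
      have h6 := S.mem_Syl_inter (S.mem_Syl_typ hXK (S.Syl_mono (Set.subset_univ _) hP)
        fun g hg => hK g (S.Syl_le hP hg) w hw (h5 hg)) hP
      have h7 : P ∈ S.Syl {j} := S.Syl_mono (fun i hi => hi.2.elim id fun h7 => absurd
        ((show i = k from h7) ▸ hi.1) hkK) h6
      exact (mem_Cm_iff (hs c hcV) h.nm ((S.V_le _).trans hcX) fun k hk => h.nQ k (S.X_le J (S.V_le _ hk))).2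
        ⟨hw.1, (rad_le h7).trans h5⟩) (Cm_anti (S.V_anti (by simp)))
    rw [h5, h3] at h4
    push_cast at h4
    refine adj.2 ?_
    have h6 : (S.W {j, k} : ℚ) = (p ^ n + 1) * S.W {k} := by
      field_simp at h4
      apply mul_left_cancel₀ (show ((p : ℚ) ^ n - 1) * (p ^ n + 1) ≠ 0 from mul_ne_zero (by linarith) (by linarith))
      linarith
    show S.W {j, k} = S.W {j} * S.W {k}
    rw [hn]
    exact_mod_cast h6

end Md

/-- the stabiliser in `N_{G_a}(X)` of `b` -/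
abbrev BH (a b : Ω) (X : Subgroup G) : Subgroup G :=
  stabilizer G a ⊓ stabilizer G b ⊓ Subgroup.normalizer (X : Set G)

/-- **PT**: comparison of two fixed points of `X` -/
theorem PS.At.pt {T : Subgroup G} {m : ℕ} {a : Ω} {S : PS G p I} (h : S.At T a) (A : Amb Ω T p m) {y z : Ω}
    (hy : y ≠ a) (hz : z ≠ a) (hXy : S.X ≤ stabilizer G y) (hXz : S.X ≤ stabilizer G z) {c : ℕ}
    (hc : c * S.W (S.typ (stabilizer G z)) ≤ S.W (S.typ (stabilizer G y))) {β : Type*} (f : G → β) (B : Set β)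
    (hB : B.Finite) (h1 : ∀ g ∈ BH a z S.X, f g ∈ B)
    (h2 : ∀ g ∈ BH a z S.X, ∀ g' ∈ BH a z S.X, f g = f g' → (g⁻¹ * g') • y = y) : c ≤ B.ncard := by
  have h3 := card_le_mul (B := BH a z S.X) (B' := BH a y S.X) f B hB h1 fun g hg g' hg' h4 =>
    ⟨⟨(mul_mem (inv_mem hg) hg').1.1, h2 g hg g' hg' h4⟩, (mul_mem (inv_mem hg) hg').2⟩
  have h4 := (h.m_eq A hy hXy).trans (h.m_eq A hz hXz).symm
  have h5 : 0 < Nat.card (BH a y S.X) := Nat.card_pos
  have h6 := S.W_pos (S.typ (stabilizer G z))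
  have h7 := (Nat.mul_le_mul_right _ hc).trans (h4.le.trans (Nat.mul_le_mul_left _ h3))
  rw [← mul_assoc, mul_comm c] at h7
  exact Nat.le_of_mul_le_mul_left (Nat.le_of_mul_le_mul_right h7 h5) h6

end Cfsg.Agent.TH.Own
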