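import Mathlib
import Cfsg.Agent.TH.Own.Core

/-!
# S3541, `BoxFold`: grids of sets of nodes, the folded system as a `PS` (helper68)
-/

set_option autoImplicit false
set_option linter.unusedSectionVars false
set_option linter.unusedVariables false

namespace Cfsg.Agent.TH.Own

open MulAction

variable {G : Type*} [Group G] {p : ℕ} {I : Type*}

/-- the elements `g` with `g K ⊆ K H` and `g⁻¹ K ⊆ K H` -/
def PmS (H K : Subgroup G) : Subgroup G where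
  carrier := {g | (∀ k ∈ K, ∃ k' ∈ K, ∃ h ∈ H, g * k = k' * h) ∧ ∀ k ∈ K, ∃ k' ∈ K, ∃ h ∈ H, g⁻¹ * k = k' * h}
  one_mem' := ⟨fun k hk => ⟨k, hk, 1, one_mem _, by simp⟩, fun k hk => ⟨k, hk, 1, one_mem _, by simp⟩⟩
  mul_mem' := by
    have key : ∀ a b : G, (∀ k ∈ K, ∃ k' ∈ K, ∃ h ∈ H, a * k = k' * h) →
        (∀ k ∈ K, ∃ k' ∈ K, ∃ h ∈ H, b * k = k' * h) → ∀ k ∈ K, ∃ k' ∈ K, ∃ h ∈ H, a * b * k = k' * h := by
      intro a b ha hb k hk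
      obtain ⟨k', hk', h, hh, h1⟩ := hb k hk
      obtain ⟨k'', hk'', h', hh', h2⟩ := ha k' hk'
      exact ⟨k'', hk'', h' * h, mul_mem hh' hh, by rw [mul_assoc, h1, ← mul_assoc, h2, mul_assoc]⟩
    rintro a b ⟨h1, h2⟩ ⟨h3, h4⟩
    exact ⟨key a b h1 h3, by rw [mul_inv_rev]; exact key _ _ h4 h2⟩
  inv_mem' := by
    rintro a ⟨h1, h2⟩
    exact ⟨h2, by rwa [inv_inv]⟩

theorem le_PmS {A H K : Subgroup G} (h : ∀ g ∈ A, ∀ k ∈ K, ∃ k' ∈ K, ∃ h ∈ H, g * k = k' * h) : A ≤ PmS H K :=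
  fun g hg => ⟨h g hg, h _ (inv_mem hg)⟩

theorem le_PmS_self {A H K : Subgroup G} (h : A ≤ K) : A ≤ PmS H K :=
  le_PmS fun g hg k hk => ⟨g * k, mul_mem (h hg) hk, 1, one_mem _, (mul_one _).symm⟩

theorem PmS_mono {H H' K : Subgroup G} (h : H ≤ H') : PmS H K ≤ PmS H' K :=
  le_PmS fun g hg k hk => by
    obtain ⟨k', hk', x, hx, h1⟩ := hg.1 k hk
    exact ⟨k', hk', x, h hx, h1⟩

theorem PmS_symm {H K : Subgroup G} (h : H ≤ PmS H K) : K ≤ PmS K H :=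
  le_PmS fun k hk g hg => by
    obtain ⟨k', hk', x, hx, h1⟩ := (h (inv_mem hg)).1 k⁻¹ (inv_mem hk)
    refine ⟨x⁻¹, inv_mem hx, k'⁻¹, inv_mem hk', ?_⟩
    rw [← mul_inv_rev, ← h1, mul_inv_rev, inv_inv, inv_inv]

namespace PS

variable (S : PS G p I)

/-- the parabolic subgroups -/
def PP (J : Set I) : Subgroup G := S.D Set.univ ⊓ Subgroup.normalizer (S.D J : Set G)

variable [Finite G] [hp : Fact p.Prime]

theorem mem_PP {J : Set I} {g : G} : g ∈ S.PP J ↔ g ∈ S.D Set.univ ∧ cj g S.X ∈ S.Syl J :=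
  ⟨fun h => ⟨h.1, S.mem_Syl_of_le ⟨g, h.1, rfl⟩ ((cj_mono g (S.X_le J)).trans (nm_iff.1 h.2).le)⟩,
    fun h => ⟨h.1, nm_iff.2 (S.nm_of_mem_Syl h.1 (S.X_mem J) h.2)⟩⟩

theorem PP_mono {J L : Set I} (h : J ⊆ L) : S.PP J ≤ S.PP L := fun _ hg =>
  S.mem_PP.2 ⟨hg.1, S.Syl_mono h (S.mem_PP.1 hg).2⟩

theorem D_le_PP (J : Set I) : S.D J ≤ S.PP J := fun g hg => S.mem_PP.2 ⟨S.le_univ J hg, g, hg, rfl⟩

theorem exists_PP {J : Set I} {g : G} (hg : g ∈ S.PP J) : ∃ d ∈ S.D J, d⁻¹ * g ∈ S.PP ∅ := by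
  obtain ⟨h1, d, hd, h2⟩ := S.mem_PP.1 hg
  refine ⟨d, hd, S.mem_PP.2 ⟨mul_mem (inv_mem (S.le_univ J hd)) h1, ?_⟩⟩
  rw [cj_mul, h2, cj_inv_cj]
  exact S.X_mem _

theorem PP_le {J : Set I} {K : Subgroup G} (h0 : S.PP ∅ ≤ K) (h : ∀ i ∈ J, S.PP {i} ≤ K) : S.PP J ≤ K := by
  intro g hg
  obtain ⟨d, hd, h1⟩ := S.exists_PP hg
  have h2 : S.D J ≤ K := S.D_le ((S.X_le ∅).trans ((S.D_le_PP ∅).trans h0)) fun i hi => (S.D_le_PP _).trans (h i hi)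
  simpa using mul_mem (h2 hd) (h0 h1)

theorem PmS_single {a b : I} (hne : a ≠ b) (h : ¬ S.Adj a b) : S.PP {a} ≤ PmS (S.PP {a}) (S.PP {b}) := by
  refine le_PmS fun g hg k hk => ?_
  have h1 : g * k ∈ S.PP {b, a} := mul_mem (S.PP_mono (by simp) hg) (S.PP_mono (by simp) hk)
  obtain ⟨f, hf, e, he, h2⟩ := S.grid_of_not_adj hne.symm (fun h2 => h (S.adj_symm h2)) (S.mem_PP.1 h1).2
  refine ⟨f, S.D_le_PP _ hf, f⁻¹ * (g * k), S.mem_PP.2 ⟨mul_mem (inv_mem (S.le_univ _ hf)) h1.1, e, he, ?_⟩,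
    (mul_inv_cancel_left _ _).symm⟩
  rw [cj_mul, h2, cj_mul, cj_inv_cj]

/-- sets of nodes which are not joined form a grid -/
theorem W_union {J L : Set I} (h : Disjoint J L) (hn : ∀ a ∈ J, ∀ b ∈ L, ¬ S.Adj a b) :
    S.W (J ∪ L) = S.W J * S.W L := by
  have h1 : ∀ b ∈ L, S.PP {b} ≤ PmS (S.PP {b}) (S.PP J) := fun b hb => PmS_symm
    (S.PP_le (le_PmS_self (S.PP_mono (Set.empty_subset _))) fun a ha =>
      (S.PmS_single (fun h2 : a = b => Set.disjoint_left.1 h ha (h2 ▸ hb)) (hn a ha b hb)).trans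
        (PmS_mono (S.PP_mono (Set.singleton_subset_iff.2 ha))))
  have h2 : S.PP (J ∪ L) ≤ PmS (S.PP L) (S.PP J) :=
    S.PP_le (le_PmS_self (S.PP_mono (Set.empty_subset _))) fun i hi => hi.elim
      (fun hi => le_PmS_self (S.PP_mono (Set.singleton_subset_iff.2 hi)))
      (fun hi => (h1 i hi).trans (PmS_mono (S.PP_mono (Set.singleton_subset_iff.2 hi))))
  refine S.W_eq_of_grid h ?_
  rintro _ ⟨g, hg, rfl⟩
  obtain ⟨x, hx, y, hy, h3⟩ := (h2 (S.D_le_PP _ hg)).1 1 (one_mem _)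
  obtain ⟨d, hd, h4⟩ := S.exists_PP hx
  obtain ⟨-, f, hf, h5⟩ := S.mem_PP.1 (mul_mem (S.PP_mono (Set.empty_subset L) h4) hy)
  refine ⟨d, hd, f, hf, ?_⟩
  rw [cj_mul, ← h5, ← cj_mul, ← mul_one g, h3]
  congr 1
  group

/-- a `p`-element of `D univ` which normalises a Sylow subgroup lies in it -/
theorem mem_of_nm_Syl {J : Set I} {P : Subgroup G} (hP : P ∈ S.Syl J) {u : G} (hu : u ∈ S.X) (h : cj u P = P) : u ∈ P := by
  obtain ⟨n, hn⟩ := exists_pow_of_isP S.isP hu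
  exact (S.maxP_Syl hP).mem_of_nm hn (S.X_le _ hu) h

theorem not_subset_union {a b : I} (hne : a ≠ b) : ¬ S.Syl {a, b} ⊆ S.Syl {a} ∪ S.Syl {b} := by
  intro h
  have h1 : S.W {a, b} ≤ S.W {a} + S.W {b} := (Set.ncard_le_ncard h).trans (Set.ncard_union_le _ _)
  have h2 : S.W {a} * S.W {b} ≤ S.W {a, b} := S.W_mul_le (Set.disjoint_singleton.2 hne)
  have h3 := S.three_le a
  have h4 := S.three_le b
  nlinarith

end PS

/-- the data of a folding -/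
structure FD (S : PS G p I) (X : Subgroup G) {I' : Type*} (κ : I → I') : Prop where
  le : S.X ≤ X
  isP : IsPGroup p X
  nU : ∀ x ∈ X, cj x S.X = S.X
  nE : ∀ x ∈ X, cj x (S.D Set.univ) = S.D Set.univ
  nX : ∀ n ∈ S.D Set.univ, cj n S.X = S.X → cj n X = X
  surj : Function.Surjective κ
  fib : ∀ i k, κ i = κ k ↔ ∃ x ∈ X, cj x (S.D {i}) = S.D {k}

namespace FD

variable {S : PS G p I} {X : Subgroup G} {I' : Type*} {κ : I → I'} (h : FD S X κ) [Finite G] [hp : Fact p.Prime]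

include h

theorem exists_node {x : G} (hx : x ∈ X) (i : I) : ∃ k, κ k = κ i ∧ cj x (S.D {i}) = S.D {k} := by
  obtain ⟨k, hk⟩ := S.exists_perm (h.nE x hx) (h.nU x hx) i
  exact ⟨k, ((h.fib i k).2 ⟨x, hx, hk⟩).symm, hk⟩

theorem nD {x : G} (hx : x ∈ X) (J : Set I') : cj x (S.D (κ ⁻¹' J)) = S.D (κ ⁻¹' J) := by
  refine S.cj_D_eq (h.nU x hx) (fun i hi => ?_) fun k hk => ?_
  · obtain ⟨k, h1, h2⟩ := h.exists_node hx i
    exact ⟨k, by rwa [Set.mem_preimage, h1], h2⟩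
  · obtain ⟨i, h1, h2⟩ := h.exists_node (inv_mem hx) k
    exact ⟨i, by rwa [Set.mem_preimage, h1], by rw [← h2, cj_cj_inv]⟩

theorem cj_mem_Syl {x : G} (hx : x ∈ X) {i k : I} (h1 : cj x (S.D {i}) = S.D {k}) {P : Subgroup G}
    (hP : P ∈ S.Syl {i}) : cj x P ∈ S.Syl {k} := by
  have h2 := (cj_mem_Cjs_cj (g := x)).2 hP
  rwa [h1, h.nU x hx] at h2

theorem cj_ne {x : G} (hx : x ∈ X) {P : Subgroup G} (hP : P ≠ S.X) : cj x P ≠ S.X := fun h1 =>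
  hP (cj_inj x (h1.trans (h.nU x hx).symm))

theorem inf : X ⊓ S.D Set.univ = S.X :=
  S.maxP.max _ (h.isP.to_le inf_le_left) inf_le_right (le_inf h.le (S.X_le _))

theorem cj_inf_E {e : G} (he : e ∈ S.D Set.univ) : cj e X ⊓ S.D Set.univ = cj e S.X := by
  rw [← h.inf, cj_inf, cj_of_mem he]

theorem cj_eq_iff {e f : G} (he : e ∈ S.D Set.univ) (hf : f ∈ S.D Set.univ) :
    cj e X = cj f X ↔ cj e S.X = cj f S.X := by
  constructor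
  · intro h1
    rw [← h.cj_inf_E he, h1, h.cj_inf_E hf]
  · intro h1
    have h2 := h.nX (f⁻¹ * e) (mul_mem (inv_mem hf) he) (by rw [cj_mul, h1, cj_inv_cj])
    rw [← cj_cj_inv f (cj e X), ← cj_mul f⁻¹, h2]

theorem cj_eq_self_iff {e : G} (he : e ∈ S.D Set.univ) : cj e X = X ↔ cj e S.X = S.X := by
  have h1 := h.cj_eq_iff he (one_mem _)
  rwa [cj_one, cj_one] at h1

theorem mem_sup {J : Set I'} {g : G} (hg : g ∈ S.D (κ ⁻¹' J) ⊔ X) : ∃ e ∈ S.D (κ ⁻¹' J), ∃ x ∈ X, g = e * x :=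
  mem_sup_nm' (fun x hx => h.nD hx J) (by rwa [sup_comm])

theorem mem_Cjs {J : Set I'} {P : Subgroup G} :
    P ∈ Cjs (S.D (κ ⁻¹' J) ⊔ X) X ↔ ∃ e ∈ S.D (κ ⁻¹' J), P = cj e X := by
  constructor
  · rintro ⟨g, hg, rfl⟩
    obtain ⟨e, he, x, hx, rfl⟩ := h.mem_sup hg
    exact ⟨e, he, by rw [cj_mul, cj_of_mem hx]⟩
  · rintro ⟨e, he, rfl⟩
    exact ⟨e, Subgroup.mem_sup_left he, rfl⟩

theorem mem_Cjs_of {J : Set I'} {e : G} (he : e ∈ S.D Set.univ) (h1 : cj e S.X ∈ S.Syl (κ ⁻¹' J)) :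
    cj e X ∈ Cjs (S.D (κ ⁻¹' J) ⊔ X) X := by
  obtain ⟨f, hf, h2⟩ := h1
  exact h.mem_Cjs.2 ⟨f, hf, (h.cj_eq_iff he (S.le_univ _ hf)).2 h2⟩

theorem nS_eq (J : Set I) : nS (S.D J) X = S.W J := by
  have h1 : (fun P => P ⊓ S.D Set.univ) '' Cjs (S.D J) X = S.Syl J := by
    ext P
    constructor
    · rintro ⟨_, ⟨e, he, rfl⟩, rfl⟩
      exact ⟨e, he, h.cj_inf_E (S.le_univ J he)⟩
    · rintro ⟨e, he, rfl⟩
      exact ⟨_, ⟨e, he, rfl⟩, h.cj_inf_E (S.le_univ J he)⟩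
  show _ = (S.Syl J).ncard
  rw [← h1, Set.InjOn.ncard_image]
  · rfl
  · rintro _ ⟨e, he, rfl⟩ _ ⟨f, hf, rfl⟩ h2
    have h3 : cj e X ⊓ S.D Set.univ = cj f X ⊓ S.D Set.univ := h2
    rw [h.cj_inf_E (S.le_univ J he), h.cj_inf_E (S.le_univ J hf)] at h3
    exact (h.cj_eq_iff (S.le_univ J he) (S.le_univ J hf)).2 h3

theorem W_eq (J : Set I') : nS (S.D (κ ⁻¹' J) ⊔ X) X = S.W (κ ⁻¹' J) := by
  rw [← h.nS_eq, nS, nS]
  congr 1
  ext P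
  exact h.mem_Cjs

theorem maxP : MaxP p (S.D Set.univ ⊔ X) X := by
  refine ⟨le_sup_right, h.isP, fun R hR h1 h2 => le_antisymm (fun r hr => ?_) h2⟩
  obtain ⟨e, he, x, hx, rfl⟩ := h.mem_sup (J := Set.univ) (h1 hr)
  have h3 : R ⊓ S.D Set.univ = S.X :=
    S.maxP.max _ (hR.to_le inf_le_left) inf_le_right (le_inf (h.le.trans h2) (S.X_le _))
  have h4 : e ∈ R ⊓ S.D Set.univ := ⟨by simpa using mul_mem hr (inv_mem (h2 hx)), he⟩
  exact mul_mem (h.le (h3 ▸ h4)) hx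

theorem sup_inf (J : Set I') : (S.D (κ ⁻¹' J) ⊔ X) ⊓ S.D Set.univ = S.D (κ ⁻¹' J) := by
  refine le_antisymm (fun g hg => ?_) (le_inf le_sup_left (S.le_univ _))
  obtain ⟨e, he, x, hx, rfl⟩ := h.mem_sup hg.1
  have h1 : x ∈ X ⊓ S.D Set.univ := ⟨hx, by simpa using mul_mem (inv_mem (S.le_univ _ he)) hg.2⟩
  exact mul_mem he (S.X_le _ (h.inf ▸ h1))

/-- the stabiliser in `X` of a chamber -/
theorem fix_iff {k e : G} (hk : k ∈ X) (he : e ∈ S.D Set.univ) : cj k (cj e S.X) = cj e S.X ↔ k ∈ cj e X := by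
  rw [nm_cj_iff, mem_cj]
  refine ⟨fun h1 => ?_, h.nU _⟩
  obtain ⟨n, hn⟩ := exists_pow_of_isP h.isP hk
  have h2 : e⁻¹ * k * e * k⁻¹ ∈ S.D Set.univ := by
    have h3 := mul_mem (inv_mem he) (nm_conj (h.nE k hk) he)
    rwa [← mul_assoc, ← mul_assoc] at h3
  have h3 := nm_mul (h.nX _ h2 (nm_mul h1 (nm_inv (h.nU k hk)))) (cj_of_mem hk)
  rw [inv_mul_cancel_right] at h3
  refine h.maxP.mem_of_nm (n := n) ?_ ?_ h3
  · rw [show e⁻¹ * k * e = e⁻¹ * k * e⁻¹⁻¹ by rw [inv_inv], conj_pow, hn, mul_one, mul_inv_cancel]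
  · exact mul_mem (mul_mem (inv_mem (Subgroup.mem_sup_left he)) (Subgroup.mem_sup_right hk)) (Subgroup.mem_sup_left he)

theorem V_le_rad (J : Set I') : S.V (κ ⁻¹' J) ≤ rad (S.D (κ ⁻¹' J) ⊔ X) X := by
  refine le_sInf fun P hP => ?_
  obtain ⟨e, he, rfl⟩ := h.mem_Cjs.1 hP
  exact (rad_le ⟨e, he, rfl⟩).trans (cj_mono e h.le)

/-- a split folded node is a single node -/
theorem eq_of_split {j : I'} (hj : Spl (S.D (κ ⁻¹' {j}) ⊔ X) X) {a b : I} (ha : κ a = j) (hb : κ b = j) : a = b := by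
  by_contra hne
  refine S.not_subset_union hne fun P hP => ?_
  by_cases h0 : P = S.X
  · exact Or.inl (h0 ▸ S.X_mem _)
  have hs : ({a, b} : Set I) ⊆ κ ⁻¹' {j} := Set.pair_subset ha hb
  obtain ⟨_, ⟨e, he, rfl⟩, h1⟩ := S.exists_ne a
  obtain ⟨f, hf, rfl⟩ := hP
  have he' := S.le_univ _ he
  have hf' := S.le_univ _ hf
  obtain ⟨x, hx, h2⟩ := hj (cj e X) (h.mem_Cjs.2 ⟨e, S.mono (Set.singleton_subset_iff.2 ha) he, rfl⟩)
    (fun h2 => h1 ((h.cj_eq_self_iff he').1 h2)) (cj f X) (h.mem_Cjs.2 ⟨f, S.mono hs hf, rfl⟩)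
    (fun h2 => h0 ((h.cj_eq_self_iff hf').1 h2))
  have h3 : cj x (cj e S.X) = cj f S.X := by
    rw [← h.cj_inf_E he', cj_inf, h2, h.nE x hx, h.cj_inf_E hf']
  obtain ⟨c, -, h4⟩ := h.exists_node hx a
  have h5 : cj f S.X ∈ S.Syl {c} := h3 ▸ h.cj_mem_Syl hx h4 ⟨e, he, rfl⟩
  by_cases h6 : c ∈ ({a, b} : Set I)
  · rcases h6 with rfl | rfl
    · exact Or.inl h5
    · exact Or.inr h5
  · exact absurd (S.eq_X_of_disjoint (Set.disjoint_singleton_right.2 h6) ⟨f, hf, rfl⟩ h5) h0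

theorem exists_fibre {j : I'} (hj : Spl (S.D (κ ⁻¹' {j}) ⊔ X) X) : ∃ a, κ a = j ∧ κ ⁻¹' {j} = {a} := by
  obtain ⟨a, ha⟩ := h.surj j
  exact ⟨a, ha, Set.eq_singleton_iff_unique_mem.2 ⟨ha, fun b hb => h.eq_of_split hj hb ha⟩⟩

theorem split_of {j : I'} {a : I} (h1 : κ ⁻¹' {j} = {a}) (h2 : S.Split a) : Spl (S.D (κ ⁻¹' {j}) ⊔ X) X := by
  intro P hP h3 P' hP' h4
  obtain ⟨e, he, rfl⟩ := h.mem_Cjs.1 hP
  obtain ⟨f, hf, rfl⟩ := h.mem_Cjs.1 hP'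
  rw [h1] at he hf
  have he' := S.le_univ _ he
  have hf' := S.le_univ _ hf
  obtain ⟨u, hu, h5⟩ := h2 _ ⟨e, he, rfl⟩ (fun h5 => h3 ((h.cj_eq_self_iff he').2 h5)) _ ⟨f, hf, rfl⟩
    (fun h5 => h4 ((h.cj_eq_self_iff hf').2 h5))
  refine ⟨u, h.le hu, ?_⟩
  rw [← cj_mul] at h5 ⊢
  exact (h.cj_eq_iff (mul_mem (S.X_le _ hu) he') hf').2 h5

theorem exists_adj {i j : I'} (h1 : AdjD (fun J => S.D (κ ⁻¹' J) ⊔ X) X i j) {a : I} (ha : κ a = i) :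
    ∃ b, κ b = j ∧ S.Adj a b := by
  obtain ⟨h2, h3⟩ := h1
  by_contra h4
  refine h3 ?_
  simp only [h.W_eq]
  rw [Set.insert_eq, Set.preimage_union]
  refine S.W_union (Set.disjoint_left.2 fun c (h5 : κ c = i) (h6 : κ c = j) => h2 (h5.symm.trans h6))
    fun c (hc : κ c = i) d (hd : κ d = j) h5 => ?_
  obtain ⟨x, hx, h6⟩ := (h.fib c a).1 (hc.trans ha.symm)
  obtain ⟨b, h7, h8⟩ := h.exists_node hx d
  exact h4 ⟨b, h7.trans hd, S.adj_of_cj (h.nU x hx) h6 h8 h5⟩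

/-- the folded system -/
def ps (hs : ∀ i, S.Split i) : PS G p I' where
  X := X
  D J := S.D (κ ⁻¹' J) ⊔ X
  isP := h.isP
  D_empty := by rw [Set.preimage_empty, S.D_empty, sup_eq_right.2 h.le]
  mono h1 := sup_le_sup_right (S.mono (Set.preimage_mono h1)) _
  le_iff {J L} h1 := by
    have h2 : S.D (κ ⁻¹' J) ≤ S.D (κ ⁻¹' L) := by
      rw [← h.sup_inf L]
      exact le_inf (le_sup_left.trans h1) (S.le_univ _)
    exact (Set.preimage_subset_preimage_iff (by rw [h.surj.range_eq]; exact Set.subset_univ _)).1 (S.le_iff h2)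
  syl P h1 h2 := h.maxP.exists_le_Cjs h2 h1
  ov K h1 h2 := by
    have h3 : κ ⁻¹' (κ '' S.typ K) = S.typ K := by
      refine Set.Subset.antisymm ?_ (Set.subset_preimage_image _ _)
      rintro k ⟨i, hi, h3⟩
      obtain ⟨x, hx, h4⟩ := (h.fib i k).1 h3
      show S.D {k} ≤ K
      rw [← h4, ← cj_of_mem (h1 hx)]
      exact cj_mono x hi
    obtain ⟨h4, h5⟩ := S.ov' (h.le.trans h1)
    refine ⟨κ '' S.typ K, sup_le (h3.symm ▸ h4) h1, fun k hk => ?_⟩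
    obtain ⟨e, he, x, hx, rfl⟩ := h.mem_sup (h2 hk)
    rw [cj_mul, cj_of_mem hx]
    exact h.mem_Cjs_of he (h3.symm ▸ h5 e (by simpa using mul_mem hk (inv_mem (h1 hx))) he)
  gen J K h1 := sup_le (S.gen _ _ (by
    rintro _ ⟨e, he, rfl⟩
    exact (cj_mono e h.le).trans (h1 _ (h.mem_Cjs.2 ⟨e, he, rfl⟩)))) (h1 _ (self_mem_Cjs _ _))
  nrm n hn h1 J := by
    obtain ⟨e, he, x, hx, rfl⟩ := h.mem_sup hn
    refine nm_sup (nm_mul (S.nrm e he ((h.cj_eq_self_iff he).1 ?_) _) (h.nD hx J)) h1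
    rwa [cj_mul, cj_of_mem hx] at h1
  vx J P hP h1 := by
    obtain ⟨e, he, rfl⟩ := h.mem_Cjs.1 hP
    refine h.mem_Cjs_of he (S.vx _ _ ⟨e, he, rfl⟩ ?_)
    rw [← h.cj_inf_E he]
    exact le_inf ((h.V_le_rad J).trans h1) ((S.V_le _).trans (S.X_le _))
  rk2 j k hne h1 h2 := by
    obtain ⟨a, ha, h3⟩ := h.exists_fibre h1
    obtain ⟨b, hb, h4⟩ := h.exists_fibre h2
    simp only [h.W_eq]
    rw [Set.insert_eq, Set.preimage_union, h3, h4]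
    exact S.rk2 a b (fun h5 => hne (by rw [← ha, ← hb, h5])) (hs a) (hs b)
  endn := by
    obtain ⟨i, hi⟩ := S.endn
    refine ⟨κ i, fun j k h1 h2 => ?_⟩
    obtain ⟨b, rfl, h3⟩ := h.exists_adj h1 rfl
    obtain ⟨c, rfl, h4⟩ := h.exists_adj h2 rfl
    rw [hi b c h3 h4]

end FD

end Cfsg.Agent.TH.Own
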