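import Mathlib
import Cfsg.Agent.TH.Own.FoldA
import Cfsg.Agent.Lib.ComponentSolvable
import Cfsg.Agent.H244.QFourAlt

/-!
# S3541, `BoxFold` (helper68)
-/

set_option autoImplicit false
set_option linter.unusedSectionVars false
set_option linter.unusedVariables false

namespace Cfsg.Agent.TH.Own

open MulAction

variable {G : Type*} [Group G] {p : ℕ} {I : Type*}

/-- the elements which fix all members of `A` -/
def FixS (A : Set (Subgroup G)) : Subgroup G := ⨅ R ∈ A, Subgroup.normalizer (R : Set G)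

theorem mem_FixS {A : Set (Subgroup G)} {g : G} : g ∈ FixS A ↔ ∀ R ∈ A, cj g R = R := by
  simp only [FixS, Subgroup.mem_iInf, nm_iff]

namespace US

variable (S : US G p I) [Finite G] [hp : Fact p.Prime]

/-- the projection of a chamber on a panel -/
theorem exists_proj {J : Set I} {P : Subgroup G} (hP : P ∈ S.toPS.Syl J) (hne : P ≠ S.X) :
    ∃ a ∈ J, ∃ R ∈ S.toPS.Syl {a}, R ≠ S.X ∧ S.X ⊓ P ≤ S.toPS.V {a} ∧
      ∀ g : G, cj g S.X = S.X → cj g P = P → cj g (S.D {a}) = S.D {a} → cj g R = R := by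
  obtain ⟨a, ha, R, hR, h1, h2⟩ := S.proj J P hP hne
  have h3 : ∀ g : G, cj g S.X = S.X → cj g P = P → cj g (S.D {a}) = S.D {a} → cj g R = R := by
    intro g h4 h5 h6
    by_contra h7
    have h8 := h2 _ (cj_mem_Cjs_nm h6 h4 hR) h7
    rw [← card_cj g (R ⊓ P), cj_inf, h5] at h8
    exact lt_irrefl _ h8
  refine ⟨a, ha, R, hR, h1, fun u hu => S.pan a R hR h1 ⟨hu.1, ?_⟩, h3⟩
  exact S.toPS.mem_of_nm_Syl hR hu.1 (h3 u (cj_of_mem hu.1) (cj_of_mem hu.2) (S.toPS.nm_X hu.1 _))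

theorem Orb_eq {a : I} {R : Subgroup G} (hR : R ∈ S.toPS.Syl {a}) (hne : R ≠ S.X) :
    @Orb G _ _ (cjAct G) S.X R = S.toPS.Syl {a} \ {S.X} := by
  ext P
  constructor
  · rintro ⟨x, hx, rfl⟩
    refine ⟨cj_mem_Cjs (S.toPS.X_le _ hx) hR, fun h2 => hne ?_⟩
    have h3 : cj x R = cj x S.X := by rw [cj_of_mem hx]; exact h2
    exact cj_inj x h3
  · rintro ⟨h1, h2⟩
    exact S.split a R hR hne P h1 h2

theorem ncard_sdiff (a : I) : (S.toPS.Syl {a} \ {S.X}).ncard + 1 = S.toPS.W {a} :=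
  Set.ncard_sdiff_singleton_add_one (S.toPS.X_mem _) (finite_Cjs _ _)

/-- the orbit of a chamber which is not adjacent to `X` is long -/
theorem le_ncard_Orb {J : Set I} {P : Subgroup G} (hP : P ∈ S.toPS.Syl J) (h : ∀ a ∈ J, P ∉ S.toPS.Syl {a})
    (hne : P ≠ S.X) : ∃ a ∈ J, S.toPS.W {a} ≤ (@Orb G _ _ (cjAct G) S.X P).ncard := by
  obtain ⟨a, ha, R, hR, h1, h2, -⟩ := S.exists_proj hP hne
  refine ⟨a, ha, ?_⟩
  have h3 := @ncard_Orb_mul G _ _ (cjAct G) S.X P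
  have h4 := @ncard_Orb_mul G _ _ (cjAct G) S.X R
  have h5 : S.X ⊓ @stabilizer G _ _ (cjAct G) P < S.X ⊓ @stabilizer G _ _ (cjAct G) R := by
    have h6 : S.X ⊓ @stabilizer G _ _ (cjAct G) P ≤ S.X ⊓ P := fun u hu =>
      ⟨hu.1, S.toPS.mem_of_nm_Syl hP hu.1 hu.2⟩
    have h7 : S.toPS.V {a} ≤ S.X ⊓ @stabilizer G _ _ (cjAct G) R := fun u hu =>
      ⟨S.toPS.V_le _ hu, cj_of_mem (rad_le hR hu)⟩
    refine lt_of_le_of_ne (h6.trans (h2.trans h7)) fun h8 => h a ha ?_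
    exact S.vx _ _ (S.toPS.Syl_mono (Set.subset_univ J) hP) ((h7.trans h8.ge).trans (h6.trans inf_le_right))
  have h6 : Nat.card ↥(S.X ⊓ @stabilizer G _ _ (cjAct G) P) < Nat.card ↥(S.X ⊓ @stabilizer G _ _ (cjAct G) R) :=
    lt_of_le_of_ne (Subgroup.card_le_of_le h5.le) fun h7 => h5.ne (Subgroup.eq_of_le_of_card_ge h5.le h7.ge)
  rw [S.Orb_eq hR h1] at h4
  have h7 := S.ncard_sdiff a
  have h8 := S.toPS.three_le a
  by_contra h9
  have h10 : (@Orb G _ _ (cjAct G) S.X P).ncard ≤ (S.toPS.Syl {a} \ {S.X}).ncard := by omega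
  have h11 := Nat.mul_lt_mul_of_le_of_lt h10 h6 (by omega)
  omega

end US

/-- an isolated node has at least five chambers -/
theorem Comps.five_le {S : US G p I} {ι : Type*} (C : Comps S ι) [Finite G] [hp : Fact p.Prime] {a : I}
    (hW : S.toPS.W ({a}ᶜ ∪ {a}) = S.toPS.W {a}ᶜ * S.toPS.W {a}) : 5 ≤ S.toPS.W {a} := by
  by_contra h0
  set l := C.c a with hl
  set R := S.toPS.RR {a}ᶜ {a} with hR
  have hE : ∀ l', C.E l' ≤ S.D Set.univ := fun l' => C.top ▸ le_iSup C.E l'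
  have h1 : ∀ g ∈ S.D Set.univ, cj g R = R := by
    rw [← Set.compl_union_self {a}, S.toPS.D_union]
    exact nm_of_sup (fun g hg => S.toPS.nm_RR_of_grid disjoint_compl_left hW hg) fun g hg => S.toPS.nm_RR hg
  have h2 : ∀ g ∈ S.D Set.univ, cj g (C.E l) = C.E l := by
    rw [C.top]
    refine fun g hg => nm_iff.1 ((iSup_le fun l' x hx => nm_iff.2 ?_ : ⨆ l, C.E l ≤ Subgroup.normalizer _) hg)
    by_cases h3 : l' = l
    · exact cj_of_mem (h3 ▸ hx)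
    · exact nm_of_comm fun y hy => C.comm l' l h3 x hx y hy
  have h3 : S.D {a} ≤ S.X ⊔ C.E l := by
    have h4 := C.D_eq {l}
    rw [iSup_singleton] at h4
    rw [← h4]
    exact S.mono (Set.singleton_subset_iff.2 rfl)
  have hRE : R ≤ S.D Set.univ := S.toPS.RR_le.trans (S.toPS.le_univ _)
  have h4 : (R.subgroupOf (C.E l)).Normal := ⟨fun r hr g => nm_conj (K := R) (x := (r : G)) (h1 g (hE l g.2)) hr⟩
  rcases Lib.ComponentSolvable.quasisimple_normal_cases (C.quasi l) h4 with h5 | h5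
  · have h6 : C.E l ≤ S.D {a} := (Subgroup.subgroupOf_eq_top.1 h5).trans S.toPS.RR_le
    let _ : MulAction (C.E l) (S.toPS.Syl {a}) :=
      { smul := fun g P => ⟨cj (g : G) P, cj_mem_Cjs (h6 g.2) P.2⟩
        one_smul := fun P => Subtype.ext (cj_one _)
        mul_smul := fun g g' P => Subtype.ext (cj_mul _ _ _) }
    have h7 : ∀ g ∈ C.E l, cj g S.X = S.X := fun g hg =>
      congrArg Subtype.val (H244.QFour.perf_fix (C.quasi l).1.commutator_eq_top (α := S.toPS.Syl {a})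
        (by rw [Nat.card_coe_set_eq]; exact Nat.le_of_lt_succ (not_le.1 h0)) ⟨g, hg⟩ ⟨S.X, S.toPS.X_mem _⟩)
    obtain ⟨_, ⟨e, he, rfl⟩, h8⟩ := S.toPS.exists_ne a
    exact h8 (nm_of_sup (fun x hx => cj_of_mem hx) h7 e (h3 he))
  · have h6 : ⁅R, C.E l⁆ = ⊥ := by
      refine Lib.ComponentSolvable.commutator_eq_bot_of_perfect (C.quasi l).1 ?_
      rw [Subgroup.commutator_eq_bot_iff_le_centralizer, Subgroup.commutator_le]
      intro r hr e he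
      have h7 : r * e * r⁻¹ * e⁻¹ ∈ C.E l := mul_mem (nm_conj (h2 r (hRE hr)) he) (inv_mem he)
      have h8 : r * e * r⁻¹ * e⁻¹ ∈ R := by
        rw [mul_assoc, mul_assoc, ← mul_assoc e]
        exact mul_mem hr (nm_conj (h1 e (hE l he)) (inv_mem hr))
      refine Subgroup.mem_centralizer_iff.2 fun y hy => ?_
      exact congrArg Subtype.val (Subgroup.mem_center_iff.1 (h5 (show (⟨_, h7⟩ : C.E l) ∈ R.subgroupOf _ from h8)) ⟨y, hy⟩)
    rw [Subgroup.commutator_eq_bot_iff_le_centralizer] at h6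
    have h7 : S.toPS.V {a}ᶜ ≤ S.toPS.V {a} := le_rad (S.toPS.V_le _) fun g hg =>
      nm_of_sup (fun x hx => S.toPS.nm_V (S.toPS.X_le _ hx))
        (fun x hx => nm_of_comm fun y hy => h6 (S.toPS.V_le_RR _ _ hy) x hx) g (h3 hg)
    exact S.toPS.V_le_iff h7 rfl rfl

namespace FD

variable {S : US G p I} {X : Subgroup G} {I' : Type*} {κ : I → I'} (h : FD S.toPS X κ) [Finite G] [hp : Fact p.Prime]

include h

theorem y2 {J : Set I} {Z : Subgroup G} (h1 : Z ≤ X) (h2 : ∀ x ∈ X, cj x Z = Z) {d : G} (hd : d ∈ S.D J)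
    (hne : cj d S.X ≠ S.X) (h3 : Z ≤ cj d X) :
    ∃ a ∈ J, ∀ z ∈ Z, ∀ b, κ b = κ a → ∀ R ∈ S.toPS.Syl {b}, cj z R = R := by
  have hd' := S.toPS.le_univ _ hd
  obtain ⟨a, ha, R, hR, h4, h5, h6⟩ := S.exists_proj ⟨d, hd, rfl⟩ hne
  have h7 : ∀ z ∈ Z, cj z R = R := fun z hz => by
    have h8 := h.nU z (h1 hz)
    have h9 := (h.fix_iff (h1 hz) hd').2 (h3 hz)
    obtain ⟨b, -, hb⟩ := h.exists_node (h1 hz) a
    have h10 := S.toPS.V_eq_of_cj h8 hb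
    have h11 : S.X ⊓ cj d S.X ≤ S.toPS.V {b} := by
      rw [← h10, ← nm_inf h8 h9]
      exact cj_mono z h5
    have h12 : S.toPS.V {a} ≤ S.toPS.V {b} := fun u hu => by
      have hu' := S.toPS.V_le _ hu
      have h13 : z * u * z⁻¹ ∈ S.toPS.V {b} := h10 ▸ conj_mem_cj z hu
      have h14 : z * u * z⁻¹ * u⁻¹ ∈ S.X := mul_mem (nm_conj h8 hu') (inv_mem hu')
      have h15 : z * u * z⁻¹ * u⁻¹ ∈ Z := by
        rw [mul_assoc, mul_assoc, ← mul_assoc u]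
        exact mul_mem hz (nm_conj (h2 u (h.le hu')) (inv_mem hz))
      have h16 : z * u * z⁻¹ * u⁻¹ ∈ cj d S.X := h.cj_inf_E hd' ▸ ⟨h3 h15, S.toPS.X_le _ h14⟩
      have h17 := mul_mem (inv_mem (h11 ⟨h14, h16⟩)) h13
      rwa [show (z * u * z⁻¹ * u⁻¹)⁻¹ * (z * u * z⁻¹) = u by group] at h17
    have h13 : b = a := S.toPS.V_le_iff h12 rfl
    exact h6 z h8 h9 (h13 ▸ hb)
  refine ⟨a, ha, fun z hz b hb R' hR' => ?_⟩
  by_cases h8 : R' = S.X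
  · rw [h8]; exact h.nU z (h1 hz)
  obtain ⟨x, hx, h9⟩ := (h.fib b a).1 hb
  obtain ⟨u, hu, h10⟩ := S.split a R hR h4 _ (h.cj_mem_Syl hx h9 hR') (h.cj_ne hx h8)
  have h11 : R' = cj (x⁻¹ * u) R := by rw [cj_mul, h10, cj_inv_cj]
  rw [h11, nm_cj_iff]
  exact h7 _ (nm_conj' (h2 _ (mul_mem (inv_mem hx) (h.le hu))) hz)

theorem le_ncard_Orb {j : I'} {a c : I} (ha : κ a = j) (hc : κ c = j) (hac : a ≠ c) {P : Subgroup G}
    (hP : P ∈ S.toPS.Syl (κ ⁻¹' {j})) (hne : P ≠ S.X) : S.toPS.W {a} ≤ (@Orb G _ _ (cjAct G) X P).ncard := by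
  have hW : ∀ b, κ b = j → S.toPS.W {b} = S.toPS.W {a} := fun b hb => by
    obtain ⟨x, hx, h1⟩ := (h.fib a b).1 (ha.trans hb.symm)
    exact S.toPS.W_eq_of_cj (h.nU x hx) h1
  have hO : @Orb G _ _ (cjAct G) S.X P ⊆ @Orb G _ _ (cjAct G) X P := fun R ⟨x, hx, h1⟩ => ⟨x, h.le hx, h1⟩
  by_cases h1 : ∀ b ∈ κ ⁻¹' {j}, P ∉ S.toPS.Syl {b}
  · obtain ⟨b, hb, h2⟩ := S.le_ncard_Orb hP h1 hne
    exact ((hW b hb).ge.trans h2).trans (Set.ncard_le_ncard hO)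
  push Not at h1
  obtain ⟨b, hb, h1⟩ := h1
  obtain ⟨d, hd, hbd⟩ : ∃ d, κ d = j ∧ b ≠ d := by
    by_cases h2 : b = a
    · exact ⟨c, hc, h2 ▸ hac⟩
    · exact ⟨a, ha, h2⟩
  obtain ⟨x, hx, h2⟩ := (h.fib b d).1 ((show κ b = j from hb).trans hd.symm)
  have h3 : cj x P ∉ S.toPS.Syl {b} \ {S.X} := fun h3 =>
    h3.2 (S.toPS.eq_X_of_disjoint (Set.disjoint_singleton.2 hbd) h3.1 (h.cj_mem_Syl hx h2 h1))
  rw [← hW b hb, ← S.ncard_sdiff b, ← Set.ncard_insert_of_notMem h3]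
  refine Set.ncard_le_ncard (Set.insert_subset ⟨x, hx, rfl⟩ ?_)
  rwa [← S.Orb_eq h1 hne]

theorem pow_dvd {j : I'} {a c : I} (ha : κ a = j) (hc : κ c = j) (hac : a ≠ c) {n : ℕ}
    (hn : S.toPS.W {a} = p ^ n + 1) : p ^ (n + 1) ∣ S.toPS.W (κ ⁻¹' {j}) - 1 := by
  have h1 : (S.toPS.Syl (κ ⁻¹' {j}) \ {S.X}).ncard + 1 = S.toPS.W (κ ⁻¹' {j}) :=
    Set.ncard_sdiff_singleton_add_one (S.toPS.X_mem _) (finite_Cjs _ _)
  rw [← h1, Nat.add_sub_cancel]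
  refine @dvd_ncard_of_Orb G _ _ (cjAct G) X _ _ (Set.toFinite _)
    (fun x hx P hP => ⟨cj_mem_Cjs_nm (h.nD hx _) (h.nU x hx) hP.1, h.cj_ne hx hP.2⟩) fun P hP => ?_
  obtain ⟨m, hm⟩ := @ncard_Orb_eq_pow G _ p _ _ _ (cjAct G) X h.isP P
  have h2 := h.le_ncard_Orb ha hc hac hP.1 hP.2
  rw [hm] at h2 ⊢
  rw [hn] at h2
  exact pow_dvd_pow p ((Nat.pow_lt_pow_iff_right hp.1.one_lt).1 h2)

theorem fix_eq {j : I'} {a : I} (ha : κ a = j) :
    {P ∈ Cjs (S.D (κ ⁻¹' {j}) ⊔ X) X | X ⊓ FixS (S.toPS.Syl {a}) ≤ P} = Cjs (S.D {a}) X := by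
  ext P
  constructor
  · rintro ⟨h1, h2⟩
    obtain ⟨d, hd, rfl⟩ := h.mem_Cjs.1 h1
    have hd' := S.toPS.le_univ _ hd
    obtain ⟨e, he, h3⟩ := S.vx {a} _ ⟨d, hd', rfl⟩ (fun v hv => by
      rw [← h.cj_inf_E hd']
      exact ⟨h2 ⟨h.le (S.toPS.V_le _ hv), mem_FixS.2 fun R hR => cj_of_mem (rad_le hR hv)⟩,
        S.toPS.X_le _ (S.toPS.V_le _ hv)⟩)
    exact ⟨e, he, (h.cj_eq_iff hd' (S.toPS.le_univ _ he)).2 h3⟩
  · rintro ⟨e, he, rfl⟩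
    exact ⟨h.mem_Cjs.2 ⟨e, S.mono (Set.singleton_subset_iff.2 ha) he, rfl⟩,
      fun k hk => (h.fix_iff hk.1 (S.toPS.le_univ _ he)).1 (mem_FixS.1 hk.2 _ ⟨e, he, rfl⟩)⟩

/-- the folded system -/
def fs {ι : Type*} (C : Comps S ι) : FS G p I' where
  toPS := h.ps S.split
  Y i := X ⊓ FixS {R | ∃ a, κ a = i ∧ R ∈ S.toPS.Syl {a}}
  Y_le i := inf_le_left
  Y_nrm i x hx := nm_of_conj fun y hy => ⟨nm_conj (cj_of_mem hx) hy.1, mem_FixS.2 (by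
    rintro R ⟨a, ha, hR⟩
    obtain ⟨b, hb, h1⟩ := h.exists_node (inv_mem hx) a
    rw [← cj_cj_inv x R]
    exact nm_cj (mem_FixS.1 hy.2 _ ⟨b, hb.trans ha, h.cj_mem_Syl (inv_mem hx) h1 hR⟩))⟩
  y1 i := by
    obtain ⟨a, ha⟩ := h.surj i
    obtain ⟨_, ⟨e, he, rfl⟩, h1⟩ := S.toPS.exists_ne a
    have he' := S.toPS.le_univ _ he
    exact ⟨cj e X, h.mem_Cjs.2 ⟨e, S.mono (Set.singleton_subset_iff.2 ha) he, rfl⟩,
      fun h2 => h1 ((h.cj_eq_self_iff he').1 h2),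
      fun y hy => (h.fix_iff hy.1 he').1 (mem_FixS.1 hy.2 _ ⟨a, ha, e, he, rfl⟩)⟩
  y2 J Z h1 h2 P hP h3 h4 := by
    obtain ⟨d, hd, rfl⟩ := h.mem_Cjs.1 hP
    obtain ⟨a, ha, h5⟩ := h.y2 h1 h2 hd (fun h5 => h3 ((h.cj_eq_self_iff (S.toPS.le_univ _ hd)).2 h5)) h4
    exact ⟨κ a, ha, fun z hz => ⟨h1 hz, mem_FixS.2 fun R ⟨b, hb, hR⟩ => h5 z hz b hb R hR⟩⟩
  y3 i k h1 := by
    obtain ⟨b, rfl⟩ := h.surj k
    have h2 : S.toPS.V (κ ⁻¹' {i}) ≤ S.toPS.V {b} := fun v hv => mem_rad.2 fun R hR =>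
      S.toPS.mem_of_nm_Syl hR (S.toPS.V_le _ hv) (mem_FixS.1 (h1 ⟨h.le (S.toPS.V_le _ hv), mem_FixS.2
        fun R' ⟨a, ha, hR'⟩ => cj_of_mem (rad_le (S.toPS.Syl_mono (Set.singleton_subset_iff.2 ha) hR') hv)⟩).2
        R ⟨b, rfl, hR⟩)
    exact (show κ b = i from S.toPS.V_le_iff h2 rfl).symm
  multi i hi := by
    obtain ⟨a, ha⟩ := h.surj i
    obtain ⟨c, hc, hac⟩ : ∃ c, κ c = i ∧ a ≠ c := by
      by_contra h1
      exact hi (h.split_of (Set.eq_singleton_iff_unique_mem.2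
        ⟨ha, fun c hc => by_contra fun h2 => h1 ⟨c, hc, Ne.symm h2⟩⟩) (S.split a))
    obtain ⟨n, -, hn⟩ := PS.Split.exists_pow (S := S.toPS) (S.split a)
    refine ⟨X ⊓ FixS (S.toPS.Syl {a}), n + 1, fun r hr => ⟨rad_le_self _ _ hr, mem_FixS.2 ?_⟩, inf_le_left, ?_, ?_⟩
    · rintro _ ⟨e, he, rfl⟩
      exact (h.fix_iff (rad_le_self _ _ hr) (S.toPS.le_univ _ he)).2
        (rad_le (h.mem_Cjs.2 ⟨e, S.mono (Set.singleton_subset_iff.2 ha) he, rfl⟩) hr)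
    · exact (h.W_eq {i}).symm ▸ h.pow_dvd ha hc hac hn
    · show ¬ p ^ (n + 1) ∣ {P ∈ Cjs (S.D (κ ⁻¹' {i}) ⊔ X) X | X ⊓ FixS (S.toPS.Syl {a}) ≤ P}.ncard - 1
      rw [h.fix_eq ha, show (Cjs (S.D {a}) X).ncard = S.toPS.W {a} from h.nS_eq _, hn, Nat.add_sub_cancel,
        Nat.pow_dvd_pow_iff_le_right hp.1.one_lt]
      omega
  iso5 i h1 h2 := by
    obtain ⟨a, ha, h3⟩ := h.exists_fibre h1
    have h4 := (h.ps S.split).W_union (J := {i}ᶜ) (L := {i}) disjoint_compl_left fun k _ j hj h4 =>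
      h2 k (by rw [← show j = i from hj]; exact (h.ps S.split).adj_symm h4)
    have h5 : ∀ J, (h.ps S.split).W J = S.toPS.W (κ ⁻¹' J) := h.W_eq
    rw [h5, h5, h5, Set.preimage_union, Set.preimage_compl, h3] at h4
    show 5 ≤ (h.ps S.split).W {i}
    rw [h5, h3]
    exact C.five_le h4

theorem rig (h1 : ∀ i, Spl (S.D (κ ⁻¹' {i}) ⊔ X) X ∧ nS (S.D (κ ⁻¹' {i}) ⊔ X) X = 3) {g : G}
    (hE : cj g (S.D Set.univ) = S.D Set.univ) (hX : cj g X = X)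
    (h2 : ∀ i, cj g (S.D (κ ⁻¹' {i}) ⊔ X) = S.D (κ ⁻¹' {i}) ⊔ X) :
    ∃ x ∈ X, ∀ P ∈ Cjs (S.D Set.univ ⊔ X) X, cj (x * g) P = P := by
  have hU : cj g S.X = S.X := by rw [← h.inf]; exact nm_inf hX hE
  have h3 : ∀ a, κ ⁻¹' {κ a} = {a} := fun a =>
    Set.eq_singleton_iff_unique_mem.2 ⟨rfl, fun b hb => h.eq_of_split (h1 _).1 hb rfl⟩
  have h4 : ∀ a, cj g (S.D {a}) = S.D {a} := fun a => by
    rw [← h3 a, ← h.sup_inf]
    exact nm_inf (h2 _) hE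
  have h5 : ∀ a, S.toPS.W {a} = 3 := fun a => by rw [← h3 a, ← h.W_eq, (h1 _).2]
  obtain ⟨P₀, hP₀, h6, h7, h8, h9⟩ := S.opp
  obtain ⟨u, hu, h10⟩ := h7 _ (cj_mem_Cjs_nm hE hU hP₀) (by rw [← hU, ← cj_inf, h6, cj_bot])
  rw [← cj_mul] at h10
  have hE' : cj (u * g) (S.D Set.univ) = S.D Set.univ := nm_mul (S.toPS.nm_X hu _) hE
  have hU' : cj (u * g) S.X = S.X := nm_mul (cj_of_mem hu) hU
  have h11 := h9 (u * g) hE' h10 fun a R hR => by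
    have hD : cj (u * g) (S.D {a}) = S.D {a} := nm_mul (S.toPS.nm_X hu _) (h4 a)
    obtain ⟨R₀, hR₀, h12, h13⟩ := h8 a
    have h14 : cj (u * g) R₀ = R₀ := by
      by_contra h14
      have h15 := h13 _ (cj_mem_Cjs_nm hD hU' hR₀) h14
      rw [← h10, ← cj_inf, cj_eq_bot] at h15
      exact h12 h15
    have h15 : R₀ ≠ S.X := fun h15 => h12 (h15 ▸ h6)
    by_contra h16
    have h17 : R ≠ S.X := fun h17 => h16 (h17 ▸ hU')
    have h18 : R ≠ R₀ := fun h18 => h16 (h18 ▸ h14)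
    have h19 : cj (u * g) R ≠ S.X := fun h19 => h17 (cj_inj _ (h19.trans hU'.symm))
    have h20 : cj (u * g) R ≠ R₀ := fun h20 => h18 (cj_inj _ (h20.trans h14.symm))
    have h21 : ({cj (u * g) R, R, R₀, S.X} : Set (Subgroup G)).ncard ≤ S.toPS.W {a} :=
      Set.ncard_le_ncard (Set.insert_subset (cj_mem_Cjs_nm hD hU' hR) (Set.insert_subset hR
        (Set.pair_subset hR₀ (S.toPS.X_mem _))))
    rw [Set.ncard_insert_of_notMem (by simp [h16, h19, h20]), Set.ncard_insert_of_notMem (by simp [h17, h18]),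
      Set.ncard_pair h15, h5] at h21
    omega
  refine ⟨u, h.le hu, fun P hP => ?_⟩
  obtain ⟨e, he, rfl⟩ := h.mem_Cjs (J := Set.univ).1 hP
  have h12 : ∀ K : Subgroup G, cj (u * g) K = K → cj (u * g) (cj e K) = cj (u * g * e * (u * g)⁻¹) K := fun K hK => by
    rw [cj_mul (u * g * e), nm_inv hK, ← cj_mul]
  rw [h12 X (nm_mul (cj_of_mem (h.le hu)) hX), h.cj_eq_iff (nm_conj hE' he) he, ← h12 _ hU']
  exact h11 _ ⟨e, he, rfl⟩

end FD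

/-- **[FOLD]** -/
theorem boxFold : BoxFold := by
  intro G _ _ Ω _ T p a I ι _ _ S C hp hT hS
  have := Fact.mk hp
  let L : Subgroup G := T ⊓ stabilizer G a ⊓ Subgroup.normalizer (S.X : Set G)
  obtain ⟨h1, h2, h3⟩ := Op_spec (p := p) L
  have hL : ∀ g : G, g • a = a → cj g S.X = S.X → cj g (Op p L) = Op p L := fun g h4 h5 =>
    nm_Op (nm_inf (nm_inf (cj_normal g T) (nm_stab h4)) (by rw [cj_normalizer, h5]))
  let r : Setoid I :=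
    ⟨fun i k => ∃ x ∈ Op p L, cj x (S.D {i}) = S.D {k}, fun i => ⟨1, one_mem _, cj_one _⟩,
      fun ⟨x, hx, h4⟩ => ⟨x⁻¹, inv_mem hx, by rw [← h4, cj_inv_cj]⟩,
      fun ⟨x, hx, h4⟩ ⟨y, hy, h5⟩ => ⟨y * x, mul_mem hy hx, by rw [cj_mul, h4, h5]⟩⟩
  have h : FD S.toPS (Op p L) (Quotient.mk r) :=
    { le := le_Op (le_inf hS.X_le fun x hx => nm_iff.2 (cj_of_mem hx)) S.isP fun g hg => nm_iff.1 hg.2
      isP := h2
      nU := fun x hx => nm_iff.1 (h1 hx).2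
      nE := fun x hx => hS.nrmH x (h1 hx).1.2
      nX := fun n hn h4 => hL n (hS.fix hn) h4
      surj := Quotient.mk_surjective
      fib := fun i k => Quotient.eq }
  refine ⟨Quotient r, inferInstance, h.fs C, Quotient.mk r, ⟨⟨?_, ?_, fun g hg => ?_⟩, ?_, ?_⟩,
    h.surj, fun _ => rfl, h.inf, hL, fun i k => (h.fib i k).1⟩
  · exact sup_le hS.leT (h1.trans (inf_le_left.trans inf_le_left))
  · exact sup_le hS.fix (h1.trans (inf_le_left.trans inf_le_right))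
  · obtain ⟨n, hn, h4⟩ := S.toPS.maxP.frattini (hS.nrmH g hg)
    have h5 : (n⁻¹ * g) • a = a := by rw [mul_smul, hg, inv_smul_eq_iff]; exact (hS.fix hn).symm
    rw [← mul_inv_cancel_left n g]
    exact nm_mul (cj_of_mem (Subgroup.mem_sup_left hn)) (nm_sup (hS.nrmH _ h5) (hL _ h5 h4))
  · intro P h4 h5 h6 h7 h8
    refine le_Op (le_inf (le_inf h5 h6) fun g hg => nm_iff.2 ?_) h4 fun g hg => h8 g hg.1.1 hg.1.2 (h3 g hg)
    rw [← h.inf]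
    exact nm_inf (h7 g hg) (hS.nrmH g (h6 hg))
  · intro h4 g h5 h6 h7
    exact h.rig h4 (hS.nrmH g h5) h6 h7

end Cfsg.Agent.TH.Own
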