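import Mathlib
import Cfsg.Agent.TH.Own.Count

/-!
# S3541, `BoxOne`: labels and atoms (helper74)

`N_G(X)` permutes the labels `Y i`; `atm g k` is the group of rank one with label `k` at the good point `g a`.
-/

set_option autoImplicit false
set_option linter.unusedSectionVars false
set_option linter.unusedVariables false

namespace Cfsg.Agent.TH.Own

open MulAction

variable {G : Type*} [Group G] {p : ℕ} {I : Type*}

namespace FS

variable (F : FS G p I)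

open Classical in
/-- the action of `N_G(X)` on the labels -/
noncomputable def lab (g : G) (i : I) : I := if h : ∃ k, cj g (F.Y i) = F.Y k then h.choose else i

/-- the atom with label `k` at the point `g a` -/
noncomputable def atm (g : G) (k : I) : Subgroup G := cj g (F.D {F.lab g⁻¹ k})

/-- the nodes whose group fixes `b` -/
abbrev J {Ω : Type*} [MulAction G Ω] (b : Ω) : Set I := F.toPS.typ (stabilizer G b)

variable {F}

theorem mem_J {Ω : Type*} [MulAction G Ω] {b : Ω} {i : I} : i ∈ F.J b ↔ F.D {i} ≤ stabilizer G b := Iff.rfl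

theorem lab_eq {g : G} {i k : I} (h : cj g (F.Y i) = F.Y k) : F.lab g i = k := by
  have h1 : ∃ k, cj g (F.Y i) = F.Y k := ⟨k, h⟩
  rw [lab, dif_pos h1]
  exact F.y3 _ _ (h1.choose_spec.symm.trans h).le

theorem lab_one (i : I) : F.lab 1 i = i := lab_eq (cj_one _)

theorem atm_one (k : I) : F.atm 1 k = F.D {k} := by rw [atm, inv_one, lab_one, cj_one]

theorem le_Y {i : I} {Z P : Subgroup G} (h1 : Z ≤ F.X) (h2 : ∀ x ∈ F.X, cj x Z = Z) (hP : P ∈ F.toPS.Syl {i})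
    (hne : P ≠ F.X) (h3 : Z ≤ P) : Z ≤ F.Y i := by
  obtain ⟨k, hk, h4⟩ := F.y2 {i} Z h1 h2 P hP hne h3
  rwa [show k = i from hk] at h4

theorem V_le_Y (i : I) : F.toPS.V {i} ≤ F.Y i := by
  obtain ⟨P, hP, hne⟩ := F.toPS.exists_ne i
  exact le_Y (F.toPS.V_le _) (fun x hx => F.toPS.nm_V (F.toPS.X_le _ hx)) hP hne (rad_le hP)

end FS

/-- the hypotheses of `BoxOne` -/
structure Cx (F : FS G p I) {Ω : Type*} [MulAction G Ω] (T : Subgroup G) (m : ℕ) (a : Ω) : Prop where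
  A : Amb Ω T p m
  h : F.At T a

namespace Cx

variable {Ω : Type*} [MulAction G Ω] {F : FS G p I} {T : Subgroup G} {m : ℕ} {a : Ω} [Finite G] [hp : Fact p.Prime]
  (c : Cx F T m a)

include c

theorem S : F.toPS.At T a := c.h.toAt

theorem conj (g : G) : Cx (F.conj g) T m (g • a) :=
  have := c.A.nrm
  ⟨c.A, c.h.conj g⟩

theorem X_fix {g : G} (hg : cj g F.X = F.X) : F.X ≤ stabilizer G (g • a) := le_stab_smul hg c.S.X_fix

theorem Y_le {g : G} (hg : cj g F.X = F.X) (i : I) : ∃ k, F.Y i ≤ cj g (F.Y k) := by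
  have h1 := (c.conj g).S
  have hX : (F.conj g).X = F.X := hg
  obtain ⟨_, ⟨e, he, rfl⟩, hne, h2⟩ := F.y1 i
  obtain ⟨R, hR, h3, h4⟩ : ∃ R ∈ (F.conj g).toPS.Syl Set.univ, R ≠ F.X ∧ F.Y i ≤ R := by
    by_cases h3 : F.D {i} ≤ stabilizer G (g • a)
    · exact ⟨_, h1.cj_mem_Syl (h3 he) ((F.conj g).toPS.X_mem _), hX.symm ▸ hne, hX.symm ▸ h2⟩
    have h4 : cj e F.X ≤ stabilizer G (e • g • a) := cj_le_stab.2 (c.X_fix hg)
    obtain ⟨R, hR, h5, h6⟩ := h1.exists_Syl c.A (F.isP.to_le (F.Y_le i))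
      ((F.Y_le i).trans (hX.ge.trans ((F.conj g).toPS.X_le _))) (h2.trans h4)
    refine ⟨R, hR, fun h7 => h3 ?_, h5⟩
    have h8 := F.toPS.D_le_of_two ⟨e, he, rfl⟩ hne (h7 ▸ h6) h4
    rwa [← cj_of_mem he, cj_le_stab] at h8
  obtain ⟨k, -, h5⟩ := (F.conj g).y2 Set.univ (F.Y i) (hX.symm ▸ F.Y_le i) (hX.symm ▸ F.Y_nrm i) R hR
    (hX.symm ▸ h3) h4
  exact ⟨k, h5⟩

theorem cj_Y {g : G} (hg : cj g F.X = F.X) (i : I) : cj g (F.Y i) = F.Y (F.lab g i) := by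
  obtain ⟨k, h1⟩ := c.Y_le (nm_inv hg) i
  obtain ⟨l, h2⟩ := c.Y_le hg k
  have h3 : F.Y i ≤ F.Y l := by
    have h4 := h1.trans (cj_mono _ h2)
    rwa [cj_inv_cj] at h4
  have h4 : cj g (F.Y i) = F.Y k := le_antisymm ((cj_le_iff g).2 h1) (by rw [F.y3 i l h3]; exact h2)
  rw [FS.lab_eq h4, h4]

theorem lab_mul {g g' : G} (hg : cj g F.X = F.X) (hg' : cj g' F.X = F.X) (i : I) :
    F.lab (g * g') i = F.lab g (F.lab g' i) := FS.lab_eq (by rw [cj_mul, c.cj_Y hg', c.cj_Y hg])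

theorem lab_inv_lab {g : G} (hg : cj g F.X = F.X) (i : I) : F.lab g⁻¹ (F.lab g i) = i := by
  rw [← c.lab_mul (nm_inv hg) hg, inv_mul_cancel, FS.lab_one]

theorem lab_lab_inv {g : G} (hg : cj g F.X = F.X) (i : I) : F.lab g (F.lab g⁻¹ i) = i := by
  rw [← c.lab_mul hg (nm_inv hg), mul_inv_cancel, FS.lab_one]

theorem lab_inj {g : G} (hg : cj g F.X = F.X) {i k : I} (h : F.lab g i = F.lab g k) : i = k := by
  rw [← c.lab_inv_lab hg i, h, c.lab_inv_lab hg]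

theorem lab_inv_eq {g : G} (hg : cj g F.X = F.X) {i k : I} (h : F.lab g i = k) : F.lab g⁻¹ k = i := by
  rw [← h, c.lab_inv_lab hg]

theorem lab_of_cj {g : G} (hg : cj g F.X = F.X) {i k : I} (h : cj g (F.D {i}) = F.D {k}) : F.lab g i = k := by
  obtain ⟨P, hP, hne, h1⟩ := F.y1 i
  refine F.y3 _ _ (FS.le_Y (F.Y_le _) (F.Y_nrm _) (P := cj g P) ?_ (fun h2 => hne (cj_inj g (h2.trans hg.symm))) ?_)
  · show _ ∈ Cjs (F.D {k}) F.X
    rw [← h, ← hg]
    exact cj_mem_Cjs_cj.2 hP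
  · rw [← c.cj_Y hg]
    exact cj_mono g h1

theorem lab_of_nm_V {g : G} (hg : cj g F.X = F.X) {j : I} (h : cj g (F.toPS.V {j}) = F.toPS.V {j}) :
    F.lab g j = j := by
  obtain ⟨P, hP, hne, h1⟩ := F.y1 (F.lab g j)
  by_contra h2
  refine hne (F.toPS.eq_X_of_disjoint (Set.disjoint_singleton.2 h2) hP
    (F.vx _ P (F.toPS.Syl_mono (Set.subset_univ _) hP) (le_trans ?_ h1)))
  rw [← c.cj_Y hg]
  exact h.ge.trans (cj_mono g (FS.V_le_Y j))

theorem cj_D {g : G} (ha : g • a = a) (hg : cj g F.X = F.X) (i : I) : cj g (F.D {i}) = F.D {F.lab g i} := by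
  obtain ⟨k, hk⟩ := F.toPS.exists_perm (c.S.nrmH g ha) hg i
  rw [c.lab_of_cj hg hk, hk]

theorem lab_E {g : G} (he : g ∈ F.D Set.univ) (hg : cj g F.X = F.X) (i : I) : F.lab g i = i :=
  c.lab_of_cj hg (F.nrm g he hg _)

theorem lab_X {x : G} (hx : x ∈ F.X) (i : I) : F.lab x i = i := c.lab_E (F.toPS.X_le _ hx) (cj_of_mem hx) i

theorem cj_D_set {g : G} (ha : g • a = a) (hg : cj g F.X = F.X) {J L : Set I} (h : ∀ i, i ∈ J ↔ F.lab g i ∈ L) :
    cj g (F.D J) = F.D L :=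
  F.toPS.cj_D_eq hg (fun i hi => ⟨_, (h i).1 hi, c.cj_D ha hg i⟩) fun k hk =>
    ⟨F.lab g⁻¹ k, (h _).2 (by rwa [c.lab_lab_inv hg]), by rw [c.cj_D ha hg, c.lab_lab_inv hg]⟩

theorem lab_mem_J {g : G} (ha : g • a = a) (hg : cj g F.X = F.X) {b : Ω} {i : I} :
    F.lab g i ∈ F.J (g • b) ↔ i ∈ F.J b := by
  rw [FS.mem_J, ← c.cj_D ha hg, cj_le_stab, FS.mem_J]

theorem adj_lab {g : G} (ha : g • a = a) (hg : cj g F.X = F.X) {i k : I} (h : F.toPS.Adj i k) :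
    F.toPS.Adj (F.lab g i) (F.lab g k) := F.toPS.adj_of_cj hg (c.cj_D ha hg i) (c.cj_D ha hg k) h

theorem atm_lab {g : G} (hg : cj g F.X = F.X) (i : I) : F.atm g (F.lab g i) = cj g (F.D {i}) := by
  rw [FS.atm, c.lab_inv_lab hg]

theorem atm_mul {g g' : G} (hg : cj g F.X = F.X) (hg' : cj g' F.X = F.X) (k : I) :
    F.atm (g * g') k = cj g (F.atm g' (F.lab g⁻¹ k)) := by
  rw [FS.atm, FS.atm, mul_inv_rev, c.lab_mul (nm_inv hg') (nm_inv hg), cj_mul]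

theorem cj_atm {g g' : G} (hg : cj g F.X = F.X) (hg' : cj g' F.X = F.X) (k : I) :
    cj g (F.atm g' k) = F.atm (g * g') (F.lab g k) := by
  rw [c.atm_mul hg hg', c.lab_inv_lab hg]

theorem atm_H {g : G} (ha : g • a = a) (hg : cj g F.X = F.X) (k : I) : F.atm g k = F.D {k} := by
  rw [FS.atm, c.cj_D ha hg, c.lab_lab_inv hg]

theorem atm_congr {g g' : G} (hg : cj g F.X = F.X) (hg' : cj g' F.X = F.X) (h : g • a = g' • a) (k : I) :
    F.atm g k = F.atm g' k := by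
  have h1 := nm_mul (nm_inv hg) hg'
  rw [← mul_inv_cancel_left g g', c.atm_mul hg h1, c.atm_H (by rw [mul_smul, ← h, inv_smul_smul]) h1, FS.atm]

theorem atm_fix (g : G) (k : I) : F.atm g k ≤ stabilizer G (g • a) := cj_le_stab.2 (c.S.D_fix _)

theorem X_le_atm {g : G} (hg : cj g F.X = F.X) (k : I) : F.X ≤ F.atm g k :=
  hg.ge.trans (cj_mono g (F.toPS.X_le _))

theorem atm_T (g : G) (k : I) : F.atm g k ≤ T :=
  have := c.A.nrm
  (cj_mono g (c.S.D_T _)).trans (cj_normal g T).le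

/-- a group `D {k}` which fixes a good point is an atom of it -/
theorem mem_J_iff {g : G} (hg : cj g F.X = F.X) {k : I} : k ∈ F.J (g • a) ↔ F.atm g k = F.D {k} := by
  refine ⟨fun h => ?_, fun h => h.ge.trans (c.atm_fix g k)⟩
  have h1 := (c.conj g).S
  have hX : (F.conj g).X = F.X := hg
  obtain ⟨_, ⟨e, he, rfl⟩, hne⟩ := F.toPS.exists_ne k
  have h2 := (F.conj g).toPS.mem_Syl_typ (K := F.D {k}) (hX.le.trans (F.toPS.X_le _))
    (h1.cj_mem_Syl (h he) ((F.conj g).toPS.X_mem _)) (hX.symm ▸ F.toPS.Syl_le ⟨e, he, rfl⟩)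
  obtain ⟨i, hi⟩ : ((F.conj g).toPS.typ (F.D {k})).Nonempty := Set.nonempty_iff_ne_empty.2 fun h3 => by
    rw [h3] at h2
    have h4 := (F.conj g).toPS.Syl_empty h2
    rw [hX] at h4
    exact hne h4
  obtain ⟨P, hP, h3⟩ := (F.conj g).toPS.exists_ne i
  have h4 : P ≤ (F.conj g).D {i} := (F.conj g).toPS.Syl_le hP
  have h5 : P ∈ F.toPS.Syl {k} := (F.toPS.maxD {k}).mem_Cjs ((F.toPS.maxD {k}).of_card ((F.conj g).toPS.Syl_isP hP)
    (h4.trans hi) (by rw [card_of_mem_Cjs hP, hX]))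
  have h6 : cj g (F.D {i}) = F.D {k} :=
    le_antisymm hi (F.toPS.D_le_of_two h5 (hX ▸ h3) (hX.ge.trans ((F.conj g).toPS.X_le _)) h4)
  rw [← c.lab_of_cj hg h6, c.atm_lab hg, c.lab_of_cj hg h6, h6]

theorem atm_fix_iff {g g' : G} (hg : cj g F.X = F.X) (hg' : cj g' F.X = F.X) {k : I} :
    F.atm g' k ≤ stabilizer G (g • a) ↔ F.atm g k = F.atm g' k := by
  refine ⟨fun h => ?_, fun h => h.ge.trans (c.atm_fix g k)⟩
  rw [FS.atm, cj_le_stab', ← mul_smul] at h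
  have h1 := (c.mem_J_iff (nm_mul (nm_inv hg') hg)).1 h
  rw [c.atm_mul (nm_inv hg') hg, inv_inv, c.lab_lab_inv hg'] at h1
  rw [FS.atm.eq_1 F g', ← h1, cj_cj_inv]

/-- a good point is determined by its atoms -/
theorem smul_eq_of_atm {g g' : G} (hg : cj g F.X = F.X) (hg' : cj g' F.X = F.X) (h : ∀ k, F.atm g k = F.atm g' k) :
    g • a = g' • a := by
  have h1 := nm_mul (nm_inv hg') hg
  have h2 : ∀ k, F.atm (g'⁻¹ * g) k = F.D {k} := fun k => by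
    rw [c.atm_mul (nm_inv hg') hg, h, inv_inv, c.atm_lab hg', cj_inv_cj]
  have h3 := c.S.smul_eq c.A (F.toPS.cj_D_eq h1 (J := Set.univ) (L := Set.univ)
    (fun i _ => ⟨_, trivial, by rw [← c.atm_lab h1, h2]⟩) fun k _ => ⟨_, trivial, h2 k⟩)
  rwa [mul_smul, inv_smul_eq_iff] at h3

theorem eq_of_J {g : G} (hg : cj g F.X = F.X) (h : ∀ k, k ∈ F.J (g • a)) : g • a = a := by
  have h1 := c.smul_eq_of_atm hg (cj_one _) fun k => by rw [FS.atm_one, (c.mem_J_iff hg).1 (h k)]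
  rwa [one_smul] at h1

theorem exists_not_J {g : G} (hg : cj g F.X = F.X) (h : g • a ≠ a) : ∃ k, k ∉ F.J (g • a) :=
  not_forall.1 fun h1 => h (c.eq_of_J hg h1)

/-- the restriction of a word is fixed by the stabiliser of the support -/
theorem fix_of_restrict {g g' : G} (hg : cj g F.X = F.X) (hg' : cj g' F.X = F.X) {A : Set I}
    (h1 : ∀ k ∈ A, F.atm g k = F.atm g' k) (h2 : ∀ k, k ∉ A → k ∈ F.J (g • a)) {h : G} (hh : h ∈ BH a (g' • a) F.X)
    (h3 : ∀ k, F.lab h⁻¹ k ∈ A ↔ k ∈ A) : h • g • a = g • a := by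
  have h4 := nm_iff.1 hh.2
  rw [← mul_smul]
  refine c.smul_eq_of_atm (nm_mul h4 hg) hg fun k => ?_
  rw [c.atm_mul h4 hg]
  by_cases hk : k ∈ A
  · rw [h1 _ ((h3 k).2 hk), ← c.atm_mul h4 hg', h1 k hk]
    exact c.atm_congr (nm_mul h4 hg') hg' ((mul_smul _ _ _).trans hh.1.2) k
  · rw [(c.mem_J_iff hg).1 (h2 _ fun h5 => hk ((h3 k).1 h5)), (c.mem_J_iff hg).1 (h2 k hk), c.cj_D hh.1.1 h4,
      c.lab_lab_inv h4]

/-- an element of `N(X)` which normalises `D {k}` -/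
theorem mem_J_of_nm {g : G} {k : I} (h : cj g (F.D {k}) = F.D {k}) {b : Ω} : k ∈ F.J (g • b) ↔ k ∈ F.J b := by
  rw [FS.mem_J, ← h, cj_le_stab, FS.mem_J]

theorem nm_of_mem_J {g : G} (hg : cj g F.X = F.X) {k : I} (h1 : F.lab g k = k) (h2 : k ∈ F.J (g • a)) :
    cj g (F.D {k}) = F.D {k} := by
  rw [← c.atm_lab hg, h1, (c.mem_J_iff hg).1 h2]

theorem self_mem_J (k : I) : k ∈ F.J a := c.S.D_fix _

/-- not doubly transitive -/
theorem not_two (h : ∀ b d : Ω, b ≠ a → d ≠ a → F.X ≤ stabilizer G b → F.X ≤ stabilizer G d →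
    ∃ g : G, g • a = a ∧ g • b = d) : False := c.A.not_trans F.isP c.S.X_T c.S.X_fix h

end Cx

end Cfsg.Agent.TH.Own
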