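import Mathlib
import Cfsg.Agent.TH.Own.Lab

/-!
# S3541, `BoxOne`: orbits of `Np`, their modules, affine nodes (helper74)
-/

set_option autoImplicit false
set_option linter.unusedSectionVars false
set_option linter.unusedVariables false

namespace Cfsg.Agent.TH.Own

open MulAction

variable {G : Type*} [Group G] {p : ℕ} {I : Type*} {Ω : Type*} [MulAction G Ω]

theorem cj_Op [Finite G] [Fact p.Prime] (g : G) (L : Subgroup G) : cj g (Op p L) = Op p (cj g L) := by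
  have key : ∀ (g : G) (L : Subgroup G), cj g (Op p L) ≤ Op p (cj g L) := fun g L => by
    obtain ⟨h1, h2, h3⟩ := Op_spec (p := p) L
    exact le_Op (cj_mono g h1) (isPGroup_cj h2 g) fun x hx => nm_cj_iff.2 (h3 _ (mem_cj.1 hx))
  refine le_antisymm (key g L) ?_
  have h1 := key g⁻¹ (cj g L)
  rwa [cj_inv_cj, cj_le_iff, inv_inv] at h1

theorem cj_inf_nm {g : G} {X : Subgroup G} (h : cj g X = X) (D : Subgroup G) :
    cj g (D ⊓ Subgroup.normalizer (X : Set G)) = cj g D ⊓ Subgroup.normalizer (X : Set G) := by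
  rw [cj_inf, cj_normalizer, h]

theorem Op_eq [Finite G] [Fact p.Prime] {D X M : Subgroup G} (hX : MaxP p D X) (hM : IsPGroup p M) (h1 : X ≤ M)
    (h2 : ∀ d ∈ D ⊓ Subgroup.normalizer (X : Set G), cj d M = M) :
    Op p (M ⊔ D ⊓ Subgroup.normalizer (X : Set G)) = M := by
  obtain ⟨h3, h4, -⟩ := Op_spec (p := p) (M ⊔ D ⊓ Subgroup.normalizer (X : Set G))
  have h5 := le_Op (le_sup_left : M ≤ M ⊔ D ⊓ Subgroup.normalizer (X : Set G)) hM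
    (nm_of_sup (fun x hx => cj_of_mem hx) h2)
  refine le_antisymm (fun o ho => ?_) h5
  obtain ⟨x, hx, d, hd, rfl⟩ := mem_sup_nm' h2 (sup_comm M _ ▸ h3 ho)
  obtain ⟨n, hn⟩ := exists_pow_of_isP h4 ((mul_mem_cancel_left (h5 hx)).1 ho)
  exact mul_mem hx (h1 (hX.mem_of_nm hn hd.1 (nm_iff.1 hd.2)))

namespace FS

variable (F : FS G p I)

/-- the orbit of a node under `Np` -/
def Ob (T : Subgroup G) (a : Ω) (i : I) : Set I := {k | ∃ g ∈ Np p T a F.X, F.lab g i = k}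

/-- the module of an invariant set of nodes -/
structure Mdl (T : Subgroup G) (a : Ω) (J : Set I) (Q : Subgroup G) : Prop where
  md : Md p a (F.D J) F.X (F.toPS.V J) Q
  leT : Q ≤ T
  ne : ¬ Q ≤ F.toPS.V J
  semi : Semi Ω (F.toPS.V J) Q
  can : ∀ g : G, cj g (F.toPS.V J) = F.toPS.V J → cj g Q = Q

/-- `j` is active in the module `Q` of `J` -/
structure AIn (T : Subgroup G) (a : Ω) (J : Set I) (Q : Subgroup G) (j : I) : Prop extends F.Mdl T a J Q where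
  mem : j ∈ J
  act : F.toPS.Act (F.toPS.V J) Q j

/-- the group generated by the atoms -/
noncomputable def YY (j : I) : Subgroup G := ⨆ g : {g : G // cj g F.X = F.X}, F.atm g j

/-- the group generated by the Borel subgroups of the atoms -/
noncomputable def R1 (j : I) : Subgroup G :=
  ⨆ g : {g : G // cj g F.X = F.X}, F.atm g j ⊓ Subgroup.normalizer (F.X : Set G)

noncomputable def M1 (j : I) : Subgroup G := Op p (F.R1 j)

noncomputable def M2 (j : I) : Subgroup G := Op p (F.YY j ⊓ Subgroup.normalizer (F.X : Set G))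

variable (Ω) in
/-- the node `j` is affine with translation group `M / X` -/
structure Aff (T : Subgroup G) (j : I) (M : Subgroup G) : Prop where
  X_le : F.X ≤ M
  isP : IsPGroup p M
  leT : M ≤ T
  nmX : ∀ w ∈ M, cj w F.X = F.X
  nmV : ∀ w ∈ M, cj w (F.toPS.V {j}) = F.toPS.V {j}
  semi : ∀ b : Ω, F.X ≤ stabilizer G b → ∀ w ∈ M, w • b = b → w ∈ F.X
  ex : ∀ b : Ω, F.X ≤ stabilizer G b → ∃ w ∈ M, j ∈ F.J (w • b)
  uniq : ∀ b : Ω, j ∈ F.J b → ∀ w ∈ M, j ∈ F.J (w • b) → w ∈ F.X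
  nmB : ∀ d ∈ F.D {j}, cj d F.X = F.X → cj d M = M
  trans : ∀ w ∈ M, w ∉ F.X → ∀ w' ∈ M, w' ∉ F.X → ∃ d ∈ F.D {j}, cj d F.X = F.X ∧ w'⁻¹ * (d * w * d⁻¹) ∈ F.X
  ne : ∃ w ∈ M, w ∉ F.X
  three : F.toPS.W {j} ≠ 3 → ∃ w ∈ M, ∃ w' ∈ M, w ∉ F.X ∧ w' ∉ F.X ∧ w⁻¹ * w' ∉ F.X
  two : F.toPS.W {j} = 3 → ∀ w ∈ M, ∀ w' ∈ M, w ∉ F.X → w' ∉ F.X → w⁻¹ * w' ∈ F.X

variable {F}

theorem atm_le_YY {g : G} (hg : cj g F.X = F.X) (j : I) : F.atm g j ≤ F.YY j :=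
  le_iSup (fun g : {g : G // cj g F.X = F.X} => F.atm g j) ⟨g, hg⟩

theorem atm_le_R1 {g : G} (hg : cj g F.X = F.X) (j : I) : F.atm g j ⊓ Subgroup.normalizer (F.X : Set G) ≤ F.R1 j :=
  le_iSup (fun g : {g : G // cj g F.X = F.X} => F.atm g j ⊓ Subgroup.normalizer (F.X : Set G)) ⟨g, hg⟩

end FS

variable {F : FS G p I} {T : Subgroup G} {m : ℕ} {a : Ω} [Finite G] [hp : Fact p.Prime]

namespace Cx

variable (c : Cx F T m a)

include c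

theorem self_mem_Ob (i : I) : i ∈ F.Ob T a i := ⟨1, one_mem _, FS.lab_one i⟩

theorem lab_mem_Ob {g : G} (hg : g ∈ Np p T a F.X) {i k : I} (h : k ∈ F.Ob T a i) : F.lab g k ∈ F.Ob T a i := by
  obtain ⟨x, hx, rfl⟩ := h
  exact ⟨g * x, mul_mem hg hx, c.lab_mul (Np_nm hg) (Np_nm hx) i⟩

theorem Ob_eq {i k : I} (h : k ∈ F.Ob T a i) : F.Ob T a k = F.Ob T a i := by
  refine Set.Subset.antisymm (by rintro _ ⟨g, hg, rfl⟩; exact c.lab_mem_Ob hg h) ?_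
  obtain ⟨x, hx, rfl⟩ := h
  rintro _ ⟨g, hg, rfl⟩
  exact c.lab_mem_Ob hg ⟨x⁻¹, inv_mem hx, c.lab_inv_lab (Np_nm hx) i⟩

theorem Ob_symm {i k : I} (h : k ∈ F.Ob T a i) : i ∈ F.Ob T a k := c.Ob_eq h ▸ c.self_mem_Ob i

theorem Ob_trans {i k l : I} (h : k ∈ F.Ob T a i) (h' : l ∈ F.Ob T a i) : l ∈ F.Ob T a k := c.Ob_eq h ▸ h'

theorem lab_mem_Ob_iff {g : G} (hg : g ∈ Np p T a F.X) {i k : I} : F.lab g k ∈ F.Ob T a i ↔ k ∈ F.Ob T a i :=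
  ⟨fun h => c.lab_inv_lab (Np_nm hg) k ▸ c.lab_mem_Ob (inv_mem hg) h, c.lab_mem_Ob hg⟩

theorem lab_Ob {h : G} (ha : h • a = a) (hh : cj h F.X = F.X) {i k : I} :
    F.lab h k ∈ F.Ob T a (F.lab h i) ↔ k ∈ F.Ob T a i := by
  have := c.A.nrm
  have key : ∀ {h : G}, h • a = a → cj h F.X = F.X → ∀ {i k : I}, k ∈ F.Ob T a i →
      F.lab h k ∈ F.Ob T a (F.lab h i) := by
    rintro h ha hh i _ ⟨g, hg, rfl⟩
    refine ⟨h * g * h⁻¹, nm_conj (nm_Np ha hh) hg, ?_⟩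
    rw [c.lab_mul (nm_mul hh (Np_nm hg)) (nm_inv hh), c.lab_inv_lab hh, c.lab_mul hh (Np_nm hg)]
  refine ⟨fun h1 => ?_, key ha hh⟩
  have h2 := key (inv_smul_eq_iff.2 ha.symm) (nm_inv hh) h1
  rwa [c.lab_inv_lab hh, c.lab_inv_lab hh] at h2

theorem cj_D_compl {h : G} (ha : h • a = a) (hh : cj h F.X = F.X) (i : I) :
    cj h (F.D (F.Ob T a i)ᶜ) = F.D (F.Ob T a (F.lab h i))ᶜ :=
  c.cj_D_set ha hh fun _ => not_congr (c.lab_Ob ha hh).symm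

theorem nm_D_compl {g : G} (hg : g ∈ Np p T a F.X) (i : I) : cj g (F.D (F.Ob T a i)ᶜ) = F.D (F.Ob T a i)ᶜ :=
  c.cj_D_set (Np_fix hg) (Np_nm hg) fun _ => not_congr (c.lab_mem_Ob_iff hg).symm

theorem exists_mdl (i : I) : ∃ Q, F.Mdl T a (F.Ob T a i)ᶜ Q := by
  obtain ⟨Q, h1, h2, h3, h4, h5⟩ := c.h.exists_md c.A (J := (F.Ob T a i)ᶜ)
    (fun h => (show i ∈ (F.Ob T a i)ᶜ from h ▸ trivial) (c.self_mem_Ob i)) fun g hg => c.nm_D_compl hg i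
  exact ⟨Q, h1, h2, h3, h4, h5⟩

theorem mdl_cj {J L : Set I} {Q : Subgroup G} (h : F.Mdl T a J Q) {g : G} (ha : g • a = a) (hg : cj g F.X = F.X)
    (h1 : cj g (F.D J) = F.D L) : F.Mdl T a L (cj g Q) := by
  have := c.A.nrm
  have h2 := F.toPS.V_eq_of_cj hg h1
  refine ⟨?_, (cj_mono g h.leT).trans (cj_normal g T).le, fun h3 => h.ne ((cj_le_cj_iff g).1 (h2 ▸ h3)),
    fun b hb => ?_, fun x hx => nm_cj_iff.2 (h.can _ (nm_cj_iff.1 (h2.symm ▸ hx)))⟩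
  · have h3 := h.md.conj g
    rwa [ha, h1, hg, h2] at h3
  · rw [← h2, cj_le_stab'] at hb
    rw [← h2, ← h.semi _ hb, cj_inf, cj_stab, smul_inv_smul]

theorem ain_cj {J L : Set I} {Q : Subgroup G} {j : I} (h : F.AIn T a J Q j) {g : G} (ha : g • a = a)
    (hg : cj g F.X = F.X) (h1 : ∀ i, i ∈ J ↔ F.lab g i ∈ L) : F.AIn T a L (cj g Q) (F.lab g j) := by
  have h2 := c.cj_D_set ha hg h1
  refine ⟨c.mdl_cj h.toMdl ha hg h2, (h1 j).1 h.mem, ?_⟩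
  rw [← F.toPS.V_eq_of_cj hg h2]
  exact h.act.cj hg (c.cj_D ha hg j)

theorem ain_Ob {i j : I} {Q : Subgroup G} (h : F.AIn T a (F.Ob T a i)ᶜ Q j) {g : G} (ha : g • a = a)
    (hg : cj g F.X = F.X) : F.AIn T a (F.Ob T a (F.lab g i))ᶜ (cj g Q) (F.lab g j) :=
  c.ain_cj h ha hg fun _ => not_congr (c.lab_Ob ha hg).symm

/-- the whole orbit is active -/
theorem ain_of_Ob {i j k : I} {Q : Subgroup G} (h : F.AIn T a (F.Ob T a i)ᶜ Q j) (hk : k ∈ F.Ob T a j) :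
    F.AIn T a (F.Ob T a i)ᶜ Q k := by
  obtain ⟨g, hg, rfl⟩ := hk
  have h1 := c.ain_cj (L := (F.Ob T a i)ᶜ) h (Np_fix hg) (Np_nm hg) fun _ => not_congr (c.lab_mem_Ob_iff (i := i) hg).symm
  rwa [h.can g (F.toPS.V_eq_of_cj (Np_nm hg) (c.nm_D_compl hg i))] at h1

theorem cj_YY {g : G} (hg : cj g F.X = F.X) (j : I) : cj g (F.YY j) = F.YY (F.lab g j) := by
  have key : ∀ {g : G}, cj g F.X = F.X → ∀ j, cj g (F.YY j) ≤ F.YY (F.lab g j) := fun {g} hg j => by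
    rw [FS.YY, cj_iSup]
    exact iSup_le fun x => (c.cj_atm hg x.2 j).le.trans (FS.atm_le_YY (nm_mul hg x.2) _)
  refine le_antisymm (key hg j) ?_
  have h1 := key (nm_inv hg) (F.lab g j)
  rwa [c.lab_inv_lab hg, cj_le_iff, inv_inv] at h1

theorem cj_R1 {g : G} (hg : cj g F.X = F.X) (j : I) : cj g (F.R1 j) = F.R1 (F.lab g j) := by
  have key : ∀ {g : G}, cj g F.X = F.X → ∀ j, cj g (F.R1 j) ≤ F.R1 (F.lab g j) := fun {g} hg j => by
    rw [FS.R1, cj_iSup]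
    exact iSup_le fun x => by
      rw [cj_inf, cj_normalizer, hg, c.cj_atm hg x.2 j]
      exact FS.atm_le_R1 (nm_mul hg x.2) _
  refine le_antisymm (key hg j) ?_
  have h1 := key (nm_inv hg) (F.lab g j)
  rwa [c.lab_inv_lab hg, cj_le_iff, inv_inv] at h1

theorem cj_M1 {g : G} (hg : cj g F.X = F.X) (j : I) : cj g (F.M1 j) = F.M1 (F.lab g j) := by
  rw [FS.M1, cj_Op, c.cj_R1 hg, FS.M1]

theorem cj_M2 {g : G} (hg : cj g F.X = F.X) (j : I) : cj g (F.M2 j) = F.M2 (F.lab g j) := by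
  rw [FS.M2, cj_Op, cj_inf, cj_normalizer, hg, c.cj_YY hg, FS.M2]

omit c in
theorem _root_.Cfsg.Agent.TH.Own.FS.M2_le (j : I) : F.M2 j ≤ F.YY j := (Op_spec _).1.trans inf_le_left

end Cx

namespace FS.Mdl

variable {J : Set I} {Q : Subgroup G} (h : F.Mdl T a J Q)

include h

theorem nm_D {L : Set I} (hL : L ⊆ J) {w : G} (hw : w ∈ Cm Q (F.toPS.V J) (F.D L)) : cj w (F.D L) = F.D L :=
  nm_of_Cm hw ((F.toPS.V_le J).trans (F.toPS.X_le L))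

theorem nm_X {w : G} (hw : w ∈ Cm Q (F.toPS.V J) F.X) : cj w F.X = F.X := nm_of_Cm hw (F.toPS.V_le J)

theorem nm_V {L : Set I} (hL : L ⊆ J) {w : G} (hw : w ∈ Cm Q (F.toPS.V J) F.X) :
    cj w (F.toPS.V L) = F.toPS.V L := nm_of_Cm (Cm_anti (F.toPS.V_le L) hw) (F.toPS.V_anti hL)

theorem mem_V {b : Ω} (hb : F.X ≤ stabilizer G b) {w : G} (hw : w ∈ Q) (h1 : w • b = b) : w ∈ F.toPS.V J :=
  (h.semi b ((F.toPS.V_le J).trans hb)).le ⟨hw, h1⟩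

theorem mem_Cm_at {b : Ω} {L : Set I} (hL : L ⊆ J) (hb : F.D L ≤ stabilizer G b) {w : G} (hw : w ∈ Q)
    (h1 : F.D L ≤ stabilizer G (w • b)) : w ∈ Cm Q (F.toPS.V J) (F.D L) :=
  (mem_Cm_iff (h.semi b ((F.toPS.V_le J).trans ((F.toPS.X_le L).trans hb))) h.md.nm hb
    fun k hk => h.md.nQ k (F.mono hL hk)).2 ⟨hw, h1⟩

theorem pas_or : (∀ j ∈ J, ¬ F.toPS.Act (F.toPS.V J) Q j) ∨ ∃ j, F.AIn T a J Q j := by
  by_cases h1 : ∃ j ∈ J, F.toPS.Act (F.toPS.V J) Q j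
  · obtain ⟨j, h2, h3⟩ := h1
    exact Or.inr ⟨j, h, h2, h3⟩
  · exact Or.inl fun j h2 h3 => h1 ⟨j, h2, h3⟩

theorem isP_sup : IsPGroup p ↥(F.X ⊔ Q) := Own.isP_sup F.isP h.md.isP fun x hx => h.md.nQ x (F.toPS.X_le J hx)

end FS.Mdl

namespace FS.AIn

variable {J : Set I} {Q : Subgroup G} {j : I} (h : F.AIn T a J Q j)

include h

theorem sub : {j} ⊆ J := Set.singleton_subset_iff.2 h.mem

theorem split : F.toPS.Split j := FS.split_of_act h.md h.mem h.act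

theorem ac : Ac p a (F.D {j}) F.X (F.toPS.V J) (Cm Q (F.toPS.V J) (F.toPS.V {j})) :=
  Md.ac (S := F.toPS) h.md h.mem h.split h.act

theorem e1 : Cm (Cm Q (F.toPS.V J) (F.toPS.V {j})) (F.toPS.V J) F.X = Cm Q (F.toPS.V J) F.X := Cm_Cm (F.toPS.V_le _)

theorem e2 : Cm (Cm Q (F.toPS.V J) (F.toPS.V {j})) (F.toPS.V J) (F.D {j}) = Cm Q (F.toPS.V J) (F.D {j}) :=
  Cm_Cm ((F.toPS.V_le _).trans (F.toPS.X_le _))

theorem exists_atm (c : Cx F T m a) {g : G} (hg : cj g F.X = F.X) :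
    ∃ z ∈ Cm Q (F.toPS.V J) F.X, F.atm g j = cj z (F.D {j}) := by
  obtain ⟨z, hz, h1⟩ := Md.aff (S := F.toPS) h.md c.S c.A h.semi h.mem h.split h.act (c.X_fix hg)
    ((F.toPS.V_le J).trans (c.X_fix hg))
  have h2 := h.toMdl.nm_X hz
  rw [← mul_smul] at h1
  have h3 := (c.mem_J_iff (nm_mul h2 hg)).1 h1
  rw [c.atm_mul h2 hg, c.lab_of_nm_V (nm_inv h2) (nm_inv (h.toMdl.nm_V h.sub hz))] at h3
  exact ⟨z⁻¹, inv_mem hz, by rw [← h3, cj_inv_cj]⟩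

theorem atm_eq (c : Cx F T m a) {z : G} (hz : z ∈ Cm Q (F.toPS.V J) F.X) : F.atm z j = cj z (F.D {j}) := by
  have h2 := h.toMdl.nm_X hz
  rw [← c.atm_lab h2, c.lab_of_nm_V h2 (h.toMdl.nm_V h.sub hz)]

theorem aff_of (c : Cx F T m a) {K : Subgroup G} (h1 : K ≤ Cm Q (F.toPS.V J) F.X)
    (h2 : ∀ d ∈ F.D {j}, cj d F.X = F.X → cj d K = K) (h3 : ∀ u ∈ K, u ∈ Cm Q (F.toPS.V J) (F.D {j}) → u ∈ F.X)
    (h4 : ∀ z ∈ Cm Q (F.toPS.V J) F.X, ∃ u ∈ K, u⁻¹ * z ∈ Cm Q (F.toPS.V J) (F.D {j})) :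
    F.Aff Ω T j (F.X ⊔ K) := by
  have hd : ∀ w ∈ F.X ⊔ K, ∃ u ∈ K, ∃ x ∈ F.X, w = u * x := fun w hw =>
    mem_sup_nm' (fun x hx => h2 x (F.toPS.X_le _ hx) (cj_of_mem hx)) hw
  have h5 : ∀ u ∈ K, u ∈ F.X → u ∈ Cm Q (F.toPS.V J) (F.D {j}) := fun u hu hx =>
    h.md.V_le_Cm (F.mono h.sub) (h.md.reg.le ⟨(h1 hu).1, c.S.X_fix hx⟩)
  have hac := h.ac
  refine ⟨le_sup_left, h.toMdl.isP_sup.to_le (sup_le_sup_left (h1.trans Cm_le) _),
    sup_le c.S.X_T (h1.trans (Cm_le.trans h.leT)),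
    nm_of_sup (fun x hx => cj_of_mem hx) fun u hu => h.toMdl.nm_X (h1 hu),
    nm_of_sup (fun x hx => F.toPS.nm_V (F.toPS.X_le _ hx)) fun u hu => h.toMdl.nm_V h.sub (h1 hu),
    fun b hb w hw h6 => ?_, fun b hb => ?_, fun b hb w hw h6 => ?_, fun d hd h6 => nm_sup h6 (h2 d hd h6),
    fun w hw h6 w' hw' h7 => ?_, ?_, fun h6 => ?_, fun h6 w hw w' hw' h7 h8 => ?_⟩
  · obtain ⟨u, hu, x, hx, rfl⟩ := hd w hw
    rw [mul_smul, show x • b = b from hb hx] at h6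
    exact mul_mem (F.toPS.V_le J (h.toMdl.mem_V hb (h1 hu).1 h6)) hx
  · obtain ⟨z, hz, h6⟩ := Md.aff (S := F.toPS) h.md c.S c.A h.semi h.mem h.split h.act hb ((F.toPS.V_le J).trans hb)
    obtain ⟨u, hu, h7⟩ := h4 _ (inv_mem hz)
    refine ⟨u⁻¹, Subgroup.mem_sup_right (inv_mem hu), ?_⟩
    have h8 := le_stab_smul (h.toMdl.nm_D h.sub h7) h6
    rwa [← mul_smul, inv_mul_cancel_right] at h8
  · obtain ⟨u, hu, x, hx, rfl⟩ := hd w hw
    rw [mul_smul, show x • b = b from hb (F.toPS.X_le _ hx)] at h6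
    exact mul_mem (h3 u hu (h.toMdl.mem_Cm_at h.sub hb (h1 hu).1 h6)) hx
  · obtain ⟨u, hu, x, hx, rfl⟩ := hd w hw
    obtain ⟨u', hu', x', hx', rfl⟩ := hd w' hw'
    obtain ⟨d, hd, h8, h9⟩ := hac.trans (h.e1.ge (h1 hu)) (fun h8 => h6 (mul_mem (h3 u hu (h.e2.le h8)) hx))
      (h.e1.ge (h1 hu')) (fun h8 => h7 (mul_mem (h3 u' hu' (h.e2.le h8)) hx'))
    refine ⟨d, hd, h8, ?_⟩
    have h10 := mul_mem (mul_mem (inv_mem hx') (h3 _ (mul_mem (inv_mem hu') (nm_conj (h2 d hd h8) hu)) (h.e2.le h9)))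
      (nm_conj h8 hx)
    convert h10 using 1
    group
  · obtain ⟨z, hz, h6⟩ := SetLike.not_le_iff_exists.1 h.act
    obtain ⟨u, hu, h7⟩ := h4 z hz
    exact ⟨u, Subgroup.mem_sup_right hu, fun h8 => h6 ((mul_mem_cancel_left (inv_mem (h5 u hu h8))).1 h7)⟩
  · obtain ⟨z, hz, z', hz', h7, h8, h9⟩ := hac.exists_three h6
    rw [h.e1] at hz hz'
    rw [h.e2] at h7 h8 h9
    obtain ⟨u, hu, h10⟩ := h4 z hz
    obtain ⟨u', hu', h11⟩ := h4 z' hz'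
    refine ⟨u, Subgroup.mem_sup_right hu, u', Subgroup.mem_sup_right hu',
      fun h12 => h7 ((mul_mem_cancel_left (inv_mem (h5 u hu h12))).1 h10),
      fun h12 => h8 ((mul_mem_cancel_left (inv_mem (h5 u' hu' h12))).1 h11), fun h12 => h9 ?_⟩
    have h13 := mul_mem (mul_mem (inv_mem h10) (h5 _ (mul_mem (inv_mem hu) hu') h12)) h11
    convert h13 using 1
    group
  · obtain ⟨u, hu, x, hx, rfl⟩ := hd w hw
    obtain ⟨u', hu', x', hx', rfl⟩ := hd w' hw'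
    have h9 := hac.mem_of_two h6 (h.e1.ge (h1 hu)) (h.e1.ge (h1 hu'))
      (fun h9 => h7 (mul_mem (h3 u hu (h.e2.le h9)) hx)) (fun h9 => h8 (mul_mem (h3 u' hu' (h.e2.le h9)) hx'))
    have h10 := mul_mem (mul_mem (inv_mem hx) (h3 _ (mul_mem (inv_mem hu) hu') (h.e2.le h9))) hx'
    convert h10 using 1
    group

/-- `q > 2` -/
theorem aff1 (c : Cx F T m a) (h3 : F.toPS.W {j} ≠ 3) : F.Aff Ω T j (F.M1 j) := by
  have hac := h.ac
  let B := F.D {j} ⊓ Subgroup.normalizer (F.X : Set G)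
  let K := BrG (Cm Q (F.toPS.V J) (F.toPS.V {j})) (F.toPS.V J) F.X B
  have h1 : ∀ d ∈ B, cj d K = K := fun d hd => nm_of_conj fun x hx => conj_mem_BrG hd hx
  have h2 := h.aff_of c (K := K) (hac.BrG_le_Cm.trans h.e1.le) (fun d hd h2 => h1 d ⟨hd, nm_iff.2 h2⟩)
    (fun u hu h2 => F.toPS.V_le J (hac.mem_V_of_BrG hu (h.e2.ge h2))) fun z hz => by
      have h2 := hac.exists_BrG h3 (h.e1.ge hz)
      rwa [h.e2] at h2
  have h4 : B ≤ F.R1 j := by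
    have h4 := FS.atm_le_R1 (cj_one F.X) j
    rwa [FS.atm_one] at h4
  have h5 : F.R1 j = (F.X ⊔ K) ⊔ B := by
    refine le_antisymm (iSup_le fun g => ?_) (sup_le (sup_le ((le_inf (F.toPS.X_le _) Subgroup.le_normalizer).trans h4)
      (BrG_le fun u hu d hd => ?_)) h4)
    · obtain ⟨z, hz, h5⟩ := h.exists_atm c g.2
      rw [h5, ← cj_inf_nm (h.toMdl.nm_X hz)]
      rintro _ ⟨d, hd, rfl⟩
      have h6 := mul_mem (Subgroup.mem_sup_left (T := B) (Subgroup.mem_sup_right (S := F.X)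
        (mem_BrG (B := B) (h.e1.ge (inv_mem hz)) hd))) (Subgroup.mem_sup_right hd)
      convert h6 using 1
      show z * d * z⁻¹ = _
      group
    · have h5 := inv_mem (h.e1.le hu)
      have h6 := FS.atm_le_R1 (h.toMdl.nm_X h5) j
      rw [h.atm_eq c h5, ← cj_inf_nm (h.toMdl.nm_X h5)] at h6
      have h7 := mul_mem (h6 (conj_mem_cj _ hd)) (h4 (inv_mem hd))
      convert h7 using 1
      group
  rwa [FS.M1, h5, Op_eq (F.toPS.maxD {j}) h2.isP le_sup_left fun d hd => h2.nmB d hd.1 (nm_iff.1 hd.2)]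

/-- `q = 2` -/
theorem aff2 (c : Cx F T m a) (h3 : F.toPS.W {j} = 3) :
    F.Aff Ω T j (F.M2 j) ∧ F.M2 j ≤ F.X ⊔ Cm Q (F.toPS.V J) F.X := by
  have hac := h.ac
  let B := F.D {j} ⊓ Subgroup.normalizer (F.X : Set G)
  let L := BrG (Cm Q (F.toPS.V J) (F.toPS.V {j})) (F.toPS.V J) F.X (F.D {j})
  let K := L ⊓ Cm Q (F.toPS.V J) F.X
  have h0 : ∀ d ∈ F.D {j}, cj d L = L := fun d hd => nm_of_conj fun x hx => conj_mem_BrG hd hx
  obtain ⟨ω, w1, w2, w3, w4⟩ := hac.exists_omega h3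
  rw [h.e1] at w2 w4
  rw [h.e2] at w3
  have hV := h.md.V_le_Cm (F.mono h.sub)
  have h2 := h.aff_of c (K := K) inf_le_right
    (fun d hd h2 => nm_inf (h0 d hd) (nm_Cm (h.md.nQ d (F.mono h.sub hd)) (h.md.nV (F.mono h.sub hd)) h2))
    (fun u hu h2 => (w4 u hu.1 hu.2).elim (fun h4 => F.toPS.V_le J h4) fun h4 =>
      absurd (inv_mem_iff.1 ((mul_mem_cancel_right h2).1 (hV h4))) w3) fun z hz => by
      by_cases h2 : z ∈ Cm Q (F.toPS.V J) (F.D {j})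
      · exact ⟨1, one_mem _, by rwa [inv_one, one_mul]⟩
      · exact ⟨ω, ⟨w1, w2⟩, h.e2.le (hac.mem_of_two h3 (h.e1.ge w2) (h.e1.ge hz) (fun h4 => w3 (h.e2.le h4))
          fun h4 => h2 (h.e2.le h4))⟩
  have h4 : F.D {j} ≤ F.YY j := (FS.atm_one j).ge.trans (FS.atm_le_YY (cj_one F.X) j)
  have h6 : L ≤ F.YY j := BrG_le fun u hu d hd => by
    have h5 := inv_mem (h.e1.le hu)
    have h6 := FS.atm_le_YY (h.toMdl.nm_X h5) j
    rw [h.atm_eq c h5] at h6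
    have h7 := mul_mem (h6 (conj_mem_cj _ hd)) (h4 (inv_mem hd))
    convert h7 using 1
    group
  have h7 : F.YY j ≤ F.D {j} ⊔ L := iSup_le fun g => by
    obtain ⟨z, hz, h5⟩ := h.exists_atm c g.2
    rw [h5]
    rintro _ ⟨d, hd, rfl⟩
    have h6 := mul_mem (Subgroup.mem_sup_right (S := F.D {j}) (mem_BrG (B := F.D {j}) (h.e1.ge (inv_mem hz)) hd))
      (Subgroup.mem_sup_left hd)
    convert h6 using 1
    show z * d * z⁻¹ = _
    group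
  have h5 : F.YY j ⊓ Subgroup.normalizer (F.X : Set G) = (F.X ⊔ K) ⊔ B := by
    refine le_antisymm (fun y hy => ?_) (le_inf (sup_le (sup_le ((F.toPS.X_le _).trans h4) (inf_le_left.trans h6))
      (inf_le_left.trans h4)) (sup_le (fun w hw => nm_iff.2 (h2.nmX w hw)) inf_le_right))
    obtain ⟨f, hf, d, hd, rfl⟩ := mem_sup_nm' h0 (h7 hy.1)
    have h8 : cj (f * d) F.X = F.X := nm_iff.1 hy.2
    have h9 : f ∈ Cm Q (F.toPS.V J) F.X := (Md.mem_X (S := F.toPS) h.md).2 ⟨(hac.BrG_le_Q hf).1, by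
      have h9 := c.X_fix h8
      rwa [mul_smul, show d • a = a from c.S.D_fix _ hd] at h9⟩
    refine mul_mem (Subgroup.mem_sup_left (Subgroup.mem_sup_right ⟨hf, h9⟩)) (Subgroup.mem_sup_right ⟨hd, nm_iff.2 ?_⟩)
    have h10 := nm_mul (nm_inv (h.toMdl.nm_X h9)) h8
    rwa [inv_mul_cancel_left] at h10
  rw [FS.M2, h5, Op_eq (F.toPS.maxD {j}) h2.isP le_sup_left fun d hd => h2.nmB d hd.1 (nm_iff.1 hd.2)]
  exact ⟨h2, sup_le_sup_left inf_le_right _⟩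

theorem exists_aff (c : Cx F T m a) : ∃ M, F.Aff Ω T j M := by
  by_cases h3 : F.toPS.W {j} = 3
  · exact ⟨_, (h.aff2 c h3).1⟩
  · exact ⟨_, h.aff1 c h3⟩

end FS.AIn

namespace FS.Aff

variable {j : I} {M : Subgroup G} (h : F.Aff Ω T j M) (c : Cx F T m a)

include h c

theorem lab {w : G} (hw : w ∈ M) : F.lab w j = j := c.lab_of_nm_V (h.nmX w hw) (h.nmV w hw)

theorem atm_eq {w : G} (hw : w ∈ M) : F.atm w j = cj w (F.D {j}) := by rw [← c.atm_lab (h.nmX w hw), h.lab c hw]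

theorem exists_atm {g : G} (hg : cj g F.X = F.X) : ∃ w ∈ M, F.atm g j = cj w (F.D {j}) := by
  obtain ⟨w, hw, h1⟩ := h.ex _ (c.X_fix hg)
  have h2 := h.nmX w hw
  rw [← mul_smul, c.mem_J_iff (nm_mul h2 hg), c.atm_mul h2 hg, h.lab c (inv_mem hw)] at h1
  exact ⟨w⁻¹, inv_mem hw, by rw [← h1, cj_inv_cj]⟩

theorem not_mem_J {w : G} (hw : w ∈ M) (h1 : w ∉ F.X) : j ∉ F.J (w • a) :=
  fun h2 => h1 (h.uniq a (c.self_mem_J j) w hw h2)

theorem mem_of_nm {w : G} (hw : w ∈ M) (h1 : cj w (F.D {j}) = F.D {j}) : w ∈ F.X :=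
  h.uniq a (c.self_mem_J j) w hw ((c.mem_J_of_nm h1).2 (c.self_mem_J j))

theorem smul_ne {w : G} (hw : w ∈ M) (h1 : w ∉ F.X) : w • a ≠ a := fun h2 => h1 (h.semi a c.S.X_fix w hw h2)

/-- every fixed point of `X` is fixed by an atom -/
theorem exists_fix {b : Ω} (hb : F.X ≤ stabilizer G b) : ∃ g, cj g F.X = F.X ∧ F.atm g j ≤ stabilizer G b := by
  obtain ⟨w, hw, h1⟩ := h.ex b hb
  exact ⟨w⁻¹, nm_inv (h.nmX w hw), by rw [h.atm_eq c (inv_mem hw), cj_le_stab', inv_inv]; exact h1⟩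

/-- by one atom only -/
theorem atm_unique {g g' : G} (hg : cj g F.X = F.X) (hg' : cj g' F.X = F.X) {b : Ω} (h1 : F.atm g j ≤ stabilizer G b)
    (h2 : F.atm g' j ≤ stabilizer G b) : F.atm g j = F.atm g' j := by
  obtain ⟨w, hw, h3⟩ := h.exists_atm c hg
  obtain ⟨w', hw', h4⟩ := h.exists_atm c hg'
  rw [h3, cj_le_stab'] at h1
  rw [h4, cj_le_stab'] at h2
  have h5 := h.uniq _ h1 _ (mul_mem (inv_mem hw') hw) (by rwa [← mul_smul, mul_inv_cancel_right])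
  rw [h3, h4, ← mul_inv_cancel_left w' w, cj_mul, F.toPS.nm_X h5]

/-- the type does not depend on the element -/
theorem mem_J_of {w w' : G} (hw : w ∈ M) (h1 : w ∉ F.X) (hw' : w' ∈ M) (h2 : w' ∉ F.X) {b : Ω} (hb : j ∈ F.J b) {k : I}
    (hk : k ∈ F.J (w • b)) : k ∈ F.J (w' • b) := by
  obtain ⟨d, hd, h3, h4⟩ := h.trans w hw h1 w' hw' h2
  have h5 := (c.mem_J_of_nm (F.nrm d (F.toPS.le_univ _ hd) h3 _)).2 hk
  have h6 : d • w • b = w' • b := by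
    have h6 : (w'⁻¹ * (d * w * d⁻¹)) • b = b := hb (F.toPS.X_le _ h4)
    rwa [mul_smul, mul_smul, mul_smul, show d⁻¹ • b = b from hb (inv_mem hd), inv_smul_eq_iff] at h6
  rwa [h6] at h5

/-- `D {j}` fixes a second point -/
theorem exists_pt : ∃ y : Ω, y ≠ a ∧ j ∈ F.J y := by
  by_contra h1
  push Not at h1
  have h2 : ∀ b : Ω, b ≠ a → F.X ≤ stabilizer G b → ∃ w ∈ M, w ∉ F.X ∧ w • a = b := fun b hb h2 => by
    obtain ⟨w, hw, h3⟩ := h.ex b h2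
    have h4 : w • b = a := by_contra fun h4 => h1 _ h4 h3
    refine ⟨w⁻¹, inv_mem hw, fun h5 => hb ?_, by rw [← h4, inv_smul_smul]⟩
    rw [← h4]
    exact (h2 (inv_mem_iff.1 h5)).symm
  refine c.not_two fun b d hb hd h3 h4 => ?_
  obtain ⟨w, hw, h5, rfl⟩ := h2 b hb h3
  obtain ⟨w', hw', h6, rfl⟩ := h2 d hd h4
  obtain ⟨e, he, -, h7⟩ := h.trans w hw h5 w' hw' h6
  refine ⟨e, c.S.D_fix _ he, ?_⟩
  have h8 : (w'⁻¹ * (e * w * e⁻¹)) • a = a := c.S.X_fix h7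
  rwa [mul_smul, mul_smul, mul_smul, show e⁻¹ • a = a from c.S.D_fix _ (inv_mem he), inv_smul_eq_iff] at h8

end FS.Aff

end Cfsg.Agent.TH.Own
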