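import Mathlib
import Cfsg.Agent.TH.Own.OneA

/-!
# S3541, `BoxOne`: passive orbits; affine nodes with `q > 2` (helper74)
-/

set_option autoImplicit false
set_option linter.unusedSectionVars false
set_option linter.unusedVariables false

namespace Cfsg.Agent.TH.Own

open MulAction

variable {G : Type*} [Group G] {p : ℕ} {I : Type*} {Ω : Type*} [MulAction G Ω]

theorem ncard_pair_le_two {α : Type*} (x y : α) : ({x, y} : Set α).ncard ≤ 2 :=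
  (Set.ncard_insert_le x {y}).trans (by rw [Set.ncard_singleton])

namespace FS

variable (F : FS G p I)

/-- a passive module of the complement of the orbit of `i` -/
structure PasQ (T : Subgroup G) (a : Ω) (i : I) (Q : Subgroup G) : Prop extends F.Mdl T a (F.Ob T a i)ᶜ Q where
  pas : ∀ j, j ∉ F.Ob T a i → ¬ F.toPS.Act (F.toPS.V (F.Ob T a i)ᶜ) Q j

/-- the node `j` is active in the module of the complement of an orbit -/
def AN (T : Subgroup G) (a : Ω) (j : I) : Prop := ∃ i Q, F.AIn T a (F.Ob T a i)ᶜ Q j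

end FS

variable {F : FS G p I} {T : Subgroup G} {m : ℕ} {a : Ω} [Finite G] [hp : Fact p.Prime]

namespace FS.PasQ

variable {i : I} {Q : Subgroup G} (h : F.PasQ T a i Q)

include h

theorem mem {w : G} (hw : w ∈ Q) : w ∈ Cm Q (F.toPS.V (F.Ob T a i)ᶜ) (F.D (F.Ob T a i)ᶜ) :=
  (Md.eq_of_not_act (S := F.toPS) h.md h.pas).ge hw

theorem nm_X {w : G} (hw : w ∈ Q) : cj w F.X = F.X := h.toMdl.nm_X (Cm_anti (F.toPS.X_le _) (h.mem hw))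

theorem nm_D {w : G} (hw : w ∈ Q) {k : I} (hk : k ∉ F.Ob T a i) : cj w (F.D {k}) = F.D {k} :=
  h.toMdl.nm_D (Set.singleton_subset_iff.2 hk) (Cm_anti (F.mono (Set.singleton_subset_iff.2 hk)) (h.mem hw))

theorem exists_ne : ∃ w ∈ Q, w • a ≠ a := by
  obtain ⟨w, hw, h1⟩ := SetLike.not_le_iff_exists.1 h.ne
  exact ⟨w, hw, fun h2 => h1 (h.md.reg.le ⟨hw, h2⟩)⟩

theorem cj (c : Cx F T m a) {g : G} (ha : g • a = a) (hg : TH.cj g F.X = F.X) :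
    F.PasQ T a (F.lab g i) (TH.cj g Q) := by
  refine ⟨c.mdl_cj h.toMdl ha hg (c.cj_D_compl ha hg i), fun j hj h1 => ?_⟩
  have h2 := h1.cj (nm_inv hg) (c.cj_D (inv_smul_eq_iff.2 ha.symm) (nm_inv hg) j)
  rw [← F.toPS.V_eq_of_cj hg (c.cj_D_compl ha hg i), cj_inv_cj, cj_inv_cj] at h2
  exact h.pas _ (fun h3 => hj (by rw [← c.lab_lab_inv hg j]; exact (c.lab_Ob ha hg).2 h3)) h2

end FS.PasQ

namespace Cx

variable (c : Cx F T m a)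

include c

theorem pas_or (i : I) : (∃ Q, F.PasQ T a i Q) ∨ ∃ j Q, F.AIn T a (F.Ob T a i)ᶜ Q j := by
  obtain ⟨Q, hQ⟩ := c.exists_mdl i
  rcases hQ.pas_or with h | ⟨j, h⟩
  · exact Or.inl ⟨Q, hQ, h⟩
  · exact Or.inr ⟨j, Q, h⟩

theorem AN_lab {j : I} (h : F.AN T a j) {g : G} (ha : g • a = a) (hg : cj g F.X = F.X) : F.AN T a (F.lab g j) := by
  obtain ⟨i, Q, h⟩ := h
  exact ⟨_, _, c.ain_Ob h ha hg⟩

theorem W_lab {g : G} (ha : g • a = a) (hg : cj g F.X = F.X) (j : I) : F.toPS.W {F.lab g j} = F.toPS.W {j} :=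
  F.toPS.W_eq_of_cj hg (c.cj_D ha hg j)

theorem lab_inv_mem {w : G} (hw : cj w F.X = F.X) {A : Set I} (h : ∀ k, k ∉ A → F.lab w k = k) {k : I} (hk : k ∈ A) :
    F.lab w⁻¹ k ∈ A := by
  by_contra h1
  have h2 := h _ h1
  rw [c.lab_lab_inv hw] at h2
  exact h1 (h2 ▸ hk)

/-- the product of two words -/
theorem atm_prod {w₁ w₂ : G} (h1 : cj w₁ F.X = F.X) (h2 : cj w₂ F.X = F.X) {A : Set I}
    (h3 : ∀ k ∈ A, F.lab w₁⁻¹ k ∈ A) (h4 : ∀ k ∈ A, k ∈ F.J (w₂ • a)) {k : I} (hk : k ∈ A) :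
    F.atm (w₁ * w₂) k = F.atm w₁ k := by
  rw [c.atm_mul h1 h2, (c.mem_J_iff h2).1 (h4 _ (h3 k hk)), FS.atm]

theorem J_congr {g g' : G} (hg : cj g F.X = F.X) (hg' : cj g' F.X = F.X) {k : I} (h : F.atm g k = F.atm g' k) :
    k ∈ F.J (g • a) ↔ k ∈ F.J (g' • a) := by rw [c.mem_J_iff hg, c.mem_J_iff hg', h]

theorem ne_of_not_J {b : Ω} {k : I} (h : k ∉ F.J b) : b ≠ a := fun h1 => h (h1 ▸ c.self_mem_J k)

theorem stab_Ob {g g' : G} (ha : g • a = a) (hg : cj g F.X = F.X) (ha' : g' • a = a) (hg' : cj g' F.X = F.X) {i : I}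
    (h : F.Ob T a (F.lab g i) = F.Ob T a (F.lab g' i)) (k : I) :
    F.lab (g⁻¹ * g')⁻¹ k ∈ F.Ob T a i ↔ k ∈ F.Ob T a i := by
  rw [← c.lab_Ob ha' hg', ← c.lab_mul hg' (nm_inv (nm_mul (nm_inv hg) hg')), mul_inv_rev, mul_inv_cancel_left, inv_inv,
    ← h, c.lab_Ob ha hg]

/-- a passive orbit and a word with support outside -/
theorem pas_disj {i : I} {Q : Subgroup G} (h : F.PasQ T a i Q) {w : G} (hw : cj w F.X = F.X) (h1 : w • a ≠ a)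
    (h2 : ∀ k ∈ F.Ob T a i, k ∈ F.J (w • a)) {O : Set I} (h3 : ∀ g, g • a = a → cj g F.X = F.X → ∀ k ∈ F.Ob T a i,
      F.lab g k ∉ F.Ob T a i → F.lab g k ∉ F.J (w • a) → F.Ob T a (F.lab g k) = O) : False := by
  obtain ⟨v, hv, h4⟩ := h.exists_ne
  have hv' := h.nm_X hv
  have h5 : ∀ k ∈ F.Ob T a i, F.atm (v * w) k = F.atm v k := fun k hk => c.atm_prod hv' hw
    (fun k hk => c.lab_inv_mem hv' (fun l hl => c.lab_of_cj hv' (h.nm_D hv hl)) hk) h2 hk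
  have h6 : ∀ k, k ∉ F.Ob T a i → (k ∈ F.J ((v * w) • a) ↔ k ∈ F.J (w • a)) := fun k hk => by
    rw [mul_smul, c.mem_J_of_nm (h.nm_D hv hk)]
  have h7 : ∀ k, k ∉ F.Ob T a i → k ∈ F.J (v • a) := fun k hk => (c.mem_J_of_nm (h.nm_D hv hk)).2 (c.self_mem_J k)
  obtain ⟨k, hk⟩ := c.exists_not_J hw h1
  obtain ⟨l, hl⟩ := c.exists_not_J hv' h4
  have hk' : k ∉ F.Ob T a i := fun h8 => hk (h2 k h8)
  have hl' : l ∈ F.Ob T a i := by_contra fun h8 => hl (h7 l h8)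
  have hvw := nm_mul hv' hw
  have hz : k ∉ F.J ((v * w) • a) := fun h8 => hk ((h6 k hk').1 h8)
  have h8 := c.S.pt c.A h4 (c.ne_of_not_J hz) (c.X_fix hv') (c.X_fix hvw) (c := 3)
    (F.toPS.three_mul_le' (fun x hx => by
      by_cases h8 : x ∈ F.Ob T a i
      · exact (c.J_congr hvw hv' (h5 x h8)).1 hx
      · exact h7 x h8) hz (h7 k hk'))
    (fun g => F.Ob T a (F.lab g l)) {F.Ob T a i, O} (Set.toFinite _)
    (fun g hg => by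
      by_cases h8 : F.lab g l ∈ F.Ob T a i
      · exact Or.inl (c.Ob_eq h8)
      refine Or.inr (h3 g hg.1.1 (nm_iff.1 hg.2) l hl' h8 fun h9 => hl ((c.J_congr hvw hv' (h5 l hl')).1 ?_))
      rw [← c.lab_mem_J hg.1.1 (nm_iff.1 hg.2), show g • (v * w) • a = (v * w) • a from hg.1.2]
      exact (h6 _ h8).2 h9)
    (fun g hg g' hg' h8 => c.fix_of_restrict hv' hvw (fun k hk => (h5 k hk).symm) h7 (mul_mem (inv_mem hg) hg')
      (by rw [← c.Ob_eq hl']; exact c.stab_Ob hg.1.1 (nm_iff.1 hg.2) hg'.1.1 (nm_iff.1 hg'.2) h8))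
  have h9 := ncard_pair_le_two (F.Ob T a i) O
  omega

/-- at most one passive orbit -/
theorem two_pas {i i' : I} {Q Q' : Subgroup G} (h : F.PasQ T a i Q) (h' : F.PasQ T a i' Q') : i' ∈ F.Ob T a i := by
  by_contra h1
  obtain ⟨w, hw, h2⟩ := h'.exists_ne
  have h3 : ∀ k, k ∉ F.Ob T a i' → k ∈ F.J (w • a) := fun k hk => (c.mem_J_of_nm (h'.nm_D hw hk)).2 (c.self_mem_J k)
  exact c.pas_disj h (h'.nm_X hw) h2 (fun k hk => h3 k fun h4 => h1 (c.Ob_eq hk ▸ c.Ob_symm h4))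
    (O := F.Ob T a i') fun g _ _ k _ _ h4 => c.Ob_eq (by_contra fun h5 => h4 (h3 _ h5))

theorem pas_inv {i : I} {Q : Subgroup G} (h : F.PasQ T a i Q) {g : G} (ha : g • a = a) (hg : cj g F.X = F.X) {k : I} :
    F.lab g k ∈ F.Ob T a i ↔ k ∈ F.Ob T a i := by
  conv_lhs => rw [← c.Ob_eq (c.two_pas h (h.cj c ha hg))]
  exact c.lab_Ob ha hg

theorem pas_disj' {i : I} {Q : Subgroup G} (h : F.PasQ T a i Q) {w : G} (hw : cj w F.X = F.X) (h1 : w • a ≠ a) :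
    ∃ k ∈ F.Ob T a i, k ∉ F.J (w • a) := by
  by_contra h2
  push Not at h2
  exact c.pas_disj h hw h1 h2 (O := ∅) fun g ha hg k hk h3 _ => absurd ((c.pas_inv h ha hg).2 hk) h3

theorem lab_R1 {j : I} {w : G} (hw : w ∈ F.R1 j) (k : I) : F.lab w k = k := by
  refine FS.lab_eq (nm_iff.1 ((iSup_le fun g x hx => ?_ : F.R1 j ≤ Subgroup.normalizer (F.Y k : Set G)) hw))
  have h1 : cj ((g : G)⁻¹ * x * g) F.X = F.X := nm_mul (nm_mul (nm_inv g.2) (nm_iff.1 hx.2)) g.2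
  have h2 := c.cj_Y h1 (F.lab (g : G)⁻¹ k)
  rw [c.lab_E (F.toPS.le_univ _ (mem_cj.1 hx.1)) h1, ← nm_cj_iff, c.cj_Y g.2, c.lab_lab_inv g.2] at h2
  exact nm_iff.2 h2

theorem lab_M1 {j : I} {w : G} (hw : w ∈ F.M1 j) (k : I) : F.lab w k = k := c.lab_R1 ((Op_spec _).1 hw) k

theorem aff1 {j : I} (h : F.AN T a j) (h3 : F.toPS.W {j} ≠ 3) : F.Aff Ω T j (F.M1 j) := by
  obtain ⟨i, Q, h⟩ := h
  exact h.aff1 c h3

theorem M1_eq {j k : I} (hj : F.Aff Ω T j (F.M1 j)) (hk : F.Aff Ω T k (F.M1 k)) {w : G} (hw : w ∈ F.M1 k)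
    (h1 : j ∉ F.J (w • a)) : F.M1 j = F.M1 k := by
  have hw' := hk.nmX w hw
  let B := F.D {j} ⊓ Subgroup.normalizer (F.X : Set G)
  have h2 : ∀ l, ∀ d ∈ F.D {l}, cj d F.X = F.X → ∀ i, cj d (F.M1 i) = F.M1 i := fun l d hd h2 i => by
    rw [c.cj_M1 h2, c.lab_E (F.toPS.le_univ _ hd) h2]
  obtain ⟨u₀, hu₀, h3⟩ := hj.exists_atm c hw'
  have h4 : u₀ ∉ F.X := fun h4 => h1 ((c.mem_J_iff hw').2 (h3.trans (F.toPS.nm_X h4 _)))
  have h5 : cj w (F.D {j}) = cj u₀ (F.D {j}) := by rw [← h3, ← c.atm_lab hw', c.lab_M1 hw]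
  have h6 : F.R1 j ≤ B ⊔ F.M1 k := iSup_le fun g => by
    obtain ⟨v, hv, h6⟩ : ∃ v ∈ F.M1 k, F.atm g j = cj v (F.D {j}) := by
      obtain ⟨u, hu, h6⟩ := hj.exists_atm c g.2
      by_cases h7 : u ∈ F.X
      · exact ⟨u, hk.X_le h7, h6⟩
      obtain ⟨d, hd, h8, h9⟩ := hj.trans u₀ hu₀ h4 u hu h7
      refine ⟨d * w * d⁻¹, nm_conj (h2 j d hd h8 k) hw, ?_⟩
      rw [h6, cj_mul, cj_mul, cj_of_mem (inv_mem hd), h5, ← cj_mul, show d * u₀ = u * (u⁻¹ * (d * u₀ * d⁻¹)) * d by group,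
        cj_mul, cj_mul, cj_of_mem hd, F.toPS.nm_X h9]
    rw [h6, ← cj_inf_nm (hk.nmX v hv)]
    exact (cj_mono v le_sup_left).trans (cj_of_mem (Subgroup.mem_sup_right hv)).le
  have h7 : F.M1 j ≤ F.M1 k := fun x hx => by
    obtain ⟨v, hv, d, hd, rfl⟩ := mem_sup_nm' (P := B) (fun d hd => h2 j d hd.1 (nm_iff.1 hd.2) k) (h6 ((Op_spec _).1 hx))
    have h7 := isP_sup hj.isP hk.isP fun y hy => by rw [c.cj_M1 (hj.nmX y hy), c.lab_M1 hy]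
    obtain ⟨n, hn⟩ := exists_pow_of_isP h7
      ((mul_mem_cancel_left (Subgroup.mem_sup_right hv)).1 (Subgroup.mem_sup_left hx))
    exact mul_mem hv (hk.X_le ((F.toPS.maxD {j}).mem_of_nm hn hd.1 (nm_iff.1 hd.2)))
  refine le_antisymm h7 fun x hx => ?_
  by_cases h8 : x ∈ F.X
  · exact hj.X_le h8
  obtain ⟨d, hd, h9, h10⟩ := hk.trans u₀ (h7 hu₀) h4 x hx h8
  exact inv_mem_iff.1 ((mul_mem_cancel_right (nm_conj (h2 k d hd h9 j) hu₀)).1 (hj.X_le h10))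

theorem nm_D_M1 {j : I} (hj : F.Aff Ω T j (F.M1 j)) {w w' : G} (hw : w ∈ F.M1 j) (h1 : w ∉ F.X) (hw' : w' ∈ F.M1 j)
    {k : I} (hk : k ∈ F.J (w • a)) : cj w' (F.D {k}) = F.D {k} := by
  by_cases h2 : w' ∈ F.X
  · exact F.toPS.nm_X h2 _
  · exact c.nm_of_mem_J (hj.nmX _ hw') (c.lab_M1 hw' k) (hj.mem_J_of c hw h1 hw' h2 (c.self_mem_J j) hk)

/-- all translation groups with `q > 2` coincide -/
theorem two_M1 {j k : I} (hj : F.AN T a j) (hj3 : F.toPS.W {j} ≠ 3) (hk : F.AN T a k) (hk3 : F.toPS.W {k} ≠ 3) :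
    F.M1 j = F.M1 k := by
  by_contra hne
  have aj := c.aff1 hj hj3
  have ak := c.aff1 hk hk3
  obtain ⟨w₁, hw₁, n₁⟩ := aj.ne
  obtain ⟨w₂, hw₂, n₂⟩ := ak.ne
  have x₁ := aj.nmX _ hw₁
  have x₂ := ak.nmX _ hw₂
  have x₃ := nm_mul x₁ x₂
  have h1 : j ∈ F.J (w₂ • a) := by_contra fun h => hne (c.M1_eq aj ak hw₂ h)
  have h2 : k ∈ F.J (w₁ • a) := by_contra fun h => hne (c.M1_eq ak aj hw₁ h).symm
  have h3 : k ∉ F.J ((w₁ * w₂) • a) := by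
    rw [mul_smul, c.mem_J_of_nm (c.nm_D_M1 aj hw₁ n₁ hw₁ h2)]
    exact ak.not_mem_J c hw₂ n₂
  have h4 : F.J ((w₁ * w₂) • a) ⊆ F.J (w₁ • a) := fun l hl => by
    by_contra h4
    have h5 := c.nm_of_mem_J x₃ (by rw [c.lab_mul x₁ x₂, c.lab_M1 hw₂, c.lab_M1 hw₁]) hl
    obtain ⟨u, hu, u', hu', h6, h7, h8⟩ := aj.three hj3
    obtain ⟨v, hv, h9, h10⟩ : ∃ v ∈ F.M1 j, v ∉ F.X ∧ w₁ * v ∉ F.X := by
      by_cases h9 : w₁ * u ∈ F.X
      · refine ⟨u', hu', h7, fun h10 => h8 ?_⟩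
        have h11 := mul_mem (inv_mem h9) h10
        rwa [show (w₁ * u)⁻¹ * (w₁ * u') = u⁻¹ * u' by group] at h11
      · exact ⟨u, hu, h6, h9⟩
    obtain ⟨d, hd, h11, h12⟩ := aj.trans _ (inv_mem hw₁) (fun h => n₁ (inv_mem_iff.1 h)) v hv h9
    have h13 : w₂⁻¹ * (d * w₂ * d⁻¹) ∈ F.X := ak.semi a c.S.X_fix _ (mul_mem (inv_mem hw₂) (nm_conj (by
      rw [c.cj_M1 h11, c.lab_E (F.toPS.le_univ _ hd) h11]) hw₂)) (by
        rw [mul_smul, mul_smul, mul_smul, show d⁻¹ • a = a from c.S.D_fix _ (inv_mem hd),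
          show d • w₂ • a = w₂ • a from h1 hd, inv_smul_smul])
    have h14 := F.nrm d (F.toPS.le_univ _ hd) h11 {l}
    have h15 : cj (w₁ * v) (F.D {l}) = F.D {l} := by
      have h15 := nm_mul (nm_mul (nm_mul h5 (F.toPS.nm_X h13 _)) (nm_mul (nm_mul h14 (nm_inv h5)) (nm_inv h14)))
        (nm_inv (F.toPS.nm_X h12 _))
      rwa [show w₁ * w₂ * (w₂⁻¹ * (d * w₂ * d⁻¹)) * (d * (w₁ * w₂)⁻¹ * d⁻¹) * (v⁻¹ * (d * w₁⁻¹ * d⁻¹))⁻¹ = w₁ * v by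
        group] at h15
    exact h4 (aj.mem_J_of c (mul_mem hw₁ hv) h10 hw₁ n₁ (c.self_mem_J j) ((c.mem_J_of_nm h15).2 (c.self_mem_J l)))
  have h5 : ∀ g ∈ BH a ((w₁ * w₂) • a) F.X, F.lab g j ∉ F.J ((w₁ * w₂) • a) := fun g hg h5 => by
    rw [← show g • (w₁ * w₂) • a = (w₁ * w₂) • a from hg.1.2, c.lab_mem_J hg.1.1 (nm_iff.1 hg.2)] at h5
    exact aj.not_mem_J c hw₁ n₁ (h4 h5)
  have h6 : ∀ g ∈ BH a ((w₁ * w₂) • a) F.X, F.Aff Ω T (F.lab g j) (F.M1 (F.lab g j)) := fun g hg =>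
    c.aff1 (c.AN_lab hj hg.1.1 (nm_iff.1 hg.2)) (by rwa [c.W_lab hg.1.1 (nm_iff.1 hg.2)])
  have h7 := c.S.pt c.A (aj.smul_ne c hw₁ n₁) (c.ne_of_not_J h3) (c.X_fix x₁) (c.X_fix x₃) (c := 3)
    (F.toPS.three_mul_le' h4 h3 h2) (fun g => F.M1 (F.lab g j)) {F.M1 j, F.M1 k} (Set.toFinite _)
    (fun g hg => by
      by_cases h7 : F.lab g j ∈ F.J (w₁ • a)
      · refine Or.inr (c.M1_eq (h6 g hg) ak hw₂ fun h8 => h5 g hg ?_)
        rwa [mul_smul, c.mem_J_of_nm (c.nm_D_M1 aj hw₁ n₁ hw₁ h7)]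
      · exact Or.inl (c.M1_eq (h6 g hg) aj hw₁ h7))
    (fun g hg g' hg' h7 => by
      have h8 := mul_mem (inv_mem hg) hg'
      have h9 : cj (g⁻¹ * g') (F.M1 j) = F.M1 j := by
        rw [cj_mul, c.cj_M1 (nm_iff.1 hg'.2), ← h7, ← c.cj_M1 (nm_iff.1 hg.2), cj_inv_cj]
      generalize g⁻¹ * g' = h at h8 h9
      have hX := nm_iff.1 h8.2
      have h10 := h6 h h8
      have h11 : F.M1 (F.lab h j) = F.M1 j := by rw [← c.cj_M1 hX, h9]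
      have h12 : F.lab h j ∈ F.J (w₂ • a) := by_contra fun h12 => hne (h11.symm.trans (c.M1_eq h10 ak hw₂ h12))
      have h13 : ∀ l ∈ F.J (w₂ • a), F.atm (w₁ * w₂) l = cj w₁ (F.D {l}) := fun l hl => by
        rw [c.atm_mul x₁ x₂, c.lab_M1 (inv_mem hw₁), (c.mem_J_iff x₂).1 hl]
      have h14 : cj (h * w₁ * h⁻¹) (F.D {F.lab h j}) = cj w₁ (F.D {F.lab h j}) := by
        rw [← h13 _ h12, ← c.cj_D h8.1.1 hX, ← cj_mul, inv_mul_cancel_right, cj_mul, ← h13 j h1, c.cj_atm hX x₃]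
        exact c.atm_congr (nm_mul hX x₃) x₃ ((mul_smul _ _ _).trans h8.1.2) _
      rw [h11] at h10
      have h15 := h10.mem_of_nm c (mul_mem (inv_mem hw₁) (nm_conj h9 hw₁)) (by rw [cj_mul, h14, cj_inv_cj])
      have h16 : (w₁⁻¹ * (h * w₁ * h⁻¹)) • a = a := c.S.X_fix h15
      rwa [mul_smul, mul_smul, mul_smul, inv_smul_eq_iff.2 (show h • a = a from h8.1.1).symm, inv_smul_eq_iff] at h16)
  have h8 := ncard_pair_le_two (F.M1 j) (F.M1 k)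
  omega

theorem same_fix {j k : I} {M : Subgroup G} (hj : F.Aff Ω T j M) (hk : F.Aff Ω T k M) (h3 : F.toPS.W {j} ≠ 3) {b : Ω}
    (hb : j ∈ F.J b) : k ∈ F.J b := by
  have hX : F.X ≤ stabilizer G b := (F.toPS.X_le _).trans hb
  obtain ⟨w, hw, h1⟩ := hk.ex b hX
  by_cases h2 : w ∈ F.X
  · rwa [show w • b = b from hX h2] at h1
  obtain ⟨u, hu, u', hu', h4, h5, h6⟩ := hj.three h3
  have h7 := hj.mem_J_of c hw h2 hu h4 hb h1
  exact absurd (hk.uniq _ h7 _ (mul_mem hu' (inv_mem hu)) (by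
    rw [← mul_smul, inv_mul_cancel_right]
    exact hj.mem_J_of c hw h2 hu' h5 hb h1)) fun h8 => h6 (by
      have h9 := nm_conj' (hj.nmX u hu) h8
      rwa [show u⁻¹ * (u' * u⁻¹) * u = u⁻¹ * u' by group] at h9)

theorem exists_k {j : I} (hj : F.AN T a j) (hj3 : F.toPS.W {j} ≠ 3) {y : Ω} (hy : y ≠ a) (h1 : j ∈ F.J y) :
    ∃ k, k ∉ F.J y ∧ ∀ w ∈ F.M1 j, w ∉ F.X → k ∈ F.J (w • y) := by
  have aj := c.aff1 hj hj3
  obtain ⟨w, hw, h2⟩ := aj.ne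
  have hX : F.X ≤ stabilizer G y := (F.toPS.X_le _).trans h1
  have h3 : j ∉ F.J (w • y) := fun h3 => h2 (aj.uniq y h1 w hw h3)
  obtain ⟨k, h4, h5⟩ : ∃ k ∈ F.J (w • y), k ∉ F.J y := Set.not_subset.1 fun h4 => by
    have h5 := c.S.pt c.A hy (c.ne_of_not_J h3) hX (le_stab_smul (aj.nmX w hw) hX) (c := 3)
      (F.toPS.three_mul_le' h4 h3 h1) (fun _ => ()) {()} (Set.toFinite _) (fun _ _ => rfl) (fun g hg g' hg' _ => by
        have h8 := mul_mem (inv_mem hg) hg'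
        generalize g⁻¹ * g' = h at h8
        have hX' := nm_iff.1 h8.2
        have h9 := c.AN_lab hj h8.1.1 hX'
        have h10 : F.toPS.W {F.lab h j} ≠ 3 := by rwa [c.W_lab h8.1.1 hX']
        have h11 := c.two_M1 h9 h10 hj hj3
        have h12 := c.aff1 h9 h10
        rw [h11] at h12
        have h13 : h • y = (h * w⁻¹ * h⁻¹ * w) • y := by
          rw [mul_smul, mul_smul, inv_smul_eq_iff.2 (show h • w • y = w • y from h8.1.2).symm, mul_smul, inv_smul_smul]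
        rw [h13]
        exact hX (h12.uniq y (c.same_fix aj h12 hj3 h1) _ (mul_mem (nm_conj ((c.cj_M1 hX' j).trans h11) (inv_mem hw)) hw)
          (h13 ▸ (c.lab_mem_J h8.1.1 hX').2 h1)))
    rw [Set.ncard_singleton] at h5
    omega
  exact ⟨k, h5, fun w' hw' h6 => aj.mem_J_of c hw h2 hw' h6 h1 h4⟩

theorem eq_of_three {j : I} {M : Subgroup G} (hj : F.Aff Ω T j M) (h3 : F.toPS.W {j} ≠ 3) {K L : Subgroup G}
    (h : ∀ w ∈ M, w ∉ F.X → cj w K = L) : K = L := by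
  obtain ⟨u, hu, u', hu', h4, h5, h6⟩ := hj.three h3
  rw [← h _ (mul_mem (inv_mem hu) hu') h6, cj_mul, h u' hu' h5, ← h u hu h4, cj_inv_cj]

/-- **all affine nodes have `q = 2`** -/
theorem W_eq_three (hI : ∃ i i', i' ∉ F.Ob T a i) {j : I} (hj : F.AN T a j) : F.toPS.W {j} = 3 := by
  by_contra hj3
  have aj := c.aff1 hj hj3
  have ng : ∀ g, cj g F.X = F.X → j ∈ F.J (g • a) → g • a = a := fun g hg h1 => by
    by_contra h2
    obtain ⟨k, h3, h4⟩ := c.exists_k hj hj3 h2 h1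
    refine h3 ((c.mem_J_iff hg).2 (c.eq_of_three aj hj3 fun w hw h5 => ?_))
    have h6 := h4 w hw h5
    rw [← mul_smul, c.mem_J_iff (nm_mul (aj.nmX w hw) hg)] at h6
    rw [c.cj_atm (aj.nmX w hw) hg, c.lab_M1 hw, h6]
  obtain ⟨y, hy, h1⟩ := aj.exists_pt c
  obtain ⟨k, h2, h3⟩ := c.exists_k hj hj3 hy h1
  obtain ⟨i, hi⟩ : ∃ i, k ∉ F.Ob T a i := by
    obtain ⟨i, i', h4⟩ := hI
    by_cases h5 : k ∈ F.Ob T a i
    · exact ⟨i', fun h6 => h4 (c.Ob_eq h5 ▸ c.Ob_symm h6)⟩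
    · exact ⟨i, h5⟩
  obtain ⟨Q, hQ⟩ := c.exists_mdl i
  by_cases h4 : F.toPS.Act (F.toPS.V (F.Ob T a i)ᶜ) Q k
  · obtain ⟨M, ak⟩ := FS.AIn.exists_aff ⟨hQ, hi, h4⟩ c
    obtain ⟨g, hg, h5⟩ := ak.exists_fix c ((F.toPS.X_le _).trans h1)
    refine h2 (le_trans (c.eq_of_three aj hj3 fun w hw h6 => ?_).ge h5)
    have h7 := cj_le_stab (g := w).2 h5
    rw [c.cj_atm (aj.nmX w hw) hg, c.lab_M1 hw] at h7 ⊢
    rw [← FS.atm_one]
    exact ak.atm_unique c (nm_mul (aj.nmX w hw) hg) (cj_one _) h7 (by rw [FS.atm_one]; exact h3 w hw h6)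
  · obtain ⟨z, hz, h5⟩ := hQ.md.exists_Cm (F.toPS.X_le _) hQ.ne
    have h6 := hQ.nm_X hz
    obtain ⟨w, hw, h7⟩ := aj.ex _ (c.X_fix h6)
    rw [← mul_smul] at h7
    have h8 := ng _ (nm_mul (aj.nmX w hw) h6) h7
    rw [mul_smul, ← eq_inv_smul_iff] at h8
    have h9 : w⁻¹ ∉ F.X := fun h9 => h5 (hQ.md.reg.le ⟨hz.1, h8.trans (c.S.X_fix h9)⟩)
    have h10 : k ∈ F.J (w⁻¹ • a) := h8 ▸ (c.mem_J_of_nm (hQ.nm_D (Set.singleton_subset_iff.2 hi)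
      (not_not.1 h4 hz))).2 (c.self_mem_J k)
    exact h2 ((c.mem_J_of_nm (c.nm_D_M1 aj (inv_mem hw) h9 (inv_mem hw) h10)).1 (h3 _ (inv_mem hw) h9))

end Cx

end Cfsg.Agent.TH.Own
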