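import Mathlib
import Cfsg.Agent.TH.Own.OneB

/-!
# S3541, `BoxOne`: affine nodes with `q = 2`, blocks, at most two orbits (helper74)
-/

set_option autoImplicit false
set_option linter.unusedSectionVars false
set_option linter.unusedVariables false

namespace Cfsg.Agent.TH.Own

open MulAction

variable {G : Type*} [Group G] {p : ℕ} {I : Type*} {Ω : Type*} [MulAction G Ω]

theorem two_mul_lt_three_pow (b : ℕ) : 2 * b < 3 ^ b := by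
  induction b with
  | zero => simp
  | succ b ih =>
    have := Nat.one_le_pow b 3 (by norm_num)
    rw [pow_succ]
    omega

/-- all active nodes have `q = 2` -/
structure Cx2 (F : FS G p I) (T : Subgroup G) (m : ℕ) (a : Ω) : Prop extends Cx F T m a where
  three : ∀ j, F.AN T a j → F.toPS.W {j} = 3

/-- the group generated by the translation groups -/
noncomputable def FS.MS (F : FS G p I) (A : Set I) : Subgroup G := F.X ⊔ ⨆ j ∈ A, F.M2 j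

/-- the word with all coordinates in `A` changed -/
def FS.Top (F : FS G p I) (a : Ω) (A : Set I) (y : Ω) : Prop := (∃ u ∈ F.MS A, u • a = y) ∧ ∀ j ∈ A, j ∉ F.J y

variable {F : FS G p I} {T : Subgroup G} {m : ℕ} {a : Ω} [Finite G] [hp : Fact p.Prime] [Finite I]

theorem Cx.J_prod (c : Cx F T m a) {w : G} (hw : cj w F.X = F.X) {k : I} (hk : k ∈ F.J (w • a)) (b : Ω) :
    k ∈ F.J (w • b) ↔ F.lab w⁻¹ k ∈ F.J b := by
  rw [FS.mem_J, ← (c.mem_J_iff hw).1 hk, FS.atm, cj_le_stab, FS.mem_J]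

theorem Cx.cj_MS (c : Cx F T m a) {g : G} (hg : cj g F.X = F.X) {A B : Set I} (h : ∀ k, k ∈ A ↔ F.lab g k ∈ B) :
    cj g (F.MS A) = F.MS B := by
  have key : ∀ {g : G}, cj g F.X = F.X → ∀ {A B : Set I}, (∀ k ∈ A, F.lab g k ∈ B) → cj g (F.MS A) ≤ F.MS B := by
    intro g hg A B h
    rw [FS.MS, cj_sup, hg, cj_iSup]
    refine sup_le_sup_left (iSup_le fun k => ?_) _
    rw [cj_iSup]
    exact iSup_le fun hk => (c.cj_M2 hg k).le.trans (le_iSup₂ (f := fun j (_ : j ∈ B) => F.M2 j) _ (h k hk))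
  refine le_antisymm (key hg fun k => (h k).1) ?_
  have h1 := key (nm_inv hg) (A := B) (B := A) fun k hk => (h _).2 (by rwa [c.lab_lab_inv hg])
  rwa [cj_le_iff, inv_inv] at h1

theorem Cx.top_smul (c : Cx F T m a) {g : G} (ha : g • a = a) (hg : cj g F.X = F.X) {A B : Set I}
    (h : ∀ k, k ∈ A ↔ F.lab g k ∈ B) {y : Ω} (hy : F.Top a A y) : F.Top a B (g • y) := by
  obtain ⟨⟨u, hu, rfl⟩, h1⟩ := hy
  refine ⟨⟨g * u * g⁻¹, c.cj_MS hg h ▸ conj_mem_cj g hu, by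
    rw [mul_smul, mul_smul, inv_smul_eq_iff.2 ha.symm]⟩, fun k hk h2 => ?_⟩
  rw [← c.lab_lab_inv hg k] at hk h2
  exact h1 _ ((h _).2 hk) ((c.lab_mem_J ha hg).1 h2)

omit [Finite G] hp [Finite I] in
theorem FS.M2_le_MS {A : Set I} {j : I} (hj : j ∈ A) : F.M2 j ≤ F.MS A :=
  (le_iSup₂ (f := fun j (_ : j ∈ A) => F.M2 j) j hj).trans le_sup_right

omit [Finite G] hp [Finite I] in
theorem FS.MS_le {A : Set I} {K : Subgroup G} (h1 : F.X ≤ K) (h2 : ∀ j ∈ A, F.M2 j ≤ K) : F.MS A ≤ K :=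
  sup_le h1 (iSup₂_le h2)

namespace Cx2

variable (c : Cx2 F T m a)

include c

theorem aff {j : I} (h : F.AN T a j) : F.Aff Ω T j (F.M2 j) := by
  obtain ⟨i, Q, h1⟩ := h
  exact (h1.aff2 c.toCx (c.three j ⟨i, Q, h1⟩)).1

theorem smul_eq {j : I} (h : F.AN T a j) {w w' : G} (hw : w ∈ F.M2 j) (h1 : w ∉ F.X) (hw' : w' ∈ F.M2 j) (h2 : w' ∉ F.X)
    {b : Ω} (hb : F.X ≤ stabilizer G b) : w • b = w' • b := by
  have h3 : (w⁻¹ * w') • b = b := hb ((c.aff h).two (c.three j h) w hw w' hw' h1 h2)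
  rw [mul_smul, inv_smul_eq_iff] at h3
  exact h3.symm

theorem inv_smul_eq {j : I} (h : F.AN T a j) {w : G} (hw : w ∈ F.M2 j) (h1 : w ∉ F.X) {b : Ω}
    (hb : F.X ≤ stabilizer G b) : w⁻¹ • b = w • b :=
  c.smul_eq h (inv_mem hw) (fun h2 => h1 (inv_mem_iff.1 h2)) hw h1 hb

theorem atm_two {j : I} (h : F.AN T a j) {w : G} (hw : w ∈ F.M2 j) (h1 : w ∉ F.X) {g : G} (hg : cj g F.X = F.X)
    (h2 : j ∉ F.J (g • a)) : F.atm g j = cj w (F.D {j}) := by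
  obtain ⟨u, hu, h3⟩ := (c.aff h).exists_atm c.toCx hg
  have h4 : u ∉ F.X := fun h4 => h2 ((c.toCx.mem_J_iff hg).2 (h3.trans (F.toPS.nm_X h4 _)))
  rw [h3, ← mul_inv_cancel_left w u, cj_mul, F.toPS.nm_X ((c.aff h).two (c.three j h) w hw u hu h1 h4)]

theorem atm_eq_of {j : I} (h : F.AN T a j) {g g' : G} (hg : cj g F.X = F.X) (hg' : cj g' F.X = F.X)
    (h1 : j ∉ F.J (g • a)) (h2 : j ∉ F.J (g' • a)) : F.atm g j = F.atm g' j := by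
  obtain ⟨w, hw, h3⟩ := (c.aff h).ne
  rw [c.atm_two h hw h3 hg h1, c.atm_two h hw h3 hg' h2]

theorem eq_of_J_eq {g g' : G} (hg : cj g F.X = F.X) (hg' : cj g' F.X = F.X)
    (h1 : ∀ k, k ∈ F.J (g • a) ↔ k ∈ F.J (g' • a)) (h2 : ∀ k, k ∉ F.J (g • a) → F.AN T a k) : g • a = g' • a :=
  c.toCx.smul_eq_of_atm hg hg' fun k => by
    by_cases hk : k ∈ F.J (g • a)
    · rw [(c.toCx.mem_J_iff hg).1 hk, (c.toCx.mem_J_iff hg').1 ((h1 k).1 hk)]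
    · exact c.atm_eq_of (h2 k hk) hg hg' hk fun h3 => hk ((h1 k).2 h3)

theorem nm_of_atm {j : I} (h : F.AN T a j) {g : G} (hg : cj g F.X = F.X) (h1 : j ∉ F.J (g • a)) {K : Subgroup G}
    (h2 : ∀ d ∈ F.D {j}, cj d K = K) (h3 : ∀ d ∈ F.atm g j, cj d K = K) {w : G} (hw : w ∈ F.M2 j) : cj w K = K := by
  refine nm_iff.1 ((iSup_le fun x d hd => nm_iff.2 ?_ : F.YY j ≤ Subgroup.normalizer (K : Set G)) (FS.M2_le j hw))
  by_cases h4 : j ∈ F.J ((x : G) • a)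
  · exact h2 d ((c.toCx.mem_J_iff x.2).1 h4 ▸ hd)
  · exact h3 d (c.atm_eq_of h x.2 hg h4 h1 ▸ hd)

theorem nm_D_of_swap {j k : I} (h : F.AN T a j) (hne : j ≠ k) (hn : ¬ F.toPS.Adj j k) {u : G} (h1 : cj u F.X = F.X)
    (h2 : cj u (F.toPS.V {j}) = F.toPS.V {j}) (h3 : cj u (F.D {k}) = F.D {k}) (h4 : j ∉ F.J (u • a)) {w : G}
    (hw : w ∈ F.M2 j) : cj w (F.D {k}) = F.D {k} := by
  have h5 := c.nm_of_atm h h1 h4 (K := F.toPS.RR {j} {k}) (fun d hd => F.toPS.nm_RR_of_not_adj hne hn hd)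
    (fun d hd => by
      rw [← c.toCx.lab_of_nm_V h1 h2, c.toCx.atm_lab h1] at hd
      rw [← F.toPS.cj_RR h2 h3]
      exact nm_cj_iff.2 (F.toPS.nm_RR_of_not_adj hne hn (mem_cj.1 hd))) hw
  rw [← F.toPS.RR_sup (J := {j}) hne.symm]
  exact nm_sup h5 ((c.aff h).nmX w hw)

/-- independence inside a module -/
theorem nm_D {i j k : I} {Q : Subgroup G} (h : F.AIn T a (F.Ob T a i)ᶜ Q j) (hk : k ∉ F.Ob T a i) (hne : j ≠ k) {w : G}
    (hw : w ∈ F.M2 j) : cj w (F.D {k}) = F.D {k} := by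
  by_cases h1 : F.toPS.Act (F.toPS.V (F.Ob T a i)ᶜ) Q k
  · obtain ⟨h2, h3⟩ := Md.rank2 (S := F.toPS) h.md hne h.mem hk h.split (FS.split_of_act h.md hk h1) h.act h1
    obtain ⟨z, hz, h4⟩ := SetLike.not_le_iff_exists.1 h.act
    obtain ⟨u, hu, v, hv, rfl⟩ := h3 z hz
    have h5 := Cm_anti (F.toPS.X_le _) hv
    exact c.nm_D_of_swap ⟨i, Q, h⟩ hne h2 (h.toMdl.nm_X h5) (h.toMdl.nm_V h.sub h5)
      (h.toMdl.nm_D (Set.singleton_subset_iff.2 hk) hv)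
      (fun h6 => h4 (mul_mem hu ((Md.mem_D (S := F.toPS) h.md h.sub).2 ⟨hv.1, h6⟩))) hw
  · exact nm_of_sup (fun x hx => F.toPS.nm_X hx _)
      (fun z hz => h.toMdl.nm_D (Set.singleton_subset_iff.2 hk) (not_not.1 h1 hz)) w
      ((h.aff2 c.toCx (c.three j ⟨i, Q, h⟩)).2 hw)

theorem mem_J {i j k : I} {Q : Subgroup G} (h : F.AIn T a (F.Ob T a i)ᶜ Q j) (hk : k ∉ F.Ob T a i) (hne : j ≠ k) {w : G}
    (hw : w ∈ F.M2 j) : k ∈ F.J (w • a) := (c.toCx.mem_J_of_nm (c.nm_D h hk hne hw)).2 (c.toCx.self_mem_J k)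

theorem lab_mem_J {j : I} (h : F.AN T a j) {w : G} (hw : w ∈ F.M2 j) (h1 : w ∉ F.X) {k : I} (hk : k ∈ F.J (w • a)) :
    F.lab w k ∈ F.J (w • a) := by
  have h2 := (c.aff h).nmX w hw
  have h3 := (cj_le_stab (g := w)).2 hk
  rw [← c.inv_smul_eq h hw h1 c.toCx.S.X_fix, smul_inv_smul, ← c.toCx.atm_lab h2, ← one_smul G a,
    c.toCx.atm_fix_iff (cj_one _) h2, FS.atm_one] at h3
  exact (c.toCx.mem_J_iff h2).2 h3.symm

theorem lab_inv_not_mem_J {j : I} (h : F.AN T a j) {w : G} (hw : w ∈ F.M2 j) (h1 : w ∉ F.X) {k : I}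
    (hk : k ∉ F.J (w • a)) : F.lab w⁻¹ k ∉ F.J (w • a) := fun h2 =>
  hk (c.toCx.lab_lab_inv ((c.aff h).nmX w hw) k ▸ c.lab_mem_J h hw h1 h2)

theorem conj_mem {j : I} {w g : G} (hw : w ∈ F.M2 j) (h1 : w ∉ F.X) (hg : cj g F.X = F.X) :
    g * w * g⁻¹ ∈ F.M2 (F.lab g j) ∧ g * w * g⁻¹ ∉ F.X :=
  ⟨c.toCx.cj_M2 hg j ▸ conj_mem_cj g hw, fun h2 => h1 (conj_mem_cj_iff.1 (hg.symm ▸ h2))⟩

theorem smul_wt {j k : I} (hk : F.AN T a k) {w w' g : G} (hw : w ∈ F.M2 j) (h1 : w ∉ F.X) (hw' : w' ∈ F.M2 k)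
    (h2 : w' ∉ F.X) (hg : cj g F.X = F.X) (h3 : F.lab g j = k) {b : Ω} (hb : F.X ≤ stabilizer G b) :
    g • w • b = w' • g • b := by
  obtain ⟨h4, h5⟩ := c.conj_mem hw h1 hg
  rw [← c.smul_eq hk (h3 ▸ h4) h5 hw' h2 (le_stab_smul hg hb), ← mul_smul, ← mul_smul, inv_mul_cancel_right]

theorem fix_wt {j : I} (hj : F.AN T a j) {w g : G} (hw : w ∈ F.M2 j) (h1 : w ∉ F.X) (ha : g • a = a)
    (hg : cj g F.X = F.X) (h3 : F.lab g j = j) : g • w • a = w • a := by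
  rw [c.smul_wt hj hw h1 hw h1 hg h3 c.toCx.S.X_fix, ha]

theorem lab_eq_of {g g' : G} (hg : cj g F.X = F.X) (hg' : cj g' F.X = F.X) {j : I} (h : F.lab g j = F.lab g' j) :
    F.lab (g⁻¹ * g') j = j := by rw [c.toCx.lab_mul (nm_inv hg) hg', ← h, c.toCx.lab_inv_lab hg]

/-- two blocks meet -/
theorem blocks_meet {j k : I} (hj : F.AN T a j) (hk : F.AN T a k) {w w' : G} (hw : w ∈ F.M2 j) (h1 : w ∉ F.X)
    (hw' : w' ∈ F.M2 k) (h2 : w' ∉ F.X) : ∃ l, l ∉ F.J (w • a) ∧ l ∉ F.J (w' • a) := by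
  by_contra hc
  push Not at hc
  wlog hle : (F.J (w • a))ᶜ.ncard ≤ (F.J (w' • a))ᶜ.ncard generalizing j k w w'
  · exact this hk hj hw' h2 hw h1 (fun l hl => by_contra fun h3 => hl (hc l h3)) (le_of_not_ge hle)
  have x₁ := (c.aff hj).nmX w hw
  have x₂ := (c.aff hk).nmX w' hw'
  have x₃ := nm_mul x₁ x₂
  have h3 : ∀ l, l ∉ F.J (w • a) → l ∉ F.J ((w * w') • a) := fun l hl h3 => hl ((c.toCx.J_congr x₃ x₁
    (c.toCx.atm_prod x₁ x₂ (A := (F.J (w • a))ᶜ) (fun l hl => c.lab_inv_not_mem_J hj hw h1 hl) hc hl)).1 h3)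
  have h4 : F.lab w '' (F.J (w' • a))ᶜ ⊆ F.J (w • a) := by
    rintro _ ⟨l, hl, rfl⟩
    exact c.lab_mem_J hj hw h1 (by_contra fun h4 => hl (hc l h4))
  have h5 : (F.lab w '' (F.J (w' • a))ᶜ).ncard = (F.J (w' • a))ᶜ.ncard :=
    Set.ncard_image_of_injective _ fun _ _ h => c.toCx.lab_inj x₁ h
  have h6 := (c.aff hj).not_mem_J c.toCx hw h1
  have h7 := c.toCx.S.pt c.A (c.toCx.ne_of_not_J h6) (c.toCx.ne_of_not_J (h3 j h6)) (c.toCx.X_fix x₁) (c.toCx.X_fix x₃)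
    (F.toPS.pow_mul_le (A := F.lab w '' (F.J (w' • a))ᶜ) (Set.toFinite _) (Set.disjoint_left.2 (by
      rintro _ ⟨l, hl, rfl⟩ h7
      rw [mul_smul, c.toCx.J_prod x₁ (h4 ⟨l, hl, rfl⟩), c.toCx.lab_inv_lab x₁] at h7
      exact hl h7)) h4 fun l hl => by_contra fun h7 => h3 l h7 hl)
    (fun g => F.lab g j) ((F.J (w • a))ᶜ ∪ F.lab w '' (F.J (w' • a))ᶜ) (Set.toFinite _)
    (fun g hg => by
      by_cases h7 : F.lab g j ∈ F.J (w • a)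
      · refine Or.inr ⟨_, fun h8 => h3 j h6 ?_, c.toCx.lab_lab_inv x₁ _⟩
        rw [← c.toCx.lab_mem_J hg.1.1 (nm_iff.1 hg.2), show g • (w * w') • a = (w * w') • a from hg.1.2, mul_smul,
          c.toCx.J_prod x₁ h7]
        exact h8
      · exact Or.inl h7)
    (fun g hg g' hg' h7 => c.fix_wt hj hw h1 (mul_mem (inv_mem hg) hg').1.1 (nm_iff.1 (mul_mem (inv_mem hg) hg').2)
      (c.lab_eq_of (nm_iff.1 hg.2) (nm_iff.1 hg'.2) h7))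
  have h8 := Set.ncard_union_le (F.J (w • a))ᶜ (F.lab w '' (F.J (w' • a))ᶜ)
  have h9 := two_mul_lt_three_pow (F.J (w' • a))ᶜ.ncard
  rw [h5] at h7 h8
  omega

/-- no block is a singleton -/
theorem exists_blk {j : I} (hj : F.AN T a j) {w : G} (hw : w ∈ F.M2 j) (h1 : w ∉ F.X) :
    ∃ k, k ≠ j ∧ k ∉ F.J (w • a) := by
  by_contra hc
  push Not at hc
  have aj := c.aff hj
  have x₁ := aj.nmX w hw
  have h2 : ∀ g, g • a = a → cj g F.X = F.X → F.lab g j = j := fun g ha hg => by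
    obtain ⟨h2, h3⟩ := c.conj_mem hw h1 hg
    obtain ⟨l, h4, h5⟩ := c.blocks_meet hj (c.toCx.AN_lab hj ha hg) hw h1 h2 h3
    obtain rfl : l = j := by_contra fun h6 => h4 (hc l h6)
    rw [mul_smul, mul_smul, inv_smul_eq_iff.2 ha.symm, ← c.toCx.lab_lab_inv hg l, c.toCx.lab_mem_J ha hg] at h5
    have h6 : F.lab g⁻¹ l = l := by_contra fun h6 => h5 (hc _ h6)
    conv_lhs => rw [← h6]
    exact c.toCx.lab_lab_inv hg l
  obtain ⟨y, hy, h3⟩ := aj.exists_pt c.toCx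
  have hX : F.X ≤ stabilizer G y := (F.toPS.X_le _).trans h3
  have h4 : j ∉ F.J (w • y) := fun h4 => h1 (aj.uniq y h3 w hw h4)
  have h5 : ∀ k, k ≠ j → cj w (F.D {k}) = F.D {F.lab w k} := fun k hk => by
    rw [← c.toCx.atm_lab x₁, (c.toCx.mem_J_iff x₁).1 (c.lab_mem_J hj hw h1 (hc k hk))]
  have h6 : cj w (F.D (F.J y \ {j})) = F.D (F.J (w • y)) := F.toPS.cj_D_eq x₁
    (fun k hk => ⟨_, by rw [FS.mem_J, ← h5 k hk.2, cj_le_stab]; exact hk.1, h5 k hk.2⟩) fun k hk => by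
      have h6 : F.lab w⁻¹ k ≠ j := fun h6 => h4 (by rwa [← c.toCx.lab_lab_inv x₁ k, h6, aj.lab c.toCx hw] at hk)
      have h7 := h5 _ h6
      rw [c.toCx.lab_lab_inv x₁] at h7
      exact ⟨_, ⟨by rwa [FS.mem_J, ← h7, cj_le_stab] at hk, h6⟩, h7⟩
  have h7 := c.toCx.S.pt c.A hy (c.toCx.ne_of_not_J h4) hX (le_stab_smul x₁ hX) (c := 3)
    (by
      rw [F.toPS.W_eq_of_cj x₁ h6]
      exact F.toPS.three_mul_le' Set.sdiff_subset (fun h7 => h7.2 rfl) h3)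
    (fun _ => ()) {()} (Set.toFinite _) (fun _ _ => rfl) (fun g hg g' hg' _ => by
      have h8 := mul_mem (inv_mem hg) hg'
      generalize g⁻¹ * g' = h at h8
      have h9 := c.smul_wt hj hw h1 hw h1 (nm_iff.1 h8.2) (h2 h h8.1.1 (nm_iff.1 h8.2)) hX
      exact MulAction.injective w (h9.symm.trans h8.1.2))
  rw [Set.ncard_singleton] at h7
  omega

/-- there is no third orbit -/
theorem two_orbits {i j : I} {Q : Subgroup G} (h : F.AIn T a (F.Ob T a i)ᶜ Q j) (l : I) :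
    l ∈ F.Ob T a i ∨ l ∈ F.Ob T a j := by
  by_contra hc
  push Not at hc
  have hj : F.AN T a j := ⟨i, Q, h⟩
  have aj := c.aff hj
  obtain ⟨w, hw, h1⟩ := aj.ne
  have x₁ := aj.nmX w hw
  have h2 : j ∉ F.Ob T a l := fun h2 => hc.2 (c.toCx.Ob_symm h2)
  have h3 : ∀ k, k ∉ F.J (w • a) → k = j ∨ k ∈ F.Ob T a i := fun k hk => by_contra fun h3 =>
    hk (c.mem_J h (fun h4 => h3 (Or.inr h4)) (fun h4 => h3 (Or.inl h4.symm)) hw)
  have h4 : ∀ k ∈ F.Ob T a l, k ∈ F.J (w • a) := fun k hk => by_contra fun h4 => (h3 k h4).elim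
    (fun h5 => h2 (h5 ▸ hk)) fun h5 => hc.1 (c.toCx.Ob_eq h5 ▸ c.toCx.Ob_symm hk)
  rcases c.toCx.pas_or l with ⟨R, hR⟩ | ⟨k, R, hR⟩
  · obtain ⟨k, h5, h6⟩ := c.toCx.pas_disj' hR x₁ (aj.smul_ne c.toCx hw h1)
    exact h6 (h4 k h5)
  have h5 : ¬ F.toPS.Act (F.toPS.V (F.Ob T a l)ᶜ) R j := fun h5 => by
    obtain ⟨k', h6, h7⟩ := c.exists_blk hj hw h1
    exact h7 (c.mem_J ⟨hR.toMdl, h2, h5⟩ (fun h8 => h7 (h4 k' h8)) h6.symm hw)
  have h6 : k ∉ F.J (w • a) := by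
    have hk : F.AN T a k := ⟨l, R, hR⟩
    obtain ⟨w', hw', h6⟩ := (c.aff hk).ne
    obtain ⟨k', h7, h8⟩ := c.blocks_meet hj hk hw h1 hw' h6
    rwa [show k = k' from by_contra fun h9 => h8 (c.mem_J hR (fun h10 => h7 (h4 k' h10)) h9 hw')]
  have h7 : ∀ k', F.AIn T a (F.Ob T a l)ᶜ R k' → j ≠ k' ∧ ¬ F.toPS.Adj j k' := fun k' hk' =>
    ⟨fun h7 => h5 (h7 ▸ hk'.act), fun h7 => aj.not_mem_J c.toCx hw h1 (Md.aff2 (S := F.toPS) hR.md c.toCx.S c.A hR.semi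
      hk'.mem h2 hk'.split hk'.act h5 (F.toPS.adj_symm h7) (c.toCx.X_fix x₁) ((F.toPS.V_le _).trans (c.toCx.X_fix x₁)))⟩
  have h8 := c.lab_inv_not_mem_J hj hw h1 h6
  have h9 : F.AIn T a (F.Ob T a l)ᶜ R (F.lab w⁻¹ k) := c.toCx.ain_of_Ob hR (c.toCx.Ob_trans
    ((h3 k h6).resolve_left (h7 k hR).1.symm) ((h3 _ h8).resolve_left fun h9 => (h7 k hR).1 (by
      rw [← c.toCx.lab_lab_inv x₁ k, h9, aj.lab c.toCx hw])))
  obtain ⟨u, hu, h10⟩ := SetLike.not_le_iff_exists.1 hR.act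
  have x₂ := hR.toMdl.nm_X hu
  have hjl : ({j} : Set I) ⊆ (F.Ob T a l)ᶜ := Set.singleton_subset_iff.2 h2
  have h11 : cj u (F.D {k}) = cj w (F.D {F.lab w⁻¹ k}) := by
    rw [← hR.atm_eq c.toCx hu]
    exact c.atm_eq_of ⟨l, R, hR⟩ x₂ x₁ (fun h11 => h10 ((Md.mem_D (S := F.toPS) hR.md hR.sub).2 ⟨hu.1, h11⟩)) h6
  have h12 := F.toPS.cj_RR (h := w⁻¹ * u) (nm_mul (nm_inv (aj.nmV w hw)) (hR.toMdl.nm_V hjl hu))
    (by rw [cj_mul, h11, cj_inv_cj] : cj (w⁻¹ * u) (F.D {k}) = F.D {F.lab w⁻¹ k})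
  have h13 := c.nm_of_atm hj x₁ (aj.not_mem_J c.toCx hw h1) (K := cj w (F.toPS.RR {j} {F.lab w⁻¹ k}))
    (fun d hd => by
      rw [← h12, ← cj_mul w, mul_inv_cancel_left]
      exact nm_cj_iff.2 (F.toPS.nm_RR_of_not_adj (h7 k hR).1 (h7 k hR).2
        (nm_conj' (hR.toMdl.nm_D hjl (not_not.1 h5 hu)) hd)))
    (fun d hd => by
      rw [aj.atm_eq c.toCx hw] at hd
      exact nm_cj_iff.2 (F.toPS.nm_RR_of_not_adj (h7 _ h9).1 (h7 _ h9).2 (mem_cj.1 hd))) hw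
  refine h8 ((c.toCx.mem_J_of_nm ?_).2 (c.toCx.self_mem_J _))
  rw [← F.toPS.RR_sup (J := {j}) (h7 _ h9).1.symm]
  exact nm_sup (cj_inj w h13) x₁

section Fam

variable {i : I} {Q : Subgroup G} (hO : ∀ j, j ∉ F.Ob T a i → F.AIn T a (F.Ob T a i)ᶜ Q j)
  (hQ : F.Mdl T a (F.Ob T a i)ᶜ Q)

include hO hQ

theorem MS_le {A : Set I} (hA : A ⊆ (F.Ob T a i)ᶜ) : F.MS A ≤ F.X ⊔ Cm Q (F.toPS.V (F.Ob T a i)ᶜ) F.X :=
  FS.MS_le le_sup_left fun j hj => ((hO j (hA hj)).aff2 c.toCx (c.three j ⟨i, Q, hO j (hA hj)⟩)).2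

theorem MS_nmX {A : Set I} (hA : A ⊆ (F.Ob T a i)ᶜ) {u : G} (hu : u ∈ F.MS A) : cj u F.X = F.X :=
  nm_of_sup (fun _ hx => cj_of_mem hx) (fun _ hz => hQ.nm_X hz) u (c.MS_le hO hQ hA hu)

theorem MS_nmV {A : Set I} (hA : A ⊆ (F.Ob T a i)ᶜ) {u : G} (hu : u ∈ F.MS A) {j : I} (hj : j ∉ F.Ob T a i) :
    cj u (F.toPS.V {j}) = F.toPS.V {j} :=
  nm_of_sup (fun _ hx => F.toPS.nm_V (F.toPS.X_le _ hx)) (fun _ hz => hQ.nm_V (Set.singleton_subset_iff.2 hj) hz) u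
    (c.MS_le hO hQ hA hu)

theorem MS_lab {A : Set I} (hA : A ⊆ (F.Ob T a i)ᶜ) {u : G} (hu : u ∈ F.MS A) {j : I} (hj : j ∉ F.Ob T a i) :
    F.lab u j = j := c.toCx.lab_of_nm_V (c.MS_nmX hO hQ hA hu) (c.MS_nmV hO hQ hA hu hj)

theorem MS_isP : IsPGroup p (F.MS (F.Ob T a i)ᶜ) :=
  hQ.isP_sup.to_le ((c.MS_le hO hQ subset_rfl).trans (sup_le_sup_left Cm_le _))

theorem MS_T : F.MS (F.Ob T a i)ᶜ ≤ T :=
  (c.MS_le hO hQ subset_rfl).trans (sup_le c.toCx.S.X_T (Cm_le.trans hQ.leT))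

theorem exists_flip {b : Ω} (hb : F.X ≤ stabilizer G b) :
    ∃ u ∈ F.MS (F.Ob T a i)ᶜ, ∀ j, j ∉ F.Ob T a i → j ∉ F.J (u • b) := by
  have key : ∀ A : Set I, A.Finite → A ⊆ (F.Ob T a i)ᶜ → ∃ u ∈ F.MS (F.Ob T a i)ᶜ, ∀ j ∈ A, j ∉ F.J (u • b) := by
    intro A hA
    induction A, hA using Set.Finite.induction_on with
    | empty => exact fun _ => ⟨1, one_mem _, fun _ h => h.elim⟩
    | @insert j A _ _ ih =>
      intro h1
      obtain ⟨u, hu, h2⟩ := ih ((Set.subset_insert _ _).trans h1)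
      have hj : j ∉ F.Ob T a i := h1 (Set.mem_insert _ _)
      by_cases h3 : j ∈ F.J (u • b)
      · have aj := c.aff ⟨i, Q, hO j hj⟩
        obtain ⟨w, hw, h4⟩ := aj.ne
        refine ⟨w * u, mul_mem (FS.M2_le_MS hj hw) hu, fun k hk h5 => ?_⟩
        rw [mul_smul] at h5
        by_cases h6 : j = k
        · exact h4 (aj.uniq _ h3 w hw (h6 ▸ h5))
        · exact h2 k (hk.resolve_left (Ne.symm h6)) ((c.toCx.mem_J_of_nm (c.nm_D (hO j hj) (h1 hk) h6 hw)).1 h5)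
      · exact ⟨u, hu, by rintro k (rfl | hk); exacts [h3, h2 k hk]⟩
  exact key _ (Set.toFinite _) subset_rfl

theorem mem_X_of_nm {u : G} (hu : u ∈ F.MS (F.Ob T a i)ᶜ) (h : ∀ j, j ∉ F.Ob T a i → cj u (F.D {j}) = F.D {j}) :
    u ∈ F.X := by
  have key : ∀ A : Set I, A.Finite → A ⊆ (F.Ob T a i)ᶜ → ∀ u ∈ F.MS A, (∀ j ∈ A, cj u (F.D {j}) = F.D {j}) →
      u ∈ F.X := by
    intro A hA
    induction A, hA using Set.Finite.induction_on with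
    | empty => exact fun _ u hu _ => FS.MS_le le_rfl (fun _ h => h.elim) hu
    | @insert j A hjA _ ih =>
      intro h1 u hu h2
      have hA := (Set.subset_insert _ _).trans h1
      have hj : j ∉ F.Ob T a i := h1 (Set.mem_insert _ _)
      obtain ⟨v, hv, w, hw, rfl⟩ := mem_sup_nm (P := F.MS A) (Q := F.M2 j)
        (fun x hx => by rw [c.toCx.cj_M2 (c.MS_nmX hO hQ hA hx), c.MS_lab hO hQ hA hx hj])
        (FS.MS_le (le_sup_left.trans le_sup_left) (by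
          rintro k (rfl | hk)
          exacts [le_sup_right, (FS.M2_le_MS hk).trans le_sup_left]) hu)
      have h3 : cj v (F.D {j}) = F.D {j} := nm_iff.1 (FS.MS_le (K := Subgroup.normalizer (F.D {j} : Set G))
        (fun x hx => nm_iff.2 (F.toPS.nm_X hx _))
        (fun k hk x hx => nm_iff.2 (c.nm_D (hO k (hA hk)) hj (fun h3 => hjA (h3 ▸ hk)) hx)) hv)
      have h4 := (c.aff ⟨i, Q, hO j hj⟩).mem_of_nm c.toCx hw (by
        have h4 := nm_mul (nm_inv h3) (h2 j (Set.mem_insert _ _))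
        rwa [inv_mul_cancel_left] at h4)
      exact ih hA _ (mul_mem hv (Subgroup.mem_sup_left h4)) fun k hk => h2 k (Set.mem_insert_of_mem _ hk)
  exact key _ (Set.toFinite _) subset_rfl u hu h

theorem exists_top : ∃ y, F.Top a (F.Ob T a i)ᶜ y := by
  obtain ⟨u, hu, h⟩ := c.exists_flip hO hQ c.toCx.S.X_fix
  exact ⟨_, ⟨u, hu, rfl⟩, h⟩

theorem top_unique {y y' : Ω} (h : F.Top a (F.Ob T a i)ᶜ y) (h' : F.Top a (F.Ob T a i)ᶜ y') : y = y' := by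
  obtain ⟨⟨u, hu, rfl⟩, h1⟩ := h
  obtain ⟨⟨u', hu', rfl⟩, h2⟩ := h'
  have x₁ := c.MS_nmX hO hQ subset_rfl hu
  have x₂ := c.MS_nmX hO hQ subset_rfl hu'
  have h3 := c.mem_X_of_nm hO hQ (mul_mem (inv_mem hu) hu') fun j hj => by
    have h3 := c.atm_eq_of ⟨i, Q, hO j hj⟩ x₁ x₂ (h1 j hj) (h2 j hj)
    rw [FS.atm, FS.atm, c.MS_lab hO hQ subset_rfl (inv_mem hu) hj, c.MS_lab hO hQ subset_rfl (inv_mem hu') hj] at h3
    rw [cj_mul, ← h3, cj_inv_cj]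
  have h4 : (u⁻¹ * u') • a = a := c.toCx.S.X_fix h3
  rw [mul_smul, inv_smul_eq_iff] at h4
  exact h4.symm

theorem top_fix {y : Ω} (h : F.Top a (F.Ob T a i)ᶜ y) {g : G} (ha : g • a = a) (hg : cj g F.X = F.X)
    (h1 : ∀ k, F.lab g k ∈ F.Ob T a i ↔ k ∈ F.Ob T a i) : g • y = y :=
  c.top_unique hO hQ (c.toCx.top_smul ha hg (fun k => not_congr (h1 k).symm) h) h

/-- the type of the top word is empty or the whole orbit -/
theorem top_J {y : Ω} (h : F.Top a (F.Ob T a i)ᶜ y) : F.J y = ∅ ∨ F.J y = F.Ob T a i := by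
  rcases (F.J y).eq_empty_or_nonempty with h1 | ⟨k, hk⟩
  · exact Or.inl h1
  refine Or.inr (Set.Subset.antisymm (fun l hl => by_contra fun h2 => h.2 l h2 hl) fun l hl => ?_)
  obtain ⟨g, hg, rfl⟩ := c.toCx.Ob_trans (by_contra fun h2 => h.2 k h2 hk) hl
  rw [← c.top_fix hO hQ h (Np_fix hg) (Np_nm hg) fun k => c.toCx.lab_mem_Ob_iff hg]
  exact (c.toCx.lab_mem_J (Np_fix hg) (Np_nm hg)).2 hk

omit hQ in
/-- the orbit is a singleton if the type of `y_j` is small -/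
theorem eq_of_W_le {j : I} (hj : j ∉ F.Ob T a i) {w : G} (hw : w ∈ F.M2 j)
    (h : F.toPS.W (F.J (w • a)) ≤ (F.Ob T a i)ᶜ.ncard) {k : I} (hk : k ∉ F.Ob T a i) : k = j := by
  have h1 := (F.toPS.pow_le_W (Set.toFinite ((F.Ob T a i)ᶜ \ {j}))).trans ((F.toPS.W_mono
    fun l hl => c.mem_J (hO j hj) hl.1 (Ne.symm hl.2) hw).trans h)
  have h2 := two_mul_lt_three_pow ((F.Ob T a i)ᶜ \ {j}).ncard
  have h3 := Set.ncard_sdiff_singleton_add_one (s := (F.Ob T a i)ᶜ) hj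
  by_contra h4
  have h5 := (Set.ncard_pos (Set.toFinite ((F.Ob T a i)ᶜ \ {j}))).2 ⟨k, hk, h4⟩
  omega

end Fam

end Cx2

end Cfsg.Agent.TH.Own
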