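import Mathlib
import Cfsg.Agent.TH.Own.OneC

/-!
# S3541: `BoxOne` (helper74).  Two orbits of nodes: both active (C1), active and passive (C2).
-/

set_option autoImplicit false
set_option linter.unusedSectionVars false
set_option linter.unusedVariables false

namespace Cfsg.Agent.TH.Own

open MulAction

variable {G : Type*} [Group G] {p : ℕ} {I : Type*} {Ω : Type*} [MulAction G Ω]

/-- two orbits, both active -/
structure FS.Both (F : FS G p I) (T : Subgroup G) (a : Ω) (i j : I) (Q R : Subgroup G) : Prop where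
  hij : ∀ k, k ∉ F.Ob T a i ↔ k ∈ F.Ob T a j
  hQ : F.Mdl T a (F.Ob T a i)ᶜ Q
  hO : ∀ k, k ∉ F.Ob T a i → F.AIn T a (F.Ob T a i)ᶜ Q k
  hR : F.Mdl T a (F.Ob T a j)ᶜ R
  hO' : ∀ k, k ∉ F.Ob T a j → F.AIn T a (F.Ob T a j)ᶜ R k

variable {F : FS G p I} {T : Subgroup G} {m : ℕ} {a : Ω}

theorem FS.Both.symm {i j : I} {Q R : Subgroup G} (h : F.Both T a i j Q R) : F.Both T a j i R Q :=
  ⟨fun k => by rw [← h.hij, not_not], h.hR, h.hO', h.hQ, h.hO⟩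

theorem FS.Both.AN {i j : I} {Q R : Subgroup G} (h : F.Both T a i j Q R) (k : I) : F.AN T a k := by
  by_cases hk : k ∈ F.Ob T a i
  · exact ⟨j, R, h.hO' k ((h.symm.hij k).2 hk)⟩
  · exact ⟨i, Q, h.hO k hk⟩

variable [Finite G] [hp : Fact p.Prime] [Finite I]

theorem Cx.pres (c : Cx F T m a) {g : G} (ha : g • a = a) (hg : cj g F.X = F.X) {i l : I} (hl : l ∈ F.Ob T a i) {j : I}
    (h : F.lab g l ∈ F.Ob T a j) (k : I) : F.lab g k ∈ F.Ob T a j ↔ k ∈ F.Ob T a i := by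
  rw [← c.Ob_eq h, c.lab_Ob ha hg, c.Ob_eq hl]

theorem Cx.pt1 (c : Cx F T m a) {y z : Ω} (hy : y ≠ a) (hz : z ≠ a) (hXy : F.X ≤ stabilizer G y)
    (hXz : F.X ≤ stabilizer G z) (h : ∀ g ∈ BH a z F.X, g • y = y) :
    ¬ 3 * F.toPS.W (F.J z) ≤ F.toPS.W (F.J y) := fun h1 => by
  have h2 := c.S.pt c.A hy hz hXy hXz h1 (fun _ => ()) {()} (Set.toFinite _) (fun _ _ => rfl)
    fun g hg g' hg' _ => h _ (mul_mem (inv_mem hg) hg')
  rw [Set.ncard_singleton] at h2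
  omega

theorem PS.three_mul_empty (S : PS G p I) {L : Set I} {i : I} (h : i ∈ L) : 3 * S.W ∅ ≤ S.W L :=
  S.three_mul_le' (Set.empty_subset _) (Set.notMem_empty i) h

/-- if `X` is a Sylow subgroup of `T_a` then all its fixed points are good -/
theorem Cx.good (c : Cx F T m a) (h : MaxP p (T ⊓ stabilizer G a) F.X) {b : Ω} (hb : F.X ≤ stabilizer G b) :
    ∃ g, cj g F.X = F.X ∧ g • a = b := by
  obtain ⟨R, h1, h2, h3⟩ := c.A.exists_S a b F.isP c.S.X_T c.S.X_fix hb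
  rw [h.max R h2.isP h2.le h1] at h3
  obtain ⟨t, -, rfl⟩ := c.A.trans a b
  obtain ⟨e, he, h4⟩ := (c.conj t).S.inf_mem h3
  refine ⟨e * t, ?_, by rw [mul_smul]; exact (c.conj t).S.fix he⟩
  rw [cj_mul]
  exact Subgroup.eq_of_le_of_card_ge (h4.ge.trans inf_le_left) (by rw [card_cj, card_cj])

namespace Cx2

variable (c : Cx2 F T m a)

include c

section C1

variable {i j : I} {Q R : Subgroup G} (h : F.Both T a i j Q R)

include h

theorem pres_or {g : G} (ha : g • a = a) (hg : cj g F.X = F.X) :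
    (∀ k, F.lab g k ∈ F.Ob T a i ↔ k ∈ F.Ob T a i) ∨ ∀ k, F.lab g k ∈ F.Ob T a j ↔ k ∈ F.Ob T a i := by
  by_cases h1 : F.lab g i ∈ F.Ob T a i
  · exact Or.inl (c.toCx.pres ha hg (c.toCx.self_mem_Ob i) h1)
  · exact Or.inr (c.toCx.pres ha hg (c.toCx.self_mem_Ob i) ((h.hij _).1 h1))

theorem top_X {y : Ω} (hy : F.Top a (F.Ob T a i)ᶜ y) : y ≠ a ∧ F.X ≤ stabilizer G y := by
  refine ⟨c.toCx.ne_of_not_J (hy.2 j ((h.hij j).2 (c.toCx.self_mem_Ob j))), ?_⟩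
  obtain ⟨⟨u, hu, rfl⟩, -⟩ := hy
  exact c.toCx.X_fix (c.MS_nmX h.hO h.hQ subset_rfl hu)

theorem not_both {y z : Ω} (hy : F.Top a (F.Ob T a i)ᶜ y) (hz : F.Top a (F.Ob T a j)ᶜ z) (h1 : F.J y = F.Ob T a i)
    (h2 : F.J z = F.Ob T a j) : False := by
  obtain ⟨h3, h4⟩ := c.top_X h hy
  have hy' := hy
  obtain ⟨⟨u, hu, rfl⟩, h5⟩ := hy
  obtain ⟨⟨v, hv, rfl⟩, h6⟩ := hz
  have x₁ := c.MS_nmX h.hO h.hQ subset_rfl hu
  have x₂ := c.MS_nmX h.hO' h.hR subset_rfl hv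
  have x₃ := nm_mul x₁ x₂
  have h7 : F.J ((u * v) • a) = ∅ := Set.eq_empty_of_forall_notMem fun k hk => by
    by_cases h7 : k ∈ F.Ob T a i
    · rw [mul_smul, c.toCx.J_prod x₁ (h1 ▸ h7), h2] at hk
      exact (h.hij _).2 hk (c.toCx.lab_inv_mem x₁ (fun l hl => c.MS_lab h.hO h.hQ subset_rfl hu hl) h7)
    · exact h5 k h7 ((c.toCx.J_congr x₃ x₁ (c.toCx.atm_prod x₁ x₂ (A := (F.Ob T a i)ᶜ)
        (fun l hl => by rwa [c.MS_lab h.hO h.hQ subset_rfl (inv_mem hu) hl])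
        (fun l hl => h2 ▸ (h.hij l).1 hl) h7)).1 hk)
  have h8 := c.toCx.S.pt c.A h3 (c.toCx.ne_of_not_J (k := i) (h7 ▸ Set.notMem_empty i)) h4 (c.toCx.X_fix x₃) (c := 3)
    (by
      show 3 * F.toPS.W (F.J _) ≤ F.toPS.W (F.J _)
      rw [h7, h1]
      exact F.toPS.three_mul_empty (c.toCx.self_mem_Ob i))
    (fun g => F.Ob T a (F.lab g i)) {F.Ob T a i, F.Ob T a j} (Set.toFinite _)
    (fun g _ => by
      by_cases h8 : F.lab g i ∈ F.Ob T a i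
      · exact Or.inl (c.toCx.Ob_eq h8)
      · exact Or.inr (c.toCx.Ob_eq ((h.hij _).1 h8)))
    (fun g hg g' hg' h8 => by
      have h9 := mul_mem (inv_mem hg) hg'
      rw [← inv_smul_eq_iff.1 (c.top_fix h.hO h.hQ hy' (inv_mem h9).1.1 (nm_iff.1 (inv_mem h9).2)
        (c.toCx.stab_Ob hg.1.1 (nm_iff.1 hg.2) hg'.1.1 (nm_iff.1 hg'.2) h8))])
  have h9 := ncard_pair_le_two (F.Ob T a i) (F.Ob T a j)
  omega

theorem empty_of_empty {y z : Ω} (hy : F.Top a (F.Ob T a i)ᶜ y) (hz : F.Top a (F.Ob T a j)ᶜ z) (h1 : F.J y = ∅) :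
    F.J z = ∅ := by
  refine (c.top_J h.hO' h.hR hz).resolve_right fun h2 => ?_
  refine c.toCx.pt1 (c.top_X h.symm hz).1 (c.top_X h hy).1 (c.top_X h.symm hz).2 (c.top_X h hy).2 (fun g hg => ?_)
    (by rw [h1, h2]; exact F.toPS.three_mul_empty (c.toCx.self_mem_Ob j))
  have hX := nm_iff.1 hg.2
  rcases c.pres_or h.symm hg.1.1 hX with h3 | h3
  · exact c.top_fix h.hO' h.hR hz hg.1.1 hX h3
  · have h4 := c.top_unique h.hO h.hQ (c.toCx.top_smul hg.1.1 hX (fun k => not_congr (h3 k).symm) hz) hy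
    exact h4.trans (MulAction.injective g (h4.trans (show g • y = y from hg.1.2).symm)).symm

/-- a good point of empty type fixed by `B_H` -/
theorem exists_star : ∃ u, cj u F.X = F.X ∧ F.J (u • a) = ∅ ∧ ∀ g, g • a = a → cj g F.X = F.X → g • u • a = u • a := by
  obtain ⟨y, hy⟩ := c.exists_top h.hO h.hQ
  obtain ⟨z, hz⟩ := c.exists_top h.hO' h.hR
  have h1 : F.J y = ∅ := (c.top_J h.hO h.hQ hy).resolve_right fun h1 => by
    rcases c.top_J h.hO' h.hR hz with h2 | h2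
    · exact Set.notMem_empty i (c.empty_of_empty h.symm hz hy h2 ▸ h1 ▸ c.toCx.self_mem_Ob i)
    · exact c.not_both h hy hz h1 h2
  obtain ⟨⟨u, hu, rfl⟩, -⟩ := hy
  have x₁ := c.MS_nmX h.hO h.hQ subset_rfl hu
  refine ⟨u, x₁, h1, fun g ha hg => ?_⟩
  rw [← mul_smul]
  refine c.eq_of_J_eq (nm_mul hg x₁) x₁ (fun k => ?_) fun k _ => h.AN k
  rw [mul_smul, ← c.toCx.lab_lab_inv hg k, c.toCx.lab_mem_J ha hg, h1]
  rfl

theorem p_eq : p = 2 := by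
  obtain ⟨k, Q', h1⟩ := h.AN i
  obtain ⟨n, hn, h2⟩ := h1.split.exists_pow
  rw [c.three i (h.AN i)] at h2
  exact (Nat.prime_dvd_prime_iff_eq hp.1 Nat.prime_two).1 ((show p ^ n = 2 by omega) ▸ dvd_pow_self p hn.ne')

theorem single {k : I} (hk : k ∉ F.Ob T a i) : k = j := by
  obtain ⟨u, x₁, h1, h2⟩ := c.exists_star h
  choose w hw hw' using fun l => (c.aff (h.AN l)).ne
  have hj : j ∉ F.Ob T a i := (h.hij j).2 (c.toCx.self_mem_Ob j)
  have aj := c.aff (h.AN j)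
  have hy := aj.smul_ne c.toCx (hw j) (hw' j)
  have hX := c.toCx.X_fix (aj.nmX _ (hw j))
  have hz : u • a ≠ a := c.toCx.ne_of_not_J (k := i) (h1 ▸ Set.notMem_empty i)
  have h3 : ∀ g, g • a = a → cj g F.X = F.X → (∀ k, F.lab g k ∈ F.Ob T a i ↔ k ∈ F.Ob T a i) →
      g • w j • a ∈ (fun l => w l • a) '' (F.Ob T a i)ᶜ := fun g ha hg h3 =>
    ⟨F.lab g j, fun h4 => hj ((h3 j).1 h4), by
      rw [c.smul_wt (h.AN _) (hw j) (hw' j) (hw _) (hw' _) hg rfl c.toCx.S.X_fix, ha]⟩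
  refine c.eq_of_W_le h.hO hj (hw j) (le_trans ?_ (Set.ncard_image_le (f := fun l => w l • a))) hk
  refine c.toCx.S.pt c.A hy hz hX (c.toCx.X_fix x₁) (by
    show _ * F.toPS.W (F.J _) ≤ _
    rw [h1, F.toPS.W_empty, mul_one]) (fun g => g • w j • a) _ (Set.toFinite _) (fun g hg => ?_)
    fun g _ g' _ h4 => by rw [mul_smul, ← h4, inv_smul_smul]
  rcases c.pres_or h hg.1.1 (nm_iff.1 hg.2) with h4 | h4
  · exact h3 g hg.1.1 (nm_iff.1 hg.2) h4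
  -- an element of the stabiliser of `y_j` swaps the orbits
  obtain ⟨s, hs, h5⟩ : ∃ s ∈ BH a (w j • a) F.X, ∀ k, F.lab s k ∈ F.Ob T a j ↔ k ∈ F.Ob T a i := by
    by_contra h5
    let N := Subgroup.normalizer (F.D (F.Ob T a i) : Set G)
    have e1 : ∀ s, s • a = a → cj s F.X = F.X → (s ∈ N ↔ F.lab s i ∈ F.Ob T a i) := fun s ha hs => by
      rcases c.pres_or h ha hs with h6 | h6
      · exact iff_of_true (nm_iff.2 (c.toCx.cj_D_set ha hs fun k => (h6 k).symm)) ((h6 i).2 (c.toCx.self_mem_Ob i))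
      · refine iff_of_false (fun h7 => hj ?_) ((h.hij _).2 ((h6 i).2 (c.toCx.self_mem_Ob i)))
        rw [F.toPS.D_inj ((nm_iff.1 h7).symm.trans (c.toCx.cj_D_set ha hs fun k => (h6 k).symm))]
        exact c.toCx.self_mem_Ob j
    have e2 : BH a (w j • a) F.X ≤ BH a (u • a) F.X ⊓ N := fun s hs =>
      ⟨⟨⟨hs.1.1, h2 s hs.1.1 (nm_iff.1 hs.2)⟩, hs.2⟩, (e1 s hs.1.1 (nm_iff.1 hs.2)).2
        (((c.pres_or h hs.1.1 (nm_iff.1 hs.2)).resolve_right fun h6 => h5 ⟨s, hs, h6⟩) i |>.2 (c.toCx.self_mem_Ob i))⟩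
    have e3 : N.relIndex (BH a (u • a) F.X) = 2 := Subgroup.index_eq_two_iff.2 ⟨⟨g, hg⟩, fun b => by
      have hb := nm_iff.1 b.2.2
      rw [Subgroup.mem_subgroupOf, Subgroup.mem_subgroupOf, e1 _ (b * ⟨g, hg⟩).2.1.1 (nm_iff.1 (b * ⟨g, hg⟩).2.2),
        e1 _ b.2.1.1 hb, Subgroup.coe_mul, c.toCx.lab_mul hb (nm_iff.1 hg.2)]
      have h6 := (h4 i).2 (c.toCx.self_mem_Ob i)
      rcases c.pres_or h b.2.1.1 hb with h7 | h7
      · exact Or.inr ⟨(h7 i).2 (c.toCx.self_mem_Ob i), fun h8 => (h.hij _).2 h6 ((h7 _).1 h8)⟩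
      · exact Or.inl ⟨by_contra fun h8 => (h.hij _).2 h6 ((h7 _).1 ((h.hij _).1 h8)),
          (h.hij _).2 ((h7 i).2 (c.toCx.self_mem_Ob i))⟩⟩
    have e4 := card_mul_relIndex (inf_le_left : BH a (u • a) F.X ⊓ N ≤ _)
    have e5 := card_mul_relIndex e2
    have e6 := (c.toCx.S.m_eq c.A hy hX).trans (c.toCx.S.m_eq c.A hz (c.toCx.X_fix x₁)).symm
    rw [Subgroup.inf_relIndex_left, e3, ← e5] at e4
    rw [show F.toPS.typ (stabilizer G (u • a)) = ∅ from h1, F.toPS.W_empty, one_mul, ← e4, mul_comm, mul_assoc] at e6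
    refine F.toPS.not_dvd_W (F.toPS.typ (stabilizer G (w j • a))) ?_
    rw [Nat.eq_of_mul_eq_mul_left Nat.card_pos e6]
    exact Dvd.dvd.mul_left (dvd_of_eq (c.p_eq h)) _
  have h6 := h3 (g * s) (by rw [mul_smul, show s • a = a from hs.1.1]; exact hg.1.1)
    (nm_mul (nm_iff.1 hg.2) (nm_iff.1 hs.2)) fun k => by
      rw [c.toCx.lab_mul (nm_iff.1 hg.2) (nm_iff.1 hs.2), ← h5 k, ← h.hij, ← h4 (F.lab s k), h.symm.hij]
  rwa [mul_smul, show s • w j • a = w j • a from hs.1.2] at h6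

theorem c1 : False := by
  obtain ⟨u, x₁, h1, h2⟩ := c.exists_star h
  have hI : ∀ k, k = i ∨ k = j := fun k => by
    by_cases hk : k ∈ F.Ob T a i
    · exact Or.inl (c.single h.symm ((h.symm.hij k).2 hk))
    · exact Or.inr (c.single h hk)
  have hsp : ∀ k, F.toPS.Split k := fun k => by
    obtain ⟨_, _, h3⟩ := h.AN k
    exact h3.split
  have hadj : ∀ k, ∃ l, F.toPS.Adj k l := fun k => by
    by_contra h3
    have h4 := F.iso5 k (hsp k) fun l hl => h3 ⟨l, hl⟩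
    have h5 : nS (F.D {k}) F.X = 3 := c.three k (h.AN k)
    omega
  have hNp : ∀ g ∈ Np p T a F.X, ∀ k, F.lab g k = k := fun g hg k => by
    rcases hI k with rfl | rfl
    · exact c.single h.symm ((h.symm.hij _).2 (c.toCx.lab_mem_Ob hg (c.toCx.self_mem_Ob _)))
    · exact c.single h ((h.hij _).2 (c.toCx.lab_mem_Ob hg (c.toCx.self_mem_Ob _)))
  have hz : u • a ≠ a := c.toCx.ne_of_not_J (k := i) (h1 ▸ Set.notMem_empty i)
  -- `p` does not divide the order of the centraliser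
  obtain ⟨V, -, hV⟩ := exists_maxP (p := p) (L := CA T a (F.D Set.univ)) (P := ⊥) IsPGroup.of_bot bot_le
  obtain rfl : V = ⊥ := by
    by_contra h3
    obtain ⟨Q', h4, -, h5, h6, -⟩ := c.toCx.S.exists_md c.A hV h3
    obtain ⟨k, hk⟩ := h4.exists_act_univ c.toCx.S c.A h5
    obtain ⟨l, hl⟩ := hadj k
    by_cases h7 : F.toPS.Act V Q' l
    · exact (h4.rank2 hl.1 trivial trivial (hsp k) (hsp l) hk h7).1 hl
    · exact Set.notMem_empty l (h1 ▸ h4.aff2 c.toCx.S c.A h6 trivial trivial (hsp k) hk h7 hl (c.toCx.X_fix x₁)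
        fun v hv => h2 v (hV.le hv).1.2 (nm_of_comm fun x hx => ((hV.le hv).2 x (F.toPS.X_le _ hx)).symm))
  -- `X` is a Sylow subgroup of `T_a`
  have hS : MaxP p (T ⊓ stabilizer G a) F.X := ⟨c.toCx.S.X_le, F.isP, fun P hP h3 h4 => le_antisymm (fun g hg => by
    have h5 := c.toCx.S.le_Np hP (h3.trans inf_le_left) (h3.trans inf_le_right) h4 hg
    obtain ⟨x, hx, h6⟩ := c.h.rig2 (fun k => ⟨hsp k, c.three k (h.AN k)⟩) g (Np_fix h5) (Np_nm h5)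
      fun k => by rw [c.toCx.cj_D (Np_fix h5) (Np_nm h5), hNp g h5]
    have h7 := mul_mem (h4 hx) hg
    have h8 := hV.max (Subgroup.zpowers (x * g)) (hP.to_le (Subgroup.zpowers_le.2 h7))
      (Subgroup.zpowers_le.2 ⟨h3 h7, fun e he => (c.toCx.S.comm_of_fix c.A h6 e he).symm⟩) bot_le
    rw [Subgroup.zpowers_eq_bot, mul_eq_one_iff_inv_eq] at h8
    exact h8 ▸ inv_mem hx) h4⟩
  have h3 : ∀ b, b ≠ a → F.X ≤ stabilizer G b → b = u • a := fun b hb hX => by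
    obtain ⟨g, hg, rfl⟩ := c.toCx.good hS hX
    refine c.eq_of_J_eq hg x₁ (fun k => ?_) fun k _ => h.AN k
    rw [h1]
    refine iff_of_false (fun hk => ?_) (Set.notMem_empty k)
    have h3 := c.toCx.S.pt c.A hb hz hX (c.toCx.X_fix x₁) (c := 3) (by
      show 3 * F.toPS.W (F.J _) ≤ F.toPS.W (F.J _)
      rw [h1]
      exact F.toPS.three_mul_empty hk) (fun s => F.lab s i) {i, j} (Set.toFinite _) (fun s _ => hI _)
      (fun s hs s' hs' h3 => by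
        have h4 := mul_mem (inv_mem hs) hs'
        have h5 := c.lab_eq_of (nm_iff.1 hs.2) (nm_iff.1 hs'.2) h3
        generalize s⁻¹ * s' = r at h4 h5
        have h6 := nm_iff.1 h4.2
        have h7 : ∀ l, F.lab r l = l := fun l => by
          rcases hI l with rfl | rfl
          · exact h5
          · exact (hI _).elim (fun h7 => by rw [c.toCx.lab_inj h6 (h7.trans h5.symm), h5]) id
        rw [← mul_smul]
        refine c.eq_of_J_eq (nm_mul h6 hg) hg (fun l => ?_) fun l _ => h.AN l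
        conv_lhs => rw [mul_smul, ← h7 l]
        exact c.toCx.lab_mem_J h4.1.1 h6)
    have h4 := ncard_pair_le_two i j
    omega
  exact c.toCx.not_two fun b d hb hd h4 h5 => ⟨1, one_smul _ _, by rw [one_smul, h3 b hb h4, h3 d hd h5]⟩

end C1

/-- two orbits, one active and one passive -/
theorem c2 {i j : I} {Q R : Subgroup G} (hij : ∀ k, k ∉ F.Ob T a i ↔ k ∈ F.Ob T a j) (hQ : F.Mdl T a (F.Ob T a i)ᶜ Q)
    (hO : ∀ k, k ∉ F.Ob T a i → F.AIn T a (F.Ob T a i)ᶜ Q k) (hR : F.PasQ T a j R) : False := by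
  have := c.A.nrm
  have hAN : ∀ k, k ∉ F.Ob T a i → F.AN T a k := fun k hk => ⟨i, Q, hO k hk⟩
  have hj : j ∉ F.Ob T a i := (hij j).2 (c.toCx.self_mem_Ob j)
  have hi := c.toCx.self_mem_Ob i
  have hinv : ∀ g, g • a = a → cj g F.X = F.X → ∀ k, F.lab g k ∈ F.Ob T a i ↔ k ∈ F.Ob T a i := fun g ha hg k => by
    rw [← not_iff_not, hij, hij, c.toCx.pas_inv hR ha hg]
  have hRD : ∀ v ∈ R, ∀ k ∈ F.Ob T a i, cj v (F.D {k}) = F.D {k} := fun v hv k hk =>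
    hR.nm_D hv fun h1 => (hij k).2 h1 hk
  have hRJ : ∀ v ∈ R, ∀ k ∈ F.Ob T a i, k ∈ F.J (v • a) := fun v hv k hk =>
    (c.toCx.mem_J_of_nm (hRD v hv k hk)).2 (c.toCx.self_mem_J k)
  obtain ⟨y, hy⟩ := c.exists_top hO hQ
  have hfix : ∀ g, g • a = a → cj g F.X = F.X → g • y = y := fun g ha hg => c.top_fix hO hQ hy ha hg (hinv g ha hg)
  have hJ := c.top_J hO hQ hy
  have hya : y ≠ a := c.toCx.ne_of_not_J (hy.2 j hj)
  obtain ⟨⟨u, hu, rfl⟩, hy⟩ := hy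
  have x₁ := c.MS_nmX hO hQ subset_rfl hu
  have hX := c.toCx.X_fix x₁
  choose! w hw hw' using fun l hl => (c.aff (hAN l hl)).ne
  have xw : ∀ l, l ∉ F.Ob T a i → cj (w l) F.X = F.X := fun l hl => (c.aff (hAN l hl)).nmX _ (hw l hl)
  have nw : ∀ l, l ∉ F.Ob T a i → l ∉ F.J (w l • a) := fun l hl =>
    (c.aff (hAN l hl)).not_mem_J c.toCx (hw l hl) (hw' l hl)
  obtain ⟨v₀, hv₀, hv₀'⟩ := hR.exists_ne
  obtain ⟨l₀, hl₀⟩ := c.toCx.exists_not_J (hR.nm_X hv₀) hv₀'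
  have hl₀' : l₀ ∉ F.Ob T a i := fun h1 => hl₀ (hRJ v₀ hv₀ l₀ h1)
  replace hJ : F.J (u • a) = F.Ob T a i := hJ.resolve_left fun h1 => by
    have h2 : ∀ k, k ∉ F.Ob T a i → k = j := fun k hk => c.eq_of_W_le hO hj (hw j hj) (c.toCx.S.pt c.A
      (c.toCx.ne_of_not_J (nw j hj)) hya (c.toCx.X_fix (xw j hj)) hX (by
        show _ * F.toPS.W (F.J _) ≤ _
        rw [h1, F.toPS.W_empty, mul_one]) (fun g => F.lab g j) _ (Set.toFinite _)
      (fun g hg h2 => hj ((hinv g hg.1.1 (nm_iff.1 hg.2) j).1 h2))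
      (fun g hg g' hg' h7 => c.fix_wt (hAN j hj) (hw j hj) (hw' j hj) (mul_mem (inv_mem hg) hg').1.1
        (nm_iff.1 (mul_mem (inv_mem hg) hg').2) (c.lab_eq_of (nm_iff.1 hg.2) (nm_iff.1 hg'.2) h7))) hk
    have h3 : ∀ k, k ∈ F.J (v₀ • a) ↔ k ∈ F.Ob T a i := fun k =>
      ⟨fun hk => by_contra fun h3 => hl₀ (by rwa [h2 l₀ hl₀', ← h2 k h3]), hRJ v₀ hv₀ k⟩
    refine c.toCx.pt1 hv₀' hya (c.toCx.X_fix (hR.nm_X hv₀)) hX (fun g hg => ?_)
      (by rw [h1]; exact F.toPS.three_mul_empty ((h3 i).2 hi))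
    have h4 := nm_iff.1 hg.2
    rw [← mul_smul]
    refine (c.eq_of_J_eq (hR.nm_X hv₀) (nm_mul h4 (hR.nm_X hv₀)) (fun k => ?_)
      fun k hk => hAN k fun h5 => hk ((h3 k).2 h5)).symm
    rw [mul_smul, ← c.toCx.lab_lab_inv h4 k, c.toCx.lab_mem_J hg.1.1 h4, h3, h3, hinv g hg.1.1 h4]
  have g1 : ∀ g, cj g F.X = F.X → (∀ k, k ∉ F.Ob T a i → k ∉ F.J (g • a)) → g • a = u • a := fun g hg h1 => by
    refine (c.eq_of_J_eq x₁ hg (fun k => ?_) fun k hk => hAN k (hJ ▸ hk)).symm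
    rw [hJ]
    refine ⟨fun hk => by_contra fun h2 => ?_, fun hk => by_contra fun h2 => h1 k h2 hk⟩
    exact c.toCx.pt1 hya (c.toCx.ne_of_not_J h2) hX (c.toCx.X_fix hg) (fun s hs => hfix s hs.1.1 (nm_iff.1 hs.2))
      (by rw [hJ]; exact F.toPS.three_mul_le' (fun l hl => by_contra fun h3 => h1 l h3 hl) h2 hk)
  have g3 : R ≤ F.MS (F.Ob T a i)ᶜ := fun v hv => by
    obtain ⟨u', hu', h1⟩ := c.exists_flip hO hQ (c.toCx.X_fix (hR.nm_X hv))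
    rw [← mul_smul] at h1
    have h2 := g1 _ (nm_mul (c.MS_nmX hO hQ subset_rfl hu') (hR.nm_X hv)) h1
    have h3 := c.h.le_X (P := (R ⊔ F.MS (F.Ob T a i)ᶜ) ⊓ stabilizer G a)
      ((isP_sup hR.md.isP (c.MS_isP hO hQ) fun x hx => c.toCx.cj_MS (hR.nm_X hx) fun k => by
        have h3 : ∀ l, l ∉ (F.Ob T a i)ᶜ → F.lab x l = l := fun l hl =>
          c.toCx.lab_of_cj (hR.nm_X hx) (hRD x hx l (not_not.1 hl))
        exact ⟨fun hk h4 => hk (c.toCx.lab_inj (hR.nm_X hx) (h3 _ (not_not.2 h4)) ▸ h4),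
          fun hk h4 => hk (by rwa [h3 k (not_not.2 h4)])⟩).to_le inf_le_left)
      (inf_le_left.trans (sup_le hR.leT (c.MS_T hO hQ))) inf_le_right fun g hg => nm_inf (nm_sup
        (hR.can g (F.toPS.V_eq_of_cj (Np_nm hg) (c.toCx.nm_D_compl hg j)))
        (c.toCx.cj_MS (Np_nm hg) fun k => not_congr (c.toCx.lab_mem_Ob_iff hg).symm)) (nm_stab (Np_fix hg))
    have h4 : u⁻¹ * (u' * v) ∈ F.X := h3 ⟨mul_mem (Subgroup.mem_sup_right (inv_mem hu))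
      (mul_mem (Subgroup.mem_sup_right hu') (Subgroup.mem_sup_left hv)), by
        show (u⁻¹ * (u' * v)) • a = a
        rw [mul_smul, h2, inv_smul_smul]⟩
    exact (mul_mem_cancel_left hu').1 ((mul_mem_cancel_left (inv_mem hu)).1 (Subgroup.mem_sup_left h4))
  have g4 : ∀ k, k ∉ F.Ob T a i → ∀ l, l ≠ k → l ∉ F.J (w k • a) → l ∈ F.Ob T a i ∧ F.toPS.Adj k l :=
    fun k hk l hne hl => by
      have h1 : l ∈ F.Ob T a i := by_contra fun h1 => hl (c.mem_J (hO k hk) h1 hne.symm (hw k hk))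
      refine ⟨h1, by_contra fun h2 => hl ?_⟩
      obtain ⟨g, hg, rfl⟩ := c.toCx.Ob_trans ((hij _).1 hl₀') ((hij _).1 hk)
      have h3 : g * v₀ * g⁻¹ ∈ R := nm_conj (hR.can g (F.toPS.V_eq_of_cj (Np_nm hg) (c.toCx.nm_D_compl hg j))) hv₀
      exact (c.toCx.mem_J_of_nm (c.nm_D_of_swap (hAN _ hk) hne.symm h2 (hR.nm_X h3)
        (c.MS_nmV hO hQ subset_rfl (g3 h3) hk) (hRD _ h3 l h1) (by
          rw [mul_smul, mul_smul, inv_smul_eq_iff.2 (Np_fix hg).symm, c.toCx.lab_mem_J (Np_fix hg) (Np_nm hg)]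
          exact hl₀) (hw _ hk))).2 (c.toCx.self_mem_J l)
  have g5 : ∀ k, k ∉ F.Ob T a i → ∃ k', k' ∉ F.Ob T a i ∧ k' ≠ k := fun k hk => by
    by_contra h1
    push Not at h1
    obtain ⟨l, h2, h3⟩ := c.exists_blk (hAN k hk) (hw k hk) (hw' k hk)
    rw [g1 _ (xw k hk) fun l hl => by rw [h1 l hl]; exact nw k hk, hJ] at h3
    exact h2 (h1 l h3)
  have g6 : ∀ k, k ∉ F.Ob T a i → ∀ k', k' ∉ F.Ob T a i → k' ≠ k → ∃ l ∈ F.Ob T a i, l ∉ F.J (w k • a) ∧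
      F.toPS.Adj k l ∧ F.toPS.Adj k' l := fun k hk k' hk' hne => by
    obtain ⟨l, h1, h2⟩ := c.blocks_meet (hAN k hk) (hAN k' hk') (hw k hk) (hw' k hk) (hw k' hk') (hw' k' hk')
    have h3 : l ≠ k := fun h3 => h2 (h3 ▸ c.mem_J (hO k' hk') hk hne (hw k' hk'))
    have h4 : l ≠ k' := fun h4 => h1 (h4 ▸ c.mem_J (hO k hk) hk' hne.symm (hw k hk))
    exact ⟨l, (g4 k hk l h3 h1).1, h1, (g4 k hk l h3 h1).2, (g4 k' hk' l h4 h2).2⟩
  obtain ⟨e, he⟩ := F.endn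
  have hend : ∀ k ∈ F.Ob T a e, ∀ l l', F.toPS.Adj k l → F.toPS.Adj k l' → l = l' := fun k hk l l' h1 h2 => by
    obtain ⟨g, hg, h3⟩ := c.toCx.Ob_symm hk
    exact c.toCx.lab_inj (Np_nm hg) (he _ _ (h3 ▸ c.toCx.adj_lab (Np_fix hg) (Np_nm hg) h1)
      (h3 ▸ c.toCx.adj_lab (Np_fix hg) (Np_nm hg) h2))
  obtain ⟨j', hj', hne⟩ := g5 j hj
  obtain ⟨l, hl, h1, h2, h3⟩ := g6 j hj j' hj' hne
  have he' : e ∉ F.Ob T a i := fun h4 =>
    hne (hend l (c.toCx.Ob_trans h4 hl) _ _ (F.toPS.adj_symm h3) (F.toPS.adj_symm h2))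
  replace hend : ∀ k, k ∉ F.Ob T a i → ∀ l l', F.toPS.Adj k l → F.toPS.Adj k l' → l = l' := fun k hk =>
    hend k (c.toCx.Ob_trans ((hij _).1 he') ((hij _).1 hk))
  have h4 : ∀ k ∈ F.Ob T a i, k = l := fun k hk => by
    obtain ⟨g, hg, rfl⟩ := c.toCx.Ob_trans hl hk
    have h4 : F.lab g j ∉ F.Ob T a i := fun h4 => hj ((c.toCx.lab_mem_Ob_iff hg).1 h4)
    refine hend _ h4 _ _ (c.toCx.adj_lab (Np_fix hg) (Np_nm hg) h2) ?_
    by_cases h5 : F.lab g j = j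
    · rwa [h5]
    · obtain ⟨l', -, -, h6, h7⟩ := g6 j hj _ h4 h5
      rwa [hend j hj _ _ h2 h6]
  have aj := c.aff (hAN j hj)
  have h5 : ∀ k, k ≠ j → k ∉ F.J (w j • u • a) := fun k hk h5 => by
    by_cases h6 : k ∈ F.Ob T a i
    · rw [h4 k h6, FS.mem_J, ← inv_inv (w j), ← cj_le_stab', ← c.toCx.atm_lab (nm_inv (xw j hj)),
        h4 _ (by_contra fun h7 => ?_ : F.lab (w j)⁻¹ l ∈ F.Ob T a i), c.toCx.atm_fix_iff x₁ (nm_inv (xw j hj)),
        (c.toCx.mem_J_iff x₁).1 (hJ ▸ hl), eq_comm, ← c.toCx.mem_J_iff (nm_inv (xw j hj)),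
        c.inv_smul_eq (hAN j hj) (hw j hj) (hw' j hj) c.toCx.S.X_fix] at h5
      · exact h1 h5
      · have h8 := c.MS_lab hO hQ subset_rfl (FS.M2_le_MS hj (hw j hj)) h7
        rw [c.toCx.lab_lab_inv (xw j hj)] at h8
        exact h7 (h8 ▸ hl)
    · exact hy k h6 ((c.toCx.mem_J_of_nm (c.nm_D (hO j hj) h6 hk.symm (hw j hj))).1 h5)
  have h6 : j ∈ F.J (w j • u • a) := by
    obtain ⟨v, hv, h6⟩ := aj.ex _ hX
    rwa [c.smul_eq (hAN j hj) hv (fun h7 => hy j hj (by rwa [show v • u • a = u • a from hX h7] at h6))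
      (hw j hj) (hw' j hj) hX] at h6
  have h7 := (c.toCx.S.m_eq c.A (c.toCx.ne_of_not_J (h5 j' hne)) (le_stab_smul (xw j hj) hX)).trans
    (c.toCx.S.m_eq c.A hya hX).symm
  have h8 : F.toPS.W (F.J (w j • u • a)) ≤ F.toPS.W (F.J (u • a)) :=
    (F.toPS.W_mono (L := {j}) fun k hk => by_contra fun h8 => h5 k h8 hk).trans ((c.three j (hAN j hj)).le.trans
      ((F.toPS.three_le l).trans (F.toPS.W_mono (Set.singleton_subset_iff.2 (hJ ▸ hl)))))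
  have h9 : BH a (w j • u • a) F.X = BH a (u • a) F.X := Subgroup.eq_of_le_of_card_ge
    (fun s hs => ⟨⟨hs.1.1, hfix s hs.1.1 (nm_iff.1 hs.2)⟩, hs.2⟩)
    (Nat.le_of_mul_le_mul_left (h7.ge.trans (Nat.mul_le_mul_right _ h8)) (F.toPS.W_pos _))
  obtain ⟨g, hg, rfl⟩ := (hij _).1 hj'
  have h10 : g ∈ BH a (w j • u • a) F.X := h9.ge ⟨⟨Np_fix hg, hfix g (Np_fix hg) (Np_nm hg)⟩, nm_iff.2 (Np_nm hg)⟩
  exact h5 _ hne ((show g • w j • u • a = w j • u • a from h10.1.2) ▸ (c.toCx.lab_mem_J (Np_fix hg) (Np_nm hg)).2 h6)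

end Cx2

theorem Cx.mem_Ob (c : Cx F T m a) (i k : I) : k ∈ F.Ob T a i := by
  by_contra hc
  have c2 : Cx2 F T m a := ⟨c, fun j hj => c.W_eq_three ⟨i, k, hc⟩ hj⟩
  obtain ⟨i, j, Q, h⟩ : ∃ i j Q, F.AIn T a (F.Ob T a i)ᶜ Q j := by
    rcases c.pas_or i with ⟨Q, hQ⟩ | ⟨j, Q, h⟩
    · rcases c.pas_or k with ⟨R, hR⟩ | ⟨j, R, h⟩
      · exact absurd (c.two_pas hQ hR) hc
      · exact ⟨k, j, R, h⟩
    · exact ⟨i, j, Q, h⟩
  have hij : ∀ l, l ∉ F.Ob T a i ↔ l ∈ F.Ob T a j := fun l =>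
    ⟨(c2.two_orbits h l).resolve_left, fun h1 h2 => h.mem (c.Ob_eq h2 ▸ c.Ob_symm h1)⟩
  have hO : ∀ l, l ∉ F.Ob T a i → F.AIn T a (F.Ob T a i)ᶜ Q l := fun l hl => c.ain_of_Ob h ((hij l).1 hl)
  rcases c.pas_or j with ⟨R, hR⟩ | ⟨l, R, hR⟩
  · exact c2.c2 hij h.toMdl hO hR
  · exact c2.c1 ⟨hij, h.toMdl, hO, hR.toMdl, fun l' hl' => c.ain_of_Ob hR ((c2.two_orbits hR l').resolve_left hl')⟩

/-- **[ONE]** -/
theorem boxOne : BoxOne := by
  intro G _ _ Ω _ T p m a I _ F A h i k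
  have := Fact.mk A.prime
  have c : Cx F T m a := ⟨A, h⟩
  obtain ⟨g, hg, rfl⟩ := c.mem_Ob i k
  exact ⟨g, hg, c.cj_D (Np_fix hg) (Np_nm hg) i⟩

end Cfsg.Agent.TH.Own
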