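import Mathlib
import Cfsg.Agent.TH.Own.Grp
import Cfsg.Agent.H223.PMinChev
import Cfsg.Agent.H498.LieFree
import Cfsg.Agent.SmallSimple.SylowCount
import Cfsg.Agent.SmallSimple.S1000.PSLFacts

/-!
# S3541, `BoxR1D`: a Sylow subgroup transitive on the other Sylow subgroups forces rank one (helper6)
-/

set_option autoImplicit false
set_option linter.unusedSectionVars false
set_option linter.unusedVariables false

namespace Cfsg.Agent.TH.Own.R1

variable {K : Type} [Group K] [Finite K] [IsSimpleGroup K] {p : ℕ} [hp : Fact p.Prime] {S : Subgroup K}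

theorem le_nm_of_spl (hS : S ≠ ⊥) (h : Spl ⊤ S) {M : Subgroup K} (h1 : S ≤ M) (h2 : M ≠ ⊤) :
    M ≤ Subgroup.normalizer (S : Set K) := by
  intro m hm
  by_contra h3
  have h4 : ∀ g : K, cj g S ≤ M := fun g => by
    by_cases h5 : cj g S = S
    · rw [h5]; exact h1
    · obtain ⟨x, hx, h6⟩ := h _ ⟨m, trivial, rfl⟩ (fun h6 => h3 (nm_iff.2 h6)) _ ⟨g, trivial, rfl⟩ h5
      rw [← h6, ← cj_mul, ← cj_of_mem (mul_mem (h1 hx) hm)]
      exact cj_mono _ h1
  have h5 : S ≤ M.normalCore := le_normalCore_iff.2 fun g => by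
    rw [← cj_cj_inv g S]
    exact cj_mono g (h4 _)
  rcases (Subgroup.normalCore_normal M).eq_bot_or_eq_top with h6 | h6
  · exact hS (le_bot_iff.1 (h6 ▸ h5))
  · exact h2 (top_le_iff.1 (h6 ▸ M.normalCore_le))

theorem nm_ne_top (hK : Group.IsPerfect K) (hS : S ≠ ⊥) (hP : IsPGroup p S) : Subgroup.normalizer (S : Set K) ≠ ⊤ := by
  intro h
  rcases (Subgroup.normalizer_eq_top_iff.1 h).eq_bot_or_eq_top with h1 | h1
  · exact hS h1
  · rw [h1] at hP
    exact Group.IsPerfect.not_isNilpotent K (hP.of_equiv Subgroup.topEquiv).isNilpotent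

theorem isPMinimal (hK : Group.IsPerfect K) (hS : S ≠ ⊥) (hM : MaxP p ⊤ S) (h : Spl ⊤ S) : Cfsg.IsPMinimal p K := by
  intro Q
  obtain ⟨g, -, hg⟩ := hM.exists_eq (S' := Q) ⟨le_top, Q.isPGroup', fun R hR _ h1 => Q.is_maximal' hR h1⟩
  have h1 : (Q : Subgroup K) ≠ ⊥ := by rw [hg]; exact fun h1 => hS (cj_eq_bot.1 h1)
  have h2 : Spl ⊤ (Q : Subgroup K) := by
    have h2 := h.cj g
    rwa [cj_normal, ← hg] at h2
  have h3 := nm_ne_top hK h1 Q.isPGroup'
  refine ⟨fun h4 => h3 (Subgroup.normalizer_eq_top_iff.2 h4), Subgroup.normalizer ((Q : Subgroup K) : Set K),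
    ⟨⟨h3, fun M hM => ?_⟩, Subgroup.le_normalizer⟩, fun M hM => ?_⟩
  · by_contra h4
    exact hM.not_ge (le_nm_of_spl h1 h2 (Subgroup.le_normalizer.trans hM.le) h4)
  · exact ((hM.1.le_iff_eq h3).1 (le_nm_of_spl h1 h2 hM.2 hM.1.1)).symm

theorem ne_bot_of_lie (hL : Cfsg.IsLieTypeChar p K) (hM : MaxP p ⊤ S) : S ≠ ⊥ := by
  obtain ⟨P, U, ⟨s, hs⟩, h⟩ := H498.LieFree.hasSplit_of_lieChar hp.1 hL
  obtain ⟨V, hV⟩ := h.node s hs
  obtain ⟨u, hu, hu'⟩ := hV.ne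
  obtain ⟨g, -, hg⟩ := hM.exists_cj h.isP le_top
  rintro rfl
  rw [cj_bot] at hg
  exact hu' ((Subgroup.mem_bot.1 (hg hu)).symm ▸ one_mem _)

theorem nS_le (h : Spl ⊤ S) : nS ⊤ S ≤ Nat.card S + 1 := by
  rw [nS, ← Set.ncard_sdiff_singleton_add_one (self_mem_Cjs ⊤ S) (finite_Cjs ⊤ S), Nat.add_le_add_iff_right]
  rcases (Cjs ⊤ S \ {S}).eq_empty_or_nonempty with h1 | ⟨P, hP, hP'⟩
  · rw [h1]; simp
  · refine (Set.ncard_le_ncard (t := (fun x => cj x P) '' (S : Set K)) (fun R hR => ?_)).trans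
      (Set.ncard_image_le (Set.toFinite _))
    exact h P hP hP' R hR.1 hR.2

theorem not_504 {S : Subgroup K} (hK : Group.IsPerfect K) (hS : S ≠ ⊥) (hM : MaxP 3 ⊤ S) (h : Spl ⊤ S) :
    Nat.card K ≠ 504 := by
  intro hc
  have : Fact (Nat.Prime 3) := ⟨Nat.prime_three⟩
  have h1 := nm_ne_top hK hS hM.isP
  have h2 : nS ⊤ S = (Subgroup.normalizer (S : Set K)).index := by
    have h2 := nS_mul ⊤ S
    rw [top_inf_eq, Subgroup.card_top, ← (Subgroup.normalizer (S : Set K)).index_mul_card] at h2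
    exact Nat.eq_of_mul_eq_mul_right Nat.card_pos h2
  have h3 := SmallSimple.SylowCount.card_dvd_factorial_index _ h1
  have h4 := (Subgroup.normalizer (S : Set K)).index_dvd_card
  rw [← h2, hc] at h3 h4
  obtain ⟨g, hg⟩ : ∃ g, cj g S ≠ S := by
    by_contra h5
    push Not at h5
    exact h1 (top_le_iff.1 fun g _ => nm_iff.2 (h5 g))
  obtain ⟨n, hn⟩ := h.exists_pow hM.isP le_top ⟨g, trivial, rfl⟩ hg
  obtain ⟨k, hk⟩ := card_eq_pow hM.isP
  have h5 := nS_le h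
  have h6 : 3 ^ k ∣ 504 := by rw [← hk, ← hc]; exact S.card_subgroup_dvd_card
  have h7 : k ≤ 2 := by
    by_contra h7
    exact absurd ((pow_dvd_pow 3 (show 3 ≤ k by omega)).trans h6) (by norm_num)
  rw [hn, hk, Nat.add_le_add_iff_right, Nat.pow_le_pow_iff_right (by norm_num)] at h5
  rw [hn] at h3 h4
  have h8 : n ≤ 2 := h5.trans h7
  interval_cases n
  · exact absurd h3 (by decide)
  · exact absurd h3 (by decide)
  · exact absurd h4 (by decide)

/-- **rank one** -/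
theorem rank_one (hK : Group.IsPerfect K) (hL : Cfsg.IsLieTypeChar p K) (hM : MaxP p ⊤ S) (h : Spl ⊤ S) :
    (∃ (F : Type) (_ : Field F) (_ : Fintype F) (_ : CharP F p), 4 ≤ Fintype.card F ∧
      Nonempty (K ≃* Matrix.ProjectiveSpecialLinearGroup (Fin 2) F)) ∨
    (∃ (F : Type) (_ : Field F) (_ : Fintype F) (_ : CharP F p) (q : ℕ), Fintype.card F = q ^ 2 ∧ q ≠ 2 ∧
      Nonempty (K ≃* Cfsg.PSU 3 F q)) ∨ (p = 2 ∧ Cfsg.Lie.IsoSuzuki K) ∨ (p = 3 ∧ Cfsg.Lie.IsoRee K) := by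
  have hS := ne_bot_of_lie hL hM
  have h1 := (H223.PMinChev.pgood_chev hp.1 (Or.inl hL) K (MonoidHom.id K) Function.injective_id
    (by rw [MonoidHom.range_eq_top_of_surjective _ Function.surjective_id]; infer_instance)
    (isPMinimal hK hS hM h)).2
  rcases h1 with (h1 | h1 | h1 | ⟨rfl, h1 | ⟨F, _, _, hF, ⟨e⟩⟩⟩) | ⟨-, h1, -⟩
  · exact Or.inl h1
  · exact Or.inr (Or.inl h1)
  · exact Or.inr (Or.inr (Or.inl h1))
  · exact Or.inr (Or.inr (Or.inr ⟨rfl, h1⟩))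
  · exact absurd ((Nat.card_congr e.toEquiv).trans (SmallSimple.PSLFacts.card_psl_two_eight hF)) (not_504 hK hS hM h)
  · exact absurd (MonoidHom.range_eq_top_of_surjective _ Function.surjective_id) h1

end Cfsg.Agent.TH.Own.R1
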