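import Mathlib
import Cfsg.Agent.TH.Own.Grp
import Cfsg.Agent.H88.RkData

/-!
# S3541, `BoxR1D`: lifting the torus data from `E / Z(E)` to `E` (helper6)

* `Dat p z H S w T1` : the data in the simple group, `z` the order of the centre of the cover;
* `Mod p K` : `K` has such data for each of its perfect central extensions with centre of order prime to `p`;
* `r1d_of_mod` : `R1D p E U` from `Mod p K`, `K ≅ E / Z(E)`;
* `spl_dn` : `Spl` passes to the quotient.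
-/

set_option autoImplicit false
set_option linter.unusedSectionVars false
set_option linter.unusedVariables false

namespace Cfsg.Agent.TH.Own.R1

open Cfsg.Agent.H88 Cfsg.Agent.LieRecognition.RankOneAbstract

section Defs

variable {K : Type*} [Group K]

/-- `L₂(q)` -/
def KL (z : ℕ) (S T T1 : Subgroup K) : Prop := T1 = ⊥ ∧ z ≤ 2 ∧ Nat.card S ≤ 2 * Nat.card T + 1

/-- `Sz(q)` -/
def KS (p z : ℕ) (S T T1 : Subgroup K) : Prop :=
  p = 2 ∧ T1 = ⊥ ∧ z = 1 ∧ ∃ q : ℕ, Nat.card S = q ^ 2 ∧ Nat.card T + 1 = q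

/-- `U₃(q)`, `q` odd, and `Ree(q)` -/
def KO (p z : ℕ) (S T T1 : Subgroup K) : Prop :=
  p ≠ 2 ∧ ∃ q : ℕ, Nat.card S = q ^ 3 ∧ q - 1 ∣ 2 * T1.relIndex T ∧ Nat.Coprime z (2 * T1.relIndex T) ∧
    ∃ t ∈ T1, t ≠ 1 ∧ t * t = 1 ∧ Nat.card ↥(S ⊓ Subgroup.centralizer {t}) = q

/-- `U₃(q)`, `q` even -/
def KE (p z : ℕ) (S T T1 : Subgroup K) : Prop :=
  p = 2 ∧ ∃ q : ℕ, 4 ≤ q ∧ Nat.card S = q ^ 3 ∧ T1.relIndex T + 1 = q ∧ Nat.Coprime z (T1.relIndex T) ∧
    q ^ 2 - 1 ∣ 3 * Nat.card T ∧ (∀ t ∈ T1, t ≠ 1 → Nat.card ↥(S ⊓ Subgroup.centralizer {t}) = q) ∧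
    ∀ W : Subgroup (MulAut K), (∀ w ∈ W, w * w = 1) → Nat.card W ≤ 2 * q

/-- the data in the simple group -/
structure Dat (p z : ℕ) (H S : Subgroup K) (w : K) (T1 : Subgroup K) : Prop where
  rk : ∃ Φ, Rk p H S Φ w
  le : T1 ≤ tor H w
  ne : T1 ≠ tor H w
  reg : ∀ t ∈ tor H w, t ∉ T1 → ∀ u ∈ S, u * t = t * u → u = 1
  cas : KL z S (tor H w) T1 ∨ KS p z S (tor H w) T1 ∨ KO p z S (tor H w) T1 ∨ KE p z S (tor H w) T1

/-- the data exist for each cover -/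
def Mod (p : ℕ) (K : Type) [Group K] : Prop :=
  ∀ (X : Type) [Group X] [Finite X] (π : X →* K), Group.IsPerfect X → Function.Surjective π →
    π.ker ≤ Subgroup.center X → ¬ p ∣ Nat.card π.ker → ∃ (H S : Subgroup K) (w : K) (T1 : Subgroup K),
      Dat p (Nat.card π.ker) H S w T1

theorem maxP_of_rk [Finite K] {p : ℕ} {H S Φ : Subgroup K} {w : K} (R : Rk p H S Φ w) : MaxP p ⊤ S := by
  have : Fact p.Prime := ⟨R.prime⟩
  have h1 := R.card_eq
  have h2 := S.index_mul_card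
  have h3 : S.index = (Nat.card S + 1) * Nat.card (tor H w) := by
    apply Nat.eq_of_mul_eq_mul_right (Nat.card_pos (α := S))
    rw [h2, h1]; ring
  obtain ⟨a, ha, h4⟩ := R.exists_card
  have h5 : ¬ p ∣ S.index := by
    rw [h3]
    intro h
    rcases (Nat.Prime.dvd_mul R.prime).1 h with h | h
    · rw [h4] at h
      exact R.prime.one_lt.ne' (Nat.dvd_one.1 ((Nat.dvd_add_right (dvd_pow_self p ha.ne')).1 h))
    · exact R.cop h
  exact ⟨le_top, R.pgrp, fun Q hQ _ h => (R.pgrp.toSylow h5).is_maximal' hQ h⟩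

end Defs

section Lift

variable {G K : Type*} [Group G] [Group K] {p : ℕ} {E : Subgroup G}

/-- the preimage -/
def up (π : E →* K) (A : Subgroup K) : Subgroup G := (A.comap π).map E.subtype

/-- the image -/
def dn (π : E →* K) (U : Subgroup G) : Subgroup K := (U.subgroupOf E).map π

theorem mem_up {π : E →* K} {A : Subgroup K} {g : G} : g ∈ up π A ↔ ∃ h : g ∈ E, π ⟨g, h⟩ ∈ A :=
  ⟨fun ⟨x, hx, h⟩ => h ▸ ⟨x.2, hx⟩, fun ⟨h, hx⟩ => ⟨⟨g, h⟩, hx, rfl⟩⟩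

theorem coe_mem_up {π : E →* K} {A : Subgroup K} {x : E} : (x : G) ∈ up π A ↔ π x ∈ A :=
  mem_up.trans ⟨fun ⟨_, h⟩ => h, fun h => ⟨x.2, h⟩⟩

theorem mem_dn {π : E →* K} {U : Subgroup G} {k : K} : k ∈ dn π U ↔ ∃ x : E, (x : G) ∈ U ∧ π x = k := Iff.rfl

theorem up_mono (π : E →* K) {A B : Subgroup K} (h : A ≤ B) : up π A ≤ up π B :=
  Subgroup.map_mono (Subgroup.comap_mono h)

theorem dn_cj (π : E →* K) (e : E) (U : Subgroup G) : dn π (cj (e : G) U) = cj (π e) (dn π U) := by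
  ext k
  rw [mem_cj, mem_dn, mem_dn]
  constructor
  · rintro ⟨x, hx, rfl⟩
    exact ⟨e⁻¹ * x * e, mem_cj.1 hx, by simp⟩
  · rintro ⟨x, hx, h⟩
    refine ⟨e * x * e⁻¹, conj_mem_cj _ hx, ?_⟩
    rw [map_mul, map_mul, h, map_inv]; group

/-- a central extension with kernel the centre, of order prime to `p` -/
structure Cov (p : ℕ) (E : Subgroup G) (π : E →* K) : Prop where
  prime : p.Prime
  surj : Function.Surjective π
  ker : ∀ x : E, π x = 1 ↔ (x : G) ∈ Zc E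
  cop : ¬ p ∣ Nat.card (Zc E)
  aut : ∀ W : Subgroup G, (∀ w ∈ W, cj w E = E) → W ⊓ Subgroup.centralizer (E : Set G) = ⊥ →
    ∃ φ : W →* MulAut K, Function.Injective φ

theorem zc_comm {z x : G} (hz : z ∈ Zc E) (hx : x ∈ E) : x * z = z * x := hz.2 x hx

namespace Cov

variable {π : E →* K} (C : Cov p E π)
include C

theorem up_bot : up π ⊥ = Zc E := by
  ext g
  rw [mem_up]
  exact ⟨fun ⟨h, h1⟩ => (C.ker _).1 h1, fun h => ⟨h.1, (C.ker ⟨g, h.1⟩).2 h⟩⟩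

theorem relIndex_up (A B : Subgroup K) : (up π A).relIndex (up π B) = A.relIndex B := by
  unfold up
  rw [Subgroup.relIndex_map_map_of_injective _ _ E.subtype_injective, Subgroup.relIndex_comap,
    Subgroup.map_comap_eq_self_of_surjective C.surj]

theorem up_inj {A B : Subgroup K} (h : up π A = up π B) : A = B := by
  ext k
  obtain ⟨x, rfl⟩ := C.surj k
  rw [← coe_mem_up, h, coe_mem_up]

theorem exists_z {x y : E} (h : π x = π y) : ∃ z ∈ Zc E, (x : G) = y * z :=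
  ⟨((y⁻¹ * x : E) : G), (C.ker _).1 (by rw [map_mul, map_inv, h, inv_mul_cancel]), by simp⟩

variable [Finite G]

/-- `p`-elements with the same image are equal -/
theorem eq_of_eq {x y : E} {a b : ℕ} (hx : (x : G) ^ p ^ a = 1) (hy : (y : G) ^ p ^ b = 1) (h : π x = π y) :
    x = y := by
  obtain ⟨z, hz, h1⟩ := C.exists_z h
  have h2 : Commute (y : G) z := zc_comm hz y.2
  have h3 : z ^ p ^ (a + b) = 1 := by
    have h4 : (x : G) ^ p ^ (a + b) = 1 := by rw [pow_add, pow_mul, hx, one_pow]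
    have h5 : (y : G) ^ p ^ (a + b) = 1 := by rw [add_comm, pow_add, pow_mul, hy, one_pow]
    rwa [h1, h2.mul_pow, h5, one_mul] at h4
  have h4 : orderOf z = 1 :=
    Nat.eq_one_of_dvd_coprimes (Nat.Coprime.pow_left _ ((Nat.Prime.coprime_iff_not_dvd C.prime).2 C.cop))
      (orderOf_dvd_of_pow_eq_one h3) (Subgroup.orderOf_dvd_natCard _ hz)
  rw [orderOf_eq_one_iff] at h4
  rw [h4, mul_one] at h1
  exact Subtype.ext h1

theorem conj_pow' {t x : G} {a : ℕ} (hx : x ^ p ^ a = 1) : (t * x * t⁻¹) ^ p ^ a = 1 := by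
  rw [conj_pow, hx, mul_one, mul_inv_cancel]

variable {U : Subgroup G} (hP : IsPGroup p U)
include hP

theorem mem_of_dn {x : E} {a : ℕ} (hx : (x : G) ^ p ^ a = 1) (h : π x ∈ dn π U) : (x : G) ∈ U := by
  obtain ⟨y, hy, h1⟩ := h
  obtain ⟨b, hb⟩ := exists_pow_of_isP hP hy
  rw [← C.eq_of_eq hb hx h1]
  exact hy

theorem nm_iff' (hU : U ≤ E) (t : E) : cj (t : G) U = U ↔ cj (π t) (dn π U) = dn π U := by
  refine ⟨fun h => by rw [← dn_cj, h], fun h => nm_of_conj fun x hx => ?_⟩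
  obtain ⟨a, ha⟩ := exists_pow_of_isP hP hx
  refine C.mem_of_dn hP (x := t * ⟨x, hU hx⟩ * t⁻¹) (C.conj_pow' ha) ?_
  rw [map_mul, map_mul, map_inv]
  exact nm_conj h ⟨⟨x, hU hx⟩, hx, rfl⟩

theorem comm_iff {u : E} (hu : (u : G) ∈ U) (t : E) : (u : G) * t = t * u ↔ π u * π t = π t * π u := by
  constructor
  · intro h
    rw [← map_mul, ← map_mul]
    exact congrArg π (Subtype.ext h)
  · intro h
    obtain ⟨a, ha⟩ := exists_pow_of_isP hP hu
    have h1 : t * u * t⁻¹ = u := C.eq_of_eq (C.conj_pow' ha) ha (by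
      rw [map_mul, map_mul, map_inv, ← h, mul_inv_cancel_right])
    have h2 : (t : G) * u * (t : G)⁻¹ = u := congrArg Subtype.val h1
    rw [mul_inv_eq_iff_eq_mul] at h2
    exact h2.symm

theorem card_dn (hU : U ≤ E) : Nat.card (dn π U) = Nat.card U := by
  symm
  refine Nat.card_congr (Equiv.ofBijective (fun x => ⟨π ⟨x.1, hU x.2⟩, ⟨_, x.2, rfl⟩⟩) ⟨fun x y h => ?_, ?_⟩)
  · obtain ⟨a, ha⟩ := exists_pow_of_isP hP x.2
    obtain ⟨b, hb⟩ := exists_pow_of_isP hP y.2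
    have h1 := C.eq_of_eq (x := ⟨x.1, hU x.2⟩) (y := ⟨y.1, hU y.2⟩) ha hb (congrArg Subtype.val h)
    exact Subtype.ext (congrArg (fun z : E => (z : G)) h1)
  · rintro ⟨_, x, hx, rfl⟩
    exact ⟨⟨x, hx⟩, rfl⟩

theorem card_cent (hU : U ≤ E) (t : E) :
    Nat.card ↥(U ⊓ Subgroup.centralizer {(t : G)}) = Nat.card ↥(dn π U ⊓ Subgroup.centralizer {π t}) := by
  rw [← C.card_dn (hP.to_le inf_le_left) (inf_le_left.trans hU)]
  congr 2
  ext k
  constructor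
  · rintro ⟨x, ⟨hx, hx'⟩, rfl⟩
    exact ⟨⟨x, hx, rfl⟩, Subgroup.mem_centralizer_singleton_iff.2
      ((C.comm_iff hP hx t).1 (Subgroup.mem_centralizer_singleton_iff.1 hx'))⟩
  · rintro ⟨⟨x, hx, rfl⟩, hx'⟩
    exact ⟨x, ⟨hx, Subgroup.mem_centralizer_singleton_iff.2
      ((C.comm_iff hP hx t).2 (Subgroup.mem_centralizer_singleton_iff.1 hx'))⟩, rfl⟩

/-- **lifting** -/
theorem lift (hU : U ≤ E) {H T1 : Subgroup K} {w : K} (D : Dat p (Nat.card (Zc E)) H (dn π U) w T1) :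
    R1D p E U := by
  have : Finite K := Finite.of_surjective _ C.surj
  obtain ⟨Φ, R⟩ := D.rk
  obtain ⟨v, rfl⟩ := C.surj w
  have hN : ∀ t : E, cj (t : G) U = U ↔ π t ∈ H := fun t => by
    rw [C.nm_iff' hP hU, ← nm_iff, R.data.normalizer_eq R.ne]
  have hT : T0 E U (cj (v : G) U) = up π (tor H (π v)) := by
    ext g
    rw [mem_up]
    constructor
    · rintro ⟨⟨h1, h2⟩, h3⟩
      refine ⟨h1, mem_tor.2 ⟨(hN ⟨g, h1⟩).1 (nm_iff.1 h2), ?_⟩⟩
      have h4 := (hN (v⁻¹ * ⟨g, h1⟩ * v)).1 (nm_cj_iff.1 (nm_iff.1 h3))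
      rwa [map_mul, map_mul, map_inv] at h4
    · rintro ⟨h1, h2⟩
      obtain ⟨h3, h4⟩ := mem_tor.1 h2
      refine ⟨⟨h1, nm_iff.2 ((hN ⟨g, h1⟩).2 h3)⟩, nm_iff.2 (nm_cj_iff.2 ((hN (v⁻¹ * ⟨g, h1⟩ * v)).2 ?_))⟩
      rwa [map_mul, map_mul, map_inv]
  have hZ : (Zc E).relIndex (up π (tor H (π v))) = Nat.card (tor H (π v)) := by
    rw [← C.up_bot, C.relIndex_up, Subgroup.relIndex_bot_left]
  refine ⟨cj (v : G) U, up π T1, ⟨v, v.2, rfl⟩, fun h => R.data.w_not_mem ((hN v).1 h), ?_, ?_, ?_, ?_, ?_, ?_⟩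
  · rw [hT]
    have := R.cyc
    obtain ⟨g, hg⟩ := IsCyclic.exists_monoid_generator (α := tor H (π v))
    obtain ⟨t₀, ht₀⟩ := C.surj g
    refine ⟨t₀, coe_mem_up.2 (ht₀ ▸ g.2), fun t ht => ?_⟩
    obtain ⟨h1, h2⟩ := mem_up.1 ht
    obtain ⟨k, hk⟩ := hg ⟨_, h2⟩
    obtain ⟨z, hz, h3⟩ := C.exists_z (x := ⟨t, h1⟩) (y := t₀ ^ k) (by
      rw [map_pow, ht₀]; exact (congrArg Subtype.val hk).symm)
    exact ⟨k, z, hz, h3⟩
  · rw [← C.up_bot]; exact up_mono π bot_le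
  · rw [hT]; exact up_mono π D.le
  · rw [hT]; exact fun h => D.ne (C.up_inj h)
  · rw [hT]
    intro t ht ht' u hu h
    obtain ⟨h1, h2⟩ := mem_up.1 ht
    have h3 := D.reg _ h2 (fun h4 => ht' (mem_up.2 ⟨h1, h4⟩)) (π ⟨u, hU hu⟩) ⟨_, hu, rfl⟩
      ((C.comm_iff hP (u := ⟨u, hU hu⟩) hu ⟨t, h1⟩).1 h)
    obtain ⟨a, ha⟩ := exists_pow_of_isP hP hu
    exact congrArg Subtype.val (C.eq_of_eq (x := ⟨u, hU hu⟩) (y := 1) (b := 0) ha (by simp) (by rw [h3, map_one]))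
  · rcases D.cas with ⟨h1, h2, h3⟩ | ⟨h1, h2, h3, q, h4, h5⟩ | ⟨h1, q, h2, h3, h4, t, h5, h6, h7, h8⟩ |
      ⟨h1, q, h2, h3, h4, h5, h6, h7, h8⟩
    · refine Or.inl ⟨by rw [h1, C.up_bot], h2, ?_⟩
      rw [hT, hZ, ← C.card_dn hP hU]
      exact h3
    · have h6 : Zc E = ⊥ := Subgroup.card_eq_one.1 h3
      refine Or.inr (Or.inl ⟨h1, by rw [h2, C.up_bot, h6], q, by rw [← C.card_dn hP hU, h4], ?_⟩)
      rw [h6, Subgroup.relIndex_bot_left] at hZ
      rw [hT, hZ, h5]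
    · refine Or.inr (Or.inr (Or.inl ⟨h1, q, by rw [← C.card_dn hP hU, h2], ?_, ?_, ?_⟩))
      · rw [hT, C.relIndex_up]; exact h3
      · rw [hT, C.relIndex_up]; exact h4
      · obtain ⟨s, rfl⟩ := C.surj t
        have h9 : Odd (Nat.card (Zc E)) := Nat.coprime_two_right.1 (Nat.Coprime.coprime_mul_right_right h4)
        have h10 : π (s ^ Nat.card (Zc E)) = π s := by
          obtain ⟨k, hk⟩ := h9
          rw [map_pow, hk, pow_succ, pow_mul, pow_two, h7, one_pow, one_mul]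
        refine ⟨(s ^ Nat.card (Zc E) : E), coe_mem_up.2 (h10 ▸ h5), fun h => h6 (h10 ▸ (C.ker _).2 h), ?_, ?_⟩
        · have h11 : ((s * s : E) : G) ∈ Zc E := (C.ker _).1 (by rw [map_mul, h7])
          have h12 := congrArg Subtype.val (pow_card_eq_one' (G := Zc E) (x := ⟨_, h11⟩))
          rw [Subgroup.coe_pow, ← (Commute.refl (s : G)).mul_pow]
          exact h12
        · rw [C.card_cent hP hU, h10, h8]
    · refine Or.inr (Or.inr (Or.inr ⟨h1, q, h2, by rw [← C.card_dn hP hU, h3], ?_, ?_, ?_, ?_, ?_⟩))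
      · rw [hT, C.relIndex_up]; exact h4
      · rw [hT, C.relIndex_up]; exact h5
      · rw [hT, hZ]; exact h6
      · intro t ht ht'
        obtain ⟨h9, h10⟩ := mem_up.1 ht
        exact (C.card_cent hP hU ⟨t, h9⟩).trans (h7 _ h10 fun h => ht' ((C.ker _).1 h))
      · intro W hW1 hW2 hW3
        obtain ⟨φ, hφ⟩ := C.aut W hW1 hW3
        rw [Nat.card_congr (MonoidHom.ofInjective hφ).toEquiv]
        refine h8 _ ?_
        rintro _ ⟨x, rfl⟩
        rw [← map_mul, show x * x = 1 from Subtype.ext (hW2 _ x.2), map_one]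

omit hP

theorem maxP_dn (h : MaxP p E U) : MaxP p ⊤ (dn π U) := by
  have : Fact p.Prime := ⟨C.prime⟩
  have : Finite K := Finite.of_surjective _ C.surj
  have h1 : IsPGroup p (dn π U) := h.isP.comap_subtype.map π
  have h2 : ¬ p ∣ (dn π U).index := fun h3 =>
    h.not_dvd (h3.trans (Subgroup.index_map_dvd (U.subgroupOf E) C.surj))
  exact ⟨le_top, h1, fun Q hQ _ h3 => (h1.toSylow h2).is_maximal' hQ h3⟩

omit [Finite G] in
theorem spl_dn (hU : U ≤ E) (h : Spl E U) : Spl ⊤ (dn π U) := by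
  rintro _ ⟨k, -, rfl⟩ h1 _ ⟨k', -, rfl⟩ h2
  obtain ⟨e, rfl⟩ := C.surj k
  obtain ⟨e', rfl⟩ := C.surj k'
  obtain ⟨x, hx, h3⟩ := h _ ⟨e, e.2, rfl⟩ (fun h4 => h1 (by rw [← dn_cj, h4])) _ ⟨e', e'.2, rfl⟩
    (fun h4 => h2 (by rw [← dn_cj, h4]))
  refine ⟨π ⟨x, hU hx⟩, ⟨_, hx, rfl⟩, ?_⟩
  rw [← dn_cj, ← dn_cj, ← dn_cj, ← h3]

end Cov

/-- the automorphism of the central quotient -/
def qa (X : Type*) [Group X] : MulAut X →* MulAut (X ⧸ Subgroup.center X) where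
  toFun φ := QuotientGroup.congr (Subgroup.center X) (Subgroup.center X) φ
    (Subgroup.characteristic_iff_map_eq.1 inferInstance φ)
  map_one' := by ext ⟨x⟩; rfl
  map_mul' a b := by ext ⟨x⟩; rfl

theorem qa_inj {X : Type*} [Group X] (h : Group.IsPerfect X) : Function.Injective (qa X) := by
  rw [injective_iff_map_eq_one]
  intro α hα
  have h1 : ∀ x : X, x⁻¹ * α x ∈ Subgroup.center X := fun x => by
    have h2 : (QuotientGroup.mk (α x) : X ⧸ Subgroup.center X) = QuotientGroup.mk x :=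
      DFunLike.congr_fun hα (QuotientGroup.mk x)
    exact QuotientGroup.eq.1 h2.symm
  let f : X →* Subgroup.center X := MonoidHom.mk' (fun x => ⟨_, h1 x⟩) fun x y => Subtype.ext (by
    have h3 := Subgroup.mem_center_iff.1 (h1 x) y⁻¹
    change (x * y)⁻¹ * α (x * y) = x⁻¹ * α x * (y⁻¹ * α y)
    rw [map_mul, mul_inv_rev, ← mul_assoc (x⁻¹ * α x), ← h3]; group)
  have h4 : commutator X ≤ f.ker := by
    rw [commutator_def, Subgroup.commutator_le]
    intro x _ y _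
    rw [MonoidHom.mem_ker, map_commutatorElement, commutatorElement_eq_one_iff_mul_comm]
    exact Subtype.ext (Subgroup.mem_center_iff.1 (f y).2 _)
  rw [h.commutator_eq_top] at h4
  ext x
  have h5 : x⁻¹ * α x = 1 := congrArg Subtype.val (h4 (Subgroup.mem_top x))
  exact (inv_mul_eq_one.1 h5).symm

theorem mem_center_iff_zc (x : E) : x ∈ Subgroup.center E ↔ (x : G) ∈ Zc E := by
  rw [Subgroup.mem_center_iff]
  exact ⟨fun h => ⟨x.2, fun g hg => congrArg Subtype.val (h ⟨g, hg⟩)⟩, fun h g => Subtype.ext (h.2 g g.2)⟩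

/-- the projection -/
def pj (e : (E ⧸ Subgroup.center E) ≃* K) : E →* K := e.toMonoidHom.comp (QuotientGroup.mk' _)

theorem pj_eq_one (e : (E ⧸ Subgroup.center E) ≃* K) (x : E) : pj e x = 1 ↔ x ∈ Subgroup.center E := by
  rw [← QuotientGroup.eq_one_iff]
  exact e.map_eq_one_iff

theorem cov_pj (hp : p.Prime) (hE : Group.IsPerfect E) (hZ : ¬ p ∣ Nat.card (Zc E))
    (e : (E ⧸ Subgroup.center E) ≃* K) : Cov p E (pj e) where
  prime := hp
  surj := e.surjective.comp (QuotientGroup.mk'_surjective _)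
  ker x := (pj_eq_one e x).trans (mem_center_iff_zc x)
  cop := hZ
  aut W h1 h2 := by
    have h3 : W ≤ Subgroup.normalizer (E : Set G) := fun w hw => nm_iff.2 (h1 w hw)
    refine ⟨((MulAut.congr e).toMonoidHom.comp (qa E)).comp (E.normalizerMonoidHom.comp (Subgroup.inclusion h3)),
      ((MulAut.congr e).injective.comp (qa_inj hE)).comp ?_⟩
    rw [injective_iff_map_eq_one]
    intro w hw
    have h4 : (w : G) ∈ W ⊓ Subgroup.centralizer (E : Set G) := ⟨w.2, by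
      have h5 : Subgroup.inclusion h3 w ∈ E.normalizerMonoidHom.ker := hw
      rw [Subgroup.normalizerMonoidHom_ker] at h5
      exact h5⟩
    rw [h2] at h4
    exact Subtype.ext h4

theorem card_ker_pj (e : (E ⧸ Subgroup.center E) ≃* K) : Nat.card (pj e).ker = Nat.card (Zc E) :=
  Nat.card_congr ⟨fun x => ⟨x.1.1, (mem_center_iff_zc _).1 ((pj_eq_one e _).1 x.2)⟩,
    fun x => ⟨⟨x.1, x.2.1⟩, (pj_eq_one e _).2 ((mem_center_iff_zc _).2 x.2)⟩, fun _ => rfl, fun _ => rfl⟩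

end Lift

theorem r1d_of_mod {G K : Type} [Group G] [Finite G] [Group K] {p : ℕ} {E U : Subgroup G} (hp : p.Prime)
    (hE : Group.IsPerfect E) (hZ : ¬ p ∣ Nat.card (Zc E)) (hU : MaxP p E U) (e : (E ⧸ Subgroup.center E) ≃* K)
    (hK : Mod p K) : R1D p E U := by
  have : Fact p.Prime := ⟨hp⟩
  have C := cov_pj hp hE hZ e
  have : Finite K := Finite.of_surjective _ C.surj
  obtain ⟨H, S, w, T1, D⟩ := hK E (pj e) hE C.surj (fun x hx => (pj_eq_one e x).1 hx) (by rwa [card_ker_pj])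
  rw [card_ker_pj] at D
  obtain ⟨Φ, R⟩ := D.rk
  obtain ⟨k, -, hk⟩ := (C.maxP_dn hU).exists_eq (maxP_of_rk R)
  have h1 : dn (pj (e.trans (MulAut.conj k))) U = S := by
    rw [hk]
    exact (Subgroup.map_map (U.subgroupOf E) (MulAut.conj k).toMonoidHom (pj e)).symm
  exact (cov_pj hp hE hZ (e.trans (MulAut.conj k))).lift hU.isP hU.le (h1 ▸ D)

end Cfsg.Agent.TH.Own.R1
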