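import Mathlib
import Cfsg.Agent.TH.Own.R1Lift
import Cfsg.Agent.H88.RkPsl
import Cfsg.Agent.HKS.EndL
import Cfsg.Agent.H95.StemCover
import Cfsg.Agent.S2086
import Cfsg.Agent.S2116
import Cfsg.Agent.S0252
import Cfsg.Agent.S0253
import Cfsg.Agent.S0254

/-!
# S3541, `BoxR1D`: `L₂(q)` (helper6)
-/

set_option autoImplicit false
set_option linter.unusedSectionVars false
set_option linter.unusedVariables false

namespace Cfsg.Agent.TH.Own.R1

open Cfsg.Agent.H88 Cfsg.Agent.HKS.EndL Matrix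

theorem ker_dvd {X K L : Type} [Group X] [Group K] [Group L] {n : ℕ} (hA : Cfsg.HasCyclicSchurMultiplier L n)
    (e : K ≃* L) {π : X →* K} (h1 : Group.IsPerfect X) (h2 : Function.Surjective π)
    (h3 : π.ker ≤ Subgroup.center X) : Nat.card π.ker ∣ n := by
  have h4 : (e.toMonoidHom.comp π).ker = π.ker := MonoidHom.ker_comp_of_injective _ _ e.injective
  rw [← h4]
  exact H95.StemCover.card_ker_dvd_cyclic hA h1.commutator_eq_top _ (e.surjective.comp h2) (h4 ▸ h3)

theorem card_le_ker_mul {A K : Type*} [Group A] [Group K] (τ : A →* K) :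
    Nat.card A = Nat.card τ.ker * Nat.card τ.range := by
  rw [← Subgroup.index_ker, Subgroup.card_mul_index]

theorem mod_L {F : Type} [Field F] [Fintype F] {p : ℕ} (hp : p.Prime) [CharP F p] (h4 : 4 ≤ Fintype.card F) :
    Mod p (ProjectiveSpecialLinearGroup (Fin 2) F) := by
  intro X _ _ π h1 h2 h3 hz
  obtain ⟨k, -, hk⟩ := FiniteField.card F p
  have R := (RkPsl.rk hp k.2.ne' hk).quot (pr F) (QuotientGroup.mk'_surjective _) ker_le
  have hT : tor ((bor F).map (pr F)) (pr F (wl F)) = ((pr F).comp (dgHom F)).range := by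
    ext x
    rw [mem_tor]
    exact ⟨fun ⟨h5, h6⟩ => (exists_dg h5 h6).imp fun α h => h.symm, fun ⟨α, h⟩ => h ▸ ⟨dg_mem α, dg_mem' α⟩⟩
  have h5 : Nat.card ((pr F).comp (dgHom F)).ker ≤ 2 := by
    refine le_trans (Subgroup.card_le_of_le ?_)
      (RkField.ker_le_two (φ := powMonoidHom 2) (K := F) fun a ha => ha)
    intro α hα
    have h6 := (center_entries (pr_eq_one.1 hα)).2.2
    change (dg α).1 0 0 = (dg α).1 1 1 at h6
    have h7 : α = α⁻¹ := Units.ext (by simpa [dg] using h6)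
    change α ^ 2 = 1
    rw [pow_two, mul_eq_one_iff_eq_inv]
    exact h7
  have h6 := card_le_ker_mul ((pr F).comp (dgHom F))
  rw [Nat.card_units, Nat.card_eq_fintype_card, ← hT] at h6
  have h7 : Fintype.card F - 1 ≤ 2 * Nat.card (tor ((bor F).map (pr F)) (pr F (wl F))) :=
    h6 ▸ Nat.mul_le_mul_right _ h5
  refine ⟨_, _, _, ⊥, ⟨_, R⟩, bot_le, fun h => ?_, ?_, Or.inl ⟨rfl, ?_, ?_⟩⟩
  · rw [← h, Subgroup.card_bot] at h7
    omega
  · rw [hT]
    rintro _ ⟨α, rfl⟩ ht _ ⟨_, ⟨x, rfl⟩, rfl⟩ h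
    have h8 : x.toAdd = 0 := (comm_dg h.symm).resolve_left ht
    change pr F (um x.toAdd) = 1
    rw [h8, um_zero, map_one]
  · by_cases hq4 : Fintype.card F = 4
    · obtain ⟨e⟩ := S0252.result hq4
      have : Fact (Nat.Prime 5) := ⟨Nat.prime_five⟩
      obtain ⟨e'⟩ := S0253.result (ZMod.card 5)
      exact Nat.le_of_dvd two_pos (ker_dvd (S2086.result (ZMod.card 5) 2 le_rfl (by norm_num) (by simp))
        (e.trans e'.symm) h1 h2 h3)
    by_cases hq9 : Fintype.card F = 9
    · obtain ⟨e⟩ := S0254.result hq9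
      have h8 := ker_dvd (S2116.result 6 (Or.inl rfl)) e h1 h2 h3
      have h9 : p = 3 := (Nat.prime_dvd_prime_iff_eq hp Nat.prime_three).1
        (hp.dvd_of_dvd_pow (n := 2) (by rw [show 3 ^ 2 = Fintype.card F from hq9.symm, hk]; exact dvd_pow_self p k.2.ne'))
      subst h9
      have h10 := Nat.le_of_dvd (by norm_num) h8
      generalize Nat.card π.ker = z at *
      interval_cases z <;> omega
    · exact (Nat.le_of_dvd (Nat.gcd_pos_of_pos_left _ two_pos) (ker_dvd (S2086.result rfl 2 le_rfl (fun _ => h4)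
        (by simp [hq4, hq9])) (MulEquiv.refl _) h1 h2 h3)).trans (Nat.gcd_le_left _ two_pos)
  · rw [card_S]
    omega

end Cfsg.Agent.TH.Own.R1
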