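import Mathlib
import Cfsg.Agent.TH.Own.R1L
import Cfsg.Agent.H88.RkSz
import Cfsg.Agent.H88.RkRee
import Cfsg.Agent.S2111
import Cfsg.Agent.S2112
import Cfsg.Agent.S2113

/-!
# S3541, `BoxR1D`: `Sz(q)` and `Ree(q)` (helper6)
-/

set_option autoImplicit false
set_option linter.unusedSectionVars false
set_option linter.unusedVariables false

namespace Cfsg.Agent.TH.Own.R1

open Cfsg.Agent.H88 Cfsg.Agent.LieRecognition

theorem mod_Sz {F : Type} [Field F] [Fintype F] {m : ℕ} (hm : 1 ≤ m) (hF : Fintype.card F = 2 ^ (2 * m + 1)) :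
    Mod 2 ↥(Cfsg.Lie.Sz F (2 ^ (m + 1))) := by
  intro X _ _ π h1 h2 h3 hz
  have H := SzMatrix.good hF
  have hF' : Nat.card F = 2 ^ (2 * m + 1) := by rw [Nat.card_eq_fintype_card, hF]
  have h8 : 8 ≤ Nat.card F := by
    rw [hF']
    exact Nat.pow_le_pow_right two_pos (show 3 ≤ 2 * m + 1 by omega)
  refine ⟨_, _, _, ⊥, ⟨_, RkSz.rk H (by omega) hF'⟩, bot_le, fun h => ?_, ?_,
    Or.inr (Or.inl ⟨rfl, rfl, ?_, Nat.card F, H.card_unip, ?_⟩)⟩
  · have h4 := RkSz.card_tor H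
    rw [← h, Subgroup.card_bot] at h4
    omega
  · rw [RkSz.tor_eq]
    rintro _ ⟨k, rfl⟩ ht u hu h
    obtain ⟨a, b, rfl⟩ := (H.mem_unip_iff u).1 hu
    have hk : k ≠ 1 := fun h4 => ht (by rw [h4, map_one]; exact one_mem _)
    have h4 : H.u a b * H.d k = H.d k * H.u a b := h
    rw [H.d_mul_u] at h4
    obtain ⟨h5, h6⟩ := H.u_inj (mul_right_cancel h4)
    have ha : a = 0 := by
      by_contra ha
      refine hk (RkSz.diag_ker H k (mul_left_cancel₀ ha ?_))
      rw [← mul_assoc, ← h5, mul_one]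
    have hb : b = 0 := by
      by_contra hb
      refine hk (Units.ext ((SzMatrix.theta hF).injective (mul_left_cancel₀ hb ?_)))
      rw [← h6, Units.val_one, map_one, mul_one]
    rw [ha, hb]
    exact H.u_zero
  · rcases hm.eq_or_lt with rfl | hm'
    · have h4 := H95.StemCover.card_ker_dvd (S2112.result hF) h1.commutator_eq_top π h2 h3
      rw [Nat.card_congr Multiplicative.toAdd, Nat.card_prod, Nat.card_zmod] at h4
      exact Nat.eq_one_of_dvd_coprimes (Nat.Coprime.pow_left 2 ((Nat.Prime.coprime_iff_not_dvd Nat.prime_two).2 hz))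
        h4 dvd_rfl
    · exact Nat.dvd_one.1 (ker_dvd (S2111.result hm' hF) (MulEquiv.refl _) h1 h2 h3)
  · rw [RkSz.card_tor H]
    omega

open ReeAbs ReeSylowThree ReeSplit in
theorem mod_Ree {F : Type} [Field F] [Fintype F] {m : ℕ} (hm : 1 ≤ m) (hF : Fintype.card F = 3 ^ (2 * m + 1)) :
    Mod 3 ↥(Cfsg.Lie.twistedG2 F (3 ^ m)) := by
  intro X _ _ π h1 h2 h3 hz
  obtain ⟨U, h, n, D⟩ := Cfsg.Agent.ChevalleyStructure.Ree.Data.exists_data hF
  have h27 : 27 ≤ Fintype.card F := by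
    rw [hF]
    exact Nat.pow_le_pow_right (show 0 < 3 by norm_num) (show 3 ≤ 2 * m + 1 by omega)
  have : Fact (Nat.Prime 2) := ⟨Nat.prime_two⟩
  have h4 : Nat.card (Subgroup.zpowers (h (-1))) = 2 := by
    rw [Nat.card_zpowers]
    exact orderOf_eq_prime (by rw [pow_two, D.inv_sq]) (D.inv_ne_one hF)
  have h5 : Subgroup.zpowers (h (-1)) ≤ tor (bSub D) n :=
    Subgroup.zpowers_le.2 ((RkRee.mem_tor_iff D _).2 ⟨_, rfl⟩)
  have h6 := card_mul_relIndex h5
  rw [h4, RkRee.tor_eq D, card_hSub D, ← RkRee.tor_eq D] at h6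
  have h7 : Nat.card π.ker = 1 := Nat.dvd_one.1 (ker_dvd (S2113.result hm hF) (MulEquiv.refl _) h1 h2 h3)
  refine ⟨_, _, _, Subgroup.zpowers (h (-1)), ⟨_, RkRee.rk D hF hm⟩, h5, fun h8 => ?_, ?_,
    Or.inr (Or.inr (Or.inl ⟨by norm_num, Fintype.card F, card_uSub D, by rw [h6], by rw [h7]; exact Nat.coprime_one_left _,
      h (-1), Subgroup.mem_zpowers _, D.inv_ne_one hF, D.inv_sq, ?_⟩))⟩
  · rw [← h8, Subgroup.relIndex_self] at h6
    omega
  · intro t ht ht' x hx h8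
    obtain ⟨a, rfl⟩ := (RkRee.mem_tor_iff D _).1 ht
    obtain ⟨t, u, v, rfl⟩ := hx
    have ha : a ^ 2 ≠ 1 := fun h9 => by
      rcases eq_one_or_neg_one_of_sq h9 with rfl | rfl
      · exact ht' (by rw [D.h_one]; exact one_mem _)
      · exact ht' (Subgroup.mem_zpowers _)
    have ha' : a ≠ 1 := fun h9 => ha (by rw [h9, one_pow])
    rw [D.h_U] at h8
    obtain ⟨e1, e2, e3⟩ := U_injective D (mul_right_cancel h8)
    have f1 : t = 0 := by_contra fun h9 => ha' (eq_one_of_mul_eq hF e1.symm h9)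
    have f2 : u = 0 := by_contra fun h9 => ha (sq_eq_one_of_mul_eq hF e2.symm h9)
    have f3 : v = 0 := by_contra fun h9 => ha' (eq_one_of_mul_eq' hF e3.symm h9)
    rw [f1, f2, f3, D.U_zero]
  · rw [← Nat.card_eq_fintype_card]
    symm
    refine Nat.card_congr (Equiv.ofBijective (fun u => ⟨U 0 u 0, ⟨_, _, _, rfl⟩,
      Subgroup.mem_centralizer_singleton_iff.2 (by rw [D.inv_mul_U, neg_zero])⟩) ⟨fun u u' h8 => ?_, ?_⟩)
    · exact (U_injective D (congrArg Subtype.val h8)).2.1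
    · rintro ⟨_, ⟨t, u, v, rfl⟩, h8⟩
      have h9 := Subgroup.mem_centralizer_singleton_iff.1 h8
      rw [D.inv_mul_U] at h9
      obtain ⟨e1, -, e3⟩ := U_injective D (mul_right_cancel h9)
      obtain rfl := D.neg_eq_self hF e1.symm
      obtain rfl := D.neg_eq_self hF e3.symm
      exact ⟨u, rfl⟩

end Cfsg.Agent.TH.Own.R1
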