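import Mathlib
import Cfsg.Agent.TH.Own.R1L
import Cfsg.Agent.H88.RkPsu
import Cfsg.Agent.HKS.EndU
import Cfsg.Agent.S2089
import Cfsg.Agent.S2603

/-!
# S3541, `BoxR1D`: `U₃(q)` (helper6)
-/

set_option autoImplicit false
set_option linter.unusedSectionVars false
set_option linter.unusedVariables false

namespace Cfsg.Agent.TH.Own.R1

open Cfsg.Agent.UThreeGen.MatGroup Cfsg.Agent.HKS

/-- elementary abelian `2`-groups of automorphisms -/
theorem card_W_le {K C : Type} [Group K] [Finite K] [CommGroup C] [IsCyclic C] [Finite C] (φ : Cfsg.Out K →* C)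
    (hφ : Odd (Nat.card φ.ker)) (hZ : Function.Injective (MulAut.conj : K →* MulAut K)) {q : ℕ}
    (hV : ∀ V : Subgroup K, (∀ v ∈ V, v * v = 1) → Nat.card V ≤ q) (W : Subgroup (MulAut K))
    (hW : ∀ w ∈ W, w * w = 1) : Nat.card W ≤ 2 * q := by
  let ψ : W →* C := (φ.comp (QuotientGroup.mk' (Cfsg.Inn K))).comp W.subtype
  have h0 : ∀ w : W, w ^ 2 = 1 := fun w => Subtype.ext (by rw [Subgroup.coe_pow, pow_two]; exact hW _ w.2)
  have h1 : Nat.card ψ.range ≤ 2 := by
    have h2 : ψ.range ≤ (powMonoidHom 2 : C →* C).ker := by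
      rintro _ ⟨w, rfl⟩
      change ψ w ^ 2 = 1
      rw [← map_pow, h0, map_one]
    refine (Subgroup.card_le_of_le h2).trans ?_
    rw [IsCyclic.card_powMonoidHom_ker]
    exact Nat.gcd_le_right _ two_pos
  have h2 : ψ.ker.map W.subtype ≤ (W.comap MulAut.conj).map MulAut.conj := by
    rintro _ ⟨w, hw, rfl⟩
    have h3 : orderOf (QuotientGroup.mk' (Cfsg.Inn K) (w : MulAut K)) = 1 :=
      Nat.eq_one_of_dvd_coprimes (Nat.coprime_two_left.2 hφ)
        (orderOf_dvd_of_pow_eq_one (by rw [← map_pow, ← Subgroup.coe_pow, h0, Subgroup.coe_one, map_one]))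
        (Subgroup.orderOf_dvd_natCard _ hw)
    obtain ⟨k, hk⟩ := (QuotientGroup.eq_one_iff _).1 (orderOf_eq_one_iff.1 h3)
    exact ⟨k, show MulAut.conj k ∈ W from hk ▸ w.2, hk⟩
  have h3 := Subgroup.card_le_of_le h2
  rw [Subgroup.card_map_of_injective W.subtype_injective, Subgroup.card_map_of_injective hZ] at h3
  have h4 := hV (W.comap MulAut.conj) fun v hv => hZ (by rw [map_mul, map_one]; exact hW _ hv)
  rw [card_le_ker_mul ψ, mul_comm]
  exact Nat.mul_le_mul h1 (h3.trans h4)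

section U

variable {F K : Type} [Field F] [Fintype F] [Group K] {σ : F →+* F} [hσ : Fact (∀ x, σ (σ x) = x)] {q : ℕ}
  {π : SUG σ →* K} (hF : Fintype.card F = q ^ 2) (hs : ∀ x, σ x = x ^ q)
  (hker : ∀ g, π g = 1 ↔ g ∈ Subgroup.center (SUG σ))

include hker in
theorem emb_inj {x y : HG σ} (h : π (emb σ x) = π (emb σ y)) : x = y :=
  (EndU.eq_of_emb_mul (z := (emb σ x)⁻¹ * emb σ y) ((hker _).1 (by rw [map_mul, map_inv, h, inv_mul_cancel]))
    (by rw [mul_inv_cancel_left])).symm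

include hF hs hker in
theorem card_phi : Nat.card ((H88.RkPsu.phi σ).map π) = q := by
  rw [← EndU.card_anti hF hs]
  symm
  refine Nat.card_congr (Equiv.ofBijective (fun b => ⟨π (emb σ ⟨0, b.1, by rw [b.2, zero_mul]⟩), _,
    H88.RkPsu.mem_phi.2 rfl, rfl⟩) ⟨fun b b' h => ?_, ?_⟩)
  · exact Subtype.ext (congrArg HG.b (emb_inj hker (congrArg Subtype.val h)))
  · rintro ⟨_, _, ⟨x, hx, rfl⟩, rfl⟩
    exact ⟨⟨x.b, by rw [x.h, hx, zero_mul]⟩, Subtype.ext (congrArg (fun y => π (emb σ y)) (HG.ext hx.symm rfl))⟩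

include hF hs in
theorem exists_a1 : ∃ x : HG σ, x.a = 1 := by
  obtain ⟨e, he⟩ := H177.PSUCenter.exists_trace_one (σ := σ) hF hs hσ.out
  exact H177.PSUCenter.exists_a he 1

theorem sq_of_act {l : Fˣ} {x : HG σ} (h : EndU.act l x = x) (hx : x.a ≠ 0) : (l : F) ^ 2 = σ l := by
  have h1 : (l : F) ^ 2 / σ l * x.a = x.a := congrArg HG.a h
  exact (div_eq_one_iff_eq (EndU.sne l)).1 (mul_right_cancel₀ hx (h1.trans (one_mul _).symm))

include hF hs hker in
theorem tor_eq_one {l : Fˣ} : π (EndU.tor σ l) = 1 ↔ (l : F) ^ 2 = σ l := by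
  refine ⟨fun h => ?_, fun h => (hker _).2 (EndU.tor_mem_center h)⟩
  obtain ⟨x, hx⟩ := exists_a1 hF hs
  exact sq_of_act (x := x) (EndU.comm_tor hker (by rw [h, one_mul, mul_one])) (by rw [hx]; exact one_ne_zero)

theorem cube_of_sq {l : Fˣ} (h : (l : F) ^ 2 = σ l) : l ^ 3 = 1 := by
  have h1 : (l : F) * (l : F) ^ 3 = l * 1 := by
    have h2 := sig (σ := σ) (l : F)
    rw [← h, map_pow, ← h] at h2
    rw [mul_one]
    linear_combination h2
  exact Units.ext (mul_left_cancel₀ l.ne_zero h1)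

include hs in
theorem mem_norm_ker {l : Fˣ} : l ∈ (powMonoidHom (q + 1) : Fˣ →* Fˣ).ker ↔ (l : F) * σ l = 1 := by
  rw [hs, ← pow_succ', MonoidHom.mem_ker, Units.ext_iff]
  rfl

include hF hs hker in
theorem ker_le_borel : π.ker ≤ borel σ := fun g hg => by
  obtain ⟨x, hx⟩ := exists_a1 hF hs
  exact center_le_borel ⟨x, by rw [hx]; exact one_ne_zero⟩ ((hker g).1 hg)

include hF hs hker in
theorem tor_eq_range : H88.tor ((borel σ).map π) (π (wel σ)) = (π.comp (EndU.tor σ)).range := by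
  ext x
  rw [H88.mem_tor]
  constructor
  · rintro ⟨⟨g, hg, rfl⟩, h⟩
    rw [← map_inv, ← map_mul, ← map_mul] at h
    obtain ⟨l, rfl⟩ := EndU.exists_tor hg (UThreeGen.DataIso.mem_of_map_mem π (ker_le_borel hF hs hker) h)
    exact ⟨l, rfl⟩
  · rintro ⟨l, rfl⟩
    refine ⟨⟨_, EndU.tor_mem l, rfl⟩, ⟨_, EndU.tor_mem (EndU.ci σ l), ?_⟩⟩
    rw [← EndU.wel_tor, map_mul, map_mul, ← map_inv, wel_inv]
    rfl

include hF hs hker in
theorem cent_eq {l : Fˣ} (h1 : (l : F) * σ l = 1) (h2 : π (EndU.tor σ l) ≠ 1) :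
    (emb σ).range.map π ⊓ Subgroup.centralizer {π (EndU.tor σ l)} = (H88.RkPsu.phi σ).map π := by
  ext k
  constructor
  · rintro ⟨⟨_, ⟨x, rfl⟩, rfl⟩, h⟩
    refine ⟨_, H88.RkPsu.mem_phi.2 ?_, rfl⟩
    by_contra h3
    exact h2 ((tor_eq_one hF hs hker).2
      (sq_of_act (EndU.comm_tor hker (Subgroup.mem_centralizer_singleton_iff.1 h).symm) h3))
  · rintro ⟨_, ⟨x, hx, rfl⟩, rfl⟩
    refine ⟨⟨_, ⟨x, rfl⟩, rfl⟩, Subgroup.mem_centralizer_singleton_iff.2 ((EndU.comm_tor_iff hker).2 ?_).symm⟩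
    ext
    · change _ * x.a = x.a
      rw [hx, mul_zero]
    · change (l : F) * σ l * x.b = x.b
      rw [h1, one_mul]

end U

theorem mod_U {F : Type} [Field F] [Fintype F] {p q : ℕ} (hp : p.Prime) [CharP F p] (hF : Fintype.card F = q ^ 2)
    (hq : q ≠ 2) : Mod p (Cfsg.PSU 3 F q) := by
  intro X _ _ ρ h1 h2 h3 hz
  obtain ⟨σ, p', e, g, D⟩ := H112.exists_FQ (F := F) (q := q) (by rw [Nat.card_eq_fintype_card, hF])
  have hσ : Fact (∀ x, σ (σ x) = x) := ⟨D.sq_sig⟩
  have hfp : Fact p.Prime := ⟨hp⟩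
  obtain rfl : p = p' := by
    obtain ⟨k, -, hk⟩ := FiniteField.card F p
    refine (Nat.prime_dvd_prime_iff_eq hp D.prime).1 (hp.dvd_of_dvd_pow (n := e * 2) ?_)
    rw [pow_mul, ← D.qp, ← hF, hk]
    exact dvd_pow_self p k.2.ne'
  have hq3 : 3 ≤ q := by have := D.two_le; omega
  have hs := D.hs
  obtain ⟨π, hπ, hker⟩ := H177.PSUCenter.exists_pi (σ := σ) hF hs
  have R₀ := H88.RkPsu.rk hF hs hq3 hp D.e_pos.ne' D.qp
  have R := R₀.quot π hπ (ker_le_borel hF hs hker)
  have : Finite (Cfsg.PSU 3 F q) := Finite.of_surjective _ h2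
  have hT := tor_eq_range hF hs hker
  have hS : Nat.card ((emb σ).range.map π) = q ^ 3 := by
    rw [R₀.card_quot π (ker_le_borel hF hs hker), H88.RkPsu.card_emb hF hs]
  set τ := π.comp (EndU.tor σ) with hτ
  set A := (powMonoidHom (q + 1) : Fˣ →* Fˣ).ker with hA
  have hu : Nat.card Fˣ = (q + 1) * (q - 1) := by
    rw [Nat.card_units, Nat.card_eq_fintype_card, hF, ← Nat.sq_sub_sq, one_pow]
  have h4 : τ.ker ≤ A := fun l hl => by
    have h4 := (tor_eq_one hF hs hker).1 hl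
    rw [mem_norm_ker hs, ← h4, ← pow_succ', ← Units.val_pow_eq_pow_val, cube_of_sq h4, Units.val_one]
  have h5 : (A.map τ).comap τ = A := by rw [Subgroup.comap_map_eq, sup_eq_left.2 h4]
  have h6 : (A.map τ).relIndex τ.range = q - 1 := by
    rw [MonoidHom.range_eq_map, ← Subgroup.relIndex_comap, h5, Subgroup.relIndex_top_right,
      IsCyclic.index_powMonoidHom_ker, hu, Nat.gcd_mul_right_left, Nat.mul_div_cancel_left _ (by omega)]
  have h7 : Nat.Coprime (Nat.card ρ.ker) (2 * (q - 1)) := by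
    have h7 := ker_dvd (S2089.result 3 q hF le_rfl (fun h => hq h.2) (by simp)) (MulEquiv.refl _) h1 h2 h3
    rcases (Nat.dvd_prime Nat.prime_three).1 (h7.trans (Nat.gcd_dvd_left _ _)) with h8 | h8
    · rw [h8]; exact Nat.coprime_one_left _
    · have h9 := h7.trans (Nat.gcd_dvd_right _ _)
      rw [h8] at h9 ⊢
      exact (Nat.Prime.coprime_iff_not_dvd Nat.prime_three).2 (by omega)
  have h8 : ∀ t ∈ A.map τ, t ≠ 1 → Nat.card ↥((emb σ).range.map π ⊓ Subgroup.centralizer {t}) = q := by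
    rintro _ ⟨l, hl, rfl⟩ ht
    exact (congrArg (fun B : Subgroup _ => Nat.card B) (cent_eq hF hs hker ((mem_norm_ker hs).1 hl) ht)).trans
      (card_phi hF hs hker)
  refine ⟨_, _, _, A.map τ, ⟨_, R⟩, ?_, ?_, ?_, ?_⟩
  · rw [hT]; exact Subgroup.map_le_range _ _
  · rw [hT]
    intro h
    rw [← h, Subgroup.relIndex_self] at h6
    omega
  · rw [hT]
    rintro _ ⟨l, rfl⟩ ht _ ⟨_, ⟨x, rfl⟩, rfl⟩ h
    by_contra h9
    have h10 : x ≠ 1 := fun h10 => h9 (by rw [h10, map_one, map_one])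
    have h11 : (l : F) * σ l * x.b = x.b := congrArg HG.b (EndU.comm_tor hker h.symm)
    exact ht ⟨l, (mem_norm_ker hs).2 (mul_right_cancel₀ (b_ne_zero h10) (h11.trans (one_mul _).symm)), rfl⟩
  rw [hT]
  by_cases hp2 : p = 2
  · subst hp2
    have h9 : 2 ∣ q := by rw [D.qp]; exact dvd_pow_self 2 D.e_pos.ne'
    refine Or.inr (Or.inr (Or.inr ⟨rfl, q, by omega, hS, by omega, ?_, ?_, h8, ?_⟩))
    · rw [h6]; exact Nat.Coprime.coprime_mul_left_right h7
    · have h10 : τ.ker ≤ (powMonoidHom 3 : Fˣ →* Fˣ).ker := fun l hl => cube_of_sq ((tor_eq_one hF hs hker).1 hl)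
      have h11 := Subgroup.card_dvd_of_le h10
      rw [IsCyclic.card_powMonoidHom_ker] at h11
      rw [← hF, ← Nat.card_eq_fintype_card, ← Nat.card_units, card_le_ker_mul τ]
      exact Nat.mul_dvd_mul_right (h11.trans (Nat.gcd_dvd_right _ _)) _
    · obtain ⟨φ, -, -, hφ⟩ := S2603.result (p := 2) D.e_pos D.qp hF le_rfl (fun h => hq h.2)
      have : NeZero (2 * e) := ⟨by have := D.e_pos; omega⟩
      refine card_W_le φ (hφ ▸ Odd.of_dvd_nat (by decide : Odd 3) (Nat.gcd_dvd_left _ _)) ?_ fun V hV => ?_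
      · rw [injective_iff_map_eq_one]
        intro z hz'
        have h10 : ∀ k, z * k = k * z := fun k => mul_inv_eq_iff_eq_mul.1 (DFunLike.congr_fun hz' k)
        have h11 : z ∈ (borel σ).map π := by
          rw [← R.data.normalizer_eq R.ne]
          exact nm_iff.2 (nm_of_comm fun x _ => h10 x)
        have h12 : z ∈ τ.range := by
          rw [← hT, H88.mem_tor, mul_assoc, h10, inv_mul_cancel_left]
          exact ⟨h11, h11⟩
        obtain ⟨l, rfl⟩ := h12
        obtain ⟨x, hx⟩ := exists_a1 hF hs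
        exact (tor_eq_one hF hs hker).2
          (sq_of_act (x := x) (EndU.comm_tor hker (h10 _)) (by rw [hx]; exact one_ne_zero))
      · obtain ⟨k, -, hk⟩ := (maxP_of_rk R).exists_cj (P := V)
          (fun v => ⟨1, Subtype.ext (by rw [pow_one, Subgroup.coe_pow, pow_two]; exact hV _ v.2)⟩) le_top
        refine le_of_le_of_eq (Subgroup.card_le_of_le fun v hv => mem_cj.2 ?_)
          ((card_cj k _).trans (card_phi hF hs hker))
        obtain ⟨_, ⟨x, rfl⟩, hx⟩ := mem_cj.1 (hk hv)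
        refine ⟨_, H88.RkPsu.mem_phi.2 ?_, hx⟩
        have h10 : x * x = 1 := emb_inj hker (by
          rw [map_mul, map_mul, hx, map_one, map_one]
          calc k⁻¹ * v * k * (k⁻¹ * v * k) = k⁻¹ * (v * v) * k := by group
            _ = 1 := by rw [hV v hv]; group)
        have h11 : x.b + x.b + x.a * σ x.a = 0 := congrArg HG.b h10
        rw [CharTwo.add_self_eq_zero, zero_add, mul_eq_zero, map_eq_zero, or_self] at h11
        exact h11
  · have h9 : τ (-1) ≠ 1 := fun h => by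
      have h10 := (tor_eq_one hF hs hker).1 h
      rw [Units.val_neg, Units.val_one, map_neg, map_one, neg_one_sq] at h10
      have h11 : ((2 : ℕ) : F) = 0 := by push_cast; linear_combination h10
      exact hp2 ((Nat.prime_dvd_prime_iff_eq hp Nat.prime_two).1 ((CharP.cast_eq_zero_iff F p 2).1 h11))
    have h10 : τ (-1) ∈ A.map τ := ⟨-1, (mem_norm_ker hs).2 (by simp), rfl⟩
    refine Or.inr (Or.inr (Or.inl ⟨hp2, q, hS, ?_, ?_, τ (-1), h10, h9, ?_, h8 _ h10 h9⟩))
    · rw [h6]; exact Dvd.intro_left 2 rfl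
    · rw [h6]; exact h7
    · rw [← map_mul, neg_mul_neg, one_mul, map_one]

end Cfsg.Agent.TH.Own.R1
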