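import Mathlib
import Cfsg.Agent.TH.Own.R1Red
import Cfsg.Agent.TH.Own.R1S
import Cfsg.Agent.TH.Own.R1U

/-!
# S3541, `BoxR1D` (helper6)
-/

set_option autoImplicit false

namespace Cfsg.Agent.TH.Own

open R1

/-- **[R1D]** -/
theorem boxR1D : BoxR1D := by
  intro G _ _ p E U hp hE hL hZ hU hP hS hspl
  have : Fact p.Prime := ⟨hp⟩
  have hM : MaxP p E U := ⟨hU, hP, fun R hR h1 h2 => by
    obtain ⟨Q, hQ, h3⟩ := hS R h1 hR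
    exact (Subgroup.eq_of_le_of_card_ge h2 (card_of_mem_Cjs hQ ▸ Subgroup.card_le_of_le h3)).symm⟩
  have := hE.1
  have := hE.2
  have C := cov_pj hp hE.1 hZ (MulEquiv.refl _)
  rcases rank_one inferInstance hL (C.maxP_dn hM) (C.spl_dn hU hspl) with ⟨F, _, _, _, h4, ⟨e⟩⟩ |
    ⟨F, _, _, _, q, hF, hq, ⟨e⟩⟩ | ⟨rfl, F, _, _, m, hm, hF, ⟨e⟩⟩ | ⟨rfl, F, _, _, m, hm, hF, ⟨e⟩⟩
  · exact r1d_of_mod hp hE.1 hZ hM e (mod_L hp h4)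
  · exact r1d_of_mod hp hE.1 hZ hM e (mod_U hp hF hq)
  · exact r1d_of_mod hp hE.1 hZ hM e (mod_Sz hm hF)
  · exact r1d_of_mod hp hE.1 hZ hM e (mod_Ree hm hF)

end Cfsg.Agent.TH.Own
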