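import Mathlib
import Cfsg.Agent.TH.Own.SpAbs

/-!
# S3541, `BoxRk1`: the spread lemma for a section `Q / V` of the group (helper90)
-/

set_option autoImplicit false
set_option linter.unusedSectionVars false
set_option linter.unusedVariables false

namespace Cfsg.Agent.TH.Own.Rk

open MulAction

variable {G : Type*} [Group G] {p : ℕ}

/-- `[w, S] ≤ V` -/
def InC (V : Subgroup G) (S : Set G) (w : G) : Prop := ∀ x ∈ S, w⁻¹ * (x * w * x⁻¹) ∈ V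

/-- the elements of `Q` which are centralised by `S` modulo `V` -/
def Cm {Q V : Subgroup G} (h : ∀ w ∈ Q, cj w V = V) (S : Set G) : Subgroup G where
  carrier := {w | w ∈ Q ∧ InC V S w}
  one_mem' := ⟨one_mem _, fun x _ => by simp⟩
  mul_mem' {a b} ha hb := ⟨mul_mem ha.1 hb.1, fun x hx => by
    have h1 := mul_mem (nm_conj' (h b hb.1) (ha.2 x hx)) (hb.2 x hx)
    rwa [show b⁻¹ * (a⁻¹ * (x * a * x⁻¹)) * b * (b⁻¹ * (x * b * x⁻¹)) = (a * b)⁻¹ * (x * (a * b) * x⁻¹) by group] at h1⟩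
  inv_mem' {a} ha := ⟨inv_mem ha.1, fun x hx => by
    have h1 := nm_conj (h a ha.1) (inv_mem (ha.2 x hx))
    rwa [show a * (a⁻¹ * (x * a * x⁻¹))⁻¹ * a⁻¹ = a⁻¹⁻¹ * (x * a⁻¹ * x⁻¹) by group] at h1⟩

theorem mem_Cm {Q V : Subgroup G} {h : ∀ w ∈ Q, cj w V = V} {S : Set G} {w : G} : w ∈ Cm h S ↔ w ∈ Q ∧ InC V S w := Iff.rfl

theorem Cm_le {Q V : Subgroup G} (h : ∀ w ∈ Q, cj w V = V) (S : Set G) : Cm h S ≤ Q := fun _ hw => hw.1

theorem le_Cm {Q V : Subgroup G} (h : ∀ w ∈ Q, cj w V = V) (hle : V ≤ Q) {S : Set G} (hS : ∀ x ∈ S, cj x V = V) :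
    V ≤ Cm h S := fun w hw => ⟨hle hw, fun x hx => mul_mem (inv_mem hw) (nm_conj (hS x hx) hw)⟩

section Pt

variable {Ω : Type*} [MulAction G Ω]

theorem inC_iff {Q V : Subgroup G} {c : Ω} (hc : ∀ w ∈ Q, w • c = c ↔ w ∈ V) {x w : G} (hx : x • c = c)
    (hxQ : cj x Q = Q) (hw : w ∈ Q) : w⁻¹ * (x * w * x⁻¹) ∈ V ↔ x • w • c = w • c := by
  rw [← hc _ (mul_mem (inv_mem hw) (nm_conj hxQ hw)), mul_smul, inv_smul_eq_iff, mul_smul, mul_smul,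
    inv_smul_eq_iff.2 hx.symm]

end Pt

variable (p) in
/-- `D` acts on `Q / V`, which is the union of the centralisers of the Sylow subgroups of `D` -/
structure Md (D P V Q : Subgroup G) : Prop where
  le : V ≤ Q
  isP : IsPGroup p Q
  nV : ∀ w ∈ Q, cj w V = V
  dQ : ∀ d ∈ D, cj d Q = Q
  dV : ∀ d ∈ D, cj d V = V
  mx : MaxP p D P
  spl : Spl D P
  gen : ∀ K, (∀ R ∈ Cjs D P, R ≤ K) → D ≤ K
  cov : ∀ w ∈ Q, ∃ R ∈ Cjs D P, InC V R w
  triv : ∀ w ∈ Q, InC V D w → w ∈ V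
  ne : ¬ Q ≤ V

namespace Md

variable {D P V Q : Subgroup G} (h : Md p D P V Q)

include h

theorem normal : (V.subgroupOf Q).Normal := ⟨fun x hx w => nm_conj (x := (x : G)) (h.nV w w.2) hx⟩

/-- conjugation on `Q` -/
def cjQ (d : D) : Q →* Q where
  toFun w := ⟨d * w * (d : G)⁻¹, nm_conj (h.dQ d d.2) w.2⟩
  map_one' := Subtype.ext (by simp)
  map_mul' a b := Subtype.ext (by simp [mul_assoc])

/-- the action on the quotient -/
@[reducible] def act [(V.subgroupOf Q).Normal] : MulDistribMulAction D (Q ⧸ V.subgroupOf Q) where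
  smul d := QuotientGroup.map _ _ (h.cjQ d) fun _ hw => nm_conj (h.dV d d.2) hw
  one_smul n := QuotientGroup.induction_on n fun w => congrArg QuotientGroup.mk (Subtype.ext (by simp [cjQ]))
  mul_smul d e n := QuotientGroup.induction_on n fun w =>
    congrArg QuotientGroup.mk (Subtype.ext (by simp [cjQ, mul_assoc]))
  smul_mul d := map_mul _
  smul_one d := map_one _

theorem mem_CC [(V.subgroupOf Q).Normal] {R : Subgroup G} (hR : R ≤ D) (w : Q) :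
    (w : Q ⧸ V.subgroupOf Q) ∈ @CC G _ D _ _ h.act R ↔ InC V R w :=
  ⟨fun h1 x hx => (QuotientGroup.eq (s := V.subgroupOf Q) (a := w) (b := h.cjQ ⟨x, hR hx⟩ w)).1 (h1 ⟨x, hR hx⟩ hx).symm,
    fun h1 x hx => ((QuotientGroup.eq (s := V.subgroupOf Q) (a := w) (b := h.cjQ x w)).2 (h1 x hx)).symm⟩

theorem CC_D [(V.subgroupOf Q).Normal] : @CC G _ D _ _ h.act D = ⊥ :=
  eq_bot_iff.2 fun n hn => by
    induction n using QuotientGroup.induction_on with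
    | _ w => exact (QuotientGroup.eq_one_iff w).2 (h.triv w w.2 ((h.mem_CC le_rfl w).1 hn))

variable [Finite G] [hp : Fact p.Prime]

theorem sp [(V.subgroupOf Q).Normal] : @Sp G _ p D P _ _ h.act := by
  let _ := h.act
  refine ⟨h.mx, h.spl, h.gen, h.isP.to_quotient _, fun n => ?_, ?_⟩
  · induction n using QuotientGroup.induction_on with
    | _ w =>
    obtain ⟨R, hR, h1⟩ := h.cov w w.2
    exact ⟨R, hR, (h.mem_CC (le_of_mem_Cjs h.mx.le hR) w).2 h1⟩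
  · obtain ⟨w, hw, h1⟩ := SetLike.not_le_iff_exists.1 h.ne
    obtain ⟨_, ⟨e, he, rfl⟩, h2⟩ := h.cov w hw
    have h3 := smul_mem_CC ((h.mem_CC (le_of_mem_Cjs h.mx.le ⟨e, he, rfl⟩) ⟨w, hw⟩).2 h2) (⟨e, he⟩ : D)⁻¹
    rw [Subgroup.coe_inv, cj_inv_cj] at h3
    refine ⟨_, h3, fun h4 => h1 ?_⟩
    rw [smul_mem_CC_D, h.CC_D] at h4
    exact (QuotientGroup.eq_one_iff (⟨w, hw⟩ : Q)).1 h4

theorem of_mem {R : Subgroup G} (hR : R ∈ Cjs D P) : Md p D R V Q :=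
  { h with
    mx := h.mx.of_mem_Cjs hR
    spl := h.spl.of_mem hR
    gen := by rw [Cjs_eq_of_mem hR]; exact h.gen
    cov := by rw [Cjs_eq_of_mem hR]; exact h.cov }

theorem exists_pow : ∃ n, 0 < n ∧ nS D P = p ^ n + 1 := by
  have := h.normal
  let _ := h.act
  obtain ⟨n, hn⟩ := h.sp.exists_pow
  refine ⟨n, Nat.pos_of_ne_zero ?_, hn⟩
  rintro rfl
  have h1 := (h.sp.card_top hn).2
  rw [h.CC_D, Subgroup.card_bot, pow_zero] at h1
  exact h.ne (Subgroup.relIndex_eq_one.1 h1)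

theorem card {n : ℕ} (hn : nS D P = p ^ n + 1) :
    V.relIndex Q = p ^ n * p ^ n ∧ V.relIndex (Cm h.nV P) = p ^ n := by
  have := h.normal
  let _ := h.act
  obtain ⟨h1, h2⟩ := h.sp.card_top hn
  rw [h.CC_D, Subgroup.card_bot, mul_one] at h1 h2
  refine ⟨h2, ?_⟩
  have h3 : (CC D (Q ⧸ V.subgroupOf Q) P).comap (QuotientGroup.mk' _) = (Cm h.nV P).subgroupOf Q := by
    ext w
    rw [Subgroup.mem_comap, Subgroup.mem_subgroupOf, mem_Cm]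
    exact (h.mem_CC h.mx.le w).trans ⟨fun a => ⟨w.2, a⟩, fun a => a.2⟩
  have h4 := Subgroup.index_comap_of_surjective (CC D (Q ⧸ V.subgroupOf Q) P) (QuotientGroup.mk'_surjective _)
  rw [h3] at h4
  have h5 := (CC D (Q ⧸ V.subgroupOf Q) P).card_mul_index
  rw [h1, h2, ← h4] at h5
  have h0 : 0 < p ^ n := pow_pos hp.1.pos n
  have h6 : (Cm h.nV P).relIndex Q = p ^ n := Nat.eq_of_mul_eq_mul_left h0 h5
  have h7 := Subgroup.relIndex_mul_relIndex V (Cm h.nV P) Q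
    (le_Cm h.nV h.le fun x hx => h.dV x (h.mx.le hx)) (Cm_le _ _)
  rw [h6] at h7
  exact Nat.eq_of_mul_eq_mul_right h0 (h7.trans h2)

/-- irreducibility -/
theorem irr {M : Subgroup G} (h1 : M ≤ Q) (h2 : V ≤ M) (h3 : ∀ d ∈ D, ∀ w ∈ M, d * w * d⁻¹ ∈ M) : M ≤ V ∨ Q ≤ M := by
  have := h.normal
  let _ := h.act
  by_cases h4 : M ≤ V
  · exact .inl h4
  right
  have h5 := h.sp.eq_top (M := (M.subgroupOf Q).map (QuotientGroup.mk' _))
    (by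
      rintro e _ ⟨w, hw, rfl⟩
      exact ⟨h.cjQ e w, h3 e e.2 w hw, rfl⟩)
    (by rw [h.CC_D]; exact bot_le)
    (fun h6 => h4 fun w hw => by
      have h7 := h6 ⟨⟨w, h1 hw⟩, hw, rfl⟩
      rw [h.CC_D] at h7
      exact (QuotientGroup.eq_one_iff (⟨w, h1 hw⟩ : Q)).1 h7)
  intro w hw
  obtain ⟨v, hv, e⟩ : (QuotientGroup.mk' _ (⟨w, hw⟩ : Q)) ∈ (M.subgroupOf Q).map (QuotientGroup.mk' (V.subgroupOf Q)) :=
    h5 ▸ trivial
  exact (mul_mem_cancel_left (inv_mem hv)).1 (h2 ((QuotientGroup.eq (s := V.subgroupOf Q) (a := v) (b := ⟨w, hw⟩)).1 e))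

/-- `N_D(P)` is transitive on the non-trivial cosets centralised by `P` -/
theorem trans {z z' : G} (hz : z ∈ Cm h.nV P) (h1 : z ∉ V) (hz' : z' ∈ Cm h.nV P) (h2 : z' ∉ V) :
    ∃ d ∈ D, cj d P = P ∧ z'⁻¹ * (d * z * d⁻¹) ∈ V := by
  have := h.normal
  let _ := h.act
  obtain ⟨d, h3, h4⟩ := h.sp.trans ((h.mem_CC h.mx.le ⟨z, hz.1⟩).2 hz.2)
    (by rw [h.CC_D]; exact fun e => h1 ((QuotientGroup.eq_one_iff (⟨z, hz.1⟩ : Q)).1 e))
    ((h.mem_CC h.mx.le ⟨z', hz'.1⟩).2 hz'.2)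
    (by rw [h.CC_D]; exact fun e => h2 ((QuotientGroup.eq_one_iff (⟨z', hz'.1⟩ : Q)).1 e))
  rw [h.CC_D, Subgroup.mem_bot, inv_mul_eq_one] at h4
  exact ⟨d, d.2, h3, (QuotientGroup.eq (s := V.subgroupOf Q) (a := ⟨z', hz'.1⟩) (b := h.cjQ d ⟨z, hz.1⟩)).1 h4⟩

variable {Ω : Type*} [MulAction G Ω]

omit h in
theorem ncard_Orb {M : Subgroup G} {c : Ω} (h1 : V ≤ M) (hc : ∀ w ∈ M, w • c = c ↔ w ∈ V) :
    (Orb M c).ncard = V.relIndex M := by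
  have h2 := ncard_Orb_mul M c
  have h3 : M ⊓ stabilizer G c = V := le_antisymm (fun w hw => (hc w hw.1).1 hw.2) fun w hw => ⟨h1 hw, (hc w (h1 hw)).2 hw⟩
  rw [h3, ← card_mul_relIndex h1, mul_comm] at h2
  exact Nat.eq_of_mul_eq_mul_left Nat.card_pos h2

theorem Orb_Cm {c : Ω} (hc : ∀ w ∈ Q, w • c = c ↔ w ∈ V) (hP : P ≤ stabilizer G c) :
    Orb (Cm h.nV P) c = Orb Q c ∩ Fx P := by
  ext y
  constructor
  · rintro ⟨w, hw, rfl⟩
    exact ⟨⟨w, hw.1, rfl⟩, fun x hx => (inC_iff hc (hP hx) (h.dQ x (h.mx.le hx)) hw.1).1 (hw.2 x hx)⟩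
  · rintro ⟨⟨w, hw, rfl⟩, h1⟩
    exact ⟨w, ⟨hw, fun x hx => (inC_iff hc (hP hx) (h.dQ x (h.mx.le hx)) hw).2 (h1 hx)⟩, rfl⟩

theorem ncard_fix {n : ℕ} (hn : nS D P = p ^ n + 1) {c : Ω} (hc : ∀ w ∈ Q, w • c = c ↔ w ∈ V)
    (hP : P ≤ stabilizer G c) : (Orb Q c ∩ Fx P).ncard = p ^ n := by
  rw [← h.Orb_Cm hc hP, ncard_Orb (le_Cm h.nV h.le fun x hx => h.dV x (h.mx.le hx)) fun w hw => hc w hw.1, (h.card hn).2]

omit hp in
theorem semi_smul {c : Ω} (hc : ∀ w ∈ Q, w • c = c ↔ w ∈ V) {v : G} (hv : v ∈ Q) :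
    ∀ w ∈ Q, w • v • c = v • c ↔ w ∈ V := fun w hw => by
  rw [← mul_smul, ← inv_smul_eq_iff, ← mul_smul, hc _ (mul_mem (inv_mem hv) (mul_mem hw hv)), ← mul_assoc, ← mem_cj,
    h.nV v hv]

/-- **affine** : an orbit all of whose points are fixed by Sylow subgroups of `D` has a point fixed by `D` -/
theorem affine {c : Ω} (hc : ∀ w ∈ Q, w • c = c ↔ w ∈ V)
    (hf : ∀ w ∈ Q, ∃ R ∈ Cjs D P, R ≤ stabilizer G (w • c)) : ∃ w ∈ Q, D ≤ stabilizer G (w • c) := by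
  by_contra hcon
  obtain ⟨n, hn0, hn⟩ := h.exists_pow
  have h1 : 1 < p ^ n := Nat.one_lt_pow hn0.ne' hp.1.one_lt
  let B : Set (Subgroup G) := {R ∈ Cjs D P | ∃ w ∈ Q, R ≤ stabilizer G (w • c)}
  have h2 : (Orb Q c).ncard = B.ncard * p ^ n :=
    ncard_eq_mul (finite_Orb Q c) ((finite_Cjs D P).subset fun _ a => a.1) (fun R => Orb Q c ∩ Fx R)
      (by
        rintro _ ⟨w, hw, rfl⟩
        obtain ⟨R, hR, h2⟩ := hf w hw
        exact ⟨R, ⟨hR, w, hw, h2⟩, ⟨w, hw, rfl⟩, h2⟩)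
      (fun _ _ => Set.inter_subset_left)
      (by
        rintro R hR R' hR' _ ⟨⟨w, hw, rfl⟩, h2⟩ h3
        by_contra hne
        exact hcon ⟨w, hw, h.spl.le_of_two h.gen hR.1 hR'.1 hne h2 h3.2⟩)
      (by
        rintro R ⟨hR, w, hw, h2⟩
        rw [← Orb_eq (L := Q) (b := c) ⟨w, hw, rfl⟩]
        exact (h.of_mem hR).ncard_fix (by rw [nS, Cjs_eq_of_mem hR]; exact hn) (h.semi_smul hc hw) h2)
  rw [ncard_Orb h.le hc, (h.card hn).1] at h2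
  have h3 : B.ncard = p ^ n := (Nat.eq_of_mul_eq_mul_right (by omega) h2).symm
  obtain ⟨R, hR, h4⟩ := hf 1 (one_mem _)
  rw [one_smul] at h4
  obtain ⟨R', hR', h5⟩ := Set.exists_ne_of_one_lt_ncard (s := B) (by omega) R
  have h6 : Cjs D P ⊆ B := fun R'' hR'' => by
    by_cases e : R'' = R
    · exact ⟨hR'', 1, one_mem _, by rwa [one_smul, e]⟩
    obtain ⟨x, hx, rfl⟩ := h.spl.of_mem hR R' (by rw [Cjs_eq_of_mem hR]; exact hR'.1) h5 R''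
      (by rw [Cjs_eq_of_mem hR]; exact hR'') e
    obtain ⟨w, hw, h7⟩ := hR'.2
    refine ⟨hR'', x * w * x⁻¹, nm_conj (h.dQ x (le_of_mem_Cjs h.mx.le hR hx)) hw, ?_⟩
    rw [mul_smul, mul_smul, inv_smul_eq_iff.2 (h4 hx).symm]
    exact cj_le_stab.2 h7
  have h7 := Set.ncard_le_ncard h6 ((finite_Cjs D P).subset fun _ a => a.1)
  rw [nS] at hn
  omega

end Md

end Cfsg.Agent.TH.Own.Rk
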