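import Mathlib
import Cfsg.Agent.TH.Own.Core
import Cfsg.Agent.TH.Own.RkMd
import Cfsg.Agent.H396.Comp.Quasi

/-!
# S3541, `BoxRk1`: the groups `E b` of rank one attached to the points (helper90)
-/

set_option autoImplicit false
set_option linter.unusedSectionVars false
set_option linter.unusedVariables false

namespace Cfsg.Agent.TH.Own.Rk

open MulAction

variable {G : Type*} [Group G]

/-- the setting -/
structure Geo (Ω : Type*) [MulAction G Ω] (T : Subgroup G) (p m : ℕ) (E : Ω → Subgroup G) : Prop where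
  A : Amb Ω T p m
  eqv : ∀ (g : G) (b : Ω), E (g • b) = cj g (E b)
  leT : ∀ b, E b ≤ T
  fix : ∀ b, E b ≤ stabilizer G b
  spl : ∀ b P, MaxP p (E b) P → Spl (E b) P
  gen : ∀ b P, MaxP p (E b) P → ∀ K, (∀ R ∈ Cjs (E b) P, R ≤ K) → E b ≤ K
  ti : ∀ b P P', MaxP p (E b) P → MaxP p (E b) P' → P ≠ P' → P ⊓ P' = ⊥
  ne : ∀ b P, MaxP p (E b) P → ∃ P', MaxP p (E b) P' ∧ P' ≠ P
  quasi : ∀ b, Cfsg.IsQuasisimple ↥(E b)
  reg : ∀ b P P', MaxP p (E b) P → MaxP p (E b) P' → P ≠ P' → ∃ t ∈ E b, ∃ r j : ℕ, r.Prime ∧ r ≠ p ∧ t ^ r ^ j = 1 ∧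
    cj t P = P ∧ cj t P' = P' ∧ ∀ u ∈ P, u * t = t * u → u = 1

/-- `O_p(N_{T_b}(P))` -/
def Xo {Ω : Type*} [MulAction G Ω] (T : Subgroup G) (p : ℕ) (b : Ω) (P : Subgroup G) : Subgroup G :=
  Op p (T ⊓ stabilizer G b ⊓ Subgroup.normalizer (P : Set G))

theorem cj_Op [Finite G] {p : ℕ} [Fact p.Prime] (g : G) (L : Subgroup G) : cj g (Op p L) = Op p (cj g L) := by
  have key : ∀ (g : G) (L : Subgroup G), cj g (Op p L) ≤ Op p (cj g L) := fun g L => by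
    obtain ⟨h1, h2, h3⟩ := Op_spec (p := p) L
    exact le_Op (cj_mono g h1) (isPGroup_cj h2 g) fun x hx => nm_cj_iff.2 (h3 _ (mem_cj.1 hx))
  refine le_antisymm (key g L) ?_
  have h1 := key g⁻¹ (cj g L)
  rwa [cj_inv_cj, cj_le_iff, inv_inv] at h1

theorem eq_one_of_pow {p r i j : ℕ} (hp : p.Prime) (hr : r.Prime) (hne : r ≠ p) {x : G} (h1 : x ^ p ^ i = 1)
    (h2 : x ^ r ^ j = 1) : x = 1 := by
  have h3 := Nat.dvd_gcd (orderOf_dvd_of_pow_eq_one h1) (orderOf_dvd_of_pow_eq_one h2)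
  rw [Nat.Coprime.gcd_eq_one (Nat.Coprime.pow _ _ ((Nat.coprime_primes hp hr).2 hne.symm)), Nat.dvd_one] at h3
  exact orderOf_eq_one_iff.1 h3

/-- the action by conjugation -/
@[reducible] def cAct (G : Type*) [Group G] : MulAction G G where
  smul g x := g * x * g⁻¹
  one_smul x := by show 1 * x * 1⁻¹ = x; simp
  mul_smul g k x := by show g * k * x * (g * k)⁻¹ = g * (k * x * k⁻¹) * g⁻¹; group

/-- a fixed coset contains a fixed element -/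
theorem exists_fixed [Finite G] {p r j : ℕ} [hp : Fact p.Prime] (hr : r.Prime) (hne : r ≠ p) {t w : G} (ht : t ^ r ^ j = 1)
    {X : Subgroup G} (hX : IsPGroup p X) (hn : cj t X = X) (hw : w⁻¹ * (t * w * t⁻¹) ∈ X) :
    ∃ x ∈ X, t * (w * x) = w * x * t := by
  have := Fact.mk hr
  let K : Subgroup G :=
    { carrier := {g | cj g X = X ∧ w⁻¹ * (g * w * g⁻¹) ∈ X}
      one_mem' := ⟨cj_one X, by simp⟩
      mul_mem' := fun {a b} ha hb => ⟨nm_mul ha.1 hb.1, by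
        have h1 := mul_mem ha.2 (nm_conj ha.1 hb.2)
        rwa [show w⁻¹ * (a * w * a⁻¹) * (a * (w⁻¹ * (b * w * b⁻¹)) * a⁻¹) = w⁻¹ * (a * b * w * (a * b)⁻¹) by group] at h1⟩
      inv_mem' := fun {a} ha => ⟨nm_inv ha.1, by
        have h1 := inv_mem (nm_conj' ha.1 ha.2)
        rwa [show (a⁻¹ * (w⁻¹ * (a * w * a⁻¹)) * a)⁻¹ = w⁻¹ * (a⁻¹ * w * a⁻¹⁻¹) by group] at h1⟩ }
  have h1 := @modEq_fix G _ G (cAct G) r _ _ (isP_zpowers ht) {v | w⁻¹ * v ∈ X} (Set.toFinite _) fun g hg v hv => by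
    obtain ⟨h2, h3⟩ : g ∈ K := (Subgroup.zpowers_le (H := K)).2 ⟨hn, hw⟩ hg
    have h4 := mul_mem h3 (nm_conj h2 hv)
    show w⁻¹ * (g * v * g⁻¹) ∈ X
    rwa [show w⁻¹ * (g * w * g⁻¹) * (g * (w⁻¹ * v) * g⁻¹) = w⁻¹ * (g * v * g⁻¹) by group] at h4
  have h2 : {v | w⁻¹ * v ∈ X}.ncard = Nat.card X := by
    rw [show {v | w⁻¹ * v ∈ X} = (fun x => w * x) '' X from Set.ext fun v =>
      ⟨fun a => ⟨_, a, mul_inv_cancel_left _ _⟩, by rintro ⟨x, hx, rfl⟩; simpa using hx⟩,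
      Set.ncard_image_of_injective _ (mul_right_injective w)]
    exact (Nat.card_coe_set_eq (X : Set G)).symm
  obtain ⟨n, hn'⟩ := card_eq_pow hX
  rw [h2, hn'] at h1
  have h3 : ({v | w⁻¹ * v ∈ X} ∩ @Fx G _ G (cAct G) (Subgroup.zpowers t)).Nonempty := by
    rw [← Set.ncard_pos (Set.toFinite _)]
    refine Nat.pos_of_ne_zero fun e => ?_
    rw [e] at h1
    exact hne ((Nat.prime_dvd_prime_iff_eq hr hp.1).1 (hr.dvd_of_dvd_pow ((Nat.modEq_zero_iff_dvd).1 h1)))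
  obtain ⟨v, h4, h5⟩ := h3
  refine ⟨w⁻¹ * v, h4, ?_⟩
  have h6 : t * v * t⁻¹ = v := h5 (Subgroup.mem_zpowers t)
  rw [mul_inv_cancel_left, ← mul_inv_eq_iff_eq_mul, h6]

/-- the overgroup of `X` -/
structure QX (T : Subgroup G) (p : ℕ) (X Q : Subgroup G) (Ω : Type*) [MulAction G Ω] : Prop where
  isP : IsPGroup p Q
  leT : Q ≤ T
  le : X ≤ Q
  nX : ∀ w ∈ Q, cj w X = X
  nQ : ∀ g, cj g X = X → cj g Q = Q
  ne : ¬ Q ≤ X
  semi : ∀ c : Ω, X ≤ stabilizer G c → ∀ w ∈ Q, w • c = c ↔ w ∈ X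

namespace Geo

variable {Ω : Type*} [MulAction G Ω] {T : Subgroup G} {p m : ℕ} {E : Ω → Subgroup G} (h : Geo Ω T p m E)

include h

theorem cjS {b : Ω} {P : Subgroup G} (hP : MaxP p (E b) P) (g : G) : MaxP p (E (g • b)) (cj g P) := h.eqv g b ▸ hP.cj g

theorem nmE {g : G} {b : Ω} (hg : g • b = b) : cj g (E b) = E b := by rw [← h.eqv, hg]

theorem cjS' {b : Ω} {P : Subgroup G} (hP : MaxP p (E b) P) {g : G} (hg : g • b = b) : MaxP p (E b) (cj g P) := by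
  have := h.cjS hP g
  rwa [hg] at this

theorem S_fix {b : Ω} {P : Subgroup G} (hP : MaxP p (E b) P) : P ≤ stabilizer G b := hP.le.trans (h.fix b)

theorem S_T {b : Ω} {P : Subgroup G} (hP : MaxP p (E b) P) : P ≤ T := hP.le.trans (h.leT b)

theorem ne_bot {b : Ω} {P : Subgroup G} (hP : MaxP p (E b) P) : P ≠ ⊥ := fun e => by
  obtain ⟨P', h1, h2⟩ := h.ne b P hP
  exact h2 (hP.max P' h1.isP h1.le (e ▸ bot_le))

theorem exists_ne_one {b : Ω} {P : Subgroup G} (hP : MaxP p (E b) P) : ∃ u ∈ P, u ≠ 1 := by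
  by_contra e
  exact h.ne_bot hP ((Subgroup.eq_bot_iff_forall _).2 fun x hx => by_contra fun e' => e ⟨x, hx, e'⟩)

theorem eq_one_of_mem {b : Ω} {P P' : Subgroup G} (hP : MaxP p (E b) P) (hP' : MaxP p (E b) P') (hne : P ≠ P') {u : G}
    (h1 : u ∈ P) (h2 : u ∈ P') : u = 1 := Subgroup.mem_bot.1 (h.ti b P P' hP hP' hne ▸ (⟨h1, h2⟩ : u ∈ P ⊓ P'))

theorem eq_of_nm {b : Ω} {P R : Subgroup G} (hP : MaxP p (E b) P) (hR : MaxP p (E b) R) {u : G} (hu : u ∈ P) (h1 : u ≠ 1)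
    (h2 : cj u R = R) : R = P := by
  by_contra e
  obtain ⟨n, hn⟩ := exists_pow_of_isP hP.isP hu
  exact h1 (h.eq_one_of_mem hR hP e (hR.mem_of_nm hn (hP.le hu) h2) hu)

theorem qs {b : Ω} {N : Subgroup G} (h1 : ∀ e ∈ E b, ∀ x ∈ N, x ∈ E b → e * x * e⁻¹ ∈ N) :
    E b ≤ N ∨ ∀ x ∈ N, x ∈ E b → ∀ e ∈ E b, e * x = x * e := by
  rcases H396.Comp.normal_cases (h.quasi b) (L := N.subgroupOf (E b)) ⟨fun x hx e => h1 e e.2 x hx x.2⟩ with h2 | h2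
  · exact .inr fun x hx hx' e he =>
      congrArg Subtype.val (Subgroup.mem_center_iff.1 (h2 (show (⟨x, hx'⟩ : E b) ∈ N.subgroupOf (E b) from hx)) ⟨e, he⟩)
  · exact .inl (Subgroup.subgroupOf_eq_top.1 h2)

variable [Finite G] [hp : Fact p.Prime]

theorem exS0 (b : Ω) : ∃ P, MaxP p (E b) P := by
  obtain ⟨P, -, h1⟩ := exists_maxP (p := p) (L := E b) (P := ⊥) IsPGroup.of_bot bot_le
  exact ⟨P, h1⟩

theorem E_ne_bot (b : Ω) : E b ≠ ⊥ := fun e => by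
  obtain ⟨P, hP⟩ := h.exS0 b
  exact h.ne_bot hP (le_bot_iff.1 (e ▸ hP.le))

theorem smul_eq {g : G} {b : Ω} (hg : cj g (E b) = E b) : g • b = b :=
  h.A.smul_eq_of_nm (h.E_ne_bot b) (h.fix b) (fun _ a => h.nmE a) hg

theorem le_of_two {b : Ω} {P P' K : Subgroup G} (hP : MaxP p (E b) P) (hP' : MaxP p (E b) P') (hne : P ≠ P')
    (h1 : P ≤ K) (h2 : P' ≤ K) : E b ≤ K :=
  (h.spl b P hP).le_of_two (h.gen b P hP) (self_mem_Cjs _ _) (hP.mem_Cjs hP') hne h1 h2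

theorem inf_S {b : Ω} {R : Subgroup G} (hR : MaxP p (T ⊓ stabilizer G b) R) : MaxP p (E b) (R ⊓ E b) :=
  hR.inf (le_inf (h.leT b) (h.fix b)) fun g hg => h.nmE hg.2

/-- every point is fixed by a Sylow subgroup of `E b` -/
theorem exS (b c : Ω) : ∃ P, MaxP p (E b) P ∧ P ≤ stabilizer G c := by
  obtain ⟨R, -, h1, h2⟩ := h.A.exists_S b c (P := ⊥) IsPGroup.of_bot bot_le bot_le bot_le
  exact ⟨_, h.inf_S h1, inf_le_left.trans (h2.le.trans inf_le_right)⟩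

theorem uniq {b c : Ω} (hc : ¬ E b ≤ stabilizer G c) {P P' : Subgroup G} (hP : MaxP p (E b) P) (hP' : MaxP p (E b) P')
    (h1 : P ≤ stabilizer G c) (h2 : P' ≤ stabilizer G c) : P = P' := by
  by_contra e
  exact hc (h.le_of_two hP hP' e h1 h2)

theorem nm_of_uniq {b c : Ω} (hc : ¬ E b ≤ stabilizer G c) {P : Subgroup G} (hP : MaxP p (E b) P)
    (h1 : P ≤ stabilizer G c) {g : G} (hb : g • b = b) (hg : g • c = c) : cj g P = P :=
  h.uniq hc (h.cjS' hP hb) hP (by rw [← hg]; exact cj_le_stab.2 h1) h1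

/-- `O_p(E b) = 1` -/
theorem opE {b : Ω} {N : Subgroup G} (hN : IsPGroup p N) (h1 : N ≤ E b) (h2 : ∀ e ∈ E b, cj e N = N) : N = ⊥ := by
  obtain ⟨P, hP⟩ := h.exS0 b
  obtain ⟨P', hP', hne⟩ := h.ne b P hP
  rw [← le_bot_iff, ← h.ti b P' P hP' hP hne]
  exact le_inf (hP'.le_of_nm hN h1 fun x hx => h2 x (hP'.le hx)) (hP.le_of_nm hN h1 fun x hx => h2 x (hP.le hx))

/-- a `p`-group which normalises `E b` and is normalised by it centralises it -/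
theorem comm_of_nm {b : Ω} {N : Subgroup G} (hN : IsPGroup p N) (h1 : N ≤ stabilizer G b) (h2 : ∀ e ∈ E b, cj e N = N)
    {x e : G} (hx : x ∈ N) (he : e ∈ E b) : e * x = x * e := by
  have h3 := h.opE (N := N ⊓ E b) (hN.to_le inf_le_left) inf_le_right fun e he => nm_inf (h2 e he) (cj_of_mem he)
  have h4 : e * x * e⁻¹ * x⁻¹ ∈ N ⊓ E b := Subgroup.mem_inf.2 ⟨mul_mem (nm_conj (h2 e he) hx) (inv_mem hx), by
    have h5 := mul_mem he (nm_conj (h.nmE (h1 hx)) (inv_mem he))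
    rwa [← mul_assoc, ← mul_assoc] at h5⟩
  rwa [h3, Subgroup.mem_bot, mul_inv_eq_one, mul_inv_eq_iff_eq_mul] at h4

theorem exists_cj {b : Ω} {P P' P'' : Subgroup G} (hP : MaxP p (E b) P) (hP' : MaxP p (E b) P') (hP'' : MaxP p (E b) P'')
    (h1 : P' ≠ P) (h2 : P'' ≠ P) : ∃ u ∈ P, cj u P' = P'' :=
  h.spl b P hP P' (hP.mem_Cjs hP') h1 P'' (hP.mem_Cjs hP'') h2

theorem cj_uniq {b : Ω} {P P' : Subgroup G} (hP : MaxP p (E b) P) (hP' : MaxP p (E b) P') (h1 : P' ≠ P) {u u' : G}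
    (hu : u ∈ P) (hu' : u' ∈ P) (e : cj u P' = cj u' P') : u = u' := by
  by_contra e'
  exact h1 (h.eq_of_nm hP hP' (mul_mem (inv_mem hu') hu) (fun a => e' (inv_mul_eq_one.1 a).symm)
    (by rw [cj_mul, e, cj_inv_cj]))

theorem comm_of_three {b : Ω} {P P' : Subgroup G} (hP : MaxP p (E b) P) (hP' : MaxP p (E b) P') (h1 : P' ≠ P) {u k : G}
    (hu : u ∈ P) (k1 : cj k P = P) (k2 : cj k P' = P') (k3 : cj k (cj u P') = cj u P') : k * u = u * k :=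
  mul_inv_eq_iff_eq_mul.1 (h.cj_uniq hP hP' h1 (nm_conj k1 hu) hu (by rw [cj_mul, nm_inv k2, cj_mul, k3]))

theorem cj_ne {b : Ω} {P P' : Subgroup G} (h1 : P' ≠ P) {u : G} (hu : cj u P = P) : cj u P' ≠ P := fun e =>
  h1 (cj_inj u (e.trans hu.symm))

omit h in
theorem nm_cj_of_comm {P : Subgroup G} {u k : G} (k2 : cj k P = P) (e : k * u = u * k) : cj k (cj u P) = cj u P := by
  rw [← cj_mul, e, cj_mul, k2]

/-- the number of Sylow subgroups normalised by `K` -/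
theorem ncard_fixS {b : Ω} {P P' : Subgroup G} (hP : MaxP p (E b) P) (hP' : MaxP p (E b) P') (h1 : P' ≠ P) {K : Set G}
    (k1 : ∀ k ∈ K, cj k P = P) (k2 : ∀ k ∈ K, cj k P' = P') :
    {R | MaxP p (E b) R ∧ ∀ k ∈ K, cj k R = R}.ncard = Nat.card ↥(P ⊓ Subgroup.centralizer K) + 1 := by
  have h2 : {R | MaxP p (E b) R ∧ ∀ k ∈ K, cj k R = R} =
      insert P ((fun u => cj u P') '' ((P ⊓ Subgroup.centralizer K : Subgroup G) : Set G)) := by
    ext R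
    constructor
    · rintro ⟨h3, h4⟩
      by_cases e : R = P
      · exact .inl e
      obtain ⟨u, hu, rfl⟩ := h.exists_cj hP hP' h3 h1 e
      exact .inr ⟨u, ⟨hu, fun k hk => h.comm_of_three hP hP' h1 hu (k1 k hk) (k2 k hk) (h4 k hk)⟩, rfl⟩
    · rintro (rfl | ⟨u, hu, rfl⟩)
      · exact ⟨hP, k1⟩
      · exact ⟨h.cjS' hP' (h.S_fix hP hu.1), fun k hk => nm_cj_of_comm (k2 k hk) (hu.2 k hk)⟩
  rw [h2, Set.ncard_insert_of_notMem (by
      rintro ⟨u, hu, e⟩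
      exact h.cj_ne (b := b) h1 (cj_of_mem hu.1) e) (Set.toFinite _),
    Set.InjOn.ncard_image fun u hu u' hu' e => h.cj_uniq hP hP' h1 hu.1 hu'.1 e]
  exact congrArg (· + 1) (Nat.card_coe_set_eq _).symm

theorem setS_eq {b : Ω} {P : Subgroup G} (hP : MaxP p (E b) P) : Cjs (E b) P = {R | MaxP p (E b) R} :=
  Set.ext fun _ => ⟨hP.of_mem_Cjs, hP.mem_Cjs⟩

theorem ncard_S {b : Ω} {P : Subgroup G} (hP : MaxP p (E b) P) : {R | MaxP p (E b) R}.ncard = Nat.card P + 1 := by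
  obtain ⟨P', hP', h1⟩ := h.ne b P hP
  have h2 := h.ncard_fixS hP hP' h1 (K := ∅) (fun _ a => a.elim) fun _ a => a.elim
  rw [show P ⊓ Subgroup.centralizer ∅ = P from inf_eq_left.2 fun _ _ _ a => a.elim] at h2
  simpa using h2

/-- an element which normalises all Sylow subgroups of `E b` centralises `E b` -/
theorem comm_of_fixS {b : Ω} {g : G} (hg : ∀ R, MaxP p (E b) R → cj g R = R) {e : G} (he : e ∈ E b) : g * e = e * g := by
  obtain ⟨P, hP⟩ := h.exS0 b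
  have h1 : E b ≤ Subgroup.centralizer {g} := h.gen b P hP _ fun R hR x hx => by
    have hR' := hP.of_mem_Cjs hR
    obtain ⟨R', h2, h3⟩ := h.ne b R hR'
    exact Subgroup.mem_centralizer_singleton_iff.2
      (h.comm_of_three hR' h2 h3 hx (hg _ hR') (hg _ h2) (hg _ (h.cjS' h2 (h.S_fix hR' hx)))).symm
  exact (Subgroup.mem_centralizer_singleton_iff.1 (h1 he)).symm

theorem nmP_of_le {b : Ω} {P R : Subgroup G} (hP : MaxP p (E b) P) (hR : IsPGroup p R) (h0 : R ≤ stabilizer G b)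
    (h1 : P ≤ R) {g : G} (hg : g ∈ R) : cj g P = P := by
  rw [← hP.max (R ⊓ E b) (hR.to_le inf_le_left) inf_le_right (le_inf h1 hP.le)]
  exact nm_inf (cj_of_mem hg) (h.nmE (h0 hg))

omit h in
theorem X_isP (b : Ω) (P : Subgroup G) : IsPGroup p (Xo T p b P) := (Op_spec _).2.1

omit h in
theorem X_T (b : Ω) (P : Subgroup G) : Xo T p b P ≤ T := (Op_spec _).1.trans (inf_le_left.trans inf_le_left)

omit h in
theorem X_fix (b : Ω) (P : Subgroup G) : Xo T p b P ≤ stabilizer G b :=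
  (Op_spec _).1.trans (inf_le_left.trans inf_le_right)

omit h in
theorem X_nm {b : Ω} {P : Subgroup G} {x : G} (hx : x ∈ Xo T p b P) : cj x P = P := nm_iff.1 ((Op_spec _).1 hx).2

omit h in
theorem le_X {b : Ω} {P R : Subgroup G} (hR : IsPGroup p R) (h1 : R ≤ T) (h2 : R ≤ stabilizer G b)
    (h3 : ∀ x ∈ R, cj x P = P) (h4 : ∀ g ∈ T, g • b = b → cj g P = P → cj g R = R) : R ≤ Xo T p b P :=
  le_Op (fun x hx => ⟨⟨h1 hx, h2 hx⟩, nm_iff.2 (h3 x hx)⟩) hR fun g hg => h4 g hg.1.1 hg.1.2 (nm_iff.1 hg.2)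

theorem S_le_X {b : Ω} {P : Subgroup G} (hP : MaxP p (E b) P) : P ≤ Xo T p b P :=
  le_X hP.isP (h.S_T hP) (h.S_fix hP) (fun _ => cj_of_mem) fun _ _ _ a => a

theorem cj_X (g : G) (b : Ω) (P : Subgroup G) : cj g (Xo T p b P) = Xo T p (g • b) (cj g P) := by
  have := h.A.nrm
  rw [Xo, cj_Op, cj_inf, cj_inf, cj_normal, cj_stab, cj_normalizer, Xo]

theorem nmX {g : G} {b : Ω} {P : Subgroup G} (h1 : g • b = b) (h2 : cj g P = P) : cj g (Xo T p b P) = Xo T p b P := by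
  rw [h.cj_X, h1, h2]

theorem X_inf {b : Ω} {P : Subgroup G} (hP : MaxP p (E b) P) : Xo T p b P ⊓ E b = P :=
  hP.max _ ((X_isP b P).to_le inf_le_left) inf_le_right (le_inf (h.S_le_X hP) hP.le)

theorem nm_of_nmX {b : Ω} {P : Subgroup G} (hP : MaxP p (E b) P) {g : G} (h1 : g • b = b)
    (h2 : cj g (Xo T p b P) = Xo T p b P) : cj g P = P := by
  have h3 := nm_inf h2 (h.nmE h1)
  rwa [h.X_inf hP] at h3

/-- `Fix X = Fix P` -/
theorem X_le_stab {b c : Ω} {P : Subgroup G} (hP : MaxP p (E b) P) (hc : P ≤ stabilizer G c) :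
    Xo T p b P ≤ stabilizer G c := by
  obtain ⟨R, h1, h2, h3⟩ := h.A.exists_S b c hP.isP (h.S_T hP) (h.S_fix hP) hc
  have h4 := h2.le.trans inf_le_right
  exact (h2.le_of_nm (X_isP b P) (le_inf (X_T b P) (X_fix b P)) fun x hx =>
    h.nmX (h4 hx) (h.nmP_of_le hP h2.isP h4 h1 hx)).trans (h3.le.trans inf_le_right)

/-- the overgroup of `D` -/
theorem exists_Q {a : Ω} {D : Subgroup G} (h0 : D ≠ ⊥) (hD : IsPGroup p D) (h1 : D ≤ T) (h2 : D ≤ stabilizer G a)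
    (h3 : ∀ R : Subgroup G, IsPGroup p R → D ≤ R → R ≤ T → R ≤ stabilizer G a → (∀ x ∈ R, cj x D = D) →
      (∀ g, g • a = a → cj g D = D → cj g R = R) → R ≤ D) :
    ∃ Q : Subgroup G, IsPGroup p Q ∧ Q ≤ T ∧ D ≤ Q ∧ (∀ w ∈ Q, cj w D = D) ∧ (∀ g, cj g D = D → cj g Q = Q) ∧ ¬ Q ≤ D ∧
      ∀ w ∈ Q, w • a = a ↔ w ∈ D := by
  obtain ⟨Q, q1, q2, q3, q4, q5⟩ := h.A.gt a D h0 hD h1 h2
  have h4 : ∀ g, cj g D = D → cj g (Q ⊓ Subgroup.normalizer (D : Set G)) = Q ⊓ Subgroup.normalizer (D : Set G) :=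
    fun g hg => nm_inf (q4 g hg) (by rw [cj_normalizer, hg])
  have h5 : D ≤ Q ⊓ Subgroup.normalizer (D : Set G) := le_inf q3 Subgroup.le_normalizer
  refine ⟨Q ⊓ Subgroup.normalizer (D : Set G), q1.to_le inf_le_left, inf_le_left.trans q2, h5, fun w hw => nm_iff.1 hw.2,
    h4, fun e => ?_, fun w hw => ⟨fun e => ?_, fun e => h2 e⟩⟩
  · obtain ⟨w, a1, a2, a3⟩ := exists_nm_of_lt q1 q3 fun e' => q5 (e'.trans h2)
    exact a2 (e ⟨a1, nm_iff.2 a3⟩)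
  · exact h3 (Q ⊓ Subgroup.normalizer (D : Set G) ⊓ stabilizer G a) (q1.to_le (inf_le_left.trans inf_le_left))
      (le_inf h5 h2) (inf_le_left.trans (inf_le_left.trans q2)) inf_le_right (fun x hx => nm_iff.1 hx.1.2)
      (fun g a1 a2 => nm_inf (h4 g a2) (nm_stab a1)) ⟨hw, e⟩

/-- the `Q`-trick -/
theorem semi {a c : Ω} {D Q : Subgroup G} (hD : IsPGroup p D) (h1 : D ≤ T) (h2 : D ≤ stabilizer G a)
    (hc : D ≤ stabilizer G c) (q1 : IsPGroup p Q) (q2 : Q ≤ T) (q4 : ∀ g, cj g D = D → cj g Q = Q)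
    (q5 : ∀ w ∈ Q, w • a = a ↔ w ∈ D)
    (h3 : ∀ R : Subgroup G, IsPGroup p R → D ≤ R → R ≤ T → R ≤ stabilizer G a → ∀ g ∈ R, cj g D = D) :
    ∀ w ∈ Q, w • c = c ↔ w ∈ D := fun w hw => ⟨fun e => by
  obtain ⟨R, r1, r2, r3⟩ := h.A.exists_S a c hD h1 h2 hc
  have h4 := r3.le_of_nm (P := Q ⊓ stabilizer G c) (q1.to_le inf_le_left) (inf_le_inf_right _ q2) fun x hx =>
    nm_inf (q4 x (h3 R r2.isP r1 (r2.le.trans inf_le_left) (r2.le.trans inf_le_right) x hx)) (nm_stab (r3.le hx).2)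
  exact (q5 w hw).1 (r2.le (h4 ⟨hw, e⟩)).2, fun e => hc e⟩

theorem exists_QX {a : Ω} {P : Subgroup G} (hP : MaxP p (E a) P) : ∃ Q, QX T p (Xo T p a P) Q Ω := by
  obtain ⟨Q, q1, q2, q3, q4, q5, q6, q7⟩ := h.exists_Q (a := a) (D := Xo T p a P)
    (fun e => h.ne_bot hP (le_bot_iff.1 (e ▸ h.S_le_X hP))) (X_isP a P) (X_T a P) (X_fix a P)
    fun R r1 r2 r3 r4 r5 r6 => le_X r1 r3 r4 (fun x hx => h.nm_of_nmX hP (r4 hx) (r5 x hx))
      fun g _ a1 a2 => r6 g a1 (h.nmX a1 a2)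
  exact ⟨Q, q1, q2, q3, q4, q5, q6, fun c hc => h.semi (X_isP a P) (X_T a P) (X_fix a P) hc q1 q2 q5 q7
    fun R r1 r2 r3 r4 g hg => h.nmX (r4 hg) (h.nmP_of_le hP r1 r4 ((h.S_le_X hP).trans r2) hg)⟩

end Geo

end Cfsg.Agent.TH.Own.Rk
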