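import Mathlib
import Cfsg.Agent.TH.Own.RkGeo

/-!
# S3541, `BoxRk1`: `E a` fixes only the point `a` (helper90)
-/

set_option autoImplicit false
set_option linter.unusedSectionVars false
set_option linter.unusedVariables false

namespace Cfsg.Agent.TH.Own.Rk

open MulAction

variable {G : Type*} [Group G]

theorem QX.cj {T X Q : Subgroup G} {p : ℕ} {Ω : Type*} [MulAction G Ω] [T.Normal] (q : QX T p X Q Ω) (g : G) :
    QX T p (cj g X) (cj g Q) Ω where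
  isP := isPGroup_cj q.isP g
  leT := (cj_mono g q.leT).trans (cj_normal g T).le
  le := cj_mono g q.le
  nX w hw := nm_cj_iff.2 (q.nX _ (mem_cj.1 hw))
  nQ k hk := nm_cj_iff.2 (q.nQ _ (nm_cj_iff.1 hk))
  ne e := q.ne ((cj_le_cj_iff g).1 e)
  semi c hc w hw := by
    rw [mem_cj, ← q.semi (g⁻¹ • c) (cj_le_stab'.1 hc) _ (mem_cj.1 hw), mul_smul, mul_smul, smul_inv_smul,
      smul_left_cancel_iff]

theorem QX.fix {T X Q : Subgroup G} {p : ℕ} {Ω : Type*} [MulAction G Ω] (q : QX T p X Q Ω) {c : Ω}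
    (hc : X ≤ stabilizer G c) {w : G} (hw : w ∈ Q) : X ≤ stabilizer G (w • c) := le_stab_smul (q.nX w hw) hc

namespace Geo

variable {Ω : Type*} [MulAction G Ω] {T : Subgroup G} {p m : ℕ} {E : Ω → Subgroup G} (h : Geo Ω T p m E)
  [Finite G] [hp : Fact p.Prime]

include h

theorem exists_reg (b : Ω) : ∃ t ∈ E b, ∃ r j : ℕ, r.Prime ∧ r ≠ p ∧ t ^ r ^ j = 1 ∧ ¬ ∀ e ∈ E b, e * t = t * e := by
  obtain ⟨P, hP⟩ := h.exS0 b
  obtain ⟨P', hP', hne⟩ := h.ne b P hP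
  obtain ⟨t, ht, r, j, h1, h2, h3, -, -, h4⟩ := h.reg b P P' hP hP' hne.symm
  obtain ⟨u, hu, h5⟩ := h.exists_ne_one hP
  exact ⟨t, ht, r, j, h1, h2, h3, fun e => h5 (h4 u hu (e u (hP.le hu)))⟩

/-- an element centralised by `E b` modulo a `p`-group which centralises `E b` fixes `b` -/
theorem triv {b : Ω} {V : Subgroup G} (hV : IsPGroup p V) (hc : ∀ x ∈ V, ∀ e ∈ E b, e * x = x * e) {w : G}
    (hw : InC V (E b) w) : w • b = b := by
  have h1 : ∀ e ∈ E b, ∃ x ∈ V, w⁻¹ * e * w = x * e := fun e he => ⟨_, hw e he, by group⟩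
  rcases h.qs (b := b) (N := Subgroup.centralizer {w}) (fun e he k hk hk' => by
    obtain ⟨x, hx, h2⟩ := h1 e he
    have h3 := Subgroup.mem_centralizer_singleton_iff.1 hk
    have h4 := hc x hx _ (mul_mem (mul_mem he hk') (inv_mem he))
    rw [Subgroup.mem_centralizer_singleton_iff]
    calc e * k * e⁻¹ * w = w * ((w⁻¹ * e * w) * (w⁻¹ * (k * w)) * (w⁻¹ * e * w)⁻¹) := by group
      _ = w * (x * (e * k * e⁻¹) * x⁻¹) := by rw [h2, h3]; group
      _ = _ := by rw [← h4]; group) with h2 | h2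
  · exact h.smul_eq (nm_of_comm fun x hx => (Subgroup.mem_centralizer_singleton_iff.1 (h2 hx)).symm)
  · obtain ⟨t, ht, r, j, r1, r2, r3, r4⟩ := h.exists_reg b
    obtain ⟨x, hx, h3⟩ := h1 t ht
    obtain ⟨n, hn⟩ := exists_pow_of_isP hV hx
    have h4 : x ^ r ^ j = 1 := by
      have h5 : (w⁻¹ * t * w⁻¹⁻¹) ^ r ^ j = 1 := by rw [conj_pow, r3]; group
      rwa [inv_inv, h3, Commute.mul_pow (hc x hx t ht).symm, r3, mul_one] at h5
    rw [eq_one_of_pow hp.1 r1 r2 hn h4, one_mul] at h3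
    refine absurd (h2 t (Subgroup.mem_centralizer_singleton_iff.2 ?_) ht) r4
    rw [← inv_mul_eq_iff_eq_mul, ← mul_assoc, h3]

theorem eq_of_E_le {a b : Ω} (e : E a ≤ E b) : b = a := by
  obtain ⟨g, -, rfl⟩ := h.A.trans a b
  rw [h.eqv] at e
  exact h.smul_eq (Subgroup.eq_of_le_of_card_ge e (card_cj g _).le).symm

theorem comm_of_le {a b : Ω} (hab : E a ≤ stabilizer G b) (hne : b ≠ a) {e f : G} (he : e ∈ E a) (hf : f ∈ E b) :
    e * f = f * e := by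
  by_cases hba : E b ≤ stabilizer G a
  · rcases h.qs (b := a) (N := E b) (fun e he x hx _ => nm_conj (h.nmE (hab he)) hx) with h1 | h1
    · exact absurd (h.eq_of_E_le h1) hne
    obtain ⟨P, hP⟩ := h.exS0 a
    have h2 : E a ≤ Subgroup.centralizer {f} := h.gen a P hP _ fun R hR x hx => by
      have hR' := hP.of_mem_Cjs hR
      have h3 : f * x * f⁻¹ * x⁻¹ ∈ E a := mul_mem (nm_conj (h.nmE (hba hf)) (hR'.le hx)) (inv_mem (hR'.le hx))
      have h4 : f * x * f⁻¹ * x⁻¹ ∈ E b := by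
        have h5 := mul_mem hf (nm_conj (h.nmE (hab (hR'.le hx))) (inv_mem hf))
        rwa [← mul_assoc, ← mul_assoc] at h5
      have h5 := h1 _ h4 h3
      obtain ⟨n, hn⟩ := exists_pow_of_isP hR'.isP hx
      have h6 : (f * x * f⁻¹ * x⁻¹) ^ p ^ n = 1 := by
        have h7 : (f * x * f⁻¹ * x⁻¹ * x) ^ p ^ n = 1 := by rw [inv_mul_cancel_right, conj_pow, hn]; group
        rwa [Commute.mul_pow (h5 x (hR'.le hx)).symm, hn, mul_one] at h7
      have h7 := h.opE (isP_zpowers h6) ((Subgroup.zpowers_le).2 h3) fun e he => nm_of_comm fun y hy => by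
        obtain ⟨k, rfl⟩ := hy
        exact (Commute.zpow_right (h5 e he) k)
      rw [Subgroup.zpowers_eq_bot, mul_inv_eq_one, mul_inv_eq_iff_eq_mul] at h7
      exact Subgroup.mem_centralizer_singleton_iff.2 h7.symm
    exact Subgroup.mem_centralizer_singleton_iff.1 (h2 he)
  · obtain ⟨U, hU, h1⟩ := h.exS b a
    have h2 : ∀ e ∈ E a, cj e U = U := fun e he => h.nm_of_uniq hba hU h1 (hab he) (h.fix a he)
    have h3 : ∀ e ∈ E a, ∀ u ∈ U, e * u = u * e := fun e he u hu => h.comm_of_nm hU.isP h1 h2 hu he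
    obtain ⟨t, ht, r, j, r1, r2, r3, r4⟩ := h.exists_reg a
    have := Fact.mk r1
    have h4 := @modEq_fix G _ _ (cjAct G) r _ _ (isP_zpowers r3) ({R | MaxP p (E b) R} \ {U}) (Set.toFinite _)
      fun g hg R hR => by
        have h5 : g ∈ E a := (Subgroup.zpowers_le).2 ht hg
        exact ⟨h.cjS' hR.1 (hab h5), h.cj_ne (b := b) hR.2 (h2 g h5)⟩
    have h5 := Set.ncard_sdiff_singleton_add_one (s := {R | MaxP p (E b) R}) (a := U) hU
    obtain ⟨n, hn⟩ := card_eq_pow hU.isP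
    rw [h.ncard_S hU, Nat.add_right_cancel_iff, hn] at h5
    rw [h5] at h4
    obtain ⟨P', h6, h7⟩ : (({R | MaxP p (E b) R} \ {U}) ∩ @Fx G _ _ (cjAct G) (Subgroup.zpowers t)).Nonempty := by
      rw [← Set.ncard_pos (Set.toFinite _)]
      refine Nat.pos_of_ne_zero fun e => ?_
      rw [e] at h4
      exact r2 ((Nat.prime_dvd_prime_iff_eq r1 hp.1).1 (r1.dvd_of_dvd_pow ((Nat.modEq_zero_iff_dvd).1 h4)))
    have h8 : cj t P' = P' := h7 (Subgroup.mem_zpowers t)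
    have h9 : ∀ g : G, g ∈ ⨅ R ∈ {R | MaxP p (E b) R}, Subgroup.normalizer (R : Set G) ↔
        ∀ R, MaxP p (E b) R → cj g R = R := fun g => by
      simp only [Subgroup.mem_iInf, nm_iff, Set.mem_ofPred_eq]
    rcases h.qs (b := a) (N := ⨅ R ∈ {R | MaxP p (E b) R}, Subgroup.normalizer (R : Set G)) (fun e he x hx _ =>
      (h9 _).2 fun R hR => by
        rw [cj_mul, cj_mul, (h9 x).1 hx _ (h.cjS' hR (hab (inv_mem he))), cj_cj_inv]) with h10 | h10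
    · exact h.comm_of_fixS ((h9 e).1 (h10 he)) hf
    · refine absurd (h10 t ((h9 t).2 fun R hR => ?_) ht) r4
      by_cases e1 : R = U
      · rw [e1]; exact h2 t ht
      obtain ⟨u, hu, rfl⟩ := h.exists_cj hU h6.1 hR h6.2 e1
      exact nm_cj_of_comm h8 (h3 t ht u hu)

theorem sym {a b : Ω} (hab : E a ≤ stabilizer G b) : E b ≤ stabilizer G a := by
  by_cases e : b = a
  · rw [e]; exact h.fix a
  · exact fun f hf => h.smul_eq (nm_of_comm fun x hx => (h.comm_of_le hab e hx hf).symm)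

theorem iv_aux {a : Ω} {X Q : Subgroup G} (q : QX T p X Q Ω) (hX : X ≤ stabilizer G a) {t : G} (ht : t ∈ E a) {r j : ℕ}
    (r1 : r.Prime) (r2 : r ≠ p) (r3 : t ^ r ^ j = 1) (h1 : cj t X = X) {w : G} (hw : w ∈ Q) (h2 : t • w • a = w • a) :
    ∃ c ∈ Q, t * c = c * t ∧ c • a = w • a := by
  obtain ⟨x, hx, h3⟩ := exists_fixed r1 r2 r3 (q.isP.to_le q.le) h1
    ((inC_iff (q.semi a hX) (h.fix a ht) (q.nQ t h1) hw).2 h2)
  exact ⟨w * x, mul_mem hw (q.le hx), h3, by rw [mul_smul, hX hx]⟩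

/-- some element of `N_E(U)` moves a point of the orbit `Q a` -/
theorem iv {a : Ω} {U Q : Subgroup G} (hU : MaxP p (E a) U) (q : QX T p (Xo T p a U) Q Ω)
    (h3 : 3 ≤ (Orb Q a).ncard) : ∃ s ∈ E a, cj s U = U ∧ ∃ w ∈ Q, s • w • a ≠ w • a := by
  by_contra hcon
  have hc : ∀ s ∈ E a, cj s U = U → ∀ w ∈ Q, s • w • a = w • a := fun s a1 a2 w a3 =>
    by_contra fun e => hcon ⟨s, a1, a2, w, a3, e⟩
  have := h.A.nrm
  obtain ⟨U', hU', hne⟩ := h.ne a U hU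
  obtain ⟨e, he, rfl⟩ := hU.exists_eq hU'
  obtain ⟨t, ht, r, j, r1, r2, r3, t1, t2, t3⟩ := h.reg a U _ hU hU' hne.symm
  have ea : e • a = a := h.fix a he
  have q' := q.cj e
  rw [h.cj_X, ea] at q'
  have hc' : ∀ w ∈ cj e Q, t • w • a = w • a := fun w hw => by
    have h4 := hc (e⁻¹ * t * e) (mul_mem (mul_mem (inv_mem he) ht) he) (nm_cj_iff.1 t2) _ (mem_cj.1 hw)
    rwa [← mul_smul, show e⁻¹ * t * e * (e⁻¹ * w * e) = e⁻¹ * (t * w * e) by group, mul_smul, mul_smul, mul_smul,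
      mul_smul, mul_smul, ea, smul_left_cancel_iff] at h4
  obtain ⟨u, hu, hu1⟩ := h.exists_ne_one hU
  have H : ∀ {X' Q' : Subgroup G} (q : QX T p X' Q' Ω), X' ≤ stabilizer G a → cj t X' = X' → ∀ w ∈ Q',
      t • w • a = w • a → E a ≤ stabilizer G (w • a) → w • a = a := fun q a1 a2 w hw a3 a4 => by
    by_contra a5
    obtain ⟨c, -, c1, c2⟩ := h.iv_aux q a1 ht r1 r2 r3 a2 hw a3
    refine hu1 (t3 u hu (h.comm_of_le a4 a5 (hU.le hu) ?_))
    rw [← c2, h.eqv, mem_cj, mul_assoc, c1, inv_mul_cancel_left]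
    exact ht
  have tX := h.nmX (h.fix a ht) t1
  have tX' := h.nmX (h.fix a ht) t2
  have H1 := fun w hw => H q (X_fix a U) tX w hw (hc t ht t1 w hw)
  have H2 := fun w hw => H q' (X_fix a _) tX' w hw (hc' w hw)
  have D1 : ∀ c : Ω, t • c = c → ¬ cj e U ≤ stabilizer G c → Xo T p a U ≤ stabilizer G c := fun c c1 c2 => by
    obtain ⟨P, hP, c3⟩ := h.exS a c
    have c4 := h.nm_of_uniq (fun c5 => c2 (hU'.le.trans c5)) hP c3 (h.fix a ht) c1
    by_cases c5 : P = U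
    · exact h.X_le_stab hU (c5 ▸ c3)
    obtain ⟨v, hv, rfl⟩ := h.exists_cj hU hU' hP hne c5
    rw [t3 v hv (h.comm_of_three hU hU' hne hv t1 t2 c4).symm, cj_one] at c3
    exact absurd c3 c2
  have D2 : ∀ w ∈ Q, w • a ≠ a → ¬ cj e U ≤ stabilizer G (w • a) := fun w hw c1 c2 =>
    c1 (H1 w hw (h.le_of_two hU hU' hne.symm ((h.S_le_X hU).trans (q.fix (X_fix a U) hw)) c2))
  obtain ⟨w₀, w1, w2⟩ := SetLike.not_le_iff_exists.1 q'.ne
  obtain ⟨c, c1, c2, c3⟩ := h.iv_aux q' (X_fix a _) ht r1 r2 r3 tX' w1 (hc' w₀ w1)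
  have c4 : c • a ≠ a := fun e' => w2 ((q'.semi a (X_fix a _) w₀ w1).1 (c3 ▸ e'))
  have D3 : ∀ x ∈ Xo T p a U, ∀ w ∈ Q, w • a ≠ a → (c * x * c⁻¹) • w • a = w • a := fun x hx w hw a1 => by
    have a2 := D1 (c⁻¹ • w • a) (by
      rw [← mul_smul, show t * c⁻¹ = c⁻¹ * t by rw [mul_inv_eq_iff_eq_mul, mul_assoc, c2, inv_mul_cancel_left],
        mul_smul, hc t ht t1 w hw]) fun a3 => D2 w hw a1 (by
      have a4 := q'.fix (h.X_le_stab hU' a3) c1
      rw [smul_inv_smul] at a4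
      exact (h.S_le_X hU').trans a4)
    rw [mul_smul, mul_smul, a2 hx, smul_inv_smul]
  have h4 := Set.ncard_sdiff_singleton_add_one (s := Orb Q a) (a := a) (self_mem_Orb Q a) (finite_Orb Q a)
  obtain ⟨_, ⟨⟨w₁, a1, rfl⟩, a2⟩, _, ⟨⟨w₂, a3, rfl⟩, a4⟩, a5⟩ :=
    (Set.one_lt_ncard (s := Orb Q a \ {a}) ((finite_Orb Q a).subset Set.sdiff_subset)).1 (by omega)
  have D4 : ∀ x ∈ Xo T p a U, (c * x * c⁻¹) • a = a := fun x hx => by
    have b1 := D3 x hx w₁ a1 a2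
    have b2 : cj (c * x * c⁻¹) (cj w₁ U) = cj w₁ U := h.nm_of_uniq (fun b3 => a5 (by
        rw [h.eqv, cj_le_stab', ← mul_smul] at b3
        have b4 := H1 _ (mul_mem (inv_mem a1) a3) b3
        rw [mul_smul, inv_smul_eq_iff] at b4
        exact b4.symm)) (h.cjS hU w₁)
      (((cj_mono w₁ (h.S_le_X hU)).trans (q.nX w₁ a1).le).trans (q.fix (X_fix a U) a3)) b1 (D3 x hx w₂ a3 a4)
    have b3 := h.nmX b1 b2
    rw [← h.cj_X, q.nX w₁ a1] at b3
    have b4 : (c * x * c⁻¹) • a = ((c * x * c⁻¹) * w₁⁻¹ * (c * x * c⁻¹)⁻¹ * w₁) • a := by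
      rw [mul_smul _ w₁, mul_smul _ (c * x * c⁻¹)⁻¹, inv_smul_eq_iff.2 b1.symm, mul_smul _ w₁⁻¹, inv_smul_smul]
    by_contra b5
    have b6 := D3 x hx _ (mul_mem (nm_conj (q.nQ _ b3) (inv_mem a1)) a1) (b4 ▸ b5)
    rw [← b4, smul_left_cancel_iff] at b6
    exact b5 b6
  have h5 : U ≤ stabilizer G (c⁻¹ • a) := fun x hx => by
    have b1 := D4 x (h.S_le_X hU hx)
    rw [mul_smul, mul_smul, ← eq_inv_smul_iff] at b1
    exact b1
  have h6 := H2 c⁻¹ (inv_mem c1) (h.le_of_two hU hU' hne.symm h5 ((h.S_le_X hU').trans (q'.fix (X_fix a _) (inv_mem c1))))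
  exact c4 (inv_smul_eq_iff.1 h6).symm

theorem nS_eq {b : Ω} {P : Subgroup G} (hP : MaxP p (E b) P) : nS (E b) P = Nat.card P + 1 := by
  rw [nS, h.setS_eq hP, h.ncard_S hP]

/-- the module `Q / V` for `E b` -/
theorem md {b : Ω} {P V Q : Subgroup G} (hP : MaxP p (E b) P) (q1 : IsPGroup p Q) (q2 : V ≤ Q) (q3 : ∀ w ∈ Q, cj w V = V)
    (q4 : ∀ g, cj g V = V → cj g Q = Q) (q5 : ¬ Q ≤ V) (q6 : ∀ w ∈ Q, w • b = b ↔ w ∈ V)
    (hc : ∀ x ∈ V, ∀ e ∈ E b, e * x = x * e) : Md p (E b) P V Q :=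
  have h1 : ∀ d ∈ E b, cj d V = V := fun d hd => nm_of_comm fun x hx => hc x hx d hd
  { le := q2
    isP := q1
    nV := q3
    dQ := fun d hd => q4 d (h1 d hd)
    dV := h1
    mx := hP
    spl := h.spl b P hP
    gen := h.gen b P hP
    cov := fun w hw => by
      obtain ⟨R, r1, r2⟩ := h.exS b (w • b)
      exact ⟨R, hP.mem_Cjs r1, fun x hx =>
        (inC_iff q6 (h.S_fix r1 hx) (q4 x (h1 x (r1.le hx))) hw).2 (r2 hx)⟩
    triv := fun w hw a => (q6 w hw).1 (h.triv (q1.to_le q2) hc a)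
    ne := q5 }

theorem affine {b c : Ω} {P V Q : Subgroup G} (d : Md p (E b) P V Q) (hc : ∀ w ∈ Q, w • c = c ↔ w ∈ V) :
    ∃ w ∈ Q, E b ≤ stabilizer G (w • c) :=
  d.affine hc fun w _ => by
    obtain ⟨R, r1, r2⟩ := h.exS b (w • c)
    exact ⟨R, d.mx.mem_Cjs r1, r2⟩

theorem tr {a b b' : Ω} (hb : E a ≤ stabilizer G b) (hb' : E a ≤ stabilizer G b') (hne : b' ≠ a) :
    E b' ≤ stabilizer G b := by
  obtain ⟨U, hU⟩ := h.exS0 a
  obtain ⟨Q, q⟩ := h.exists_QX hU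
  obtain ⟨P, hP⟩ := h.exS0 b'
  have h1 : ∀ e ∈ E a, ∀ f ∈ E b', e * f = f * e := fun e he f hf => h.comm_of_le hb' hne he hf
  have h2 := h.X_le_stab hU (hU.le.trans hb)
  have h3 := h.X_le_stab hU (hU.le.trans hb')
  have d := h.md hP q.isP q.le q.nX q.nQ q.ne (q.semi b' h3) fun x hx f hf =>
    h.comm_of_nm (X_isP a U) h3 (fun f hf => h.nmX (h.sym hb' hf) (nm_of_comm fun u hu => (h1 u (hU.le hu) f hf).symm)) hx hf
  obtain ⟨n, n0, hn⟩ := d.exists_pow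
  have h4 : 1 < p ^ n := Nat.one_lt_pow n0.ne' hp.1.one_lt
  obtain ⟨s, s1, s2, w, w1, w2⟩ := h.iv hU q (by
    rw [Md.ncard_Orb q.le (q.semi a (X_fix a U)), (d.card hn).1]
    nlinarith)
  have s3 := h.nmX (h.fix a s1) s2
  have s4 := q.nQ s s3
  have h5 : Cm q.nX {s} ≤ Xo T p a U :=
    (d.irr (Cm_le _ _) (le_Cm q.nX q.le fun x hx => by rwa [Set.mem_singleton_iff.1 hx]) fun f hf v hv =>
      ⟨nm_conj (d.dQ f hf) hv.1, fun x hx => by
        rw [Set.mem_singleton_iff.1 hx]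
        have h6 := nm_conj (d.dV f hf) (hv.2 s rfl)
        have h7 := h1 s s1 f hf
        rwa [show f * (v⁻¹ * (s * v * s⁻¹)) * f⁻¹ = f * v⁻¹ * f⁻¹ * ((f * s) * v * (f * s)⁻¹) by group, ← h7,
          show f * v⁻¹ * f⁻¹ * ((s * f) * v * (s * f)⁻¹) = (f * v * f⁻¹)⁻¹ * (s * (f * v * f⁻¹) * s⁻¹) by group] at h6⟩).resolve_right
      fun e => w2 ((inC_iff (q.semi a (X_fix a U)) (h.fix a s1) s4 w1).1 ((e w1).2 s rfl))
  obtain ⟨v, v1, v2⟩ := h.affine d (q.semi b h2)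
  have h6 : E b' ≤ stabilizer G ((s * v * s⁻¹ * v⁻¹) • v • b) := fun f hf => by
    show f • _ = _
    rw [mul_smul, inv_smul_smul, mul_smul, inv_smul_eq_iff.2 (hb s1).symm, mul_smul, ← mul_smul f, ← h1 s s1 f hf,
      mul_smul, v2 hf]
  have h7 : s * v * s⁻¹ * v⁻¹ ∈ Q := mul_mem (nm_conj s4 v1) (inv_mem v1)
  have h8 := d.semi_smul (q.semi b h2) v1
  have h9 := (h8 _ h7).2 (d.triv _ h7 fun f hf => (inC_iff h8 (v2 hf) (d.dQ f hf) h7).2 (h6 hf))
  rw [mul_smul, inv_smul_smul, mul_smul, inv_smul_eq_iff.2 (hb s1).symm, mul_smul] at h9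
  have h10 : v ∈ Xo T p a U := h5 ⟨v1, fun x hx => by
    rw [Set.mem_singleton_iff.1 hx]
    exact (inC_iff (q.semi b h2) (hb s1) s4 v1).2 h9⟩
  rwa [h2 h10] at v2

/-- `E a` fixes only `a` -/
theorem phi {a b : Ω} (hb : E a ≤ stabilizer G b) : b = a := by
  have h1 : ∀ {x y z : Ω}, E x ≤ stabilizer G y → E y ≤ stabilizer G z → E x ≤ stabilizer G z := fun {x y z} a1 a2 => by
    by_cases e : x = y
    · rwa [e]
    · exact h.tr a2 (h.sym a1) e
  let K : Subgroup G :=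
    { carrier := {g | E a ≤ stabilizer G (g • a)}
      one_mem' := by show E a ≤ stabilizer G ((1 : G) • a); rw [one_smul]; exact h.fix a
      mul_mem' := fun {g k} hg hk => h1 hg (by rw [h.eqv, mul_smul]; exact cj_le_stab.2 hk)
      inv_mem' := fun {g} hg => h.sym (by rw [h.eqv, cj_le_stab', inv_inv]; exact hg) }
  have h2 : stabilizer G a ≤ K := fun g hg => by show E a ≤ stabilizer G (g • a); rw [hg]; exact h.fix a
  obtain ⟨g, -, rfl⟩ := h.A.trans a b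
  by_contra e
  have h3 := (h.A.max a).2 K (lt_of_le_of_ne h2 fun e' => e (show g ∈ stabilizer G a from e' ▸ hb))
  refine h.E_ne_bot a (h.A.eq_bot_of_fix fun c => ?_)
  obtain ⟨k, -, rfl⟩ := h.A.trans a c
  exact (h3 ▸ Subgroup.mem_top k : k ∈ K)

end Geo

end Cfsg.Agent.TH.Own.Rk
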