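import Mathlib
import Cfsg.Agent.TH.Own.RkPhi

/-!
# S3541, `BoxRk1`: `p ∤ |C_T(E)|`, no bad points, `X = U` (helper90)
-/

set_option autoImplicit false
set_option linter.unusedSectionVars false
set_option linter.unusedVariables false

namespace Cfsg.Agent.TH.Own.Rk

open MulAction

variable {G : Type*} [Group G]

theorem mem_of_coprime {H : Subgroup G} {x : G} {a b : ℕ} (h : a.Coprime b) (h1 : x ^ a ∈ H) (h2 : x ^ b ∈ H) : x ∈ H := by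
  have h3 : x = (x ^ a) ^ Nat.gcdA a b * (x ^ b) ^ Nat.gcdB a b := by
    rw [← zpow_natCast, ← zpow_natCast, ← zpow_mul, ← zpow_mul, ← zpow_add, ← Nat.gcd_eq_gcd_ab, h.gcd_eq_one]
    simp
  rw [h3]
  exact mul_mem (zpow_mem h1 _) (zpow_mem h2 _)

theorem nm_pow {g : G} {K : Subgroup G} (h : cj g K = K) (n : ℕ) : cj (g ^ n) K = K :=
  nm_iff.1 (pow_mem (nm_iff.2 h) n)

theorem mem_cen {K : Set G} {x : G} : x ∈ Subgroup.centralizer K ↔ ∀ k ∈ K, k * x = x * k := Iff.rfl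

theorem nm_cen {K : Subgroup G} {g : G} (h : cj g K = K) :
    cj g (Subgroup.centralizer (K : Set G)) = Subgroup.centralizer (K : Set G) := by rw [cj_centralizer, h]

/-- a `p`-group which normalises a non-trivial `p`-group centralises a non-trivial element -/
theorem inf_cen_ne_bot [Finite G] {p : ℕ} [hp : Fact p.Prime] {U R : Subgroup G} (hU : IsPGroup p U) (hR : IsPGroup p R)
    (h0 : U ≠ ⊥) (h1 : ∀ x ∈ R, cj x U = U) : U ⊓ Subgroup.centralizer (R : Set G) ≠ ⊥ := fun e => by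
  have h2 := @modEq_fix G _ G (cAct G) p _ _ hR (U : Set G) (Set.toFinite _) fun g hg v hv => nm_conj (h1 g hg) hv
  have h3 : (U : Set G) ∩ @Fx G _ G (cAct G) R = {1} := by
    ext v
    constructor
    · rintro ⟨a1, a2⟩
      exact Subgroup.mem_bot.1 (e ▸ (⟨a1, fun k hk => mul_inv_eq_iff_eq_mul.1 (a2 hk)⟩ :
        v ∈ U ⊓ Subgroup.centralizer (R : Set G)))
    · rintro rfl
      exact ⟨one_mem U, fun k _ => by show k * 1 * k⁻¹ = 1; simp⟩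
  obtain ⟨n, hn⟩ := card_eq_pow hU
  rw [h3, Set.ncard_singleton, ← Nat.card_coe_set_eq, SetLike.coe_sort_coe, hn] at h2
  have h4 : n ≠ 0 := fun a => h0 (Subgroup.card_eq_one.1 (by rw [hn, a, pow_zero]))
  exact hp.1.one_lt.ne' (Nat.dvd_one.1 ((h2.dvd_iff dvd_rfl).1 (dvd_pow_self p h4)))

theorem one_lt_card_of_ne_bot [Finite G] {K : Subgroup G} (h : K ≠ ⊥) : 1 < Nat.card K := (Subgroup.one_lt_card_iff_ne_bot K).2 h

namespace Geo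

variable {Ω : Type*} [MulAction G Ω] {T : Subgroup G} {p m : ℕ} {E : Ω → Subgroup G} (h : Geo Ω T p m E)
  [Finite G] [hp : Fact p.Prime]

include h

theorem uniq' {b c : Ω} (hc : c ≠ b) {P P' : Subgroup G} (hP : MaxP p (E b) P) (hP' : MaxP p (E b) P')
    (h1 : P ≤ stabilizer G c) (h2 : P' ≤ stabilizer G c) : P = P' := h.uniq (fun e => hc (h.phi e)) hP hP' h1 h2

theorem nm' {b c : Ω} (hc : c ≠ b) {P : Subgroup G} (hP : MaxP p (E b) P) (h1 : P ≤ stabilizer G c) {g : G}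
    (hb : g • b = b) (hg : g • c = c) : cj g P = P := h.nm_of_uniq (fun e => hc (h.phi e)) hP h1 hb hg

/-- a non-trivial element of `P` fixes only the points fixed by `P` -/
theorem fix_of_mem {b c : Ω} {P : Subgroup G} (hP : MaxP p (E b) P) {u : G} (hu : u ∈ P) (h1 : u ≠ 1) (hc : u • c = c) :
    P ≤ stabilizer G c := by
  by_cases e : c = b
  · rw [e]; exact h.S_fix hP
  obtain ⟨R, r1, r2⟩ := h.exS b c
  rwa [h.eq_of_nm hP r1 hu h1 (h.nm' e r1 r2 (h.S_fix hP hu) hc)] at r2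

theorem two_of_md {a : Ω} {D P V Q P₀ : Subgroup G} (d : Md p D P V Q) (hD : D ≤ stabilizer G a)
    (hV : V ≤ stabilizer G a) (p1 : IsPGroup p P₀) (p2 : P₀ ≤ T) (p3 : P₀ ≤ stabilizer G a)
    (p4 : ∀ b, b ≠ a → P₀ ≤ stabilizer G b → b ∈ Orb (Cm d.nV P) a) : False :=
  h.A.not_trans p1 p2 p3 fun b c hb hc b1 c1 => by
    obtain ⟨z, hz, rfl⟩ := p4 b hb b1
    obtain ⟨z', hz', rfl⟩ := p4 c hc c1
    obtain ⟨g, g1, -, g2⟩ := d.trans hz (fun e => hb (hV e)) hz' fun e => hc (hV e)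
    refine ⟨g, hD g1, ?_⟩
    have h1 : (z'⁻¹ * (g * z * g⁻¹)) • a = a := hV g2
    rwa [mul_smul, inv_smul_eq_iff, mul_smul, mul_smul, inv_smul_eq_iff.2 (hD g1).symm] at h1

/-- `p ∤ |C_T(E)|` -/
theorem nopc {a : Ω} {g : G} (hg : g ∈ T) {n : ℕ} (hn : g ^ p ^ n = 1) (hc : ∀ e ∈ E a, e * g = g * e) : g = 1 := by
  by_contra h0
  have := h.A.nrm
  obtain ⟨S, s1, hS⟩ := exists_maxP (L := T ⊓ Subgroup.centralizer (E a : Set G)) (isP_zpowers hn)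
    ((Subgroup.zpowers_le).2 ⟨hg, hc⟩)
  have s2 : ∀ x ∈ S, ∀ e ∈ E a, e * x = x * e := fun x hx => (hS.le hx).2
  have s3 : S ≤ stabilizer G a := fun x hx => h.smul_eq (nm_of_comm fun e he => (s2 x hx e he).symm)
  have s4 : S ≤ T := hS.le.trans inf_le_left
  obtain ⟨Q, q1, q2, q3, q4, q5, q6, q7⟩ := h.exists_Q (a := a) (D := S)
    (fun e => h0 (Subgroup.mem_bot.1 (e ▸ s1 (Subgroup.mem_zpowers g)))) hS.isP s4 s3 fun R r1 r2 r3 r4 _ r6 =>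
      (hS.max R r1 (fun x hx => ⟨r3 hx, fun e he => h.comm_of_nm r1 r4
        (fun e he => r6 e (h.fix a he) (nm_of_comm fun y hy => s2 y hy e he)) hx he⟩) r2).le
  obtain ⟨U, hU⟩ := h.exS0 a
  have d := h.md hU q1 q3 q4 q5 q6 q7 s2
  refine h.two_of_md d (h.fix a) s3 (P₀ := S ⊔ U) (isP_sup hS.isP hU.isP fun x hx =>
    nm_of_comm fun u hu => (s2 x hx u (hU.le hu)).symm) (sup_le s4 (h.S_T hU)) (sup_le s3 (h.S_fix hU)) fun b _ b1 => ?_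
  obtain ⟨w, w1, w2⟩ := h.affine d (h.semi hS.isP s4 s3 (le_sup_left.trans b1) q1 q2 q5 q7 fun R r1 r2 r3 r4 k hk => by
    rw [← hS.max (R ⊓ (T ⊓ Subgroup.centralizer (E a : Set G))) (r1.to_le inf_le_left) inf_le_right (le_inf r2 hS.le)]
    exact nm_inf (cj_of_mem hk) (nm_inf (cj_normal k T) (nm_cen (h.nmE (r4 hk)))))
  rw [d.Orb_Cm q7 (h.S_fix hU)]
  exact ⟨⟨w⁻¹, inv_mem w1, inv_smul_eq_iff.2 (h.phi w2).symm⟩, le_sup_right.trans b1⟩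

/-- the stabiliser in `E` of two Sylow subgroups has order prime to `p` -/
theorem coprime_of_two {a : Ω} {U U' : Subgroup G} (hU : MaxP p (E a) U) (hU' : MaxP p (E a) U') (hne : U' ≠ U) {s : G}
    (hs : s ∈ E a) (h1 : cj s U = U) (h2 : cj s U' = U') : ¬ p ∣ orderOf s := fun ⟨k, hk⟩ => by
  have h3 : (s ^ k) ^ p ^ 1 = 1 := by rw [pow_one, ← pow_mul, mul_comm, ← hk, pow_orderOf_eq_one]
  have h4 := h.eq_one_of_mem hU' hU hne (hU'.mem_of_nm h3 (pow_mem hs k) (nm_pow h2 k))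
    (hU.mem_of_nm h3 (pow_mem hs k) (nm_pow h1 k))
  have h5 := orderOf_pos s
  have h6 : 0 < k := Nat.pos_of_ne_zero fun e => by rw [e] at hk; omega
  have h7 := Nat.le_of_dvd h6 (orderOf_dvd_of_pow_eq_one h4)
  have := hp.1.two_le
  nlinarith

theorem nm_all {a : Ω} {U U' : Subgroup G} (hU : MaxP p (E a) U) (hU' : MaxP p (E a) U') (hne : U' ≠ U) {k : G}
    (h1 : ∀ u ∈ U, k * u = u * k) (h2 : cj k U' = U') {R : Subgroup G} (hR : MaxP p (E a) R) : cj k R = R := by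
  by_cases e : R = U
  · rw [e]; exact nm_of_comm h1
  obtain ⟨u, hu, rfl⟩ := h.exists_cj hU hU' hR hne e
  exact nm_cj_of_comm h2 (h1 u hu)

/-- a `p`-element of `T_a` which centralises `U` lies in `U` -/
theorem mem_of_comm {a : Ω} {U : Subgroup G} (hU : MaxP p (E a) U) {g : G} (g1 : g ∈ T) (g2 : g • a = a) {n : ℕ}
    (g3 : g ^ p ^ n = 1) (g4 : ∀ x ∈ U, g * x = x * g) : g ∈ U := by
  obtain ⟨U', hU', hne⟩ := h.ne a U hU
  obtain ⟨t, ht, r, j, r1, r2, r3, t1, t2, t3⟩ := h.reg a U _ hU hU' hne.symm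
  obtain ⟨u, hu, h1⟩ := h.exists_cj hU hU' (h.cjS' hU' g2) hne (h.cj_ne (b := a) hne (nm_of_comm g4))
  have k1 : cj (u⁻¹ * g) U = U := nm_mul (cj_of_mem (inv_mem hu)) (nm_of_comm g4)
  have k2 : cj (u⁻¹ * g) U' = U' := by rw [cj_mul, ← h1, cj_inv_cj]
  have k3 : (u⁻¹ * g) • a = a := by rw [mul_smul, g2]; exact h.S_fix hU (inv_mem hu)
  have s0 : (u⁻¹ * g) * t * (u⁻¹ * g)⁻¹ * t⁻¹ ∈ E a := mul_mem (nm_conj (h.nmE k3) ht) (inv_mem ht)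
  have s1 := h.coprime_of_two hU hU' hne s0 (nm_mul (nm_mul (nm_mul k1 t1) (nm_inv k1)) (nm_inv t1))
    (nm_mul (nm_mul (nm_mul k2 t2) (nm_inv k2)) (nm_inv t2))
  have u1 : u⁻¹ * (t * u * t⁻¹) ∈ U := mul_mem (inv_mem hu) (nm_conj t1 hu)
  have s2 : g * (t * g⁻¹ * t⁻¹) ∈ Subgroup.centralizer (U : Set G) := by
    refine mul_mem (fun x hx => (g4 x hx).symm) ?_
    exact nm_conj (nm_cen t1) (inv_mem fun x hx => (g4 x hx).symm)
  have s3 : (u⁻¹ * g) * t * (u⁻¹ * g)⁻¹ * t⁻¹ = u⁻¹ * (t * u * t⁻¹) * (g * (t * g⁻¹ * t⁻¹)) := by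
    rw [mul_assoc u⁻¹ (t * u * t⁻¹), s2 _ (nm_conj t1 hu)]
    group
  obtain ⟨i, hi⟩ := exists_pow_of_isP hU.isP u1
  have s4 : u⁻¹ * (t * u * t⁻¹) ∈ Subgroup.centralizer (U : Set G) := by
    refine mem_of_coprime (Nat.Coprime.pow_left i ((Nat.Prime.coprime_iff_not_dvd hp.1).2 s1)) (hi ▸ one_mem _) ?_
    have s5 := pow_orderOf_eq_one ((u⁻¹ * g) * t * (u⁻¹ * g)⁻¹ * t⁻¹)
    generalize orderOf ((u⁻¹ * g) * t * (u⁻¹ * g)⁻¹ * t⁻¹) = o at s5 ⊢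
    rw [s3, Commute.mul_pow (s2 _ u1), mul_eq_one_iff_eq_inv] at s5
    rw [s5]
    exact inv_mem (pow_mem s2 o)
  obtain ⟨z, hz, h2⟩ := exists_fixed r1 r2 r3 (X := U ⊓ Subgroup.centralizer (U : Set G)) (hU.isP.to_le inf_le_left)
    (nm_inf t1 (nm_cen t1)) (w := u) ⟨u1, s4⟩
  have h3 : u⁻¹ = z := inv_eq_of_mul_eq_one_right (t3 _ (mul_mem hu hz.1) h2.symm)
  rw [h3] at k2
  obtain ⟨l, hl⟩ := exists_pow_of_isP hU.isP hz.1
  have h4 := h.nopc (a := a) (g := z * g) (mul_mem (h.S_T hU hz.1) g1) (n := l + n) (by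
    rw [Commute.mul_pow (g4 z hz.1).symm, pow_add, pow_mul, hl, one_pow, one_mul, mul_comm, pow_mul, g3, one_pow])
    fun e he => (h.comm_of_fixS (fun R hR => h.nm_all hU hU' hne (fun x hx => by
      rw [mul_assoc, g4 x hx, ← mul_assoc, ← hz.2 x hx, mul_assoc]) k2 hR) he).symm
  rw [← inv_eq_of_mul_eq_one_right h4]
  exact inv_mem hz.1

theorem nb0 {a b : Ω} (hne : b ≠ a) {U U₁ : Subgroup G} (hU : MaxP p (E a) U) (hU₁ : MaxP p (E b) U₁)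
    (h1 : U ≤ stabilizer G b) (h2 : U₁ ≤ stabilizer G a) : ∃ y ∈ U, y ∈ U₁ ∧ y ≠ 1 := by
  by_contra hcon
  obtain ⟨g, g1, g2⟩ := h.exists_ne_one hU₁
  obtain ⟨n, hn⟩ := exists_pow_of_isP hU₁.isP g1
  refine hcon ⟨g, h.mem_of_comm hU (h.S_T hU₁ g1) (h2 g1) hn fun x hx => ?_, g1, g2⟩
  by_contra e
  refine hcon ⟨g * x * g⁻¹ * x⁻¹, mul_mem (nm_conj (h.nm' hne hU h1 (h2 g1) (h.S_fix hU₁ g1)) hx) (inv_mem hx), ?_,
    fun e' => e (mul_inv_eq_iff_eq_mul.1 (mul_inv_eq_one.1 e'))⟩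
  have h3 := mul_mem g1 (nm_conj (h.nm' hne.symm hU₁ h2 (h1 hx) (h.S_fix hU hx)) (inv_mem g1))
  rwa [← mul_assoc, ← mul_assoc] at h3

theorem fx_eq {a b : Ω} (hne : b ≠ a) {U U₁ : Subgroup G} (hU : MaxP p (E a) U) (hU₁ : MaxP p (E b) U₁)
    (h1 : U ≤ stabilizer G b) (h2 : U₁ ≤ stabilizer G a) : (Fx U₁ : Set Ω) = Fx U := by
  obtain ⟨y, y1, y2, y3⟩ := h.nb0 hne hU hU₁ h1 h2
  exact Set.ext fun c => ⟨fun e => h.fix_of_mem hU y1 y3 (e y2), fun e => h.fix_of_mem hU₁ y2 y3 (e y1)⟩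

/-- no bad points -/
theorem nb {a b : Ω} (hne : b ≠ a) {U U₁ : Subgroup G} (hU : MaxP p (E a) U) (hU₁ : MaxP p (E b) U₁)
    (h1 : U ≤ stabilizer G b) (h2 : U₁ ≤ stabilizer G a) : Xo T p b U₁ ≤ Xo T p a U := by
  have := h.A.nrm
  have h3 : ∀ g : G, g ∈ T ⊓ ⨅ c ∈ (Fx U : Set Ω), stabilizer G c ↔ g ∈ T ∧ ∀ c : Ω, U ≤ stabilizer G c → g • c = c :=
    fun g => by simp only [Subgroup.mem_inf, Subgroup.mem_iInf, mem_stabilizer_iff, mem_Fx]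
  obtain ⟨o1, o2, -⟩ := Op_spec (p := p) (T ⊓ ⨅ c ∈ (Fx U : Set Ω), stabilizer G c)
  have o3 : ∀ g ∈ T ⊓ ⨅ c ∈ (Fx U : Set Ω), stabilizer G c, g • a = a ∧ g • b = b := fun g hg =>
    ⟨((h3 g).1 hg).2 a (h.S_fix hU), ((h3 g).1 hg).2 b h1⟩
  refine le_trans (le_Op (fun x hx => (h3 x).2 ⟨X_T b U₁ hx, fun c hc => h.X_le_stab hU₁ ?_ hx⟩) (X_isP b U₁)
    fun g hg => h.nmX (o3 g hg).2 (h.nm' hne.symm hU₁ h2 (o3 g hg).2 (o3 g hg).1))
    (le_X o2 (o1.trans inf_le_left) (fun x hx => (o3 x (o1 hx)).1)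
      (fun x hx => h.nm' hne hU h1 (o3 x (o1 hx)).1 (o3 x (o1 hx)).2) fun g g1 _ g3 => nm_Op (nm_of_conj fun x hx =>
        (h3 _).2 ⟨mul_mem (mul_mem g1 ((h3 x).1 hx).1) (inv_mem g1), fun c hc => ?_⟩))
  · rw [← mem_Fx, h.fx_eq hne hU hU₁ h1 h2]
    exact hc
  · rw [mul_smul, mul_smul, ((h3 x).1 hx).2 _ (le_stab_smul (nm_inv g3) hc), smul_inv_smul]

theorem exists_at {b c : Ω} {P : Subgroup G} (hP : MaxP p (E b) P) (hc : P ≤ stabilizer G c) :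
    ∃ P₁, MaxP p (E c) P₁ ∧ (Fx P₁ : Set Ω) = Fx P := by
  by_cases e : c = b
  · exact ⟨P, e ▸ hP, rfl⟩
  obtain ⟨R, r1, r2⟩ := h.exS c b
  exact ⟨R, r1, h.fx_eq e hP r1 hc r2⟩

theorem line_uniq {a x c c' : Ω} {U P : Subgroup G} (hU : MaxP p (E a) U) (hP : MaxP p (E x) P) (hne : c' ≠ c)
    (h1 : U ≤ stabilizer G c) (h2 : U ≤ stabilizer G c') (h3 : P ≤ stabilizer G c) (h4 : P ≤ stabilizer G c') :
    (Fx P : Set Ω) = Fx U := by
  obtain ⟨U₁, u1, u2⟩ := h.exists_at hU h1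
  obtain ⟨P₁, p1, p2⟩ := h.exists_at hP h3
  rw [← u2, ← p2, h.uniq' hne p1 u1 (by rw [← mem_Fx, p2]; exact h4) (by rw [← mem_Fx, u2]; exact h2)]

/-- the points of a line are joined to a point off the line by distinct lines -/
theorem fline {a x : Ω} {U : Subgroup G} (hU : MaxP p (E a) U) (hx : ¬ U ≤ stabilizer G x) {A : Set Ω} (hA : A ⊆ Fx U)
    {B : Set (Subgroup G)} (hB : ∀ c ∈ A, ∀ P, MaxP p (E x) P → P ≤ stabilizer G c → P ∈ B) : A.ncard ≤ B.ncard := by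
  choose f f1 f2 using h.exS x
  refine Set.ncard_le_ncard_of_injOn f (fun c hc => hB c hc _ (f1 c) (f2 c)) (fun c hc c' hc' e => by_contra fun e' => hx ?_)
    (Set.toFinite _)
  rw [← mem_Fx, ← h.line_uniq hU (f1 c') e' (hA hc') (hA hc) (f2 c') (e ▸ f2 c)]
  exact h.S_fix (f1 c')

theorem finΩ : Finite Ω := h.A.finite

theorem dvd_F {a : Ω} {U Q V : Subgroup G} (hU : MaxP p (E a) U) (q : QX T p (Xo T p a U) Q Ω) (h1 : Xo T p a U ≤ V)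
    (h2 : V ≤ Q) : (Xo T p a U).relIndex V ∣ (Fx U : Set Ω).ncard := by
  have := h.finΩ
  refine dvd_ncard_of_Orb V _ (Set.toFinite _) (fun g hg b hb => (h.S_le_X hU).trans (q.fix (h.X_le_stab hU hb) (h2 hg)))
    fun b hb => ?_
  rw [Md.ncard_Orb h1 fun w hw => q.semi b (h.X_le_stab hU hb) w (h2 hw)]

theorem p_dvd_F {a : Ω} {U : Subgroup G} (hU : MaxP p (E a) U) : p ∣ (Fx U : Set Ω).ncard := by
  obtain ⟨Q, q⟩ := h.exists_QX hU
  obtain ⟨k, hk⟩ := relIndex_eq_pow (A := Xo T p a U) q.isP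
  refine Dvd.dvd.trans ?_ (h.dvd_F hU q q.le le_rfl)
  rw [hk]
  refine dvd_pow_self p fun e => q.ne (Subgroup.relIndex_eq_one.1 (by rw [hk, e, pow_zero]))

theorem le_X_of_two {a : Ω} {U U' R : Subgroup G} (hU : MaxP p (E a) U) (hU' : MaxP p (E a) U') (hne : U' ≠ U)
    (r1 : IsPGroup p R) (r2 : R ≤ T) (r3 : R ≤ stabilizer G a) (r4 : ∀ x ∈ R, cj x U = U)
    (r5 : ∀ g, g • a = a → cj g U = U → cj g U' = U' → cj g R = R) : R ≤ Xo T p a U := by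
  refine le_sup_left.trans (le_X (R := R ⊔ U) (isP_sup r1 hU.isP r4) (sup_le r2 (h.S_T hU)) (sup_le r3 (h.S_fix hU))
    (nm_of_sup r4 fun _ => cj_of_mem) fun g _ g2 g3 => ?_)
  obtain ⟨u, hu, h1⟩ := h.exists_cj hU hU' (h.cjS' hU' g2) hne (h.cj_ne (b := a) hne g3)
  have k1 : cj (u⁻¹ * g) U = U := nm_mul (cj_of_mem (inv_mem hu)) g3
  have k2 := nm_sup (r5 (u⁻¹ * g) (by rw [mul_smul, g2]; exact h.S_fix hU (inv_mem hu)) k1
    (by rw [cj_mul, ← h1, cj_inv_cj])) k1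
  have k3 := nm_mul (cj_of_mem (H := R ⊔ U) (Subgroup.mem_sup_right hu)) k2
  rwa [mul_inv_cancel_left] at k3

/-- the centraliser of `K` is transitive on the Sylow subgroups normalised by `K` -/
theorem exists_cj_comm {b : Ω} {K : Set G} (h3 : 3 ≤ {R | MaxP p (E b) R ∧ ∀ k ∈ K, cj k R = R}.ncard) {P P' : Subgroup G}
    (hP : MaxP p (E b) P) (hP' : MaxP p (E b) P') (k1 : ∀ k ∈ K, cj k P = P) (k2 : ∀ k ∈ K, cj k P' = P') :
    ∃ R, MaxP p (E b) R ∧ (∀ k ∈ K, cj k R = R) ∧ ∃ u ∈ R, (∀ k ∈ K, k * u = u * k) ∧ cj u P = P' := by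
  obtain ⟨R, ⟨r1, r2⟩, r3⟩ : ∃ R ∈ {R | MaxP p (E b) R ∧ ∀ k ∈ K, cj k R = R}, R ∉ ({P, P'} : Set (Subgroup G)) := by
    by_contra e
    have h1 := Set.ncard_le_ncard (s := {R | MaxP p (E b) R ∧ ∀ k ∈ K, cj k R = R}) (t := {P, P'})
      (fun R hR => by_contra fun e' => e ⟨R, hR, e'⟩) (Set.toFinite _)
    have h2 := Set.ncard_insert_le P ({P'} : Set (Subgroup G))
    rw [Set.ncard_singleton] at h2
    omega
  have r4 : P ≠ R := fun e => r3 (.inl e.symm)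
  obtain ⟨u, hu, rfl⟩ := h.exists_cj r1 hP hP' r4 fun e => r3 (.inr e.symm)
  exact ⟨R, r1, r2, u, hu, fun k hk => h.comm_of_three r1 hP r4 hu (r2 k hk) (k1 k hk) (k2 k hk), rfl⟩

end Geo

end Cfsg.Agent.TH.Own.Rk
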