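import Mathlib
import Cfsg.Agent.TH.Own.RkNB

/-!
# S3541, `BoxRk1`: `X = U` (helper90)
-/

set_option autoImplicit false
set_option linter.unusedSectionVars false
set_option linter.unusedVariables false

namespace Cfsg.Agent.TH.Own.Rk

open MulAction

variable {G : Type*} [Group G]

namespace Geo

variable {Ω : Type*} [MulAction G Ω] {T : Subgroup G} {p m : ℕ} {E : Ω → Subgroup G} (h : Geo Ω T p m E)
  [Finite G] [hp : Fact p.Prime]

include h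

theorem R_eq_bot {a : Ω} {U U' : Subgroup G} (hU : MaxP p (E a) U) (hU' : MaxP p (E a) U') (hne : U' ≠ U) :
    Xo T p a U ⊓ Subgroup.normalizer (U' : Set G) = ⊥ := by
  by_contra h0
  have := h.finΩ
  set R := Xo T p a U ⊓ Subgroup.normalizer (U' : Set G) with hR
  have r1 : IsPGroup p R := (X_isP a U).to_le inf_le_left
  have r2 : R ≤ T := inf_le_left.trans (X_T a U)
  have r3 : R ≤ stabilizer G a := inf_le_left.trans (X_fix a U)
  have r4 : ∀ k ∈ (R : Set G), cj k U = U := fun k hk => X_nm hk.1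
  have r5 : ∀ k ∈ (R : Set G), cj k U' = U' := fun k hk => nm_iff.1 hk.2
  have r6 : ∀ g, g • a = a → cj g U = U → cj g U' = U' → cj g R = R := fun g g1 g2 g3 =>
    nm_inf (h.nmX g1 g2) (by rw [cj_normalizer, g3])
  set C := Subgroup.centralizer (R : Set G) with hC
  set S₀ := {P | MaxP p (E a) P ∧ ∀ k ∈ (R : Set G), cj k P = P} with hS₀
  have c1 : ∀ P ∈ S₀, P ⊓ C ≠ ⊥ := fun P hP => inf_cen_ne_bot hP.1.isP r1 (h.ne_bot hP.1) hP.2
  have c2 : S₀.ncard = Nat.card ↥(U ⊓ C) + 1 := h.ncard_fixS hU hU' hne r4 r5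
  have c3 : 3 ≤ S₀.ncard := by
    have := one_lt_card_of_ne_bot (c1 U ⟨hU, r4⟩)
    omega
  have c4 : ∀ g, g • a = a → cj g R = R → ∀ P ∈ S₀, cj g P ∈ S₀ := fun g g1 g2 P hP =>
    ⟨h.cjS' hP.1 g1, fun k hk => nm_cj_iff.2 (hP.2 _ (nm_conj' g2 hk))⟩
  have c5 : ∀ u ∈ C, cj u R = R := fun u hu => nm_of_comm fun x hx => (hu x hx).symm
  obtain ⟨Q, q1, q2, q3, q4, q5, q6, q7⟩ := h.exists_Q (a := a) (D := R) h0 r1 r2 r3 fun R₁ a1 a2 a3 a4 a5 a6 => by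
    have b1 := @modEq_fix G _ _ (cjAct G) p _ _ a1 S₀ (Set.toFinite _) fun g hg P hP => c4 g (a4 hg) (a5 g hg) P hP
    obtain ⟨P₀, b2, b3⟩ : (S₀ ∩ @Fx G _ _ (cjAct G) R₁).Nonempty := by
      rw [← Set.ncard_pos (Set.toFinite _)]
      refine Nat.pos_of_ne_zero fun e => ?_
      obtain ⟨n, hn⟩ := card_eq_pow (hU.isP.to_le (inf_le_left : U ⊓ C ≤ U))
      have b4 : n ≠ 0 := fun e' => c1 U ⟨hU, r4⟩ (Subgroup.card_eq_one.1 (by rw [hn, e', pow_zero]))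
      rw [e, c2, hn] at b1
      exact hp.1.one_lt.ne' (Nat.dvd_one.1 ((Nat.dvd_add_right (dvd_pow_self p b4)).1 ((Nat.modEq_zero_iff_dvd).1 b1)))
    have b4 : ∀ P ∈ S₀, ∀ x ∈ R₁, cj x P = P := fun P hP x hx => by
      obtain ⟨P₃, b5, -, u, b6, b7, rfl⟩ := h.exists_cj_comm c3 b2.1 hP.1 b2.2 hP.2
      exact nm_cj_iff.2 (b3 (nm_conj' (a6 u (h.S_fix b5 b6) (c5 u b7)) hx))
    exact le_inf (h.le_X_of_two hU hU' hne a1 a3 a4 (b4 U ⟨hU, r4⟩) fun g g1 g2 g3 => a6 g g1 (r6 g g1 g2 g3))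
      fun x hx => nm_iff.2 (b4 U' ⟨hU', r5⟩ x hx)
  set D := ⨆ P ∈ S₀, P ⊓ C with hD
  have d1 : ∀ P ∈ S₀, P ⊓ C ≤ D := fun P hP => le_iSup₂_of_le P hP le_rfl
  have d2 : D ≤ E a ⊓ C := iSup₂_le fun P hP => inf_le_inf_right _ hP.1.le
  have d3 : ∀ d ∈ C, ∀ P, cj d (P ⊓ C) = cj d P ⊓ C := fun d hd P => by rw [cj_inf, cj_of_mem hd]
  have d4 : Cjs D (U ⊓ C) = (fun P => P ⊓ C) '' S₀ := by
    ext P
    constructor
    · rintro ⟨d, hd, rfl⟩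
      exact ⟨_, c4 d (h.fix a (d2 hd).1) (c5 d (d2 hd).2) U ⟨hU, r4⟩, (d3 d (d2 hd).2 U).symm⟩
    · rintro ⟨P, hP, rfl⟩
      obtain ⟨P₃, b5, b8, u, b6, b7, rfl⟩ := h.exists_cj_comm c3 hU hP.1 r4 hP.2
      exact ⟨u, d1 P₃ ⟨b5, b8⟩ ⟨b6, b7⟩, (d3 u b7 U).symm⟩
  have d5 : ∀ P ∈ S₀, ∀ P', MaxP p (E a) P' → P ⊓ C ≤ P' → P' = P := fun P hP P' hP' e => by_contra fun e' =>
    c1 P hP (le_bot_iff.1 (h.ti a P' P hP' hP.1 e' ▸ le_inf e inf_le_left))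
  have d6 : ∀ P ∈ S₀, ∀ c : Ω, P ⊓ C ≤ stabilizer G c → P ≤ stabilizer G c := fun P hP c e => by
    obtain ⟨⟨u, hu⟩, b1⟩ := (Subgroup.ne_bot_iff_exists_ne_one).1 (c1 P hP)
    exact h.fix_of_mem hP.1 hu.1 (fun e' => b1 (Subtype.ext e')) (e hu)
  have d7 : D ≤ stabilizer G a := d2.trans (inf_le_left.trans (h.fix a))
  have d8 : ∀ x ∈ D, cj x Q = Q := fun x hx => q5 x (c5 x (d2 hx).2)
  have d : Md p D (U ⊓ C) R Q :=
    { le := q3
      isP := q1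
      nV := q4
      dQ := d8
      dV := fun x hx => c5 x (d2 hx).2
      mx := ⟨d1 U ⟨hU, r4⟩, hU.isP.to_le inf_le_left, fun R' a1 a2 a3 => by
        obtain ⟨P, b1, b2⟩ := exists_maxP (L := E a) a1 (a2.trans (d2.trans inf_le_left))
        rw [d5 U ⟨hU, r4⟩ P b2 (a3.trans b1)] at b1
        exact le_antisymm (le_inf b1 (a2.trans (d2.trans inf_le_right))) a3⟩
      spl := by
        intro P₁ a1 a2 P₂ a3 a4
        rw [d4] at a1 a3
        obtain ⟨P, hP, rfl⟩ := a1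
        obtain ⟨P', hP', rfl⟩ := a3
        have b1 : P ≠ U := fun e => a2 (by rw [e])
        obtain ⟨u, hu, rfl⟩ := h.exists_cj hU hP.1 hP'.1 b1 fun e => a4 (by rw [e])
        have b2 : u ∈ C := fun k hk => h.comm_of_three hU hP.1 b1 hu (r4 k hk) (hP.2 k hk) (hP'.2 k hk)
        exact ⟨u, ⟨hu, b2⟩, d3 u b2 P⟩
      gen := fun K hK => iSup₂_le fun P hP => hK _ (d4 ▸ ⟨P, hP, rfl⟩)
      cov := fun w hw => by
        obtain ⟨P, hP, b1⟩ : ∃ P ∈ S₀, P ≤ stabilizer G (w • a) := by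
          by_cases e : w • a = a
          · exact ⟨U, ⟨hU, r4⟩, by rw [e]; exact h.S_fix hU⟩
          obtain ⟨P, b1, b2⟩ := h.exS a (w • a)
          exact ⟨P, ⟨b1, fun k hk => h.nm' e b1 b2 (r3 hk) (le_stab_smul (q4 w hw) r3 hk)⟩, b2⟩
        exact ⟨P ⊓ C, d4 ▸ ⟨P, hP, rfl⟩, fun x hx => (inC_iff q7 (h.S_fix hP.1 hx.1) (d8 x (d1 P hP hx)) hw).2 (b1 hx.1)⟩
      triv := fun w hw e => (q7 w hw).1 (by
        have b1 : D ≤ stabilizer G (w • a) := fun x hx => (inC_iff q7 (d7 hx) (d8 x hx) hw).1 (e x hx)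
        by_contra b2
        exact hne (h.uniq' b2 hU' hU (d6 U' ⟨hU', r5⟩ _ ((d1 U' ⟨hU', r5⟩).trans b1))
          (d6 U ⟨hU, r4⟩ _ ((d1 U ⟨hU, r4⟩).trans b1))))
      ne := q6 }
  obtain ⟨n, n0, hn⟩ := d.exists_pow
  have e1 : 1 < p ^ n := Nat.one_lt_pow n0.ne' hp.1.one_lt
  have e2 : S₀.ncard = p ^ n + 1 := by
    rw [← hn, nS, d4, Set.InjOn.ncard_image fun P hP P' hP' e => (d5 P hP P' hP'.1 (le_trans (le_of_eq e) inf_le_left)).symm]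
  have e3 := d.ncard_fix hn q7 (inf_le_left.trans (h.S_fix hU))
  have e4 : Orb Q a ∩ Fx (U ⊓ C) ⊆ Fx U := fun c hc => d6 U ⟨hU, r4⟩ c hc.2
  obtain ⟨w, w1, w2⟩ : ∃ w ∈ Q, ¬ U ≤ stabilizer G (w • a) := by
    by_contra e
    have b1 : Orb Q a ∩ Fx (U ⊓ C) = Orb Q a := Set.inter_eq_left.2 (by
      rintro _ ⟨w, hw, rfl⟩
      exact inf_le_left.trans (by_contra fun e' => e ⟨w, hw, e'⟩ : U ≤ stabilizer G (w • a)))
    rw [b1, Md.ncard_Orb q3 q7, (d.card hn).1] at e3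
    nlinarith
  have e5 := h.fline hU w2 (A := Fx U) (B := cj w '' S₀) le_rfl fun c hc P hP b1 =>
    ⟨cj w⁻¹ P, ⟨by have := h.cjS hP w⁻¹; rwa [inv_smul_smul] at this, fun k hk => nm_cj_iff.2 (by
      rw [inv_inv]
      have b2 := nm_conj (q4 w w1) hk
      exact h.nm' (c := c) (fun e => w2 (by rw [← e]; exact hc)) hP b1 (le_stab_smul (q4 w w1) r3 b2) (h.X_le_stab hU hc b2.1))⟩, cj_cj_inv w P⟩
  rw [Set.ncard_image_of_injective _ fun _ _ e => cj_inj w e, e2] at e5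
  have e6 := Set.ncard_le_ncard e4 (Set.toFinite _)
  have e7 : (Fx U : Set Ω).ncard ≠ p ^ n + 1 := fun e =>
    hp.1.one_lt.ne' (Nat.dvd_one.1 ((Nat.dvd_add_right (dvd_pow_self p n0.ne')).1 (e ▸ h.p_dvd_F hU)))
  have e8 := Set.eq_of_subset_of_ncard_le e4 (by omega) (Set.toFinite _)
  refine h.two_of_md d d7 r3 hU.isP (h.S_T hU) (h.S_fix hU) fun b _ b1 => ?_
  rw [d.Orb_Cm q7 (inf_le_left.trans (h.S_fix hU)), e8]
  exact b1

/-- `X = U` -/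
theorem X_eq {a : Ω} {U : Subgroup G} (hU : MaxP p (E a) U) : Xo T p a U = U := by
  obtain ⟨U', hU', hne⟩ := h.ne a U hU
  refine le_antisymm (fun x hx => ?_) (h.S_le_X hU)
  obtain ⟨u, hu, h1⟩ := h.exists_cj hU hU' (h.cjS' hU' (X_fix a U hx)) hne (h.cj_ne (b := a) hne (X_nm hx))
  have h2 : u⁻¹ * x ∈ Xo T p a U ⊓ Subgroup.normalizer (U' : Set G) :=
    Subgroup.mem_inf.2 ⟨mul_mem (inv_mem (h.S_le_X hU hu)) hx, nm_iff.2 (by rw [cj_mul, ← h1, cj_inv_cj])⟩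
  rw [h.R_eq_bot hU hU' hne, Subgroup.mem_bot, inv_mul_eq_one] at h2
  exact h2 ▸ hu

/-- a Sylow subgroup of `E a` is a Sylow subgroup of `E c` for all its fixed points `c` -/
theorem syl_at {a c : Ω} {U : Subgroup G} (hU : MaxP p (E a) U) (hc : U ≤ stabilizer G c) : MaxP p (E c) U := by
  by_cases e : c = a
  · rwa [e]
  obtain ⟨U₁, h1, h2⟩ := h.exS c a
  have h3 := h.nb e hU h1 hc h2
  have h4 := h.nb (Ne.symm e) h1 hU h2 hc
  rw [h.X_eq hU, h.X_eq h1] at h3 h4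
  rwa [le_antisymm h4 h3]

theorem exists_QU {a : Ω} {U : Subgroup G} (hU : MaxP p (E a) U) : ∃ Q, QX T p U Q Ω := by
  have := h.exists_QX hU
  rwa [h.X_eq hU] at this

/-- two points are on at most one line -/
theorem ln_uniq {a b c c' : Ω} {P R : Subgroup G} (hP : MaxP p (E a) P) (hR : MaxP p (E b) R) (hne : c' ≠ c)
    (h1 : P ≤ stabilizer G c) (h2 : P ≤ stabilizer G c') (h3 : R ≤ stabilizer G c) (h4 : R ≤ stabilizer G c') : P = R :=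
  h.uniq' hne (h.syl_at hP h1) (h.syl_at hR h3) h2 h4

end Geo

end Cfsg.Agent.TH.Own.Rk
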