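import Mathlib
import Cfsg.Agent.TH.Own.RkXU

/-!
# S3541, `BoxRk1`: the linear space of the fixed point sets (helper90)
-/

set_option autoImplicit false
set_option linter.unusedSectionVars false
set_option linter.unusedVariables false

namespace Cfsg.Agent.TH.Own.Rk

open MulAction

variable {G : Type*} [Group G]

theorem ncard_Orb_eq {Ω : Type*} [MulAction G Ω] [Finite G] (L : Subgroup G) (b : Ω) :
    (Orb L b).ncard = (stabilizer G b).relIndex L := by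
  have h1 := ncard_Orb_mul L b
  have h2 := card_mul_relIndex (inf_le_left : L ⊓ stabilizer G b ≤ L)
  rw [Subgroup.inf_relIndex_left, mul_comm, ← h1] at h2
  exact (Nat.eq_of_mul_eq_mul_right Nat.card_pos h2).symm

theorem ncard_le_mul {α β : Type*} {A : Set α} {B : Set β} (hB : B.Finite) (f : β → Set α) {c : ℕ}
    (h1 : ∀ x ∈ A, ∃ y ∈ B, x ∈ f y) (h2 : ∀ y ∈ B, (f y).Finite ∧ (f y).ncard ≤ c) : A.ncard ≤ B.ncard * c := by
  induction B, hB using Set.Finite.induction_on generalizing A with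
  | empty =>
    have : A = ∅ := Set.eq_empty_of_forall_notMem fun x hx => by
      obtain ⟨y, hy, -⟩ := h1 x hx
      exact hy
    simp [this]
  | @insert y B hy hB ih =>
    have h3 := ih (A := A \ f y) (fun x hx => by
      obtain ⟨z, hz, h3⟩ := h1 x hx.1
      rcases hz with rfl | hz
      · exact absurd h3 hx.2
      · exact ⟨z, hz, h3⟩) fun z hz => h2 z (.inr hz)
    have h4 := Set.ncard_le_ncard_sdiff_add_ncard A (f y) (h2 y (.inl rfl)).1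
    have h5 := (h2 y (.inl rfl)).2
    rw [Set.ncard_insert_of_notMem hy hB, add_mul]
    omega

namespace Geo

variable {Ω : Type*} [MulAction G Ω] {T : Subgroup G} {p m : ℕ} {E : Ω → Subgroup G} (h : Geo Ω T p m E)
  [Finite G] [hp : Fact p.Prime]

include h

theorem exists_conj {a b : Ω} {U P : Subgroup G} (hU : MaxP p (E a) U) (hP : MaxP p (E b) P) : ∃ g, P = cj g U := by
  obtain ⟨t, -, rfl⟩ := h.A.trans a b
  obtain ⟨e, -, rfl⟩ := (h.cjS hU t).exists_eq hP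
  exact ⟨e * t, (cj_mul _ _ _).symm⟩

theorem card_S {a b : Ω} {U P : Subgroup G} (hU : MaxP p (E a) U) (hP : MaxP p (E b) P) : Nat.card P = Nat.card U := by
  obtain ⟨g, rfl⟩ := h.exists_conj hU hP
  exact card_cj g U

theorem F_eq {a b : Ω} {U P : Subgroup G} (hU : MaxP p (E a) U) (hP : MaxP p (E b) P) :
    (Fx P : Set Ω).ncard = (Fx U : Set Ω).ncard := by
  obtain ⟨g, rfl⟩ := h.exists_conj hU hP
  exact ncard_Fx_cj g U

theorem F_sub {a : Ω} {U : Subgroup G} (hU : MaxP p (E a) U) :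
    ((Fx U : Set Ω) \ {a}).ncard + 1 = (Fx U : Set Ω).ncard :=
  have := h.finΩ
  Set.ncard_sdiff_singleton_add_one (h.S_fix hU)

theorem count {a : Ω} {U : Subgroup G} (hU : MaxP p (E a) U) {B : Set (Subgroup G)} (hB : ∀ P ∈ B, MaxP p (E a) P) :
    {x | x ≠ a ∧ ∃ P ∈ B, P ≤ stabilizer G x}.ncard = B.ncard * ((Fx U : Set Ω).ncard - 1) :=
  have := h.finΩ
  ncard_eq_mul (Set.toFinite _) (Set.toFinite _) (fun P => (Fx P : Set Ω) \ {a})
    (fun x ⟨h1, P, h2, h3⟩ => ⟨P, h2, h3, h1⟩) (fun P h1 x hx => ⟨hx.2, P, h1, hx.1⟩)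
    (fun P h1 P' h2 x hx hx' => h.uniq' hx.2 (hB P h1) (hB P' h2) hx.1 hx'.1) fun P h1 => by
      rw [← h.F_eq hU (hB P h1), ← h.F_sub (hB P h1), Nat.add_sub_cancel]

theorem card_eq {a : Ω} {U : Subgroup G} (hU : MaxP p (E a) U) :
    Nat.card Ω = (Nat.card U + 1) * ((Fx U : Set Ω).ncard - 1) + 1 := by
  have := h.finΩ
  have h1 := h.count hU (B := {R | MaxP p (E a) R}) fun _ a => a
  rw [h.ncard_S hU, show {x | x ≠ a ∧ ∃ P ∈ {R | MaxP p (E a) R}, P ≤ stabilizer G x} = {a}ᶜ from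
    Set.ext fun x => ⟨fun e => e.1, fun e => ⟨e, h.exS a x⟩⟩] at h1
  rw [← h1, ← Set.ncard_add_ncard_compl {a}, Set.ncard_singleton, add_comm]

theorem two_le_F {a : Ω} {U : Subgroup G} (hU : MaxP p (E a) U) : 2 ≤ (Fx U : Set Ω).ncard :=
  hp.1.two_le.trans (Nat.le_of_dvd (by have := h.F_sub hU; omega) (h.p_dvd_F hU))

theorem exists_pt {a : Ω} {U : Subgroup G} (hU : MaxP p (E a) U) : ∃ y, y ≠ a ∧ U ≤ stabilizer G y := by
  obtain ⟨y, h1, h2⟩ := Set.exists_ne_of_one_lt_ncard (h.two_le_F hU) a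
  exact ⟨y, h2, h1⟩

theorem exists_pow {a : Ω} {U : Subgroup G} (hU : MaxP p (E a) U) : ∃ n, 0 < n ∧ Nat.card U = p ^ n := by
  obtain ⟨n, hn⟩ := card_eq_pow hU.isP
  exact ⟨n, Nat.pos_of_ne_zero fun e => h.ne_bot hU (Subgroup.card_eq_one.1 (by rw [hn, e, pow_zero])), hn⟩

theorem F_lt {a : Ω} {U : Subgroup G} (hU : MaxP p (E a) U) : (Fx U : Set Ω).ncard < Nat.card U := by
  obtain ⟨U', hU', hne⟩ := h.ne a U hU
  obtain ⟨x, x1, x2⟩ := h.exists_pt hU'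
  have h1 := h.fline hU (fun e => hne (h.uniq' x1 hU' hU x2 e)) (A := Fx U) (B := {R | MaxP p (E x) R}) le_rfl
    fun _ _ _ a _ => a
  rw [h.ncard_S (h.syl_at hU' x2), h.card_S hU hU'] at h1
  obtain ⟨n, n0, hn⟩ := h.exists_pow hU
  have h2 : (Fx U : Set Ω).ncard ≠ Nat.card U + 1 := fun e =>
    hp.1.one_lt.ne' (Nat.dvd_one.1 ((Nat.dvd_add_right (hn ▸ dvd_pow_self p n0.ne')).1 (e ▸ h.p_dvd_F hU)))
  have h3 : (Fx U : Set Ω).ncard ≠ Nat.card U := fun e => h.A.nsq n (by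
    rw [h.card_eq hU, e, hn, two_mul, pow_add]
    obtain ⟨k, hk⟩ : ∃ k, p ^ n = k + 1 := ⟨_, (Nat.succ_pred_eq_of_pos (pow_pos hp.1.pos n)).symm⟩
    rw [hk, Nat.add_sub_cancel]
    ring)
  omega

/-- an element which fixes all lines through two points fixes all points off the line joining them -/
theorem fix_off {a y c : Ω} (hne : y ≠ a) {P : Subgroup G} (hP : MaxP p (E a) P) (hy : P ≤ stabilizer G y) {z : G}
    (h1 : ∀ R, MaxP p (E a) R → cj z R = R) (h2 : ∀ R, MaxP p (E y) R → cj z R = R) (hc : ¬ P ≤ stabilizer G c) :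
    z • c = c := by
  by_contra e
  obtain ⟨R, r1, r2⟩ := h.exS a c
  obtain ⟨R', r3, r4⟩ := h.exS y c
  have h3 := h.ln_uniq r1 r3 e r2 (le_stab_smul (h1 R r1) r2) r4 (le_stab_smul (h2 R' r3) r4)
  rw [h.uniq' hne r1 hP (h3 ▸ h.S_fix r3) hy] at r2
  exact hc r2

/-- `C_G(E a)` is semiregular on the other points -/
theorem cen_semi {a y : Ω} (hne : y ≠ a) {z : G} (hz : ∀ e ∈ E a, z * e = e * z) (hy : z • y = y) : z = 1 := by
  have h1 : ∀ R, MaxP p (E a) R → cj z R = R := fun R hR => nm_of_comm fun x hx => hz x (hR.le hx)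
  have h2 : ∀ {y y' : Ω} {P P' : Subgroup G}, y ≠ a → y' ≠ a → MaxP p (E a) P → MaxP p (E a) P' → P' ≠ P →
      P ≤ stabilizer G y → P' ≤ stabilizer G y' → z • y = y → z • y' = y' → ∀ c : Ω, ¬ P ≤ stabilizer G c → z • c = c :=
    fun {y y' P P'} a1 a2 a3 a4 a5 a6 a7 a8 a9 c hc => by
      have b1 : ¬ P ≤ stabilizer G y' := fun e => a5 (h.uniq' a2 a4 a3 a7 e)
      obtain ⟨R, r1, r2⟩ := h.exS y y'
      exact h.fix_off a1 a3 a6 h1 (fun R' => h.nm_all (h.syl_at a3 a6) r1 (fun e => b1 (e ▸ r2))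
        (fun u hu => hz u (a3.le hu)) (h.nm' (c := y') (fun e => b1 (by rw [e]; exact a6)) r1 r2 a8 a9)) hc
  obtain ⟨P, p1, p2⟩ := h.exS a y
  obtain ⟨P', p3, p4⟩ := h.ne a P p1
  obtain ⟨e, he, rfl⟩ := p1.exists_eq p3
  have h3 : e • y ≠ a := fun e' => hne (by rw [← inv_smul_smul e y, e']; exact h.fix a (inv_mem he))
  have h4 : z • e • y = e • y := by rw [← mul_smul, hz e he, mul_smul, hy]
  refine h.A.faith z fun c => ?_
  by_cases c1 : P ≤ stabilizer G c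
  · by_cases c2 : c = a
    · rw [c2]; exact h.smul_eq (nm_of_comm hz)
    · exact h2 h3 hne p3 p1 p4.symm (cj_le_stab.2 p2) p2 h4 hy c fun c3 => p4 (h.uniq' c2 p3 p1 c3 c1)
  · exact h2 hne h3 p1 p3 p4 p2 (cj_le_stab.2 p2) hy h4 c c1

theorem three_le_S {a : Ω} {U : Subgroup G} (hU : MaxP p (E a) U) :
    3 ≤ {R | MaxP p (E a) R ∧ ∀ k ∈ (∅ : Set G), cj k R = R}.ncard := by
  have h1 := h.ncard_S hU
  have h2 := one_lt_card_of_ne_bot (h.ne_bot hU)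
  simp only [Set.mem_empty_iff_false, false_imp_iff, implies_true, and_true]
  omega

theorem exists_swap {a : Ω} {U U' : Subgroup G} (hU : MaxP p (E a) U) (hU' : MaxP p (E a) U') (hne : U' ≠ U) :
    ∃ k : G, k • a = a ∧ cj k U = U' ∧ cj k U' = U := by
  obtain ⟨R, r1, -, u, hu, -, h1⟩ := h.exists_cj_comm (h.three_le_S hU) hU hU' (fun _ a => a.elim) fun _ a => a.elim
  have h2 := h.S_fix r1 hu
  obtain ⟨v, hv, h3⟩ := h.exists_cj hU' (h.cjS' hU' h2) hU (fun e => hne (cj_inj u (e.trans h1.symm))) hne.symm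
  exact ⟨v * u, by rw [mul_smul, h2, h.S_fix hU' hv], by rw [cj_mul, h1, cj_of_mem hv], by rw [cj_mul, h3]⟩

theorem stab_eq {a y y' : Ω} (hy : y ≠ a) (hy' : y' ≠ a) (e : stabilizer G a ⊓ stabilizer G y ≤ stabilizer G y') :
    stabilizer G a ⊓ stabilizer G y = stabilizer G a ⊓ stabilizer G y' :=
  Subgroup.eq_of_le_of_card_ge (le_inf inf_le_left e) (by rw [h.A.card2 a y hy.symm, h.A.card2 a y' hy'.symm])

/-- regular elements fix only one point -/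
theorem reg_fix {a : Ω} {U U' : Subgroup G} (hU : MaxP p (E a) U) (hU' : MaxP p (E a) U') (hne : U' ≠ U) {s : G}
    (s0 : s • a = a) (s1 : cj s U = U) (s2 : cj s U' = U') (s3 : ∀ u ∈ U, u * s = s * u → u = 1)
    (s4 : ∀ k : G, k • a = a → (cj k U = U ∧ cj k U' = U' ∨ cj k U = U' ∧ cj k U' = U) → k⁻¹ * s * k ∈ Subgroup.zpowers s)
    {y : Ω} (hy : y ≠ a) : s • y ≠ y := fun sy => by
  have h1 : ∀ P, MaxP p (E a) P → cj s P = P → P = U ∨ P = U' := fun P hP e => by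
    by_cases e1 : P = U
    · exact .inl e1
    obtain ⟨u, hu, rfl⟩ := h.exists_cj hU hU' hP hne e1
    rw [s3 u hu (h.comm_of_three hU hU' hne hu s1 s2 e).symm, cj_one]
    exact .inr rfl
  have h2 : ∀ u ∈ U', s * u = u * s → u = 1 := fun u hu e => by
    by_contra e1
    rcases h1 _ (h.cjS' hU (h.S_fix hU' hu)) (nm_cj_of_comm s1 e) with e2 | e2
    · exact hne (h.eq_of_nm hU' hU hu e1 e2).symm
    · exact h.cj_ne (b := a) hne.symm (cj_of_mem hu) e2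
  have h3 : ∀ k : G, k • a = a → (cj k U = U ∧ cj k U' = U' ∨ cj k U = U' ∧ cj k U' = U) → ∀ c : Ω, s • c = c →
      s • k • c = k • c := fun k k1 k2 c e => by
    have h4 : (k⁻¹ * s * k) • c = c := (Subgroup.zpowers_le (H := stabilizer G c)).2 e (s4 k k1 k2)
    rwa [mul_smul, mul_smul, inv_smul_eq_iff] at h4
  obtain ⟨n, n1, n2, n3⟩ := h.exists_swap hU hU' hne
  have h4 : ∀ c : Ω, c ≠ a → n • c ≠ a := fun c e e' => e (by rw [← inv_smul_smul n c, e', inv_smul_eq_iff, n1])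
  obtain ⟨x, x', x1, x2, x3, x4, x5, x6⟩ : ∃ x x' : Ω, x ≠ a ∧ U ≤ stabilizer G x ∧ s • x = x ∧ x' ≠ a ∧
      U' ≤ stabilizer G x' ∧ s • x' = x' := by
    obtain ⟨P, p1, p2⟩ := h.exS a y
    have h5 := h3 n n1 (.inr ⟨n2, n3⟩) y sy
    rcases h1 P p1 (h.nm' hy p1 p2 s0 sy) with rfl | rfl
    · exact ⟨y, n • y, hy, p2, sy, h4 y hy, n2 ▸ cj_le_stab.2 p2, h5⟩
    · exact ⟨n • y, y, h4 y hy, n3 ▸ cj_le_stab.2 p2, h5, hy, p2, sy⟩
  have h5 : ∀ c : Ω, c ≠ a → U ≤ stabilizer G c → s • c = c → c = x := by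
    have key : ∀ c : Ω, c ≠ a → U ≤ stabilizer G c → s • c = c →
        ∃ R, MaxP p (E x') R ∧ R ≤ stabilizer G c ∧ R ≠ U' ∧ cj s R = R := fun c c1 c2 c3 => by
      obtain ⟨R, r1, r2⟩ := h.exS x' c
      exact ⟨R, r1, r2, fun e => hne (h.uniq' c1 hU' hU (e ▸ r2) c2),
        h.nm' (c := c) (fun e => hne (h.uniq' x4 hU' hU x5 (by rw [← e]; exact c2))) r1 r2 x6 c3⟩
    intro c c1 c2 c3
    obtain ⟨R, r1, r2, r3, r4⟩ := key x x1 x2 x3
    obtain ⟨R', r5, r6, r7, r8⟩ := key c c1 c2 c3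
    obtain ⟨u, hu, rfl⟩ := h.exists_cj (h.syl_at hU' x5) r1 r5 r3 r7
    rw [h2 u hu (h.comm_of_three (h.syl_at hU' x5) r1 r3 hu s2 r4 r8), cj_one] at r6
    by_contra e
    exact hne (h.uniq' x4 hU' hU x5 (h.ln_uniq r1 hU e r2 r6 x2 c2 ▸ h.S_fix r1))
  have h6 : ∀ k : G, k • a = a → cj k U = U → k • x = x := fun k k1 k2 => by
    obtain ⟨u, hu, h7⟩ := h.exists_cj hU hU' (h.cjS' hU' k1) hne (h.cj_ne (b := a) hne k2)
    have k3 : cj (u⁻¹ * k) U = U := nm_mul (cj_of_mem (inv_mem hu)) k2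
    have k4 : (u⁻¹ * k) • a = a := by rw [mul_smul, k1]; exact h.S_fix hU (inv_mem hu)
    have h8 := h5 _ (fun e => x1 (smul_left_cancel _ (e.trans k4.symm))) (le_stab_smul k3 x2)
      (h3 _ k4 (.inl ⟨k3, by rw [cj_mul, ← h7, cj_inv_cj]⟩) x x3)
    rw [mul_smul, inv_smul_eq_iff, x2 hu] at h8
    exact h8
  have h7 : ∀ c : Ω, c ≠ a → U ≤ stabilizer G c → c = x := fun c c1 c2 => by
    have h8 := h.stab_eq c1 x1 fun k hk => h6 k hk.1 (h.nm' c1 hU c2 hk.1 hk.2)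
    exact h5 c c1 c2 (h8.ge (⟨s0, x3⟩ : s ∈ stabilizer G a ⊓ stabilizer G x)).2
  exact h.A.not_trans hU.isP (h.S_T hU) (h.S_fix hU) fun b c hb hc b1 c1 =>
    ⟨1, one_smul _ _, by rw [one_smul, h7 b hb b1, h7 c hc c1]⟩

theorem dich_aux {a y : Ω} {U Q : Subgroup G} (hU : MaxP p (E a) U) (q : QX T p U Q Ω) (hy : U ≤ stabilizer G y)
    (h1 : y ∉ Orb Q a) {c : Ω} (hc : c ∈ Orb Q y) : stabilizer G a ⊓ stabilizer G y ≤ stabilizer G c := by
  have h0 : 0 < m := by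
    rw [← h.A.card2 a y fun e => h1 (e ▸ self_mem_Orb Q a)]
    exact Nat.card_pos
  set B := stabilizer G a ⊓ Subgroup.normalizer (U : Set G) with hB
  have b1 : ∀ x : Ω, x ≠ a → U ≤ stabilizer G x → stabilizer G a ⊓ stabilizer G x ≤ B := fun x x1 x2 k hk =>
    ⟨hk.1, nm_iff.2 (h.nm' x1 hU x2 hk.1 hk.2)⟩
  have b2 : ∀ (L : Subgroup G) (x : Ω), x ≠ a → L ≤ B → stabilizer G a ⊓ stabilizer G x ≤ L →
      (Orb L x).ncard * m = Nat.card L := fun L x x1 l1 l2 => by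
    rw [← ncard_Orb_mul L x, ← h.A.card2 a x x1.symm,
      show L ⊓ stabilizer G x = stabilizer G a ⊓ stabilizer G x from
        le_antisymm (inf_le_inf_right _ (l1.trans inf_le_left)) (le_inf l2 inf_le_right)]
  have b3 : ∀ k ∈ B, ∀ (x : Ω), ∀ w ∈ Q, k • w • x ∈ Orb Q (k • x) := fun k hk x w hw =>
    ⟨k * w * k⁻¹, nm_conj (q.nQ k (nm_iff.1 hk.2)) hw, by rw [mul_smul, inv_smul_smul, mul_smul]⟩
  let S : Subgroup G :=
    { carrier := {k | k ∈ B ∧ k • y ∈ Orb Q y}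
      one_mem' := ⟨one_mem _, by rw [one_smul]; exact self_mem_Orb Q y⟩
      mul_mem' := fun {k l} hk hl => ⟨mul_mem hk.1 hl.1, by
        obtain ⟨w, hw, e⟩ := hl.2
        rw [mul_smul, ← e, ← Orb_eq hk.2]
        exact b3 k hk.1 y w hw⟩
      inv_mem' := fun {k} hk => ⟨inv_mem hk.1, by
        obtain ⟨w, hw, e⟩ := hk.2
        have h2 := b3 k⁻¹ (inv_mem hk.1) (k • y) w⁻¹ (inv_mem hw)
        rwa [inv_smul_smul, ← e, inv_smul_smul] at h2⟩ }
  have s1 : S ≤ B := fun k hk => hk.1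
  have s2 : ∀ k ∈ S, ∀ x ∈ Orb Q y, k • x ∈ Orb Q y := by
    rintro k hk _ ⟨w, hw, rfl⟩
    rw [← Orb_eq hk.2]
    exact b3 k hk.1 y w hw
  have s3 : ∀ x ∈ Orb Q y, x ≠ a ∧ stabilizer G a ⊓ stabilizer G x ≤ S := by
    rintro _ ⟨w, hw, rfl⟩
    have x1 : w • y ≠ a := fun e => h1 ⟨w⁻¹, inv_mem hw, by rw [← e, inv_smul_smul]⟩
    refine ⟨x1, fun k hk => ?_⟩
    have k1 := b1 _ x1 (q.fix hy hw) hk
    have h2 := b3 k k1 (w • y) w⁻¹ (inv_mem hw)
    rw [inv_smul_smul, show k • w • y = w • y from hk.2, Orb_eq (L := Q) (b := y) ⟨w, hw, rfl⟩] at h2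
    exact ⟨k1, h2⟩
  have s4 : ∀ x ∈ Orb Q y, (Orb S x).ncard = (Orb S y).ncard := fun x hx =>
    Nat.eq_of_mul_eq_mul_right h0 ((b2 S x (s3 x hx).1 s1 (s3 x hx).2).trans
      (b2 S y (s3 y (self_mem_Orb Q y)).1 s1 (s3 y (self_mem_Orb Q y)).2).symm)
  have s5 : (Orb S y).ncard ∣ (Orb Q y).ncard := dvd_ncard_of_Orb S _ (finite_Orb Q y) s2 fun x hx => by rw [s4 x hx]
  have s6 : (Orb S y).ncard ∣ (Orb Q a \ {a}).ncard :=
    dvd_ncard_of_Orb B _ ((finite_Orb Q a).subset Set.sdiff_subset)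
      (by
        rintro k hk _ ⟨⟨w, hw, rfl⟩, x2⟩
        have h2 := b3 k hk a w hw
        rw [show k • a = a from hk.1] at h2
        exact ⟨h2, fun e => x2 (smul_left_cancel k (e.trans (show k • a = a from hk.1).symm))⟩)
      (by
        rintro _ ⟨⟨w, hw, rfl⟩, x2⟩
        refine Nat.dvd_of_mul_dvd_mul_right h0 ?_
        rw [b2 S y (s3 y (self_mem_Orb Q y)).1 s1 (s3 y (self_mem_Orb Q y)).2,
          b2 B _ x2 le_rfl (b1 _ x2 (q.fix (h.S_fix hU) hw))]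
        exact Subgroup.card_dvd_of_le s1)
  have s7 := Set.ncard_sdiff_singleton_add_one (s := Orb Q a) (a := a) (self_mem_Orb Q a) (finite_Orb Q a)
  rw [Md.ncard_Orb q.le (q.semi a (h.S_fix hU))] at s7
  rw [Md.ncard_Orb q.le (q.semi y hy), ← s7] at s5
  have s8 : (Orb S c).ncard = 1 := (s4 c hc).trans (Nat.dvd_one.1 ((Nat.dvd_add_right s6).1 s5))
  rw [ncard_Orb_eq, Subgroup.relIndex_eq_one] at s8
  exact (s3 y (self_mem_Orb Q y)).2.trans s8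

/-- the dichotomy -/
theorem dich {a : Ω} {U Q : Subgroup G} (hU : MaxP p (E a) U) (q : QX T p U Q Ω) :
    (Fx U : Set Ω).ncard = U.relIndex Q ∨ ∀ y c : Ω, y ≠ a → U ≤ stabilizer G y → U ≤ stabilizer G c →
      stabilizer G a ⊓ stabilizer G y ≤ stabilizer G c := by
  by_cases e : (Fx U : Set Ω) ⊆ Orb Q a
  · left
    rw [← Md.ncard_Orb q.le (q.semi a (h.S_fix hU)), Set.Subset.antisymm e]
    rintro _ ⟨w, hw, rfl⟩
    exact q.fix (h.S_fix hU) hw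
  right
  obtain ⟨y₀, y1, y2⟩ := Set.not_subset.1 e
  obtain ⟨w, w1, w2⟩ := SetLike.not_le_iff_exists.1 q.ne
  have w3 : w • a ≠ a := fun e => w2 ((q.semi a (h.S_fix hU) w w1).1 e)
  have h1 : ∀ y : Ω, U ≤ stabilizer G y → y ∉ Orb Q a → ∀ c ∈ Orb Q a, c ≠ a →
      stabilizer G a ⊓ stabilizer G y = stabilizer G a ⊓ stabilizer G c := fun y a1 a2 c a3 a4 =>
    h.stab_eq (fun e => a2 (e ▸ self_mem_Orb Q a)) a4 ((inf_comm _ _).le.trans
      (h.dich_aux (h.syl_at hU a1) q (h.S_fix hU) (fun e => a2 (Orb_eq e ▸ self_mem_Orb Q y)) a3))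
  have h2 : ∀ y : Ω, y ≠ a → U ≤ stabilizer G y → stabilizer G a ⊓ stabilizer G y = stabilizer G a ⊓ stabilizer G y₀ :=
    fun y a1 a2 => by
      by_cases a3 : y ∈ Orb Q a
      · exact (h1 y₀ y1 y2 y a3 a1).symm
      · exact (h1 y a2 a3 _ ⟨w, w1, rfl⟩ w3).trans (h1 y₀ y1 y2 _ ⟨w, w1, rfl⟩ w3).symm
  intro y c a1 a2 a3
  by_cases a4 : c = a
  · rw [a4]; exact inf_le_left
  · rw [h2 y a1 a2, ← h2 c a4 a3]
    exact inf_le_right

end Geo

end Cfsg.Agent.TH.Own.Rk
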