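import Mathlib
import Cfsg.Agent.TH.Own.RkLin

/-!
# S3541, `BoxRk1`: the torus, fixed point structures (helper90)
-/

set_option autoImplicit false
set_option linter.unusedSectionVars false
set_option linter.unusedVariables false

namespace Cfsg.Agent.TH.Own.Rk

open MulAction

variable {G : Type*} [Group G]

theorem two_mul_le {α β : Type*} {A : Set α} {Y : Set β} (hA : A.Finite) (hY : Y.Finite) (r : α → β → Prop) {n : ℕ}
    (h1 : ∀ x ∈ A, ∃ y ∈ Y, ∃ y' ∈ Y, y ≠ y' ∧ r x y ∧ r x y') (h2 : ∀ y ∈ Y, {x ∈ A | r x y}.ncard ≤ n) :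
    A.ncard * 2 ≤ Y.ncard * n := by
  classical
  rw [Set.ncard_eq_toFinset_card A hA, Set.ncard_eq_toFinset_card Y hY]
  refine Finset.card_mul_le_card_mul r (fun x hx => ?_) fun y hy => ?_
  · obtain ⟨y, a1, y', a2, a3, a4, a5⟩ := h1 x (hA.mem_toFinset.1 hx)
    exact Finset.one_lt_card.2 ⟨y, (Finset.mem_bipartiteAbove r).2 ⟨hY.mem_toFinset.2 a1, a4⟩, y',
      (Finset.mem_bipartiteAbove r).2 ⟨hY.mem_toFinset.2 a2, a5⟩, a3⟩
  · refine le_trans (le_of_eq ?_) (h2 y (hY.mem_toFinset.1 hy))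
    rw [← Set.ncard_coe_finset]
    congr 1
    ext x
    simp

theorem dvd_of_stab {Ω : Type*} [MulAction G Ω] [Finite G] {L K : Subgroup G} {y : Ω} (h : ∀ t ∈ L, t • y = y → t ∈ K) :
    K.relIndex L ∣ (Orb L y).ncard := by
  rw [ncard_Orb_eq, ← Subgroup.inf_relIndex_right (stabilizer G y)]
  exact Subgroup.relIndex_dvd_of_le_left _ fun t ht => h t ht.2 ht.1

/-- the torus -/
structure Tor (E U U' T1 : Subgroup G) : Prop where
  cyc : ∃ t₀ ∈ T0 E U U', ∀ t ∈ T0 E U U', ∃ (k : ℕ) (z : G), z ∈ Zc E ∧ t = t₀ ^ k * z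
  le1 : Zc E ≤ T1
  le0 : T1 ≤ T0 E U U'
  reg : ∀ t ∈ T0 E U U', t ∉ T1 → ∀ u ∈ U, u * t = t * u → u = 1

theorem mem_T0 {E U U' : Subgroup G} {t : G} : t ∈ T0 E U U' ↔ t ∈ E ∧ cj t U = U ∧ cj t U' = U' := by
  rw [T0, Subgroup.mem_inf, Subgroup.mem_inf, nm_iff, nm_iff, and_assoc]

theorem Zc_comm {E : Subgroup G} {z e : G} (hz : z ∈ Zc E) (he : e ∈ E) : Commute e z := hz.2 e he

namespace Tor

variable {E U U' T1 : Subgroup G} (t : Tor E U U' T1)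

include t

theorem comm {x y : G} (hx : x ∈ T0 E U U') (hy : y ∈ T0 E U U') : Commute x y := by
  obtain ⟨t₀, h0, h1⟩ := t.cyc
  obtain ⟨i, z, hz, rfl⟩ := h1 x hx
  obtain ⟨j, z', hz', rfl⟩ := h1 y hy
  have h2 := (mem_T0.1 h0).1
  exact ((Commute.pow_pow_self t₀ i j).mul_right (Zc_comm hz' (pow_mem h2 i))).mul_left
    (Zc_comm hz (mul_mem (pow_mem h2 j) hz'.1)).symm

theorem normal (K : Subgroup G) : (K.subgroupOf (T0 E U U')).Normal := ⟨fun x hx g => by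
  rw [Subgroup.mem_subgroupOf, Subgroup.coe_mul, Subgroup.coe_mul, t.comm g.2 x.2, Subgroup.coe_inv, mul_inv_cancel_right]
  exact hx⟩

theorem conj_pow {k x : G} (k1 : cj k E = E) (k2 : cj k (T0 E U U') = T0 E U U') (hx : x ∈ T0 E U U') :
    k⁻¹ * x ^ Nat.card (Zc E) * k ∈ Subgroup.zpowers (x ^ Nat.card (Zc E)) := by
  obtain ⟨t₀, h0, h1⟩ := t.cyc
  obtain ⟨i, z₀, hz₀, h2⟩ := h1 _ (nm_conj' k2 h0)
  obtain ⟨j, z, hz, h3⟩ := h1 x hx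
  have h4 := (mem_T0.1 h0).1
  have h5 : k⁻¹ * z * k ∈ Zc E := nm_conj' (nm_inf k1 (nm_cen k1)) hz
  have h6 : k⁻¹ * x * k = x ^ i * ((z ^ i)⁻¹ * (z₀ ^ j * (k⁻¹ * z * k))) := by
    have h7 : k⁻¹ * t₀ ^ j * k = (t₀ ^ i * z₀) ^ j := by
      rw [← h2]
      simpa using (_root_.conj_pow (a := k⁻¹) (b := t₀) (i := j)).symm
    calc k⁻¹ * x * k = (k⁻¹ * t₀ ^ j * k) * (k⁻¹ * z * k) := by rw [h3]; group
      _ = t₀ ^ (i * j) * (z₀ ^ j * (k⁻¹ * z * k)) := by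
        rw [h7, (Zc_comm hz₀ (pow_mem h4 i)).mul_pow, ← pow_mul, mul_assoc]
      _ = _ := by
        rw [h3, (Zc_comm hz (pow_mem h4 j)).mul_pow, ← pow_mul, mul_comm j i, mul_assoc (t₀ ^ (i * j)),
          mul_inv_cancel_left]
  have h7 : (z ^ i)⁻¹ * (z₀ ^ j * (k⁻¹ * z * k)) ∈ Zc E := mul_mem (inv_mem (pow_mem hz i)) (mul_mem (pow_mem hz₀ j) h5)
  have h8 : k⁻¹ * x ^ Nat.card (Zc E) * k = (k⁻¹ * x * k) ^ Nat.card (Zc E) := by
    simpa using (_root_.conj_pow (a := k⁻¹) (b := x) (i := Nat.card (Zc E))).symm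
  have h9 : ((z ^ i)⁻¹ * (z₀ ^ j * (k⁻¹ * z * k))) ^ Nat.card (Zc E) = 1 :=
    congrArg Subtype.val (pow_card_eq_one' (x := (⟨_, h7⟩ : Zc E)))
  rw [h8, h6, (Zc_comm h7 (pow_mem (mem_T0.1 hx).1 i)).mul_pow, h9, mul_one, ← pow_mul, mul_comm, pow_mul]
  exact pow_mem (Subgroup.mem_zpowers _) i

theorem card_le [Finite G] {S : Subgroup G} (h1 : S ≤ T0 E U U') (h2 : ∀ x ∈ S, x ∈ Zc E → x = 1)
    (h3 : ∀ x ∈ S, x ^ Nat.card (Zc E) = 1) : Nat.card S ≤ Nat.card (Zc E) := by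
  have := t.normal (Zc E)
  obtain ⟨t₀, h0, h4⟩ := t.cyc
  have : IsCyclic (T0 E U U' ⧸ (Zc E).subgroupOf (T0 E U U')) := ⟨⟨(⟨t₀, h0⟩ : T0 E U U'), fun x => by
    induction x using QuotientGroup.induction_on with
    | _ x =>
    obtain ⟨k, z, hz, e⟩ := h4 x x.2
    refine ⟨k, ?_⟩
    show ((⟨t₀, h0⟩ : T0 E U U') : T0 E U U' ⧸ (Zc E).subgroupOf (T0 E U U')) ^ (k : ℤ) = _
    rw [zpow_natCast, ← QuotientGroup.mk_pow, QuotientGroup.eq, Subgroup.mem_subgroupOf]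
    show (t₀ ^ k)⁻¹ * x ∈ _
    rwa [e, inv_mul_cancel_left]⟩⟩
  have h5 : IsCyclic S := isCyclic_of_injective
    ((QuotientGroup.mk' ((Zc E).subgroupOf (T0 E U U'))).comp (Subgroup.inclusion h1))
    ((injective_iff_map_eq_one _).2 fun x hx => Subtype.ext (h2 x x.2 
      ((QuotientGroup.eq_one_iff (N := (Zc E).subgroupOf (T0 E U U')) (Subgroup.inclusion h1 x)).1 hx)))
  rw [← IsCyclic.exponent_eq_card]
  exact Nat.le_of_dvd Nat.card_pos (Monoid.exponent_dvd_of_forall_pow_eq_one fun x => Subtype.ext (h3 x x.2))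

end Tor

namespace Geo

variable {Ω : Type*} [MulAction G Ω] {T : Subgroup G} {p m : ℕ} {E : Ω → Subgroup G} (h : Geo Ω T p m E)
  [Finite G] [hp : Fact p.Prime] {a : Ω} {U U' : Subgroup G} (hU : MaxP p (E a) U) (hU' : MaxP p (E a) U') (hne : U' ≠ U)

include h hU hU' hne

theorem pow_mem_T1 {T1 : Subgroup G} (t : Tor (E a) U U' T1) {x : G} (hx : x ∈ T0 (E a) U U') {y : Ω} (hy : y ≠ a)
    (e : x • y = y) : x ^ Nat.card (Zc (E a)) ∈ T1 := by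
  by_contra h1
  have h2 := pow_mem hx (Nat.card (Zc (E a)))
  obtain ⟨h3, h4, h5⟩ := mem_T0.1 h2
  refine h.reg_fix hU hU' hne (h.fix a h3) h4 h5 (t.reg _ h2 h1) (fun k k1 k2 => t.conj_pow (h.nmE k1) ?_ hx) hy
    (pow_mem (show x ∈ stabilizer G y from e) _)
  rw [T0, cj_inf, cj_inf, h.nmE k1, cj_normalizer, cj_normalizer]
  rcases k2 with ⟨k2, k3⟩ | ⟨k2, k3⟩ <;> rw [k2, k3]
  exact inf_right_comm _ _ _

theorem mem_T1 {T1 : Subgroup G} (t : Tor (E a) U U' T1) (hc : (Nat.card (Zc (E a))).Coprime (T1.relIndex (T0 (E a) U U')))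
    {x : G} (hx : x ∈ T0 (E a) U U') {y : Ω} (hy : y ≠ a) (e : x • y = y) : x ∈ T1 :=
  have := t.normal T1
  mem_of_coprime hc (h.pow_mem_T1 hU hU' hne t hx hy e) (Subgroup.pow_index_mem (T1.subgroupOf _) ⟨x, hx⟩)

omit hU' hne in
theorem inv_l {x : G} (hx : x ∈ T0 (E a) U U') {y : Ω} (hy : y ∈ (Fx U : Set Ω) \ {a}) : x • y ∈ (Fx U : Set Ω) \ {a} :=
  ⟨le_stab_smul (mem_T0.1 hx).2.1 hy.1, fun e => hy.2 (smul_left_cancel x (e.trans (h.fix a (mem_T0.1 hx).1).symm))⟩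

omit hU hU' hne in
theorem inv_Q {Q : Subgroup G} (q : QX T p U Q Ω) {x : G} (hx : x ∈ T0 (E a) U U') {y : Ω} (hy : y ∈ Orb Q a \ {a}) :
    x • y ∈ Orb Q a \ {a} := by
  obtain ⟨⟨w, hw, rfl⟩, h1⟩ := hy
  have h2 : x • a = a := h.fix a (mem_T0.1 hx).1
  exact ⟨⟨x * w * x⁻¹, nm_conj (q.nQ x (mem_T0.1 hx).2.1) hw, by rw [mul_smul, inv_smul_eq_iff.2 h2.symm, mul_smul]⟩,
    fun e => h1 (smul_left_cancel x (e.trans h2.symm))⟩

omit hU' hne in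
theorem Q_sub {Q : Subgroup G} (q : QX T p U Q Ω) : (Orb Q a \ {a}).ncard + 1 = U.relIndex Q := by
  rw [← Md.ncard_Orb q.le (q.semi a (h.S_fix hU))]
  exact Set.ncard_sdiff_singleton_add_one (self_mem_Orb Q a) (finite_Orb Q a)

omit hU' hne in
theorem Q_dvd {Q : Subgroup G} (q : QX T p U Q Ω) : U.relIndex Q ∣ (Fx U : Set Ω).ncard := by
  have h1 := h.dvd_F hU (Q := Q) (V := Q) (by rwa [h.X_eq hU]) (by rw [h.X_eq hU]; exact q.le) le_rfl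
  rwa [h.X_eq hU] at h1

omit h hU hU' hne in
theorem Q_pow {Q : Subgroup G} (q : QX T p U Q Ω) : ∃ i, 0 < i ∧ U.relIndex Q = p ^ i := by
  obtain ⟨k, hk⟩ := relIndex_eq_pow (A := U) q.isP
  exact ⟨k, Nat.pos_of_ne_zero fun e => q.ne (Subgroup.relIndex_eq_one.1 (by rw [hk, e, pow_zero])), hk⟩

omit hU' hne in
/-- the torus is not transitive on the other points of the line -/
theorem not_trans_l {y : Ω} (hy : y ∈ (Fx U : Set Ω) \ {a}) : (Orb (T0 (E a) U U') y).ncard + 1 ≠ (Fx U : Set Ω).ncard :=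
  fun e => by
    have := h.finΩ
    have h1 := h.F_sub hU
    have h2 := Set.eq_of_subset_of_ncard_le (s := Orb (T0 (E a) U U') y) (t := (Fx U : Set Ω) \ {a})
      (by rintro _ ⟨x, hx, rfl⟩; exact h.inv_l hU hx hy) (by omega) (Set.toFinite _)
    refine h.A.not_trans hU.isP (h.S_T hU) (h.S_fix hU) fun b c hb hc b1 c1 => ?_
    obtain ⟨x, hx, rfl⟩ : b ∈ Orb (T0 (E a) U U') y := h2 ▸ ⟨b1, hb⟩
    obtain ⟨x', hx', rfl⟩ : c ∈ Orb (T0 (E a) U U') y := h2 ▸ ⟨c1, hc⟩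
    exact ⟨x' * x⁻¹, h.fix a (mem_T0.1 (mul_mem hx' (inv_mem hx))).1, by rw [mul_smul, inv_smul_smul]⟩

section Fixed

variable {t : G} {q : ℕ} (ht : t ∈ T0 (E a) U U') (hq : Nat.card ↥(U ⊓ Subgroup.centralizer {t}) = q) (h2q : 2 ≤ q)

omit hU hU' hne in
theorem mem_sing {P : Subgroup G} : (∀ k ∈ ({t} : Set G), cj k P = P) ↔ cj t P = P := by simp

include ht hq h2q

theorem fx1 : {R | MaxP p (E a) R ∧ ∀ k ∈ ({t} : Set G), cj k R = R}.ncard = q + 1 := by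
  rw [h.ncard_fixS hU hU' hne (h.mem_sing.2 (mem_T0.1 ht).2.1) (h.mem_sing.2 (mem_T0.1 ht).2.2), hq]

theorem fx0 (P : Subgroup G) : ∃ P', MaxP p (E a) P' ∧ cj t P' = P' ∧ P' ≠ P := by
  by_cases e : U = P
  · exact ⟨U', hU', (mem_T0.1 ht).2.2, e ▸ hne⟩
  · exact ⟨U, hU, (mem_T0.1 ht).2.1, e⟩

theorem fx3 {y : Ω} (hy : y ≠ a) (e : t • y = y) : {R | MaxP p (E y) R ∧ ∀ k ∈ ({t} : Set G), cj k R = R}.ncard ≤ q + 1 := by
  obtain ⟨P, p1, p2⟩ := h.exS a y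
  have p3 := h.nm' hy p1 p2 (h.fix a (mem_T0.1 ht).1) e
  by_cases e1 : ∃ P', MaxP p (E y) P' ∧ cj t P' = P' ∧ P' ≠ P
  · obtain ⟨P', a1, a2, a3⟩ := e1
    obtain ⟨R, r1, r2, r3⟩ := h.fx0 hU hU' hne ht hq h2q P
    rw [h.ncard_fixS (h.syl_at p1 p2) a1 a3 (h.mem_sing.2 p3) (h.mem_sing.2 a2),
      ← h.ncard_fixS p1 r1 r3 (h.mem_sing.2 p3) (h.mem_sing.2 r2), h.fx1 hU hU' hne ht hq h2q]
  · refine le_trans (Set.ncard_le_ncard (t := {P}) (fun R hR => by_contra fun e2 => e1 ⟨R, hR.1, h.mem_sing.1 hR.2, e2⟩)) ?_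
    rw [Set.ncard_singleton]
    omega

theorem fx4 {y : Ω} (hy : y ≠ a) (e : t • y = y) (P : Subgroup G) (hP : MaxP p (E a) P) :
    ∃ x : Ω, x ≠ a ∧ t • x = x ∧ ¬ P ≤ stabilizer G x := by
  obtain ⟨R, p1, p2⟩ := h.exS a y
  obtain ⟨P', a1, a2, a3⟩ := h.fx0 hU hU' hne ht hq h2q P
  obtain ⟨R', r1, -, u, hu, u1, rfl⟩ := h.exists_cj_comm (K := {t}) (by rw [h.fx1 hU hU' hne ht hq h2q]; omega) p1 a1
    (h.mem_sing.2 (h.nm' hy p1 p2 (h.fix a (mem_T0.1 ht).1) e)) (h.mem_sing.2 a2)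
  have u2 : u • y ≠ a := fun e' => hy (smul_left_cancel u (e'.trans (h.S_fix r1 hu).symm))
  exact ⟨u • y, u2, by rw [← mul_smul, u1 t rfl, mul_smul, e], fun e' => a3 (h.uniq' u2 a1 hP (cj_le_stab.2 p2) e')⟩

theorem fx5 {y : Ω} (hy : y ≠ a) (e : t • y = y) {P : Subgroup G} (hP : MaxP p (E a) P) :
    {c : Ω | c ≠ a ∧ P ≤ stabilizer G c ∧ t • c = c}.ncard ≤ q := by
  have := h.finΩ
  obtain ⟨x, x1, x2, x3⟩ := h.fx4 hU hU' hne ht hq h2q hy e P hP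
  have h1 := h.fline hP x3 (A := insert a {c : Ω | c ≠ a ∧ P ≤ stabilizer G c ∧ t • c = c})
    (B := {R | MaxP p (E x) R ∧ ∀ k ∈ ({t} : Set G), cj k R = R})
    (by
      rintro c (rfl | hc)
      · exact h.S_fix hP
      · exact hc.2.1)
    (by
      rintro c (rfl | hc) R r1 r2
      · exact ⟨r1, h.mem_sing.2 (h.nm' x1.symm r1 r2 x2 (h.fix c (mem_T0.1 ht).1))⟩
      · exact ⟨r1, h.mem_sing.2 (h.nm' (c := c) (fun e' => x3 (by rw [← e']; exact hc.2.1)) r1 r2 x2 hc.2.2)⟩)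
  rw [Set.ncard_insert_of_notMem (fun e' => e'.1 rfl)] at h1
  have h2 := h.fx3 hU hU' hne ht hq h2q x1 x2
  omega

/-- an involution on lines of odd length -/
theorem odd_contra (t2 : t * t = 1) (h3q : 3 ≤ q) (hcard : Nat.card U = q ^ 3) (hodd : ¬ 2 ∣ (Fx U : Set Ω).ncard) : False := by
  have := h.finΩ
  have ta : t • a = a := h.fix a (mem_T0.1 ht).1
  set S₀ := {R | MaxP p (E a) R ∧ ∀ k ∈ ({t} : Set G), cj k R = R} with hS₀
  set F := (Fx U : Set Ω).ncard with hF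
  have h1 := h.count hU (B := {R | MaxP p (E a) R} \ S₀) fun _ a => a.1
  have h2 := Set.ncard_sdiff_add_ncard_of_subset (s := S₀) (t := {R | MaxP p (E a) R}) fun _ a => a.1
  rw [h.ncard_S hU, h.fx1 hU hU' hne ht hq h2q, hcard] at h2
  have h3 : {y : Ω | y ≠ a ∧ t • y = y}.ncard ≤ (q + 1) * q := by
    by_cases e : ∃ y : Ω, y ≠ a ∧ t • y = y
    · obtain ⟨y, y1, y2⟩ := e
      rw [← h.fx1 hU hU' hne ht hq h2q]
      exact ncard_le_mul (Set.toFinite _) (fun P => {c : Ω | c ≠ a ∧ P ≤ stabilizer G c ∧ t • c = c})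
        (fun x hx => by
          obtain ⟨P, p1, p2⟩ := h.exS a x
          exact ⟨P, ⟨p1, h.mem_sing.2 (h.nm' hx.1 p1 p2 ta hx.2)⟩, hx.1, p2, hx.2⟩)
        fun P hP => ⟨Set.toFinite _, h.fx5 hU hU' hne ht hq h2q y1 y2 hP.1⟩
    · rw [show {y : Ω | y ≠ a ∧ t • y = y} = ∅ from Set.eq_empty_of_forall_notMem fun y hy => e ⟨y, hy⟩, Set.ncard_empty]
      exact Nat.zero_le _
  have h4 := two_mul_le (A := {x | x ≠ a ∧ ∃ P ∈ {R | MaxP p (E a) R} \ S₀, P ≤ stabilizer G x})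
    (Y := {y : Ω | y ≠ a ∧ t • y = y}) (Set.toFinite _) (Set.toFinite _)
    (fun x y => ∃ R, MaxP p (E y) R ∧ cj t R = R ∧ R ≤ stabilizer G x) (n := q * (F - 1))
    (by
      rintro x ⟨x1, P, ⟨p1, p2⟩, p3⟩
      have x2 : t • x ≠ x := fun e => p2 ⟨p1, h.mem_sing.2 (h.nm' x1 p1 p3 ta e)⟩
      obtain ⟨L, l1, l2⟩ := h.exS x (t • x)
      have l3 : cj t L = L := h.ln_uniq (h.cjS l1 t) l1 x2
        (by have := cj_le_stab (g := t).2 l2; rwa [← mul_smul, t2, one_smul] at this) (cj_le_stab.2 (h.S_fix l1))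
        (h.S_fix l1) l2
      have l4 : ¬ L ≤ stabilizer G a := fun e =>
        p2 ⟨p1, h.mem_sing.2 (h.uniq' x1 (h.syl_at l1 e) p1 (h.S_fix l1) p3 ▸ l3)⟩
      have : Fact (Nat.Prime 2) := ⟨Nat.prime_two⟩
      have l5 := modEq_fix (p := 2) (isP_zpowers (g := t) (n := 1) (by rw [pow_one, pow_two, t2])) (Fx L : Set Ω)
        (Set.toFinite _) fun g hg c hc => le_stab_smul
          (nm_iff.1 ((Subgroup.zpowers_le (H := Subgroup.normalizer (L : Set G))).2 (nm_iff.2 l3) hg)) hc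
      obtain ⟨y, y1, y2⟩ : ((Fx L : Set Ω) ∩ Fx (Subgroup.zpowers t)).Nonempty := by
        rw [← Set.ncard_pos (Set.toFinite _)]
        refine Nat.pos_of_ne_zero fun e => hodd ?_
        rw [e, h.F_eq hU l1] at l5
        exact (Nat.modEq_zero_iff_dvd).1 l5
      have y3 : t • y = y := y2 (Subgroup.mem_zpowers t)
      have y4 : y ≠ a := fun e => l4 (by rw [← e]; exact y1)
      obtain ⟨R, r1, r2⟩ := h.exS a y
      have r3 := h.nm' y4 r1 r2 ta y3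
      obtain ⟨x₀, -, z2, z3⟩ := h.fx4 hU hU' hne ht hq h2q y4 y3 R r1
      have z4 : x₀ ≠ y := fun e => z3 (by rw [e]; exact r2)
      obtain ⟨L₀, m1, m2⟩ := h.exS y x₀
      have m3 : L₀ ≠ R := fun e => z3 (e ▸ m2)
      obtain ⟨u, hu, rfl⟩ := h.exists_cj (h.syl_at r1 r2) m1 (h.syl_at l1 y1) m3 fun e => l4 (e ▸ h.S_fix r1)
      have u1 := h.comm_of_three (h.syl_at r1 r2) m1 m3 hu r3 (h.nm' z4 m1 m2 y3 z2) l3
      have u2 : cj u L₀ ≤ stabilizer G (u • x₀) := cj_le_stab.2 m2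
      exact ⟨y, ⟨y4, y3⟩, u • x₀, ⟨fun e => l4 (e ▸ u2), by rw [← mul_smul, u1, mul_smul, z2]⟩,
        fun e => z4 (smul_left_cancel u (e.symm.trans (r2 hu).symm)), ⟨_, h.syl_at l1 y1, l3, h.S_fix l1⟩,
        ⟨_, h.syl_at l1 u2, l3, h.S_fix l1⟩⟩)
    (by
      rintro y ⟨y1, y2⟩
      obtain ⟨R, r1, r2⟩ := h.exS a y
      have r3 := h.nm' y1 r1 r2 ta y2
      have r4 := Set.ncard_sdiff_singleton_add_one (s := {L | MaxP p (E y) L ∧ ∀ k ∈ ({t} : Set G), cj k L = L}) (a := R)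
        ⟨h.syl_at r1 r2, h.mem_sing.2 r3⟩
      have r5 := h.fx3 hU hU' hne ht hq h2q y1 y2
      refine le_trans (ncard_le_mul (B := {L | MaxP p (E y) L ∧ ∀ k ∈ ({t} : Set G), cj k L = L} \ {R}) (Set.toFinite _)
        (fun L => (Fx L : Set Ω) \ {y}) (c := F - 1) ?_ fun L hL => ⟨Set.toFinite _, ?_⟩)
        (Nat.mul_le_mul_right _ (by omega))
      · rintro x ⟨⟨x1, P, ⟨p1, p2⟩, p3⟩, L, l1, l2, l3⟩
        have x2 : ¬ R ≤ stabilizer G x := fun e => p2 ⟨p1, h.mem_sing.2 (h.uniq' x1 r1 p1 e p3 ▸ r3)⟩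
        exact ⟨L, ⟨⟨l1, h.mem_sing.2 l2⟩, fun e => x2 (e ▸ l3)⟩, l3, fun e => x2 (by rw [e]; exact r2)⟩
      · have l1 := h.F_sub hL.1.1
        rw [h.F_eq hU hL.1.1] at l1
        omega)
  rw [h1] at h4
  have h5 := h.two_le_F hU
  have h6 : ({R | MaxP p (E a) R} \ S₀).ncard * 2 ≤ (q + 1) * q * q := by
    refine Nat.le_of_mul_le_mul_right (c := F - 1) ?_ (by omega)
    calc _ = ({R | MaxP p (E a) R} \ S₀).ncard * (F - 1) * 2 := by ring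
      _ ≤ _ := h4
      _ ≤ (q + 1) * q * (q * (F - 1)) := Nat.mul_le_mul_right _ h3
      _ = _ := by ring
  have h7 : q * q * 3 ≤ q * q * q := Nat.mul_le_mul_left _ h3q
  have h8 : q * 3 ≤ q * q := Nat.mul_le_mul_left _ h3q
  have h9 : q ^ 3 = q * q * q := by ring
  have h10 : (q + 1) * q * q = q * q * q + q * q := by ring
  omega

end Fixed

end Geo

end Cfsg.Agent.TH.Own.Rk
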