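import Mathlib
import Cfsg.Agent.TH.Own.RkTor

/-!
# S3541, `BoxRk1`: the four families (helper90)
-/

set_option autoImplicit false
set_option linter.unusedSectionVars false
set_option linter.unusedVariables false

namespace Cfsg.Agent.TH.Own.Rk

open MulAction

variable {G : Type*} [Group G]

theorem pow_dvd_of_le {p i k : ℕ} (hp : 2 ≤ p) (h : p ^ k ≤ p ^ i) : p ^ k ∣ p ^ i :=
  pow_dvd_pow p ((Nat.pow_le_pow_iff_right (by omega)).1 h)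

theorem ar0 {x c b d : ℕ} (h1 : x - 1 ∣ d * (x * c - 1)) (h2 : 0 < c) (h0 : 0 < x) (h3 : c < b) (h4 : d * (b - 2) < x - 1)
    (hd : 0 < d) : c = 1 := by
  obtain ⟨x, rfl⟩ : ∃ y, x = y + 1 := ⟨x - 1, by omega⟩
  obtain ⟨c, rfl⟩ : ∃ y, c = y + 1 := ⟨c - 1, by omega⟩
  rw [show (x + 1) * (c + 1) - 1 = x * (c + 1) + c by
    rw [add_mul, one_mul, ← add_assoc, Nat.add_sub_cancel], mul_add, Nat.add_sub_cancel] at h1
  have h5 := (Nat.dvd_add_right (dvd_mul_of_dvd_right (dvd_mul_right x _) d)).1 h1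
  have h6 : d * c ≤ d * (b - 2) := Nat.mul_le_mul_left _ (by omega)
  have h7 := Nat.eq_zero_of_dvd_of_lt h5 (by omega)
  rcases Nat.mul_eq_zero.1 h7 with h8 | h8 <;> omega

theorem ar1 {x i : ℕ} (h1 : x - 1 ∣ 3 * (2 ^ i - 1)) (h2 : 2 ^ i < x) (h3 : 4 ∣ x) (h4 : 4 < x) : i = 0 := by
  obtain ⟨k, hk⟩ := h1
  obtain ⟨y, rfl⟩ := h3
  rcases i with _ | _ | i
  · rfl
  · rcases k with _ | k
    · omega
    · have := Nat.le_mul_of_pos_right (m := k + 1) (4 * y - 1) (by omega)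
      omega
  · rw [pow_succ, pow_succ] at hk h2
    have h5 := Nat.two_pow_pos i
    rcases k with _ | _ | _ | k
    · omega
    · omega
    · omega
    · have : (4 * y - 1) * 3 ≤ (4 * y - 1) * (k + 1 + 1 + 1) := Nat.mul_le_mul_left _ (by omega)
      omega

theorem exists_root {p q n e : ℕ} (hp : p.Prime) (h : q ^ (e + 1) = p ^ n) (hn : 0 < n) : ∃ k, 0 < k ∧ q = p ^ k := by
  obtain ⟨k, -, hk⟩ := (Nat.dvd_prime_pow hp).1 (h ▸ dvd_pow_self q (Nat.succ_ne_zero e))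
  refine ⟨k, Nat.pos_of_ne_zero fun e' => ?_, hk⟩
  rw [hk, e', pow_zero, one_pow] at h
  exact (Nat.one_lt_pow hn.ne' hp.one_lt).ne h

/-- the elements of `Q` which are central of order at most two modulo `U` -/
theorem QX.exists_V {Ω : Type*} [MulAction G Ω] [Finite G] {T U Q : Subgroup G} (q : QX T 2 U Q Ω) :
    ∃ V, QX T 2 U V Ω ∧ ∀ w ∈ V, w * w ∈ U := by
  have : Fact (Nat.Prime 2) := ⟨Nat.prime_two⟩
  let V : Subgroup G :=
    { carrier := {w | w ∈ Q ∧ w * w ∈ U ∧ ∀ v ∈ Q, w * v * w⁻¹ * v⁻¹ ∈ U}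
      one_mem' := ⟨one_mem _, by simp, fun v _ => by simp⟩
      mul_mem' := fun {w x} hw hx => ⟨mul_mem hw.1 hx.1, by
        have h1 := mul_mem (mul_mem (nm_conj (q.nX w hw.1) (hx.2.2 w hw.1)) hw.2.1) hx.2.1
        rwa [show w * (x * w * x⁻¹ * w⁻¹) * w⁻¹ * (w * w) * (x * x) = w * x * (w * x) by group] at h1, fun v hv => by
        have h1 := mul_mem (nm_conj (q.nX w hw.1) (hx.2.2 v hv)) (hw.2.2 v hv)
        rwa [show w * (x * v * x⁻¹ * v⁻¹) * w⁻¹ * (w * v * w⁻¹ * v⁻¹) = w * x * v * (w * x)⁻¹ * v⁻¹ by group] at h1⟩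
      inv_mem' := fun {w} hw => ⟨inv_mem hw.1, by rw [← mul_inv_rev]; exact inv_mem hw.2.1, fun v hv => by
        have h1 := nm_conj' (q.nX w hw.1) (inv_mem (hw.2.2 v hv))
        rwa [show w⁻¹ * (w * v * w⁻¹ * v⁻¹)⁻¹ * w = w⁻¹ * v * w⁻¹⁻¹ * v⁻¹ by group] at h1⟩ }
  have h1 : V ≤ Q := fun w hw => hw.1
  refine ⟨V, ⟨q.isP.to_le h1, h1.trans q.leT, fun u hu => ⟨q.le hu, mul_mem hu hu, fun v hv => ?_⟩,
    fun w hw => q.nX w hw.1, fun g hg => nm_of_conj fun w hw => ⟨nm_conj (q.nQ g hg) hw.1, ?_, fun v hv => ?_⟩, fun e => ?_,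
    fun c hc w hw => q.semi c hc w hw.1⟩, fun w hw => hw.2.1⟩
  · have h2 := mul_mem hu (nm_conj (q.nX v hv) (inv_mem hu))
    rwa [← mul_assoc, ← mul_assoc] at h2
  · have h2 := nm_conj hg hw.2.1
    rwa [show g * (w * w) * g⁻¹ = g * w * g⁻¹ * (g * w * g⁻¹) by group] at h2
  · have h2 := nm_conj hg (hw.2.2 _ (nm_conj' (q.nQ g hg) hv))
    rwa [show g * (w * (g⁻¹ * v * g) * w⁻¹ * (g⁻¹ * v * g)⁻¹) * g⁻¹ = g * w * g⁻¹ * v * (g * w * g⁻¹)⁻¹ * v⁻¹ by group] at h2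
  · have : (U.subgroupOf Q).Normal := ⟨fun x hx g => Subgroup.mem_subgroupOf.2 (nm_conj (q.nX g g.2) hx)⟩
    have h2 := q.isP.to_quotient (U.subgroupOf Q)
    have : Nontrivial (Q ⧸ U.subgroupOf Q) :=
      QuotientGroup.nontrivial_iff.2 fun e' => q.ne (Subgroup.subgroupOf_eq_top.1 e')
    have := h2.center_nontrivial
    obtain ⟨n, h3, h4⟩ := (h2.to_subgroup (Subgroup.center _)).nontrivial_iff_card.1 this
    obtain ⟨⟨z, hz⟩, h5⟩ := exists_prime_orderOf_dvd_card' (G := Subgroup.center (Q ⧸ U.subgroupOf Q)) 2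
      (h4 ▸ dvd_pow_self 2 h3.ne')
    induction z using QuotientGroup.induction_on with
    | _ w =>
    have h6 : ((w * w : Q) : Q ⧸ U.subgroupOf Q) = 1 := by
      have h7 := congrArg Subtype.val (pow_orderOf_eq_one (⟨_, hz⟩ : Subgroup.center (Q ⧸ U.subgroupOf Q)))
      rwa [h5, pow_two] at h7
    have h7 : (w : G) ∈ U := e ⟨w.2, Subgroup.mem_subgroupOf.1 ((QuotientGroup.eq_one_iff _).1 h6), fun v hv => by
      have h8 : ((w * ⟨v, hv⟩ * w⁻¹ * (⟨v, hv⟩ : Q)⁻¹ : Q) : Q ⧸ U.subgroupOf Q) = 1 := by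
        rw [QuotientGroup.mk_mul, QuotientGroup.mk_mul, QuotientGroup.mk_mul, ← Subgroup.mem_center_iff.1 hz,
          QuotientGroup.mk_inv, QuotientGroup.mk_inv, mul_inv_cancel_right, mul_inv_cancel]
      exact Subgroup.mem_subgroupOf.1 ((QuotientGroup.eq_one_iff _).1 h8)⟩
    have h8 : (⟨_, hz⟩ : Subgroup.center (Q ⧸ U.subgroupOf Q)) = 1 := Subtype.ext ((QuotientGroup.eq_one_iff w).2 h7)
    rw [h8, orderOf_one] at h5
    omega

namespace Geo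

variable {Ω : Type*} [MulAction G Ω] {T : Subgroup G} {p m : ℕ} {E : Ω → Subgroup G} (h : Geo Ω T p m E)
  [Finite G] [hp : Fact p.Prime] {a : Ω} {U U' : Subgroup G} (hU : MaxP p (E a) U) (hU' : MaxP p (E a) U') (hne : U' ≠ U)
  {T1 : Subgroup G} (t : Tor (E a) U U' T1)

include h hU

theorem Z_semi {z : G} (hz : z ∈ Zc (E a)) {y : Ω} (hy : y ≠ a) (e : z • y = y) : z = 1 :=
  h.cen_semi hy (fun _ he => (Zc_comm hz he).symm) e

theorem dvd_l {K : Subgroup G} (hK : ∀ y ∈ (Fx U : Set Ω) \ {a}, ∀ x ∈ T0 (E a) U U', x • y = y → x ∈ K) :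
    K.relIndex (T0 (E a) U U') ∣ (Fx U : Set Ω).ncard - 1 := by
  have := h.finΩ
  rw [← h.F_sub hU, Nat.add_sub_cancel]
  exact dvd_ncard_of_Orb _ _ (Set.toFinite _) (fun g hg b hb => h.inv_l hU hg hb) fun b hb => dvd_of_stab (hK b hb)

theorem Q_l {Q : Subgroup G} (q : QX T p U Q Ω) : Orb Q a \ {a} ⊆ (Fx U : Set Ω) \ {a} := by
  rintro _ ⟨⟨w, hw, rfl⟩, h1⟩
  exact ⟨le_stab_smul (q.nX w hw) (h.S_fix hU), h1⟩

theorem dvd_Q {Q : Subgroup G} (q : QX T p U Q Ω) {K : Subgroup G}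
    (hK : ∀ y ∈ (Fx U : Set Ω) \ {a}, ∀ x ∈ T0 (E a) U U', x • y = y → x ∈ K) :
    K.relIndex (T0 (E a) U U') ∣ U.relIndex Q - 1 := by
  have := h.finΩ
  rw [← h.Q_sub hU q, Nat.add_sub_cancel]
  exact dvd_ncard_of_Orb _ _ (Set.toFinite _) (fun g hg b hb => h.inv_Q q hg hb) fun b hb =>
    dvd_of_stab (hK b (h.Q_l hU q hb))

include hU' hne t

theorem caseL (c : CaseL (E a) U U' T1) : False := by
  obtain ⟨rfl, -, c2⟩ := c
  have := h.finΩ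
  obtain ⟨Q, q⟩ := h.exists_QU hU
  obtain ⟨i, hi, h1⟩ := Q_pow q
  obtain ⟨n, -, h2⟩ := h.exists_pow hU
  have h3 := h.Q_sub hU q
  have h4 : 1 < p ^ i := Nat.one_lt_pow hi.ne' hp.1.one_lt
  obtain ⟨y, hy⟩ : (Orb Q a \ {a}).Nonempty := (Set.ncard_pos (Set.toFinite _)).1 (by omega)
  have h5 := t.card_le (S := T0 (E a) U U' ⊓ stabilizer G y) inf_le_left (fun x hx hz => h.Z_semi hU hz hy.2 hx.2)
    fun x hx => h.Z_semi hU (h.pow_mem_T1 hU hU' hne t hx.1 hy.2 hx.2) hy.2 (pow_mem hx.2 _)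
  have h6 := ncard_Orb_mul (T0 (E a) U U') y
  rw [← card_mul_relIndex t.le0] at h6
  have h7 : (Zc (E a)).relIndex (T0 (E a) U U') ≤ (Orb (T0 (E a) U U') y).ncard := by
    refine Nat.le_of_mul_le_mul_left (c := Nat.card (Zc (E a))) ?_ Nat.card_pos
    rw [← h6, mul_comm (Nat.card (Zc (E a)))]
    exact Nat.mul_le_mul_left _ h5
  have h8 := Set.ncard_le_ncard (s := Orb (T0 (E a) U U') y) (t := Orb Q a \ {a})
    (by rintro _ ⟨x, hx, rfl⟩; exact h.inv_Q q hx hy)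
  have h9 := Nat.le_of_dvd (by have := h.two_le_F hU; omega) (h.Q_dvd hU q)
  have h10 := h.F_lt hU
  have h11 : p ^ (i + 1) ≤ p ^ n := Nat.pow_le_pow_right hp.1.pos ((Nat.pow_lt_pow_iff_right hp.1.one_lt).1 (by omega))
  have h12 : p ^ i * 2 ≤ p ^ i * p := Nat.mul_le_mul_left _ hp.1.two_le
  rw [pow_succ] at h11
  omega

theorem caseS (c : CaseS p (E a) U U' T1) : False := by
  obtain ⟨-, rfl, q₀, c1, c2⟩ := c
  obtain ⟨Q, q⟩ := h.exists_QU hU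
  obtain ⟨i, hi, h1⟩ := Q_pow q
  obtain ⟨n, hn, h2⟩ := h.exists_pow hU
  obtain ⟨k, -, rfl⟩ := exists_root (e := 1) hp.1 (c1.symm.trans h2) hn
  have h3 : ∀ y ∈ (Fx U : Set Ω) \ {a}, ∀ x ∈ T0 (E a) U U', x • y = y → x ∈ (⊥ : Subgroup G) := fun y hy x hx e =>
    h.mem_T1 hU hU' hne t (by rw [le_bot_iff.1 t.le1, Subgroup.card_bot]; exact Nat.coprime_one_left _) hx hy.2 e
  have h4 := h.dvd_l hU h3
  have h5 := h.dvd_Q hU q h3
  have h0 : Nat.card (T0 (E a) U U') = p ^ k - 1 := by omega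
  rw [Subgroup.relIndex_bot_left, h0] at h4 h5
  have h6 : 1 < p ^ i := Nat.one_lt_pow hi.ne' hp.1.one_lt
  have h7 := Nat.le_of_dvd (by omega) h5
  have h8 : 0 < Nat.card (T0 (E a) U U') := Nat.card_pos
  obtain ⟨c, hc⟩ := (pow_dvd_of_le hp.1.two_le (by omega : p ^ k ≤ p ^ i)).trans (h1 ▸ h.Q_dvd hU q)
  have h9 := h.two_le_F hU
  have h10 := h.F_lt hU
  rw [hc, c1, pow_two] at h10
  have h11 := ar0 (d := 1) (b := p ^ k) (by rwa [one_mul, ← hc]) (Nat.pos_of_ne_zero fun e => by rw [e] at hc; omega)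
    (by omega) (Nat.lt_of_mul_lt_mul_left h10) (by omega) one_pos
  obtain ⟨y, y1, y2⟩ := h.exists_pt hU
  refine h.not_trans_l (U' := U') hU ⟨y2, y1⟩ ?_
  rw [Md.ncard_Orb (V := ⊥) bot_le fun w hw => ⟨h3 y ⟨y2, y1⟩ w hw, fun e => by rw [Subgroup.mem_bot.1 e, one_smul]⟩,
    Subgroup.relIndex_bot_left, c2, hc, h11, mul_one]

theorem caseO (c : CaseO p (E a) U U' T1) : False := by
  obtain ⟨c0, q₀, c1, c2, c3, s, s1, s2, s3, s4⟩ := c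
  have := h.finΩ
  obtain ⟨n, hn, h2⟩ := h.exists_pow hU
  obtain ⟨k, hk, h3⟩ := exists_root (e := 2) hp.1 (c1.symm.trans h2) hn
  have h4 : 3 ≤ p := by have := hp.1.two_le; omega
  have h5 : p ∣ q₀ := h3 ▸ dvd_pow_self p hk.ne'
  have h6 : 3 ≤ q₀ := h4.trans (Nat.le_of_dvd (h3 ▸ pow_pos hp.1.pos k) h5)
  have h7 : ∀ i, ¬ 2 ∣ p ^ i := fun i e =>
    c0 ((Nat.prime_dvd_prime_iff_eq Nat.prime_two hp.1).1 (Nat.prime_two.dvd_of_dvd_pow e)).symm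
  have s0 := t.le0 s1
  refine h.odd_contra hU hU' hne s0 s4 (by omega) s3 h6 c1 fun e => ?_
  have h8 := h.F_sub hU
  have : Fact (Nat.Prime 2) := ⟨Nat.prime_two⟩
  have h9 := modEq_fix (p := 2) (isP_zpowers (g := s) (n := 1) (by rw [pow_one, pow_two, s3])) ((Fx U : Set Ω) \ {a})
    (Set.toFinite _) fun g hg c hc => h.inv_l hU (Subgroup.zpowers_le.2 s0 hg) hc
  obtain ⟨y, y1, y2⟩ : (((Fx U : Set Ω) \ {a}) ∩ Fx (Subgroup.zpowers s)).Nonempty := by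
    rw [← Set.ncard_pos (Set.toFinite _)]
    refine Nat.pos_of_ne_zero fun e' => ?_
    rw [e'] at h9
    have := (Nat.modEq_zero_iff_dvd).1 h9
    omega
  have y3 : s • y = y := y2 (Subgroup.mem_zpowers s)
  obtain ⟨Q, q⟩ := h.exists_QU hU
  rcases h.dich hU q with h10 | h10
  · obtain ⟨i, -, h1⟩ := Q_pow q
    exact h7 i (h1 ▸ h10 ▸ e)
  have h11 := le_trans' (h.fx5 hU hU' hne s0 s4 (by omega) y1.2 y3 hU) (Set.ncard_le_ncard (s := (Fx U : Set Ω) \ {a})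
    fun c hc => ⟨hc.2, hc.1, h10 y c y1.2 y1.1 hc.1 ⟨h.fix a (mem_T0.1 s0).1, y3⟩⟩)
  obtain ⟨j, hj⟩ := c2.trans (Nat.mul_dvd_mul_left 2 (h.dvd_l hU fun y hy x hx e =>
    h.mem_T1 hU hU' hne t (c3.coprime_dvd_right (dvd_mul_left _ 2)) hx hy.2 e))
  have h12 := h.p_dvd_F hU
  have h13 := h.two_le_F hU
  have h14 : ∀ x, p ∣ x → x ≠ q₀ + 1 := fun x a b =>
    hp.1.one_lt.ne' (Nat.dvd_one.1 ((Nat.dvd_add_right h5).1 (b ▸ a)))
  have h15 := h14 _ h12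
  have h16 := h14 _ (h12.mul_left 2)
  have h17 := h7 k
  rcases j with _ | _ | _ | j
  · omega
  · omega
  · omega
  · have : (q₀ - 1) * 3 ≤ (q₀ - 1) * (j + 1 + 1 + 1) := Nat.mul_le_mul_left _ (by omega)
    omega

section E

variable {q₀ : ℕ} (c1 : 4 ≤ q₀) (c3 : T1.relIndex (T0 (E a) U U') + 1 = q₀)
  (c4 : (Nat.card (Zc (E a))).Coprime (T1.relIndex (T0 (E a) U U')))
  (c6 : ∀ s ∈ T1, s ∉ Zc (E a) → Nat.card ↥(U ⊓ Subgroup.centralizer {s}) = q₀)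

include c1 c3 c4 c6

theorem e1 {s : G} (s0 : s ∈ T0 (E a) U U') (s1 : s ≠ 1) {y : Ω} (hy : y ∈ (Fx U : Set Ω) \ {a}) (e : s • y = y) :
    Orb (T0 (E a) U U') y = {c : Ω | c ≠ a ∧ U ≤ stabilizer G c ∧ s • c = c} ∧
      (Orb (T0 (E a) U U') y).ncard + 1 = q₀ ∧ T1 ≤ stabilizer G y := by
  have := h.finΩ
  have h0 : ∀ y ∈ (Fx U : Set Ω) \ {a}, ∀ x ∈ T0 (E a) U U', x • y = y → x ∈ T1 := fun y hy x hx e =>
    h.mem_T1 hU hU' hne t c4 hx hy.2 e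
  have h1 := h.fx5 hU hU' hne s0 (c6 s (h0 y hy s s0 e) fun hz => s1 (h.Z_semi hU hz hy.2 e)) (by omega) hy.2 e hU
  have h2 : ∀ g ∈ T0 (E a) U U', ∀ b ∈ {c : Ω | c ≠ a ∧ U ≤ stabilizer G c ∧ s • c = c},
      g • b ∈ {c : Ω | c ≠ a ∧ U ≤ stabilizer G c ∧ s • c = c} := fun g hg b hb =>
    ⟨(h.inv_l hU hg ⟨hb.2.1, hb.1⟩).2, (h.inv_l hU hg ⟨hb.2.1, hb.1⟩).1, by
      rw [← mul_smul, t.comm s0 hg, mul_smul, hb.2.2]⟩
  obtain ⟨k, hk⟩ := dvd_ncard_of_Orb _ _ (Set.toFinite _) h2 fun b hb => dvd_of_stab (h0 b ⟨hb.2.1, hb.1⟩)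
  obtain ⟨j, hj⟩ := dvd_of_stab (h0 y hy)
  have h3 : Orb (T0 (E a) U U') y ⊆ {c : Ω | c ≠ a ∧ U ≤ stabilizer G c ∧ s • c = c} := by
    rintro _ ⟨g, hg, rfl⟩
    exact h2 g hg y ⟨hy.2, hy.1, e⟩
  have h4 := Set.ncard_le_ncard h3
  have h5 : 0 < (Orb (T0 (E a) U U') y).ncard := (Set.ncard_pos (Set.toFinite _)).2 ⟨y, self_mem_Orb _ y⟩
  have h6 : ∀ i, 0 < T1.relIndex (T0 (E a) U U') * i → T1.relIndex (T0 (E a) U U') * i ≤ q₀ → i = 1 := fun i b1 b2 => by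
    rcases i with _ | _ | i
    · omega
    · rfl
    · have : T1.relIndex (T0 (E a) U U') * 2 ≤ T1.relIndex (T0 (E a) U U') * (i + 1 + 1) := Nat.mul_le_mul_left _ (by omega)
      omega
  rw [h6 k (by omega) (by omega), mul_one] at hk
  rw [h6 j (by omega) (by omega), mul_one] at hj
  refine ⟨Set.eq_of_subset_of_ncard_le h3 (by omega) (Set.toFinite _), by omega, ?_⟩
  have h7 := ncard_Orb_mul (T0 (E a) U U') y
  rw [hj, ← card_mul_relIndex t.le0, mul_comm] at h7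
  rw [← Subgroup.eq_of_le_of_card_ge (H := T0 (E a) U U' ⊓ stabilizer G y) (K := T1) (fun x hx => h0 y hy x hx.1 hx.2)
    (Nat.eq_of_mul_eq_mul_right (by omega) h7).ge]
  exact inf_le_right

theorem e2 {s : G} (s0 : s ∈ T0 (E a) U U') (s1 : s ≠ 1) {y : Ω} (hy : y ∈ (Fx U : Set Ω) \ {a}) (e : s • y = y) :
    ∃ k, (Fx U : Set Ω).ncard = q₀ + Nat.card (T0 (E a) U U') * k := by
  have := h.finΩ
  obtain ⟨h1, h2, -⟩ := h.e1 hU hU' hne t c1 c3 c4 c6 s0 s1 hy e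
  have h3 : Orb (T0 (E a) U U') y ⊆ (Fx U : Set Ω) \ {a} := by
    rintro _ ⟨g, hg, rfl⟩
    exact h.inv_l hU hg hy
  obtain ⟨k, hk⟩ := dvd_ncard_of_Orb (T0 (E a) U U') (d := (⊥ : Subgroup G).relIndex (T0 (E a) U U'))
    (((Fx U : Set Ω) \ {a}) \ Orb (T0 (E a) U U') y) (Set.toFinite _)
    (fun g hg b hb => ⟨h.inv_l hU hg hb.1, fun e' => hb.2 (by simpa using smul_mem_Orb (inv_mem hg) e')⟩)
    fun b hb => dvd_of_stab fun x hx e' => by_contra fun x1 => hb.2 (by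
      rw [h1]
      exact ⟨hb.1.2, hb.1.1, (h.e1 hU hU' hne t c1 c3 c4 c6 hx x1 hb.1 e').2.2 (h.mem_T1 hU hU' hne t c4 s0 hy.2 e)⟩)
  have h4 := Set.ncard_sdiff_add_ncard_of_subset h3
  have h5 := h.F_sub hU
  rw [Subgroup.relIndex_bot_left] at hk
  exact ⟨k, by omega⟩

end E

theorem caseE (c : CaseE p (E a) U U' T1) : False := by
  obtain ⟨rfl, q₀, c1, c2, c3, c4, c5, c6, c7⟩ := c
  have := h.finΩ
  obtain ⟨n, hn, h2⟩ := h.exists_pow hU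
  obtain ⟨k, hk, h3⟩ := exists_root (e := 2) hp.1 (c2.symm.trans h2) hn
  obtain ⟨Q, q⟩ := h.exists_QU hU
  have h4 : q₀ ^ 2 - 1 ∣ 3 * Nat.card (T0 (E a) U U') :=
    c5.trans (Nat.mul_dvd_mul_left 3 (Subgroup.relIndex_dvd_card _ _))
  have h5 : q₀ * 4 ≤ q₀ ^ 2 := by rw [pow_two]; exact Nat.mul_le_mul_left _ c1
  have h6 : 4 ∣ q₀ ^ 2 := by
    rw [h3, ← pow_mul]
    exact pow_dvd_pow 2 (m := 2) (by omega)
  have h7 := h.F_lt hU
  have h8 := h.F_sub hU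
  by_cases e : ∃ s ∈ T0 (E a) U U', s ≠ 1 ∧ ∃ y ∈ (Fx U : Set Ω) \ {a}, s • y = y
  · obtain ⟨s, s0, s1, y, hy, e⟩ := e
    obtain ⟨a1, a2, -⟩ := h.e1 hU hU' hne t c1 c3 c4 c6 s0 s1 hy e
    obtain ⟨j, hj⟩ := h.e2 hU hU' hne t c1 c3 c4 c6 s0 s1 hy e
    refine h.not_trans_l (U' := U') hU hy ?_
    rcases h.dich hU q with h9 | h9
    · obtain ⟨i, -, h10⟩ := Q_pow q
      rw [h10] at h9
      obtain ⟨l, rfl⟩ := Nat.exists_eq_add_of_le ((Nat.pow_le_pow_iff_right (by omega : 1 < 2)).1 (by omega : 2 ^ k ≤ 2 ^ i))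
      rw [pow_add, ← h3] at h9
      have h11 : q₀ ^ 2 - 1 ∣ q₀ * (3 * (2 ^ l - 1)) := by
        rw [mul_left_comm, Nat.mul_sub_one, ← h9, hj, Nat.add_sub_cancel_left, ← mul_assoc]
        exact h4.mul_right j
      have h12 : (q₀ ^ 2 - 1).Coprime q₀ :=
        ((Nat.coprime_self_sub_left (by omega : 1 ≤ q₀ ^ 2)).2 (Nat.coprime_one_left _)).coprime_dvd_right
          (dvd_pow_self q₀ two_ne_zero)
      rw [h9, c2, pow_succ'] at h7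
      rw [a2, h9, ar1 (h12.dvd_of_dvd_mul_left h11) (Nat.lt_of_mul_lt_mul_left h7) h6 (by omega), pow_zero, mul_one]
    · rw [← h8, a1]
      congr 2
      exact Set.ext fun c => ⟨fun b => ⟨b.2.1, b.1⟩, fun b => ⟨b.2, b.1, h9 y c hy.2 hy.1 b.1 ⟨h.fix a (mem_T0.1 s0).1, e⟩⟩⟩
  obtain ⟨V, v, hV⟩ := q.exists_V
  have h9 : ∀ y ∈ (Fx U : Set Ω) \ {a}, ∀ x ∈ T0 (E a) U U', x • y = y → x ∈ (⊥ : Subgroup G) := fun y hy x hx e' =>
    by_contra fun x1 => e ⟨x, hx, x1, y, hy, e'⟩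
  have h10 := h.dvd_l hU h9
  have h11 := h.dvd_Q hU v h9
  rw [Subgroup.relIndex_bot_left] at h10 h11
  obtain ⟨i, hi, h12⟩ := Q_pow v
  have h13 : q₀ ^ 2 ≤ 2 ^ i := by
    by_contra h13
    exact hi.ne' (ar1 (h4.trans (Nat.mul_dvd_mul_left 3 (h12 ▸ h11))) (by omega) h6 (by omega))
  have h14 := h.Q_dvd hU v
  have h15 : 2 ∣ (Fx U : Set Ω).ncard := h.p_dvd_F hU
  have h16 : ∃ y, y ∈ (Fx U : Set Ω)ᶜ ∧ ¬ 2 * Nat.card U ∣ (Orb V y).ncard := by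
    by_contra h16
    have h17 := dvd_ncard_of_Orb V (d := 2 * Nat.card U) (Fx U : Set Ω)ᶜ (Set.toFinite _)
      (fun g hg b hb e' => hb (by simpa [mem_Fx] using le_stab_smul (nm_inv (v.nX g hg)) e'))
      fun b hb => by_contra fun e' => h16 ⟨b, hb, e'⟩
    have h18 := Set.ncard_add_ncard_compl (Fx U : Set Ω)
    rw [h.card_eq hU, add_mul, one_mul] at h18
    rw [show (Fx U : Set Ω)ᶜ.ncard = ((Fx U : Set Ω).ncard - 1) * Nat.card U by rw [mul_comm]; omega] at h17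
    have := Nat.dvd_of_mul_dvd_mul_right Nat.card_pos h17
    omega
  obtain ⟨y, y1, y2⟩ := h16
  obtain ⟨l, hl⟩ := ncard_Orb_eq_pow v.isP y
  have h17 : 2 ^ l ≤ 2 ^ n := Nat.pow_le_pow_right two_pos (by
    by_contra h17
    exact y2 (by rw [hl, h2, ← pow_succ']; exact pow_dvd_pow 2 (by omega)))
  have h18 := ncard_Orb_mul V y
  rw [← card_mul_relIndex v.le, h12, h2, hl] at h18
  have h19 : 2 ^ i ≤ Nat.card ↥(V ⊓ stabilizer G y) := by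
    refine Nat.le_of_mul_le_mul_left (c := 2 ^ n) ?_ (Nat.two_pow_pos n)
    rw [← h18]
    exact Nat.mul_le_mul_right _ h17
  have h20 : ∀ w ∈ V ⊓ stabilizer G y, w * w = 1 := fun w hw =>
    by_contra fun e' => y1 (h.fix_of_mem hU (hV w hw.1) e' (mul_mem hw.2 hw.2))
  obtain ⟨g, -, rfl⟩ := h.A.trans y a
  have h21 := c7 (cj g (V ⊓ stabilizer G y))
    (by
      rintro _ ⟨w, hw, rfl⟩
      rw [h.eqv]
      exact nm_cj (h.nmE hw.2))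
    (by
      rintro _ ⟨w, hw, rfl⟩
      rw [← map_mul, h20 w hw, map_one])
    (by
      rw [h.eqv, ← cj_centralizer, ← cj_inf, cj_eq_bot, Subgroup.eq_bot_iff_forall]
      exact fun w hw => h.nopc (v.leT hw.1.1) (n := 1) (by rw [pow_one, pow_two, h20 w hw.1]) hw.2)
  rw [card_cj] at h21
  omega

end Geo

end Cfsg.Agent.TH.Own.Rk
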