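import Mathlib
import Cfsg.Agent.TH.Own.RkCase

/-!
# S3541, `BoxRk1` (helper90)
-/

set_option autoImplicit false
set_option linter.unusedSectionVars false
set_option linter.unusedVariables false

namespace Cfsg.Agent.TH.Own

open MulAction

theorem Rk.mem_of_pp {G : Type*} [Group G] {K L : Subgroup G}
    (h : ∀ t ∈ L, ∀ r j : ℕ, r.Prime → t ^ r ^ j = 1 → t ∈ K) (n : ℕ) : n ≠ 0 → ∀ x ∈ L, x ^ n = 1 → x ∈ K := by
  induction n using Nat.recOnPosPrimePosCoprime with
  | prime_pow r j hr _ => exact fun _ x hx e => h x hx r j hr e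
  | zero => exact fun e => (e rfl).elim
  | one => exact fun _ x _ e => by rw [pow_one] at e; rw [e]; exact one_mem _
  | coprime a b ha hb hab iha ihb =>
    exact fun _ x hx e => Rk.mem_of_coprime hab (ihb (by omega) _ (pow_mem hx a) (by rw [← pow_mul, e]))
      (iha (by omega) _ (pow_mem hx b) (by rw [← pow_mul, mul_comm, e]))

/-- **[RK1]** -/
theorem boxRk1 : BoxRk1 := by
  intro G _ _ Ω _ T p m a I I' _ _ S F κ A hS _ _ hq hR
  have hp : Fact p.Prime := ⟨A.prime⟩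
  have := A.nrm
  obtain ⟨U', T1, u1, u2, cyc, le1, le0, ne1, reg, hc⟩ := hR
  choose g g1 g2 using A.trans a
  let E : Ω → Subgroup G := fun b => cj (g b) (S.D Set.univ)
  have hE : ∀ x : G, E (x • a) = cj x (S.D Set.univ) := fun x => by
    have h1 := hS.nrmH (x⁻¹ * g (x • a)) (by rw [mul_smul, g2, inv_smul_smul])
    rw [← h1, ← cj_mul, mul_inv_cancel_left]
  have hEa : E a = S.D Set.univ := by
    have h1 := hE 1
    rwa [one_smul, cj_one] at h1
  have hu : ({default} : Set I) = Set.univ := Set.eq_univ_of_forall fun k => Subsingleton.elim k default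
  have hspl : Spl (S.D Set.univ) S.X := hu ▸ S.split default
  have hti : S.X ⊓ U' = ⊥ := by
    have h1 := S.pan default U' (hu ▸ u1) u2
    rw [hu] at h1
    exact le_bot_iff.1 (hS.V_univ A ▸ h1)
  have hX := S.toPS.maxP
  have hU' := hX.of_mem_Cjs u1
  have hfix : ∀ b, E b ≤ stabilizer G b := fun b => by
    have h1 := (cj_le_stab (g := g b)).2 hS.fix
    rwa [g2] at h1
  have key : ∀ b P, MaxP p (E b) P → ∃ x : G, b = x • a ∧ P = cj x S.X := fun b P hP => by
    obtain ⟨e, he, rfl⟩ := (hX.cj (g b)).exists_eq hP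
    exact ⟨e * g b, by rw [mul_smul, g2, hfix b he], (cj_mul _ _ _).symm⟩
  have key2 : ∀ b P P', MaxP p (E b) P → MaxP p (E b) P' → P ≠ P' → ∃ x : G, b = x • a ∧ P = cj x S.X ∧ P' = cj x U' :=
    fun b P P' hP hP' hne => by
      obtain ⟨x, rfl, rfl⟩ := key b P hP
      rw [hE] at hP'
      obtain ⟨u, hu, e⟩ := hspl U' u1 u2 _ (mem_Cjs_cj.1 ((hX.cj x).mem_Cjs hP')) fun e => hne (by rw [← e, cj_cj_inv])
      exact ⟨x * u, by rw [mul_smul, hS.X_fix hu], by rw [cj_mul, cj_of_mem hu], by rw [cj_mul, e, cj_cj_inv]⟩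
  obtain ⟨s, s0, r, j, hr, s1, s2⟩ : ∃ s ∈ T0 (S.D Set.univ) S.X U', ∃ r j : ℕ, r.Prime ∧ s ^ r ^ j = 1 ∧ s ∉ T1 := by
    by_contra e
    exact ne1 (le_antisymm le0 fun x hx => Rk.mem_of_pp
      (fun s s0 r j hr s1 => by_contra fun s2 => e ⟨s, s0, r, j, hr, s1, s2⟩) _ (orderOf_pos x).ne' x hx
      (pow_orderOf_eq_one x))
  obtain ⟨s3, s4, s5⟩ := Rk.mem_T0.1 s0
  have hrp : r ≠ p := by
    rintro rfl
    have h1 : s ∈ S.X ⊓ U' := ⟨hX.mem_of_nm s1 s3 s4, hU'.mem_of_nm s1 s3 s5⟩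
    rw [hti, Subgroup.mem_bot] at h1
    exact s2 (h1 ▸ one_mem _)
  have h : Rk.Geo Ω T p m E :=
    { A := A
      eqv := fun x b => by
        obtain ⟨y, -, rfl⟩ := A.trans a b
        rw [← mul_smul, hE, hE, cj_mul]
      leT := fun b => (cj_mono _ hS.leT).trans (cj_normal _ T).le
      fix := hfix
      spl := fun b P hP => by
        obtain ⟨x, rfl, rfl⟩ := key b P hP
        rw [hE]
        exact hspl.cj x
      gen := fun b P hP K hK => by
        obtain ⟨x, rfl, rfl⟩ := key b P hP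
        rw [hE] at hK ⊢
        exact (cj_le_iff x).2 (S.gen _ _ fun R hR => (cj_le_iff x).1 (hK _ (cj_mem_Cjs_cj.2 hR)))
      ti := fun b P P' hP hP' hne => by
        obtain ⟨x, -, rfl, rfl⟩ := key2 b P P' hP hP' hne
        rw [← cj_inf, hti, cj_bot]
      ne := fun b P hP => by
        obtain ⟨x, rfl, rfl⟩ := key b P hP
        exact ⟨cj x U', hE x ▸ hU'.cj x, fun e => u2 (cj_inj x e)⟩
      quasi := fun b => quasi_equiv ((MulAut.conj (g b)).subgroupMap _) hq
      reg := fun b P P' hP hP' hne => by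
        obtain ⟨x, rfl, rfl, rfl⟩ := key2 b P P' hP hP' hne
        refine ⟨x * s * x⁻¹, hE x ▸ conj_mem_cj x s3, r, j, hr, hrp, by rw [conj_pow, s1, mul_one, mul_inv_cancel],
          nm_cj s4, nm_cj s5, ?_⟩
        rintro _ ⟨u, hu, rfl⟩ e
        rw [reg s s0 s2 u hu ((MulAut.conj x).injective (by rw [map_mul, map_mul]; exact e)), map_one] }
  rw [← hEa] at hX hU' cyc le1 le0 reg hc
  have t : Rk.Tor (E a) S.X U' T1 := ⟨cyc, le1, le0, reg⟩
  rcases hc with c | c | c | c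
  · exact h.caseL hX hU' u2 t c
  · exact h.caseS hX hU' u2 t c
  · exact h.caseO hX hU' u2 t c
  · exact h.caseE hX hU' u2 t c

end Cfsg.Agent.TH.Own
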