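import Mathlib
import Cfsg.Agent.TH.Own.Core
import Cfsg.Agent.Lib.ComponentSolvable
import Cfsg.Agent.H76.PermFour

/-!
# S3541, `BoxTwo`: perfect subgroups, components, connectedness of the diagram of a component (helper72)
-/

set_option autoImplicit false
set_option linter.unusedSectionVars false
set_option linter.unusedVariables false

namespace Cfsg.Agent.TH.Own.Tw

open MulAction

section Perf

variable {G : Type*} [Group G]

theorem perf_le {K M : Subgroup G} (hK : Group.IsPerfect K) (h : ∀ x ∈ K, ∀ y ∈ K, x * y * x⁻¹ * y⁻¹ ∈ M) :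
    K ≤ M := by
  rw [← Subgroup.isPerfect_iff.1 hK]
  exact Subgroup.commutator_le.2 h

theorem hom_triv {K M : Type*} [Group K] [Group M] (hK : Group.IsPerfect K) (hM : Group.IsSolvable M) (f : K →* M)
    (x : K) : f x = 1 := by
  have h1 : Group.IsPerfect f.range := Group.IsPerfect.range f
  have h2 : Subsingleton f.range := not_nontrivial_iff_subsingleton.1 fun h3 =>
    Group.IsPerfect.not_isSolvable f.range inferInstance
  exact congrArg Subtype.val (Subsingleton.elim (⟨f x, x, rfl⟩ : f.range) 1)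

/-- `[g, K] ≤ V`, `V` soluble and centralising the perfect group `K` -/
theorem cent_of_hom {K V : Subgroup G} (hK : Group.IsPerfect K) (hV : Group.IsSolvable V)
    (hc : ∀ v ∈ V, ∀ x ∈ K, v * x = x * v) {g : G} (h : ∀ x ∈ K, g * x * g⁻¹ * x⁻¹ ∈ V) : ∀ x ∈ K, g * x = x * g := by
  let f : K →* V := MonoidHom.mk' (fun x => ⟨g * x * g⁻¹ * (x : G)⁻¹, h x x.2⟩) fun x y => Subtype.ext (by
    have h1 := hc _ (h y y.2) x x.2
    show g * (x * y) * g⁻¹ * ((x : G) * y)⁻¹ = g * x * g⁻¹ * (x : G)⁻¹ * (g * y * g⁻¹ * (y : G)⁻¹)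
    calc g * (x * y) * g⁻¹ * ((x : G) * y)⁻¹
        = g * x * g⁻¹ * (x : G)⁻¹ * (x * (g * y * g⁻¹ * (y : G)⁻¹)) * (x : G)⁻¹ := by group
      _ = _ := by rw [← h1]; group)
  intro x hx
  have h1 : g * x * g⁻¹ * x⁻¹ = 1 := congrArg Subtype.val (hom_triv hK hV f ⟨x, hx⟩)
  rwa [mul_inv_eq_one, mul_inv_eq_iff_eq_mul] at h1

theorem cent_of_central {K : Subgroup G} (hK : Group.IsPerfect K) {g : G} (hg : cj g K = K)
    (h : ∀ x ∈ K, ∀ y ∈ K, g * x * g⁻¹ * x⁻¹ * y = y * (g * x * g⁻¹ * x⁻¹)) : ∀ x ∈ K, g * x = x * g :=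
  cent_of_hom (V := K ⊓ Subgroup.centralizer (K : Set G)) hK
    (Group.isSolvable_of_comm fun a b => Subtype.ext (b.2.2 a a.2.1))
    (fun v hv x hx => (hv.2 x hx).symm) fun x hx =>
      ⟨K.mul_mem (nm_conj hg hx) (K.inv_mem hx), fun y hy => (h x hx y hy).symm⟩

theorem qs_cases {K N : Subgroup G} (hK : Cfsg.IsQuasisimple K) (hN : ∀ x ∈ K, cj x N = N) :
    K ≤ N ∨ ∀ n ∈ N, n ∈ K → ∀ x ∈ K, n * x = x * n := by
  rcases Lib.ComponentSolvable.quasisimple_normal_cases hK (N := N.subgroupOf K)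
    ⟨fun n hn x => nm_conj (x := (n : G)) (hN x x.2) hn⟩ with h | h
  · exact Or.inl (Subgroup.subgroupOf_eq_top.1 h)
  · exact Or.inr fun n hn hn' x hx =>
      (congrArg Subtype.val (Subgroup.mem_center_iff.1 (h (x := ⟨n, hn'⟩) hn) ⟨x, hx⟩)).symm

/-- a subgroup which normalises and is normalised by a quasisimple group contains or centralises it -/
theorem qs_cent {K N : Subgroup G} (hK : Cfsg.IsQuasisimple K) (hN : ∀ x ∈ K, cj x N = N)
    (hN' : ∀ n ∈ N, cj n K = K) (h : ¬ K ≤ N) : ∀ n ∈ N, ∀ x ∈ K, n * x = x * n := fun n hn =>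
  cent_of_central hK.1 (hN' n hn) fun x hx => (qs_cases hK hN).resolve_left h _
    (by simpa only [mul_assoc] using mul_mem hn (nm_conj (hN x hx) (inv_mem hn)))
    (mul_mem (nm_conj (hN' n hn) hx) (inv_mem hx))

theorem qs_not_comm {K : Subgroup G} (hK : Cfsg.IsQuasisimple K) (h : ∀ x ∈ K, ∀ y ∈ K, x * y = y * x) : False :=
  Lib.ComponentSolvable.quasisimple_not_solvable hK (Group.isSolvable_of_comm fun a b => Subtype.ext (h a a.2 b b.2))

/-- a perfect group fixes the points of an invariant set with at most four elements -/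
theorem perf_fix {Ω : Type*} [MulAction G Ω] {K : Subgroup G} (hK : Group.IsPerfect K) {A : Set Ω} (hA : A.Finite)
    (h4 : A.ncard ≤ 4) (hinv : ∀ g ∈ K, ∀ b ∈ A, g • b ∈ A) {b : Ω} (hb : b ∈ A) : K ≤ stabilizer G b := by
  let B : SubMulAction K Ω := ⟨A, fun g _ hb => hinv g g.2 _ hb⟩
  have : Finite B := hA
  intro x hx
  have h1 := hom_triv hK (H76.PermFour.solvable_perm_of_card_le (Y := B) h4) (toPermHom K B) ⟨x, hx⟩
  exact congrArg Subtype.val (congrArg (fun f : Equiv.Perm B => f ⟨b, hb⟩) h1)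

theorem exists_compl {α : Type*} {A B : Set α} (hB : B.Finite) (h : A ⊆ B) (h1 : A.ncard + 1 = B.ncard) :
    ∃ L, ∀ K ∈ B, K ≠ L → K ∈ A := by
  obtain ⟨L, -, rfl⟩ := (Set.exists_eq_insert_iff_ncard (hB.subset h)).2 ⟨h, h1⟩
  exact ⟨L, fun K hK hne => hK.resolve_left hne⟩

/-- the Sylow subgroup covers a `p`-quotient -/
theorem maxP_mul [Finite G] {p : ℕ} [hp : Fact p.Prime] {L R N : Subgroup G} (hR : MaxP p L R)
    (hN : ∀ g ∈ L, cj g N = N) (h : ∀ g ∈ L, ∃ n : ℕ, g ^ p ^ n ∈ N) {g : G} (hg : g ∈ L) :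
    ∃ r ∈ R, r⁻¹ * g ∈ N := by
  have : (N.subgroupOf L).Normal := ⟨fun n hn x => nm_conj (x := (n : G)) (hN x x.2) hn⟩
  have h1 : IsPGroup p (L ⧸ N.subgroupOf L) := fun x => by
    induction x using QuotientGroup.induction_on with
    | _ x =>
    obtain ⟨n, hn⟩ := h x x.2
    exact ⟨n, by rw [← QuotientGroup.mk_pow, QuotientGroup.eq_one_iff]; exact hn⟩
  obtain ⟨k, hk⟩ := h1.index ((R.subgroupOf L).map (QuotientGroup.mk' _))
  have h2 := Subgroup.index_map_dvd (R.subgroupOf L) (QuotientGroup.mk'_surjective (N.subgroupOf L))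
  have h3 : k = 0 := by
    by_contra h4
    exact hR.not_dvd ((dvd_pow_self p h4).trans (hk ▸ h2))
  rw [h3, pow_zero, Subgroup.index_eq_one] at hk
  obtain ⟨r, hr, h4⟩ : QuotientGroup.mk' (N.subgroupOf L) ⟨g, hg⟩ ∈ (R.subgroupOf L).map (QuotientGroup.mk' _) :=
    hk ▸ Subgroup.mem_top _
  exact ⟨r, hr, (QuotientGroup.eq (s := N.subgroupOf L)).1 h4⟩

end Perf

section Grid

variable {G : Type*} [Group G] [Finite G] {p : ℕ} [hp : Fact p.Prime] {I : Type*} (S : PS G p I)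

/-- `g ∈ D_J D_L N(X)` -/
def Gr (J L : Set I) (g : G) : Prop :=
  ∃ e ∈ S.D J, ∃ f ∈ S.D L, ∃ n ∈ S.D Set.univ, cj n S.X = S.X ∧ g = e * f * n

theorem gr_of_grid {J L : Set I} {g : G} (hg : g ∈ S.D Set.univ)
    (h : ∃ e ∈ S.D J, ∃ f ∈ S.D L, cj g S.X = cj (e * f) S.X) : Gr S J L g := by
  obtain ⟨e, he, f, hf, h1⟩ := h
  exact ⟨e, he, f, hf, (e * f)⁻¹ * g, mul_mem (inv_mem (mul_mem (S.le_univ _ he) (S.le_univ _ hf))) hg,
    by rw [cj_mul, h1, cj_inv_cj], by group⟩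

theorem gr_step {J : Set I} {k : I} (h : ∀ j ∈ J, j ≠ k ∧ ¬ S.Adj j k) {e : G} (he : e ∈ S.D J) :
    ∀ f ∈ S.D {k}, ∀ n ∈ S.D Set.univ, cj n S.X = S.X → Gr S J {k} (f * n * e) := by
  let M : Submonoid G :=
    { carrier := {e | e ∈ S.D J ∧ ∀ f ∈ S.D {k}, ∀ n ∈ S.D Set.univ, cj n S.X = S.X → Gr S J {k} (f * n * e)}
      one_mem' := ⟨one_mem _, fun f hf n hn h1 => ⟨1, one_mem _, f, hf, n, hn, h1, by group⟩⟩
      mul_mem' := by
        rintro x y ⟨hx, hx'⟩ ⟨hy, hy'⟩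
        refine ⟨mul_mem hx hy, fun f hf n hn h1 => ?_⟩
        obtain ⟨e₁, h2, f₁, h3, n₁, h4, h5, h6⟩ := hx' f hf n hn h1
        obtain ⟨e₂, h7, f₂, h8, n₂, h9, h10, h11⟩ := hy' f₁ h3 n₁ h4 h5
        exact ⟨e₁ * e₂, mul_mem h2 h7, f₂, h8, n₂, h9, h10, by
          rw [← mul_assoc, h6, show e₁ * f₁ * n₁ * y = e₁ * (f₁ * n₁ * y) by group, h11]; group⟩ }
  let M' : Subgroup G := { M with
    inv_mem' := fun {x} hx => by
      have h1 : x⁻¹ = x ^ (orderOf x - 1) := by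
        rw [inv_eq_iff_mul_eq_one, ← pow_succ', Nat.sub_add_cancel (orderOf_pos x), pow_orderOf_eq_one]
      rw [h1]
      exact M.pow_mem hx _ }
  have h1 : S.D J ≤ M' := S.D_le (fun x hx => ⟨S.X_le J hx, fun f hf n hn h1 =>
      ⟨1, one_mem _, f, hf, n * x, mul_mem hn (S.X_le _ hx), nm_mul h1 (cj_of_mem hx), by group⟩⟩)
    fun j hj x hx => ⟨S.mono (Set.singleton_subset_iff.2 hj) hx, fun f hf n hn h1 => by
      have h2 : n * x * n⁻¹ ∈ S.D {j} := nm_conj (S.nrm n hn h1 _) hx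
      have h3 : f * (n * x * n⁻¹) ∈ S.D {j, k} :=
        mul_mem (S.mono (by simp) hf) (S.mono (by simp) h2)
      obtain ⟨e₁, h4, f₁, h5, n₁, h6, h7, h8⟩ := gr_of_grid S (S.le_univ _ h3)
        (S.grid_of_not_adj (h j hj).1 (h j hj).2 ⟨_, h3, rfl⟩)
      exact ⟨e₁, S.mono (Set.singleton_subset_iff.2 hj) h4, f₁, h5, n₁ * n, mul_mem h6 hn, nm_mul h7 h1, by
        rw [← mul_assoc, ← h8]; group⟩⟩
  exact (h1 he).2

/-- `D L` normalises the normal closure of `V L` in `D J` if there are no edges between `J` and `L` -/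
theorem nm_RR_of_no_edge {J L : Set I} (h : ∀ j ∈ J, ∀ k ∈ L, j ≠ k ∧ ¬ S.Adj j k) (hJ : J.Nonempty) :
    ∀ g ∈ S.D L, cj g (S.RR L J) = S.RR L J :=
  S.nm_D_of (fun x hx => S.nm_RR (S.X_le J hx)) fun k hk g hg => by
    refine nm_of_le ?_
    rw [PS.RR, cj_iSup]
    refine iSup_le fun e => ?_
    obtain ⟨e', h1, f, h2, n, h3, h4, h5⟩ := gr_step S (fun j hj => h j hj k hk) e.2 g hg 1 (one_mem _) (cj_one _)
    rw [mul_one] at h5
    rw [← cj_mul, h5, cj_mul, cj_mul, S.V_eq_of_cj h4 (S.nrm n h3 h4 L),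
      S.nm_V (S.mono (Set.singleton_subset_iff.2 hk) h2)]
    exact le_iSup (fun e : S.D J => cj (e : G) (S.V L)) ⟨e', h1⟩

end Grid

section Comp

variable {G : Type*} [Group G] {p : ℕ} {I ι : Type*} {S : US G p I} (C : Comps S ι)

theorem E_le (l : ι) : C.E l ≤ S.D Set.univ := C.top ▸ le_iSup C.E l

theorem D_fib (l : ι) : S.D (C.c ⁻¹' {l}) = S.X ⊔ C.E l := by
  rw [C.D_eq]; simp

theorem E_inj : Function.Injective C.E := fun l l' h => by_contra fun hne =>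
  qs_not_comm (C.quasi l) fun x hx y hy => C.comm l l' hne x hx y (h ▸ hy)

theorem univ_le (l : ι) : S.D Set.univ ≤ Subgroup.centralizer (C.E l : Set G) ⊔ C.E l := by
  rw [C.top]
  refine iSup_le fun l' => ?_
  by_cases h : l' = l
  · rw [h]; exact le_sup_right
  · exact le_sup_of_le_left fun x hx y hy => (C.comm l' l h x hx y hy).symm

theorem nm_E {e : G} (he : e ∈ S.D Set.univ) (l : ι) : cj e (C.E l) = C.E l :=
  nm_of_sup (fun x hx => nm_of_comm fun y hy => (hx y hy).symm) (fun x hx => cj_of_mem hx) e (univ_le C l he)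

theorem exists_dec {e : G} (he : e ∈ S.D Set.univ) (l : ι) :
    ∃ y ∈ C.E l, ∃ x, (∀ z ∈ C.E l, x * z = z * x) ∧ e = y * x := by
  obtain ⟨y, hy, x, hx, h⟩ := mem_sup_nm' (fun x hx => nm_of_comm fun y hy => (hx y hy).symm) (univ_le C l he)
  exact ⟨y, hy, x, fun z hz => (hx z hz).symm, h⟩

variable [Finite G] [hp : Fact p.Prime]

/-- the diagram of a component is connected -/
theorem conn {J : Set I} (hJ : ∀ j ∈ J, ∀ k, S.toPS.Adj j k → k ∈ J) {j k : I} (hj : j ∈ J) (h : C.c k = C.c j) :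
    k ∈ J := by
  have h1 : ∀ g ∈ S.D Set.univ, cj g (S.toPS.RR Jᶜ J) = S.toPS.RR Jᶜ J := by
    rw [← Set.union_compl_self J, S.toPS.D_union]
    exact nm_of_sup (fun g hg => S.toPS.nm_RR hg) (nm_RR_of_no_edge S.toPS
      (fun j hj k hk => ⟨fun h => hk (h ▸ hj), fun h => hk (hJ j hj k h)⟩) ⟨j, hj⟩)
  by_cases h2 : C.E (C.c j) ≤ S.toPS.RR Jᶜ J
  · exact S.le_iff (J := C.c ⁻¹' {C.c j}) (by
      rw [D_fib]
      exact sup_le (S.toPS.X_le J) (h2.trans S.toPS.RR_le)) h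
  · have h3 := qs_cent (C.quasi _) (fun x hx => h1 x (E_le C _ hx))
      (fun n hn => nm_E C (S.toPS.le_univ J (S.toPS.RR_le hn)) _) h2
    have h4 : S.D {j} ≤ S.X ⊔ C.E (C.c j) := by
      rw [← D_fib]
      exact S.mono (Set.singleton_subset_iff.2 rfl)
    have h5 : S.toPS.V Jᶜ ≤ S.toPS.V {j} := le_rad (S.toPS.V_le _) fun g hg =>
      nm_of_sup (fun x hx => S.toPS.nm_V (S.toPS.X_le _ hx))
        (fun x hx => nm_of_comm fun y hy => (h3 y (S.toPS.V_le_RR _ _ hy) x hx).symm) g (h4 hg)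
    exact absurd hj (S.toPS.V_le_iff h5 rfl)

/-- the permutations of the nodes and of the components are compatible -/
theorem cj_E {g : G} (hg : cj g (S.D Set.univ) = S.D Set.univ) (hX : cj g S.X = S.X) {i k : I}
    (h : cj g (S.D {i}) = S.D {k}) : cj g (C.E (C.c i)) = C.E (C.c k) := by
  obtain ⟨l, hl⟩ := C.perm g hg (C.c i)
  have h1 : S.D {k} ≤ S.D (C.c ⁻¹' {l}) := by
    rw [← h, D_fib, ← hl]
    refine (cj_mono g (S.mono (L := C.c ⁻¹' {C.c i}) (Set.singleton_subset_iff.2 rfl))).trans ?_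
    rw [D_fib, cj_sup, hX]
  rw [hl, show C.c k = l from S.le_iff h1 rfl]

/-- a component is generated by two of its Sylow subgroups -/
theorem exists_gen {P : Subgroup G} (hP : P ∈ S.toPS.Syl Set.univ) (l : ι) :
    ∃ e ∈ C.E l, C.E l ≤ (P ⊓ C.E l) ⊔ cj e (P ⊓ C.E l) := by
  have key : ∃ e ∈ C.E l, C.E l ≤ (S.X ⊓ C.E l) ⊔ cj e (S.X ⊓ C.E l) := by
    obtain ⟨P₀, h1, h2, -⟩ := S.opp
    have h3 : S.toPS.typ (S.X ⊔ P₀) = Set.univ := by_contra fun h => S.toPS.V_ne_bot h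
      (le_bot_iff.1 (h2 ▸ le_inf (S.toPS.V_le _) (rad_le (S.toPS.mem_Syl_typ le_sup_left h1 le_sup_right))))
    have h4 := (S.toPS.ov' (le_sup_left : S.X ≤ S.X ⊔ P₀)).1
    rw [h3] at h4
    obtain ⟨e, he, rfl⟩ := h1
    obtain ⟨y, hy, x, hx, hyx⟩ := exists_dec C he l
    have h5 : cj e (S.X ⊓ C.E l) = cj y (S.X ⊓ C.E l) := by
      rw [hyx, cj_mul, nm_of_comm (K := S.X ⊓ C.E l) fun z hz => hx z hz.2]
    let K := (S.X ⊓ C.E l) ⊔ cj y (S.X ⊓ C.E l)
    have hK : K ≤ C.E l := sup_le inf_le_right ((cj_mono y inf_le_right).trans (cj_of_mem hy).le)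
    have h6 : ∀ l', l' ≠ l → C.E l' ≤ Subgroup.centralizer (C.E l : Set G) :=
      fun l' h x hx y hy => (C.comm l' l h x hx y hy).symm
    have h7 : S.X ⊔ cj e S.X ≤ Subgroup.centralizer (C.E l : Set G) ⊔ K := by
      refine sup_le ?_ ?_
      · refine C.X_eq.le.trans (iSup_le fun l' => ?_)
        by_cases h : l' = l
        · rw [h]; exact le_sup_left.trans le_sup_right
        · exact (inf_le_right.trans (h6 l' h)).trans le_sup_left
      · refine (cj_mono e C.X_eq.le).trans ((cj_iSup _ _).le.trans (iSup_le fun l' => ?_))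
        by_cases h : l' = l
        · rw [h, h5]; exact le_sup_right.trans le_sup_right
        · exact (((cj_mono e inf_le_right).trans (nm_E C he l').le).trans (h6 l' h)).trans le_sup_left
    have h8 : ∀ z ∈ C.E l, ∃ k ∈ K, ∃ c, (∀ z ∈ C.E l, z * c = c * z) ∧ z = k * c := fun z hz => by
      obtain ⟨k, hk, c, hc, h9⟩ := mem_sup_nm' (fun x hx => nm_of_comm fun y hy => (hx y (hK hy)).symm)
        (h7 (h4 (E_le C l hz)))
      exact ⟨k, hk, c, hc, h9⟩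
    refine ⟨y, hy, perf_le (C.quasi l).1 fun z hz z' hz' => ?_⟩
    obtain ⟨k, hk, c, hc, h9⟩ := h8 z hz
    obtain ⟨k', hk', c', hc', h10⟩ := h8 z' hz'
    have h11 : z * z' * z⁻¹ * z'⁻¹ = k * k' * k⁻¹ * k'⁻¹ :=
      calc z * z' * z⁻¹ * z'⁻¹ = k * (c * z' * c⁻¹) * k⁻¹ * z'⁻¹ := by rw [h9]; group
        _ = k * k' * (c' * k⁻¹ * c'⁻¹) * k'⁻¹ := by rw [← hc z' hz', mul_inv_cancel_right, h10]; group
        _ = _ := by rw [← hc' _ (inv_mem (hK hk)), mul_inv_cancel_right]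
    rw [h11]
    exact mul_mem (mul_mem (mul_mem hk hk') (inv_mem hk)) (inv_mem hk')
  obtain ⟨e, he, h1⟩ := key
  obtain ⟨f, hf, rfl⟩ := hP
  refine ⟨f * e * f⁻¹, nm_conj (nm_E C hf l) he, ?_⟩
  have h2 := cj_mono f h1
  rw [nm_E C hf l, cj_sup, ← cj_mul] at h2
  rwa [← nm_E C hf l, ← cj_inf, ← cj_mul, inv_mul_cancel_right, nm_E C hf l]

/-- two conjugates of a proper overgroup without a common Sylow subgroup -/
theorem exists_far {P K : Subgroup G} (hP : P ∈ S.toPS.Syl Set.univ) (hK : P ≤ K) {l : ι} (h : ¬ C.E l ≤ K) :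
    ∃ e ∈ C.E l, ∀ P' ∈ S.toPS.Syl Set.univ, P' ⊓ C.E l ≤ K → ¬ P' ⊓ C.E l ≤ cj e K := by
  have key : ∀ K : Subgroup G, S.X ≤ K → ¬ C.E l ≤ K →
      ∃ e ∈ C.E l, ∀ P' ∈ S.toPS.Syl Set.univ, P' ⊓ C.E l ≤ K → ¬ P' ⊓ C.E l ≤ cj e K := by
    intro K hK h
    obtain ⟨e₂, h1, h2⟩ : ∃ e ∈ C.E l, cj e (S.D (S.toPS.typ K)) ≠ S.D (S.toPS.typ K) := by
      by_contra h1
      push Not at h1
      refine h (le_sup_right.trans ((D_fib C l).ge.trans ((S.gen _ _ ?_).trans (S.toPS.ov' hK).1)))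
      rintro _ ⟨e, he, rfl⟩
      rw [D_fib] at he
      exact (cj_mono e (S.toPS.X_le _)).trans (nm_of_sup (fun x hx => S.toPS.nm_X hx _) h1 e he).le
    refine ⟨e₂, h1, ?_⟩
    rintro _ ⟨e, he, rfl⟩ h3 h4
    obtain ⟨y, hy, x, hx, hyx⟩ := exists_dec C he l
    have h5 : cj y (S.X ⊓ C.E l) = cj e S.X ⊓ C.E l := by
      rw [← nm_E C he l, ← cj_inf, nm_E C he l, hyx, cj_mul, nm_of_comm (K := S.X ⊓ C.E l) fun z hz => hx z hz.2]
    have h6 : ∀ z ∈ C.E l, cj e S.X ⊓ C.E l ≤ cj z K → cj y S.X ≤ cj z K := fun z hz h7 => by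
      refine (cj_mono y C.X_eq.le).trans ((cj_iSup _ _).le.trans (iSup_le fun l' => ?_))
      by_cases h8 : l' = l
      · rwa [h8, h5]
      · rw [nm_of_comm (K := S.X ⊓ C.E l') fun w hw => C.comm l l' (Ne.symm h8) y hy w hw.2,
          ← nm_of_comm (K := S.X ⊓ C.E l') fun w hw => C.comm l l' (Ne.symm h8) z hz w hw.2]
        exact cj_mono z (inf_le_left.trans hK)
    have h7 := h6 1 (one_mem _) (by rwa [cj_one])
    rw [cj_one] at h7
    have h8 : cj y S.X ∈ S.toPS.Syl Set.univ := ⟨y, E_le C l hy, rfl⟩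
    have h9 := S.toPS.nm_of_mem_Syl (inv_mem (E_le C l h1)) (S.toPS.mem_Syl_typ hK h8 h7)
      (S.toPS.mem_Syl_typ hK (cj_mem_Cjs (inv_mem (E_le C l h1)) h8) ((cj_le_iff _).2 (by rw [inv_inv]; exact h6 e₂ h1 h4)))
    exact h2 (by simpa using nm_inv h9)
  obtain ⟨f, hf, rfl⟩ := hP
  obtain ⟨e, he, h1⟩ := key (cj f⁻¹ K) ((cj_le_iff f).1 hK) fun h1 => h (by
    rw [← nm_E C hf l]; exact (cj_le_iff f).2 h1)
  refine ⟨f * e * f⁻¹, nm_conj (nm_E C hf l) he, fun P' hP' h2 h3 => h1 (cj f⁻¹ P') (cj_mem_Cjs (inv_mem hf) hP') ?_ ?_⟩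
  · rw [← nm_E C (inv_mem hf) l, ← cj_inf]
    exact cj_mono _ h2
  · rw [← nm_E C (inv_mem hf) l, ← cj_inf, cj_le_iff, inv_inv, ← cj_mul, ← cj_mul]
    exact h3

end Comp

end Cfsg.Agent.TH.Own.Tw
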