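import Mathlib
import Cfsg.Agent.TH.Own.TwoQ

/-!
# S3541, `BoxTwo`: the components at the points; points which share almost all components (helper72)
-/

set_option autoImplicit false
set_option linter.unusedSectionVars false
set_option linter.unusedVariables false

namespace Cfsg.Agent.TH.Own.Tw

open MulAction

variable {G : Type*} [Group G] {p : ℕ} {I ι : Type*} {Ω : Type*} [MulAction G Ω] {T : Subgroup G} {m : ℕ}

theorem mem_Np {a : Ω} {X : Subgroup G} {g : G} (hg : g ∈ Np p T a X) : g ∈ T ∧ g • a = a ∧ cj g X = X := by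
  have h1 : Np p T a X ≤ T ⊓ stabilizer G a ⊓ Subgroup.normalizer (X : Set G) :=
    (Subgroup.closure_le _).2 fun x hx => ⟨⟨hx.1, hx.2.1⟩, nm_iff.2 hx.2.2.1⟩
  exact ⟨(h1 hg).1.1, (h1 hg).1.2, nm_iff.1 (h1 hg).2⟩

/-- the components at the point `b` -/
def Cp {S : US G p I} (C : Comps S ι) (a b : Ω) : Set (Subgroup G) :=
  {K | ∃ g : G, g • a = b ∧ ∃ l, K = cj g (C.E l)}

/-- no `p`-element of `T` centralises `E` -/
def NoPC (S : US G p I) (T : Subgroup G) : Prop :=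
  ∀ g ∈ T, (∃ n : ℕ, g ^ p ^ n = 1) → (∀ e ∈ S.D Set.univ, g * e = e * g) → g = 1

/-- the standing hypotheses -/
structure Cx (T : Subgroup G) (m : ℕ) (a : Ω) (S : US G p I) (C : Comps S ι) : Prop where
  A : Amb Ω T p m
  At : S.toPS.At T a
  tr : PTrans S.toPS T a

namespace Cx

variable {a : Ω} {S : US G p I} {C : Comps S ι} (h : Cx T m a S C)

theorem cj_mem_Cp {b : Ω} {K : Subgroup G} (hK : K ∈ Cp C a b) (g : G) : cj g K ∈ Cp C a (g • b) := by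
  obtain ⟨x, rfl, l, rfl⟩ := hK
  exact ⟨g * x, mul_smul _ _ _, l, (cj_mul _ _ _).symm⟩

theorem cj_mem_Cp' {b : Ω} {K : Subgroup G} (hK : K ∈ Cp C a b) {g : G} (hg : g • b = b) : cj g K ∈ Cp C a b :=
  hg ▸ cj_mem_Cp hK g

theorem E_mem (l : ι) : C.E l ∈ Cp C a a := ⟨1, one_smul _ _, l, (cj_one _).symm⟩

theorem qs {b : Ω} {K : Subgroup G} (hK : K ∈ Cp C a b) : Cfsg.IsQuasisimple K := by
  obtain ⟨x, -, l, rfl⟩ := hK
  exact (C.conj x).quasi l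

include h

theorem mem_Cp {g : G} {K : Subgroup G} : K ∈ Cp C a (g • a) ↔ ∃ l, K = cj g (C.E l) := by
  refine ⟨?_, fun h1 => ⟨g, rfl, h1⟩⟩
  rintro ⟨x, hx, l, rfl⟩
  obtain ⟨l', h1⟩ := C.perm (g⁻¹ * x) (h.At.nrmH _ (by rw [mul_smul, hx, inv_smul_smul])) l
  exact ⟨l', by rw [← h1, ← cj_mul, mul_inv_cancel_left]⟩

theorem mem_Cp_a {K : Subgroup G} : K ∈ Cp C a a ↔ ∃ l, K = C.E l := by
  have h1 := h.mem_Cp (g := 1) (K := K)
  simpa only [one_smul, cj_one] using h1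

theorem exists_g (b : Ω) : ∃ t ∈ T, t • a = b := h.A.trans a b

theorem le_stab {b : Ω} {K : Subgroup G} (hK : K ∈ Cp C a b) : K ≤ stabilizer G b := by
  obtain ⟨x, rfl, l, rfl⟩ := hK
  exact cj_le_stab.2 ((E_le C l).trans h.At.fix)

theorem le_T {b : Ω} {K : Subgroup G} (hK : K ∈ Cp C a b) : K ≤ T := by
  have := h.A.nrm
  obtain ⟨x, rfl, l, rfl⟩ := hK
  exact (cj_mono x ((E_le C l).trans h.At.leT)).trans (cj_normal x T).le

theorem comm {b : Ω} {K K' : Subgroup G} (hK : K ∈ Cp C a b) (hK' : K' ∈ Cp C a b) (hne : K ≠ K') :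
    ∀ x ∈ K, ∀ y ∈ K', x * y = y * x := by
  obtain ⟨g, -, rfl⟩ := h.exists_g b
  obtain ⟨l, rfl⟩ := h.mem_Cp.1 hK
  obtain ⟨l', rfl⟩ := h.mem_Cp.1 hK'
  exact (C.conj g).comm l l' fun h1 => hne (h1 ▸ rfl)

theorem ncard_Cp (b : Ω) : (Cp C a b).ncard = Nat.card ι := by
  obtain ⟨g, -, rfl⟩ := h.exists_g b
  have h1 : Cp C a (g • a) = Set.range fun l => cj g (C.E l) := Set.ext fun K => h.mem_Cp.trans
    ⟨fun ⟨l, hl⟩ => ⟨l, hl.symm⟩, fun ⟨l, hl⟩ => ⟨l, hl.symm⟩⟩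
  rw [h1, Set.ncard_range_of_injective fun l l' h2 => E_inj C (cj_inj g h2)]

theorem sSup_Cp (g : G) : sSup (Cp C a (g • a)) = cj g (S.D Set.univ) := by
  rw [C.top, cj_iSup]
  refine le_antisymm (sSup_le fun K hK => ?_) (iSup_le fun l => le_sSup (h.mem_Cp.2 ⟨l, rfl⟩))
  obtain ⟨l, rfl⟩ := h.mem_Cp.1 hK
  exact le_iSup (fun l => cj g (C.E l)) l

/-- `[g, K]` centralises the component `K` -/
theorem cent_of_comm {b : Ω} {K : Subgroup G} (hK : K ∈ Cp C a b) {g : G} (hg : g • b = b)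
    (h1 : ∀ x ∈ K, ∀ y ∈ K, g * x * g⁻¹ * x⁻¹ * y = y * (g * x * g⁻¹ * x⁻¹)) : ∀ x ∈ K, g * x = x * g := by
  refine cent_of_central (qs hK).1 (by_contra fun h2 => qs_not_comm (qs hK) fun x hx y hy => ?_) h1
  have h3 := h.comm (cj_mem_Cp' hK hg) hK h2 _ (conj_mem_cj g (inv_mem hx)) y hy
  have h4 := h1 _ (inv_mem hx) y hy
  rw [inv_inv] at h4
  refine mul_left_cancel (a := g * x⁻¹ * g⁻¹) ?_
  rw [← mul_assoc, h4, ← mul_assoc, ← h3, mul_assoc]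

variable [Finite G] [hp : Fact p.Prime]

theorem eq_of_cj {g g' : G} (h1 : cj g (S.D Set.univ) = cj g' (S.D Set.univ)) : g • a = g' • a := by
  have h2 := h.At.smul_eq h.A (g := g'⁻¹ * g) (by rw [cj_mul, h1, cj_inv_cj])
  rwa [mul_smul, inv_smul_eq_iff] at h2

theorem eq_of_subset {b c : Ω} (h1 : Cp C a b ⊆ Cp C a c) : b = c := by
  have h2 := Set.eq_of_subset_of_ncard_le h1 (by rw [h.ncard_Cp, h.ncard_Cp]) (Set.toFinite _)
  obtain ⟨g, -, rfl⟩ := h.exists_g b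
  obtain ⟨g', -, rfl⟩ := h.exists_g c
  exact h.eq_of_cj (by rw [← h.sSup_Cp, ← h.sSup_Cp, h2])

theorem fix_of_perm {b : Ω} {g : G} (h1 : ∀ K ∈ Cp C a b, cj g K ∈ Cp C a b) : g • b = b :=
  h.eq_of_subset fun K hK => by
    have h2 := h1 _ (cj_mem_Cp hK g⁻¹ |> fun h3 => by rwa [inv_smul_smul] at h3)
    rwa [cj_cj_inv] at h2

/-- transitivity on the pairs (point, component) -/
theorem flag {b c : Ω} {K L : Subgroup G} (hK : K ∈ Cp C a b) (hL : L ∈ Cp C a c) :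
    ∃ g : G, g • b = c ∧ cj g K = L := by
  obtain ⟨x, rfl, l, rfl⟩ := hK
  obtain ⟨y, rfl, l', rfl⟩ := hL
  obtain ⟨i, rfl⟩ := C.surj l
  obtain ⟨k, rfl⟩ := C.surj l'
  obtain ⟨g, hg, h1⟩ := h.tr i k
  obtain ⟨-, h2, h3⟩ := mem_Np hg
  exact ⟨y * g * x⁻¹, by rw [mul_smul, mul_smul, inv_smul_smul, h2],
    by rw [cj_mul, cj_mul, cj_inv_cj, cj_E C (h.At.nrmH g h2) h3 h1]⟩

/-- the orbit argument -/
theorem pt {b y z : Ω} (hy : y ≠ b) {K : Subgroup G} (hK : K ∈ Cp C a b) (hKy : K ≤ stabilizer G y)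
    {B : Set (Subgroup G)} (h4 : B.ncard ≤ 4) (hB : ∀ L ∈ Cp C a b, ¬ L ≤ stabilizer G z → L ∈ B)
    (hfix : ¬ K ≤ stabilizer G z → ∀ g : G, g • b = b → g • z = z → cj g K = K → g • y = y) :
    K ≤ stabilizer G z := by
  by_contra h1
  have hz : z ≠ b := fun h2 => h1 (h2 ▸ h.le_stab hK)
  have h2 : (Orb (stabilizer G b ⊓ stabilizer G z) y).ncard ≤ B.ncard := by
    choose r hr hr' using fun c : Orb (stabilizer G b ⊓ stabilizer G z) y => c.2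
    rw [← Nat.card_coe_set_eq, ← Nat.card_coe_set_eq]
    refine Nat.card_le_card_of_injective (fun c => ⟨cj (r c) K, hB _ (cj_mem_Cp' hK (hr c).1) fun h3 => h1 ?_⟩)
      fun c c' h3 => Subtype.ext ?_
    · rwa [← show r c • z = z from (hr c).2, cj_le_stab] at h3
    · have h5 : cj (r c) K = cj (r c') K := congrArg Subtype.val h3
      have h6 := mul_mem (inv_mem (hr c')) (hr c)
      have h7 := hfix h1 _ h6.1 h6.2 (by rw [cj_mul, h5, cj_inv_cj])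
      rw [mul_smul, inv_smul_eq_iff] at h7
      rw [← hr' c, ← hr' c', h7]
  rw [← h.A.ncard_Orb_eq hy hz] at h2
  exact h1 (perf_fix (qs hK).1 (finite_Orb _ _) (h2.trans h4)
    (fun g hg c hc => smul_mem_Orb ⟨h.le_stab hK hg, hKy hg⟩ hc) (self_mem_Orb _ _))

theorem ncard_diff {b : Ω} {K : Subgroup G} (hK : K ∈ Cp C a b) : (Cp C a b \ {K}).ncard + 1 = Nat.card ι := by
  rw [Set.ncard_sdiff_singleton_add_one hK (Set.toFinite _), h.ncard_Cp]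

theorem pt2 {b y z : Ω} (hy : y ≠ b) {K₁ K₂ : Subgroup G} (h1 : ∀ K ∈ Cp C a b, K ≠ K₁ → K ∈ Cp C a y)
    (h2 : K₂ ∈ Cp C a b) (hne : K₂ ≠ K₁) (h3 : ∀ K ∈ Cp C a y, K ≠ K₂ → K ∈ Cp C a z) : K₂ ≤ stabilizer G z := by
  have h4 := h1 _ h2 hne
  refine h.pt hy h2 (h.le_stab h4) (B := {K₁, K₂}) ((Set.ncard_insert_le _ _).trans (by simp))
    (fun L hL h5 => by_contra fun h6 => h5 (h.le_stab (h3 L (h1 L hL fun h7 => h6 (Or.inl h7)) fun h7 => h6 (Or.inr h7))))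
    fun h5 g hb hz hg => h.fix_of_perm fun K hK => ?_
  by_cases h6 : K = K₂
  · rwa [h6, hg]
  by_contra h7
  have h8 : insert (cj g K) (Cp C a y \ {K₂}) = Cp C a z := Set.eq_of_subset_of_ncard_le
    (Set.insert_subset (cj_mem_Cp' (h3 K hK h6) hz) fun L hL => h3 L hL.1 hL.2)
    (by rw [Set.ncard_insert_of_notMem (fun h9 => h7 h9.1) (Set.toFinite _), h.ncard_diff h4, h.ncard_Cp])
    (Set.toFinite _)
  refine h5 fun x hx => h.fix_of_perm fun L hL => ?_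
  suffices h9 : cj x L = L by rwa [h9]
  rw [← h8] at hL
  rcases hL with rfl | hL
  · exact nm_cj_iff.2 (nm_of_comm (h.comm h4 hK (Ne.symm h6) _ (nm_conj' hg hx)))
  · exact nm_of_comm (h.comm h4 hL.1 (Ne.symm hL.2) x hx)

/-- a point which shares all components but one is fixed by the last one -/
theorem sh0 [Nontrivial ι] {b y : Ω} {K₁ : Subgroup G} (h0 : K₁ ∈ Cp C a b)
    (h1 : ∀ K ∈ Cp C a b, K ≠ K₁ → K ∈ Cp C a y) : K₁ ≤ stabilizer G y := by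
  by_cases hy : y = b
  · exact hy ▸ h.le_stab h0
  have : Finite ι := Finite.of_injective _ (E_inj C)
  obtain ⟨K₂, h2, hne⟩ := Set.exists_ne_of_one_lt_ncard (s := Cp C a b)
    (by rw [h.ncard_Cp]; exact Finite.one_lt_card) K₁
  obtain ⟨g, h3, h4⟩ := h.flag h0 (h1 _ h2 hne)
  have h5 := h.pt2 hy h1 h2 hne (z := g • y) fun K hK h5 => by
    have h6 := cj_mem_Cp hK g⁻¹
    rw [← h3, inv_smul_smul] at h6
    have h7 := cj_mem_Cp (h1 _ h6 fun h7 => h5 (by rw [← h4, ← h7, cj_cj_inv])) g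
    rwa [cj_cj_inv] at h7
  rwa [← h4, cj_le_stab] at h5

theorem exists_pel {b : Ω} {K : Subgroup G} (hK : K ∈ Cp C a b) : ∃ x ∈ K, x ≠ 1 ∧ ∃ n : ℕ, x ^ p ^ n = 1 := by
  obtain ⟨g, rfl, l, rfl⟩ := hK
  obtain ⟨⟨x, hx⟩, h1⟩ := (Subgroup.ne_bot_iff_exists_ne_one).1 ((C.conj g).X_ne l)
  exact ⟨x, hx.2, fun h2 => h1 (Subtype.ext h2), exists_pow_of_isP (S.conj g).isP hx.1⟩

theorem nopc_at (hN : NoPC S T) (t : G) {g : G} (hg : g ∈ T) (h1 : ∃ n : ℕ, g ^ p ^ n = 1)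
    (h2 : ∀ e ∈ cj t (S.D Set.univ), g * e = e * g) : g = 1 := by
  obtain ⟨n, hn⟩ := h1
  have h3 := hN (t⁻¹ * g * t) (by simpa using h.A.nrm.conj_mem g hg t⁻¹)
    ⟨n, by rw [← inv_inv t, inv_inv t⁻¹, conj_pow, hn]; simp⟩ fun e he => by
      have h4 := h2 _ (conj_mem_cj t he)
      calc t⁻¹ * g * t * e = t⁻¹ * (g * (t * e * t⁻¹)) * t := by group
        _ = _ := by rw [h4]; group
  calc g = t * (t⁻¹ * g * t) * t⁻¹ := by group
    _ = 1 := by rw [h3]; group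

/-- two points which are fixed by the components of each other are equal -/
theorem fixE (hN : NoPC S T) {g g' : G} (h1 : cj g (S.D Set.univ) ≤ stabilizer G (g' • a))
    (h2 : cj g' (S.D Set.univ) ≤ stabilizer G (g • a)) : g' • a = g • a := by
  have := h.A.nrm
  have n1 := (h.At.conj g).nrmH
  have n2 := (h.At.conj g').nrmH
  by_cases h3 : ∀ l, cj g' (C.E l) ≤ cj g (S.D Set.univ)
  · refine h.eq_of_cj (Subgroup.eq_of_le_of_card_ge ?_ (by rw [card_cj, card_cj]))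
    exact (C.conj g').top.le.trans (iSup_le h3)
  push Not at h3
  obtain ⟨l, h3⟩ := h3
  have hL : cj g' (C.E l) ∈ Cp C a (g' • a) := h.mem_Cp.2 ⟨l, rfl⟩
  have h4 : cj g' (C.E l) ≤ cj g' (S.D Set.univ) := cj_mono _ (E_le C l)
  have h5 := qs_cent (N := cj g (S.D Set.univ) ⊓ cj g' (S.D Set.univ)) (qs hL)
    (fun x hx => nm_inf (n1 x (h2 (h4 hx))) (cj_of_mem (h4 hx)))
    (fun n hn => nm_E (C.conj g') hn.2 l) fun h5 => h3 (h5.trans inf_le_left)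
  obtain ⟨x, hx, h6, h7⟩ := h.exists_pel hL
  refine absurd (h.nopc_at hN g (h.le_T hL hx) h7 fun e he =>
    (h.cent_of_comm hL (h1 he) (fun y hy => h5 _ (Subgroup.mem_inf.2 ⟨?_, ?_⟩)) x hx).symm) h6
  · simpa only [mul_assoc] using mul_mem he (nm_conj (n1 y (h2 (h4 hy))) (inv_mem he))
  · exact mul_mem (nm_conj (n2 e (h1 he)) (h4 hy)) (inv_mem (h4 hy))

/-- no two points share all components but one -/
theorem sh [Nontrivial ι] (hN : NoPC S T) {b y : Ω} {K₁ : Subgroup G} (h1 : ∀ K ∈ Cp C a b, K ≠ K₁ → K ∈ Cp C a y) :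
    y = b := by
  by_cases h0 : K₁ ∈ Cp C a b
  swap
  · exact (h.eq_of_subset fun K hK => h1 K hK fun h2 => h0 (h2 ▸ hK)).symm
  obtain ⟨L, hL⟩ := exists_compl (A := Cp C a b \ {K₁}) (B := Cp C a y) (Set.toFinite _) (fun K hK => h1 K hK.1 hK.2)
    (by rw [h.ncard_diff h0, h.ncard_Cp])
  obtain ⟨g, -, rfl⟩ := h.exists_g b
  obtain ⟨g', -, rfl⟩ := h.exists_g y
  refine h.fixE hN ?_ ?_
  · rw [← h.sSup_Cp]
    refine sSup_le fun K hK => ?_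
    by_cases h2 : K = K₁
    · exact h2 ▸ h.sh0 h0 h1
    · exact h.le_stab (h1 K hK h2)
  · rw [← h.sSup_Cp]
    refine sSup_le fun K hK => ?_
    by_cases h2 : K = L
    · exact h.sh0 hK fun K' hK' h3 => (hL K' hK' (h2 ▸ h3)).1
    · exact h.le_stab (hL K hK h2).1

theorem pt3 [Nontrivial ι] (hN : NoPC S T) {b y z : Ω} (hy : y ≠ b) {K₁ K₁' K₂ K₂' : Subgroup G}
    (h1 : ∀ K ∈ Cp C a b, K ≠ K₁ → K ≠ K₁' → K ∈ Cp C a y) (h2 : K₂ ∈ Cp C a b) (h4 : K₂ ∈ Cp C a y)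
    (h4' : K₂' ∈ Cp C a y) (hne : K₂' ≠ K₂) (h3 : ∀ K ∈ Cp C a y, K ≠ K₂ → K ≠ K₂' → K ∈ Cp C a z) :
    K₂ ≤ stabilizer G z := by
  refine h.pt hy h2 (h.le_stab h4) (B := {K₁, K₁', K₂, K₂'})
    ((Set.ncard_insert_le _ _).trans (Nat.succ_le_succ ((Set.ncard_insert_le _ _).trans
      (Nat.succ_le_succ ((Set.ncard_insert_le _ _).trans (by simp))))))
    (fun L hL h5 => by_contra fun h6 => by
      simp only [Set.mem_insert_iff, Set.mem_singleton_iff, not_or] at h6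
      exact h5 (h.le_stab (h3 L (h1 L hL h6.1 h6.2.1) h6.2.2.1 h6.2.2.2)))
    fun h5 g hb hz hg => h.sh hN (K₁ := K₂') fun K₀ hK₀ h0 => ?_
  suffices h6 : ∀ g : G, g • z = z → cj g K₂ = K₂ → ∀ K ∈ Cp C a y, K ≠ K₂' → cj g K ∈ Cp C a y by
    have h7 := cj_mem_Cp (h6 g⁻¹ (inv_smul_eq_iff.2 hz.symm) (nm_inv hg) K₀ hK₀ h0) g
    rwa [cj_cj_inv] at h7
  intro g hz hg K hK h0
  by_cases h6 : K = K₂
  · rwa [h6, hg]
  by_contra h7
  obtain ⟨L, hL⟩ := exists_compl (A := insert (cj g K) ((Cp C a y \ {K₂}) \ {K₂'})) (B := Cp C a z) (Set.toFinite _)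
    (Set.insert_subset (cj_mem_Cp' (h3 K hK h6 h0) hz) fun L hL => h3 L hL.1.1 hL.1.2 hL.2)
    (by rw [Set.ncard_insert_of_notMem (fun h9 => h7 h9.1.1) (Set.toFinite _),
      Set.ncard_sdiff_singleton_add_one (s := Cp C a y \ {K₂}) ⟨h4', hne⟩ (Set.toFinite _), h.ncard_diff h4,
      h.ncard_Cp])
  refine h5 fun x hx => h.sh hN (K₁ := L) fun L' hL' h8 => ?_
  suffices h9 : cj x L' = L' by
    have h10 := cj_mem_Cp hL' x
    rwa [h9] at h10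
  rcases hL L' hL' h8 with rfl | h9
  · exact nm_cj_iff.2 (nm_of_comm (h.comm h4 hK (Ne.symm h6) _ (nm_conj' hg hx)))
  · exact nm_of_comm (h.comm h4 h9.1.1 (Ne.symm h9.1.2) x hx)

/-- a point which shares all components but two -/
theorem arrow (hN : NoPC S T) {y : Ω} {l k l₃ : ι} (hne : l ≠ k) (h1 : ∀ l', l' ≠ l → l' ≠ k → C.E l' ∈ Cp C a y)
    (h2 : l₃ ≠ l) (h3 : l₃ ≠ k) : C.E k ≤ stabilizer G y := by
  have : Nontrivial ι := ⟨⟨l, k, hne⟩⟩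
  by_cases hy : y = a
  · exact hy ▸ h.le_stab (E_mem k)
  have h4 : ∀ K ∈ Cp C a a, K ≠ C.E l → K ≠ C.E k → K ∈ Cp C a y := fun K hK h5 h6 => by
    obtain ⟨l', rfl⟩ := h.mem_Cp_a.1 hK
    exact h1 l' (fun h7 => h5 (h7 ▸ rfl)) fun h7 => h6 (h7 ▸ rfl)
  obtain ⟨g, h5, h6⟩ := h.flag (E_mem k) (h1 l₃ h2 h3)
  have h7 := h.pt3 hN hy h4 (E_mem l₃) (h1 l₃ h2 h3) (K₂' := cj g (C.E l)) (h5 ▸ cj_mem_Cp (E_mem l) g)
    (fun h7 => hne (E_inj C (cj_inj g (h7.trans h6.symm)))) (z := g • y) fun K hK h7 h8 => by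
      have h9 := cj_mem_Cp hK g⁻¹
      rw [← h5, inv_smul_smul] at h9
      have h10 := cj_mem_Cp (h4 _ h9 (fun h10 => h8 (by rw [← h10, cj_cj_inv]))
        fun h10 => h7 (by rw [← h6, ← h10, cj_cj_inv])) g
      rwa [cj_cj_inv] at h10
  rwa [← h6, cj_le_stab] at h7

end Cx

end Cfsg.Agent.TH.Own.Tw
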