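import Mathlib
import Cfsg.Agent.TH.Own.TwoCp

/-!
# S3541, `BoxTwo`: modules for the components; at most two components (helper72)
-/

set_option autoImplicit false
set_option linter.unusedSectionVars false
set_option linter.unusedVariables false

namespace Cfsg.Agent.TH.Own.Tw

open MulAction

variable {G : Type*} [Group G] {p : ℕ} {I ι : Type*} {Ω : Type*} [MulAction G Ω] {T : Subgroup G} {m : ℕ}

/-- `Q / V` acts regularly on the orbit of `a` -/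
structure Md (p : ℕ) (T : Subgroup G) (a : Ω) (V Q : Subgroup G) : Prop where
  isP : IsPGroup p Q
  leT : Q ≤ T
  le : V ≤ Q
  nm : ∀ w ∈ Q, cj w V = V
  inf : ∀ w ∈ Q, w • a = a → w ∈ V
  fix : V ≤ stabilizer G a
  ne : ¬ Q ≤ V

/-- the centraliser of `K` in `Q / V` -/
def Cm (V Q K : Subgroup G) : Subgroup G where
  carrier := {w | w ∈ Q ∧ cj w V = V ∧ ∀ x ∈ K, w⁻¹ * x * w * x⁻¹ ∈ V}
  one_mem' := ⟨one_mem _, cj_one _, fun x _ => by simp⟩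
  mul_mem' := by
    rintro w w' ⟨h1, h2, h3⟩ ⟨h4, h5, h6⟩
    refine ⟨mul_mem h1 h4, nm_mul h2 h5, fun x hx => ?_⟩
    have h7 := mul_mem (nm_conj' h5 (h3 x hx)) (h6 x hx)
    convert h7 using 1
    group
  inv_mem' := by
    rintro w ⟨h1, h2, h3⟩
    refine ⟨inv_mem h1, nm_inv h2, fun x hx => ?_⟩
    have h7 := nm_conj h2 (inv_mem (h3 x hx))
    convert h7 using 1
    group

theorem Cm_le (V Q K : Subgroup G) : Cm V Q K ≤ Q := fun _ h => h.1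

namespace Md

variable {a : Ω} {V Q : Subgroup G} (M : Md p T a V Q)

include M

theorem mem_Cm {K : Subgroup G} (h1 : K ≤ stabilizer G a) (h2 : ∀ x ∈ K, cj x Q = Q) {w : G} :
    w ∈ Cm V Q K ↔ w ∈ Q ∧ K ≤ stabilizer G (w • a) := by
  constructor
  · rintro ⟨h3, -, h4⟩
    refine ⟨h3, fun x hx => ?_⟩
    have h5 : (w⁻¹ * x * w * x⁻¹) • x • a = a := by rw [h1 hx]; exact M.fix (h4 x hx)
    rwa [← mul_smul, inv_mul_cancel_right, mul_smul, mul_smul, inv_smul_eq_iff] at h5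
  · rintro ⟨h3, h4⟩
    refine ⟨h3, M.nm w h3, fun x hx => M.inf _ ?_ ?_⟩
    · simpa only [mul_assoc] using mul_mem (inv_mem h3) (nm_conj (h2 x hx) h3)
    · rw [mul_smul, mul_smul, mul_smul, show x⁻¹ • a = a from h1 (inv_mem hx), h4 hx, inv_smul_smul]

theorem fix_smul {w : G} (hw : w ∈ Q) : V ≤ stabilizer G (w • a) := le_stab_smul (M.nm w hw) M.fix

theorem toCm {K : Subgroup G} (h1 : K ≤ stabilizer G a) (h2 : ∀ x ∈ K, cj x Q = Q) {w : G} (h3 : w ∈ Cm V Q K)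
    (h4 : w ∉ V) : Md p T a V (Cm V Q K) where
  isP := M.isP.to_le (Cm_le _ _ _)
  leT := (Cm_le _ _ _).trans M.leT
  le v hv := (M.mem_Cm h1 h2).2 ⟨M.le hv, by rwa [show v • a = a from M.fix hv]⟩
  nm w hw := hw.2.1
  inf w hw := M.inf w hw.1
  fix := M.fix
  ne h := h4 (h h3)

theorem conj_mem_Cm {K : Subgroup G} (h1 : K ≤ stabilizer G a) (h2 : ∀ x ∈ K, cj x Q = Q) {x w : G} (h3 : x • a = a)
    (h4 : cj x Q = Q) (h5 : cj x K = K) (hw : w ∈ Cm V Q K) : x * w * x⁻¹ ∈ Cm V Q K := by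
  rw [M.mem_Cm h1 h2] at hw ⊢
  refine ⟨nm_conj h4 hw.1, ?_⟩
  rw [mul_smul, mul_smul, inv_smul_eq_iff.2 h3.symm]
  exact le_stab_smul h5 hw.2

theorem split {A B : Subgroup G} (hA : A ≤ Q) (hB : B ≤ Q) (h1 : V ≤ B) (h2 : ∀ w ∈ A, w ∈ B → w ∈ V) {x w w' : G}
    (hx : x • a = a) (hw : w ∈ A) (hw' : w' ∈ B) (h3 : x * w * x⁻¹ ∈ A) (h4 : x * w' * x⁻¹ ∈ B)
    (h5 : x • (w * w') • a = (w * w') • a) : x • w • a = w • a ∧ x • w' • a = w' • a := by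
  have hx' : x⁻¹ • a = a := inv_smul_eq_iff.2 hx.symm
  have h6 : (w * w')⁻¹ * ((x * w * x⁻¹) * (x * w' * x⁻¹)) ∈ V := M.inf _
    (mul_mem (inv_mem (mul_mem (hA hw) (hB hw'))) (mul_mem (hA h3) (hB h4))) (by
      rw [show x * w * x⁻¹ * (x * w' * x⁻¹) = x * (w * w') * x⁻¹ by group, mul_smul, mul_smul, mul_smul, hx', h5,
        inv_smul_smul])
  have h7 : w⁻¹ * (x * w * x⁻¹) ∈ V := h2 _ (mul_mem (inv_mem hw) h3) (by
    have h7 := mul_mem (mul_mem hw' (h1 h6)) (inv_mem h4)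
    convert h7 using 1
    group)
  constructor
  · have h8 : (w⁻¹ * (x * w * x⁻¹)) • a = a := M.fix h7
    rwa [mul_smul, mul_smul, mul_smul, hx', inv_smul_eq_iff] at h8
  · have h8 : (w'⁻¹ * (x * w' * x⁻¹)) • a = a := M.fix (by
      have h8 := mul_mem (nm_conj' (M.nm w' (hB hw')) (inv_mem h7)) h6
      convert h8 using 1
      group)
    rwa [mul_smul, mul_smul, mul_smul, hx', inv_smul_eq_iff] at h8

theorem exists_not : ∃ w ∈ Q, w ∉ V := SetLike.not_le_iff_exists.1 M.ne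

end Md

variable [Finite G] [hp : Fact p.Prime]

theorem exists_Md {a : Ω} (A : Amb Ω T p m) {V : Subgroup G} (h0 : V ≠ ⊥) (h1 : IsPGroup p V) (h2 : V ≤ T)
    (h3 : V ≤ stabilizer G a) (h4 : ∀ Q : Subgroup G, IsPGroup p Q → Q ≤ T → Q ≤ stabilizer G a → V ≤ Q →
      (∀ g : G, g • a = a → cj g V = V → cj g Q = Q) → Q ≤ V) :
    ∃ Q, Md p T a V Q ∧ ∀ g : G, cj g V = V → cj g Q = Q := by
  obtain ⟨Q, h5, h6, h7, h8, h9⟩ := A.gt a V h0 h1 h2 h3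
  have h10 := h4 (Q ⊓ stabilizer G a) (h5.to_le inf_le_left) (inf_le_left.trans h6) inf_le_right (le_inf h7 h3)
    fun g hg hg' => nm_inf (h8 g hg') (nm_stab hg)
  obtain ⟨w, hw, h11, h12⟩ := exists_nm_of_lt h5 h7 fun h => h9 (h.trans h3)
  refine ⟨Q ⊓ Subgroup.normalizer (V : Set G), ⟨h5.to_le inf_le_left, inf_le_left.trans h6,
    le_inf h7 Subgroup.le_normalizer, fun w hw => nm_iff.1 hw.2, fun w hw hw' => h10 ⟨hw.1, hw'⟩, h3,
    fun h => h11 (h ⟨hw, nm_iff.2 h12⟩)⟩, fun g hg => nm_inf (h8 g hg) (by rw [cj_normalizer, hg])⟩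

theorem Md.cent {a : Ω} {V Q K : Subgroup G} (M : Md p T a V Q) (hK : Group.IsPerfect K) (h1 : K ≤ stabilizer G a)
    (h2 : ∀ x ∈ K, cj x Q = Q) (h3 : ∀ v ∈ V, ∀ x ∈ K, v * x = x * v) {w : G} (hw : w ∈ Q)
    (h4 : K ≤ stabilizer G (w • a)) : cj w K = K := by
  have := (M.isP.to_le M.le).isNilpotent
  have h5 := nm_of_comm (cent_of_hom hK inferInstance h3 (g := w⁻¹) fun x hx => by
    rw [inv_inv]; exact ((M.mem_Cm h1 h2).2 ⟨hw, h4⟩).2.2 x hx)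
  simpa only [inv_inv] using nm_inv h5

namespace Cx

variable {a : Ω} {S : US G p I} {C : Comps S ι} (h : Cx T m a S C)

include h

theorem E_fix (l : ι) : C.E l ≤ stabilizer G a := h.le_stab (E_mem l)

theorem exists_Syl (b : Ω) : ∃ P ∈ S.toPS.Syl Set.univ, P ≤ stabilizer G b := by
  obtain ⟨P, h1, -, h2⟩ := h.At.exists_Syl h.A (b := b) (K := ⊥) IsPGroup.of_bot bot_le bot_le
  exact ⟨P, h1, h2⟩

/-- two components cannot both act without fixed points -/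
theorem tens {V Q : Subgroup G} (M : Md p T a V Q) {l k : ι} (hne : l ≠ k) (hl : ∀ e ∈ C.E l, cj e Q = Q)
    (hk : ∀ e ∈ C.E k, cj e Q = Q) (h1 : ∀ w ∈ Q, C.E l ≤ stabilizer G (w • a) → w ∈ V)
    (h2 : ∀ w ∈ Q, C.E k ≤ stabilizer G (w • a) → w ∈ V) : False := by
  obtain ⟨w, hw, hw'⟩ := M.exists_not
  obtain ⟨P, hP, h3⟩ := h.exists_Syl (w • a)
  obtain ⟨e, he, h4⟩ := exists_gen C hP l
  obtain ⟨f, hf, h5⟩ := exists_far C hP h3 fun h5 => hw' (h2 w hw h5)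
  have hc := C.comm l k hne
  have a1 : P ⊓ C.E l ≤ C.E l := inf_le_right
  have a2 : cj e (P ⊓ C.E l) ≤ C.E l := (cj_mono e a1).trans (cj_of_mem he).le
  have b : ∀ {K : Subgroup G}, K ≤ C.E l → ∀ {w : G}, w ∈ Cm V Q K ↔ w ∈ Q ∧ K ≤ stabilizer G (w • a) :=
    fun hK => M.mem_Cm (hK.trans (h.E_fix l)) fun x hx => hl x (hK hx)
  have c : ∀ {K : Subgroup G}, K ≤ C.E l → ∀ x ∈ C.E k, ∀ {w : G}, w ∈ Cm V Q K → x * w * x⁻¹ ∈ Cm V Q K :=
    fun hK x hx _ hw => M.conj_mem_Cm (hK.trans (h.E_fix l)) (fun x hx => hl x (hK hx)) (h.E_fix k hx) (hk x hx)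
      (nm_of_comm fun y hy => (hc y (hK hy) x hx).symm) hw
  have h6 : (e * w * e⁻¹) • a = e • w • a := by rw [mul_smul, mul_smul, show e⁻¹ • a = a from h.E_fix l (inv_mem he)]
  have h7 : w ∈ Cm V Q (P ⊓ C.E l) := (b a1).2 ⟨hw, inf_le_left.trans h3⟩
  have h8 : f * (e * w * e⁻¹) * f⁻¹ ∈ Cm V Q (cj e (P ⊓ C.E l)) :=
    c a2 f hf ((b a2).2 ⟨nm_conj (hl e he) hw, h6 ▸ cj_le_stab.2 (inf_le_left.trans h3)⟩)
  obtain ⟨P', hP', h9⟩ := h.exists_Syl ((w * (f * (e * w * e⁻¹) * f⁻¹)) • a)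
  have h10 : ∀ x ∈ P' ⊓ C.E k, _ := fun x hx => M.split (Cm_le _ _ _) (Cm_le _ _ _)
    (fun v hv => (b a2).2 ⟨M.le hv, by rw [show v • a = a from M.fix hv]; exact a2.trans (h.E_fix l)⟩)
    (fun v hv hv' => h1 v hv.1 (h4.trans (sup_le ((b a1).1 hv).2 ((b a2).1 hv').2))) (h.E_fix k hx.2) h7 h8
    (c a1 x hx.2 h7) (c a2 x hx.2 h8) (h9 hx.1)
  refine h5 P' hP' (fun x hx => (h10 x hx).1) fun x hx => ?_
  have h11 := (h10 x hx).2
  rw [mul_smul, mul_smul, show f⁻¹ • a = a from h.E_fix k (inv_mem hf), h6, ← mul_smul f, ← hc e he f hf, mul_smul,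
    ← mul_smul x, ← hc e he x hx.2, mul_smul, smul_left_cancel_iff] at h11
  rw [cj_stab]
  exact h11

/-- an element which is fixed by all components but one -/
theorem exists_w {V Q : Subgroup G} (M : Md p T a V Q) (B : Set ι) (hB : ∀ k ∈ B, ∀ e ∈ C.E k, cj e Q = Q) :
    ∃ w ∈ Q, w ∉ V ∧ ∃ l, ∀ k ∈ B, k ≠ l → C.E k ≤ stabilizer G (w • a) := by
  have : Finite ι := Finite.of_injective _ (E_inj C)
  obtain ⟨w, ⟨hw, hw'⟩, hmax⟩ := Set.exists_max_image {w | w ∈ Q ∧ w ∉ V}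
    (fun w => {k ∈ B | C.E k ≤ stabilizer G (w • a)}.ncard) (Set.toFinite _) M.exists_not
  refine ⟨w, hw, hw', by_contra fun h1 => ?_⟩
  push Not at h1
  obtain ⟨i, -⟩ := S.endn
  obtain ⟨l, hl, -, hl'⟩ := h1 (C.c i)
  obtain ⟨k, hk, hne, hk'⟩ := h1 l
  let K : Subgroup G := ⨆ j ∈ {k ∈ B | C.E k ≤ stabilizer G (w • a)}, C.E j
  have h2 : K ≤ stabilizer G a := iSup₂_le fun j _ => h.E_fix j
  have h3 : ∀ x ∈ K, cj x Q = Q := fun x hx =>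
    nm_iff.1 ((iSup₂_le fun j hj y hy => nm_iff.2 (hB j hj.1 y hy) : K ≤ Subgroup.normalizer (Q : Set G)) hx)
  have h4 : ∀ j ∈ B, ∀ e ∈ C.E j, cj e (Cm V Q K) = Cm V Q K := fun j hj e he => nm_of_conj fun x hx =>
    M.conj_mem_Cm h2 h3 (h.E_fix j he) (hB j hj e he) (by simp only [K, cj_iSup, nm_E C (E_le C j he)]) hx
  have h5 : ∀ j ∈ B, ¬ C.E j ≤ stabilizer G (w • a) → ∀ v ∈ Cm V Q K, C.E j ≤ stabilizer G (v • a) → v ∈ V :=
    fun j hj h5 v hv h6 => by_contra fun h7 => (hmax v ⟨hv.1, h7⟩).not_gt (Set.ncard_lt_ncard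
      ⟨fun j' hj' => ⟨hj'.1, (le_iSup₂_of_le j' hj' le_rfl : C.E j' ≤ K).trans ((M.mem_Cm h2 h3).1 hv).2⟩,
        fun h8 => h5 (h8 ⟨hj, h6⟩).2⟩ (Set.toFinite _))
  exact h.tens (M.toCm h2 h3 ((M.mem_Cm h2 h3).2 ⟨hw, iSup₂_le fun j hj => hj.2⟩) hw') hne (h4 k hk) (h4 l hl)
    (h5 k hk hk') (h5 l hl hl')

/-- a `p`-subgroup of `G_a` normalised by a component centralises it -/
theorem cent_of_nm {Q : Subgroup G} (h1 : IsPGroup p Q) (h2 : Q ≤ stabilizer G a) {k : ι}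
    (h3 : ∀ e ∈ C.E k, cj e Q = Q) : ∀ w ∈ Q, ∀ e ∈ C.E k, w * e = e * w := by
  have h4 : Q ⊓ C.E k = ⊥ := h.At.eq_bot_of_nm h.A (h1.to_le inf_le_left) (inf_le_right.trans (E_le C k))
    fun g hg => by
      obtain ⟨y, hy, x, hx, rfl⟩ := exists_dec C hg k
      exact nm_mul (nm_inf (h3 y hy) (cj_of_mem hy)) (nm_of_comm fun z hz => hx z hz.2)
  have h5 : ∀ w ∈ Q, ∀ e ∈ C.E k, w * e * w⁻¹ * e⁻¹ ∈ Q := fun w hw e he => by
    simpa only [mul_assoc] using mul_mem hw (nm_conj (h3 e he) (inv_mem hw))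
  refine fun w hw => h.cent_of_comm (E_mem k) (h2 hw) fun x hx y hy => ?_
  have h6 : w * x * w⁻¹ * x⁻¹ ∈ S.D Set.univ :=
    mul_mem (nm_conj (h.At.nrmH w (h2 hw)) (E_le C k hx)) (inv_mem (E_le C k hx))
  have h7 : _ ∈ Q ⊓ C.E k :=
    Subgroup.mem_inf.2 ⟨h5 _ (h5 w hw x hx) y hy, mul_mem (nm_conj (nm_E C h6 k) hy) (inv_mem hy)⟩
  rwa [h4, Subgroup.mem_bot, mul_inv_eq_one, mul_inv_eq_iff_eq_mul] at h7

/-- the module of a Sylow subgroup of the centraliser of some components -/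
theorem exists_MdB (B : Set ι) {P : Subgroup G} (h0 : P ≠ ⊥) (h1 : IsPGroup p P) (h2 : P ≤ T)
    (h3 : P ≤ stabilizer G a) (h4 : ∀ k ∈ B, ∀ x ∈ P, ∀ e ∈ C.E k, x * e = e * x) :
    ∃ V Q, Md p T a V Q ∧ (∀ k ∈ B, ∀ e ∈ C.E k, cj e Q = Q) ∧
      ∀ k ∈ B, ∀ w ∈ Q, C.E k ≤ stabilizer G (w • a) → cj w (C.E k) = C.E k := by
  have e : ∀ {x : G}, x ∈ (⨅ k ∈ B, Subgroup.centralizer (C.E k : Set G)) ↔ ∀ k ∈ B, ∀ e ∈ C.E k, e * x = x * e := by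
    simp only [Subgroup.mem_iInf, Subgroup.mem_centralizer_iff, SetLike.mem_coe, implies_true]
  obtain ⟨V, h5, hV⟩ := exists_maxP (L := T ⊓ stabilizer G a ⊓ ⨅ k ∈ B, Subgroup.centralizer (C.E k : Set G)) h1
    (le_inf (le_inf h2 h3) fun x hx => e.2 fun k hk y hy => (h4 k hk x hx y hy).symm)
  have h6 : ∀ k ∈ B, ∀ x ∈ C.E k, cj x V = V := fun k hk x hx => nm_of_comm fun v hv => e.1 (hV.le hv).2 k hk x hx
  obtain ⟨Q, M, hQ⟩ := exists_Md h.A (fun h7 => h0 (le_bot_iff.1 (h7 ▸ h5))) hV.isP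
    (hV.le.trans (inf_le_left.trans inf_le_left)) (hV.le.trans (inf_le_left.trans inf_le_right))
    fun Q a1 a2 a3 a4 a5 => (hV.max Q a1 (le_inf (le_inf a2 a3) fun w hw => e.2 fun k hk x hx =>
      (h.cent_of_nm a1 a3 (fun y hy => a5 y (h.E_fix k hy) (h6 k hk y hy)) w hw x hx).symm) a4).le
  exact ⟨V, Q, M, fun k hk x hx => hQ x (h6 k hk x hx), fun k hk w hw h7 => M.cent (C.quasi k).1 (h.E_fix k)
    (fun x hx => hQ x (h6 k hk x hx)) (fun v hv x hx => (e.1 (hV.le hv).2 k hk x hx).symm) hw h7⟩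

/-- the module of a Sylow subgroup of `C_T(E)` -/
theorem exists_Md_of_not (hN : ¬ NoPC S T) : ∃ V Q, Md p T a V Q ∧ (∀ e ∈ S.D Set.univ, cj e Q = Q) ∧
    (∀ k, ∀ w ∈ Q, C.E k ≤ stabilizer G (w • a) → cj w (C.E k) = C.E k) ∧
    ∀ w ∈ Q, S.D Set.univ ≤ stabilizer G (w • a) → w ∈ V := by
  simp only [NoPC, not_forall] at hN
  obtain ⟨g, hg, ⟨n, hn⟩, h1, h2⟩ := hN
  obtain ⟨V, Q, M, h3, h4⟩ := h.exists_MdB Set.univ (P := Subgroup.zpowers g) (by simpa using h2) (isP_zpowers hn)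
    (Subgroup.zpowers_le.2 hg) (Subgroup.zpowers_le.2 (h.At.smul_eq h.A (nm_of_comm h1))) fun k _ x hx e he =>
      Subgroup.mem_centralizer_singleton_iff.1 ((Subgroup.zpowers_le (H := Subgroup.centralizer {e})).2
        (Subgroup.mem_centralizer_singleton_iff.2 (h1 e (E_le C k he))) hx)
  refine ⟨V, Q, M, fun e he => nm_iff.1 ((C.top.le.trans (iSup_le fun k y hy => nm_iff.2 (h3 k trivial y hy)) :
    _ ≤ Subgroup.normalizer (Q : Set G)) he), fun k => h4 k trivial, fun w hw h5 => M.inf w hw (h.At.smul_eq h.A ?_)⟩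
  rw [C.top, cj_iSup]
  exact iSup_congr fun k => h4 k trivial w hw ((E_le C k).trans h5)

theorem nopc_of_two [Nontrivial ι] : NoPC S T := by
  by_contra hN
  obtain ⟨V, Q, M, h1, h2, h3⟩ := h.exists_Md_of_not hN
  obtain ⟨w, hw, hw', l, h4⟩ := h.exists_w M Set.univ fun k _ e he => h1 e (E_le C k he)
  have h5 := h.sh0 (E_mem l) (y := w • a) fun K hK h5 => by
    obtain ⟨k, rfl⟩ := h.mem_Cp_a.1 hK
    exact h.mem_Cp.2 ⟨k, (h2 k w hw (h4 k trivial fun h6 => h5 (h6 ▸ rfl))).symm⟩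
  refine hw' (h3 w hw (C.top.le.trans (iSup_le fun k => ?_)))
  by_cases h6 : k = l
  · rwa [h6]
  · exact h4 k trivial h6

/-- at most two components -/
theorem le_two (l l₁ l₂ : ι) : l = l₁ ∨ l = l₂ ∨ l₁ = l₂ := by
  by_contra h0
  push Not at h0
  have : Nontrivial ι := ⟨⟨_, _, h0.1⟩⟩
  have hN := h.nopc_of_two
  obtain ⟨V, Q, M, h1, h2⟩ := h.exists_MdB {l}ᶜ (C.X_ne l) (S.isP.to_le inf_le_left) (inf_le_left.trans h.At.X_T)
    (inf_le_left.trans h.At.X_fix) fun k hk x hx e he => C.comm l k (Ne.symm hk) x hx.2 e he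
  obtain ⟨w, hw, hw', k, h3⟩ := h.exists_w M _ h1
  have h4 : ∀ j, j ≠ l → C.E j ≤ stabilizer G (w • a) → C.E j ∈ Cp C a (w • a) := fun j hj h4 =>
    h.mem_Cp.2 ⟨j, (h2 j hj w hw h4).symm⟩
  refine hw' (M.inf w hw (h.sh hN (K₁ := C.E l) fun K hK h5 => ?_))
  obtain ⟨j, rfl⟩ := h.mem_Cp_a.1 hK
  have h6 : j ≠ l := fun h6 => h5 (h6 ▸ rfl)
  refine h4 j h6 ?_
  by_cases h7 : j = k
  swap
  · exact h3 j h6 h7
  subst h7
  by_cases h8 : l₁ = j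
  · exact h.arrow hN h6.symm (fun l' a1 a2 => h4 l' a1 (h3 l' a1 a2)) h0.2.1.symm (h8 ▸ h0.2.2.symm)
  · exact h.arrow hN h6.symm (fun l' a1 a2 => h4 l' a1 (h3 l' a1 a2)) h0.1.symm h8

end Cx

end Cfsg.Agent.TH.Own.Tw
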