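import Mathlib
import Cfsg.Agent.TH.Own.TwoMd
import Cfsg.Agent.TH.Own.SpAbs

/-!
# S3541, `BoxTwo`: a Sylow subgroup of `N_A(U)` is transitive on the nodes; types; the lines `Fix U` (helper72)
-/

set_option autoImplicit false
set_option linter.unusedSectionVars false
set_option linter.unusedVariables false

namespace Cfsg.Agent.TH.Own.Tw

open MulAction

variable {G : Type*} [Group G] {p : ℕ} {I ι : Type*} {Ω : Type*} [MulAction G Ω] {T : Subgroup G} {m : ℕ}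

/-- the Sylow subgroups over `U` are transitive on the nodes -/
def RT (S : US G p I) (T : Subgroup G) (a : Ω) : Prop :=
  ∀ R : Subgroup G, MaxP p (T ⊓ stabilizer G a) R → S.X ≤ R → ∀ i k, ∃ r ∈ R, cj r (S.D {i}) = S.D {k}

/-- the Sylow subgroups of the layer at the point `b` -/
def Sy (S : US G p I) (a b : Ω) : Set (Subgroup G) := {P | ∃ g : G, g • a = b ∧ P = cj g S.X}

theorem arith_two {p n d e : ℕ} (hp : p.Prime) (hn : 0 < n)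
    (h : p ^ d = ((p ^ n + 1) * (p ^ n + 1) + p ^ n * p ^ n * e) * (p ^ n - 1) + 1) : False := by
  have h1 : 1 < p ^ n := Nat.one_lt_pow hn.ne' hp.one_lt
  obtain ⟨r, hr⟩ : ∃ r, p ^ n = r + 1 := ⟨p ^ n - 1, by omega⟩
  have h2 : p ^ d + p ^ n = p ^ n * p ^ n * (p ^ n + 1 + e * r) := by
    rw [h, hr, Nat.add_sub_cancel]; ring
  rcases le_or_gt (n + n) d with h3 | h3
  · have h4 : p ^ n * p ^ n ∣ p ^ n := (Nat.dvd_add_right (pow_add p n n ▸ pow_dvd_pow p h3)).1 ⟨_, h2⟩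
    have := Nat.le_of_dvd (by omega) h4
    nlinarith
  · have h4 := Nat.pow_lt_pow_right hp.one_lt h3
    rw [pow_add] at h4
    nlinarith [Nat.zero_le (e * r), Nat.zero_le (p ^ n * p ^ n * (e * r))]

variable [Finite G] [hp : Fact p.Prime]

/-- two different Sylow subgroups meet in the radical of a minimal parabolic subgroup -/
theorem inf_le_V (S : US G p I) {P : Subgroup G} (hP : P ∈ S.toPS.Syl Set.univ) (hne : P ≠ S.X) :
    ∃ i, S.X ⊓ P ≤ S.toPS.V {i} := by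
  obtain ⟨i, -, R, hR, h1, h2⟩ := S.proj _ P hP hne
  refine ⟨i, le_trans (le_inf inf_le_left fun x hx => ?_) (S.pan i R hR h1)⟩
  obtain ⟨n, hn⟩ := exists_pow_of_isP S.isP hx.1
  refine (S.toPS.maxP_Syl hR).mem_of_nm hn (S.toPS.X_le _ hx.1) (by_contra fun h3 => ?_)
  have h4 := h2 _ (cj_mem_Cjs (S.toPS.X_le _ hx.1) hR) h3
  rw [← cj_of_mem hx.2, ← cj_inf, card_cj, cj_of_mem hx.2] at h4
  exact h4.false

namespace Cx

variable {a : Ω} {S : US G p I} {C : Comps S ι} (h : Cx T m a S C)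

include h

theorem perm {g : G} (h1 : g • a = a) (h2 : cj g S.X = S.X) (i : I) : ∃ k, cj g (S.D {i}) = S.D {k} :=
  S.toPS.exists_perm (h.At.nrmH g h1) h2 i

theorem adj_uniq {i j k : I} (h1 : S.toPS.Adj i j) (h2 : S.toPS.Adj i k) : j = k := by
  obtain ⟨i₀, h3⟩ := S.endn
  obtain ⟨g, hg, h4⟩ := h.tr i i₀
  obtain ⟨-, h5, h6⟩ := mem_Np hg
  obtain ⟨j', hj⟩ := h.perm h5 h6 j
  obtain ⟨k', hk⟩ := h.perm h5 h6 k
  have h7 := h3 j' k' (S.toPS.adj_of_cj h6 h4 hj h1) (S.toPS.adj_of_cj h6 h4 hk h2)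
  exact S.toPS.D_single_inj (cj_inj g (by rw [hj, hk, h7]))

theorem fib_two {i j k : I} (h1 : C.c j = C.c i) (h2 : C.c k = C.c i) : j = i ∨ k = i ∨ j = k := by
  have h3 : ∀ x, C.c x = C.c i → x = i ∨ S.toPS.Adj i x := fun x hx =>
    conn C (J := {x | x = i ∨ S.toPS.Adj i x}) (by
      rintro y (rfl | hy) z hz
      · exact Or.inr hz
      · exact Or.inl (h.adj_uniq hz (S.toPS.adj_symm hy))) (Or.inl rfl) hx
  rcases h3 j h1 with h4 | h4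
  · exact Or.inl h4
  · exact Or.inr ((h3 k h2).imp_right fun h5 => h.adj_uniq h4 h5)

theorem pow_four {g : G} (h1 : g • a = a) (h2 : cj g S.X = S.X) (i : I) : cj (g ^ 4) (S.D {i}) = S.D {i} := by
  choose π hπ using h.perm h1 h2
  have h3 : Function.Injective π := fun i k h3 => S.toPS.D_single_inj (cj_inj g (by rw [hπ, hπ, h3]))
  have h4 : ∀ i k, C.c (π i) = C.c (π k) ↔ C.c i = C.c k := fun i k => by
    have h4 := cj_E C (h.At.nrmH g h1) h2 (hπ i)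
    have h5 := cj_E C (h.At.nrmH g h1) h2 (hπ k)
    exact ⟨fun h6 => E_inj C (cj_inj g (by rw [h4, h5, h6])), fun h6 => E_inj C (by rw [← h4, ← h5, h6])⟩
  have h5 : ∀ i, C.c (π (π i)) = C.c i := fun i => by
    rcases h.le_two (C.c i) (C.c (π i)) (C.c (π (π i))) with h5 | h5 | h5
    · exact (h5.trans ((h4 _ _).2 h5)).symm
    · exact h5.symm
    · exact (((h4 _ _).1 h5).trans h5).symm
  have h6 : π (π (π (π i))) = i := by
    rcases h.fib_two (h5 i) ((h5 _).trans (h5 i)) with h6 | h6 | h6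
    · rw [h6, h6]
    · exact h6
    · exact ((h3 (h3 h6)).trans h6).symm
  rw [show g ^ 4 = g * (g * (g * g)) by simp only [pow_succ', pow_zero, mul_one], cj_mul, cj_mul, cj_mul, hπ, hπ, hπ, hπ, h6]

theorem rt [Nontrivial I] : RT S T a := by
  have e : ∀ {x : G}, x ∈ (⨅ i, Subgroup.normalizer (S.D {i} : Set G)) ↔ ∀ i, cj x (S.D {i}) = S.D {i} := by
    simp only [Subgroup.mem_iInf, nm_iff, implies_true]
  have h2 : p = 2 := by
    by_contra h2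
    have h3 : Np p T a S.X ≤ ⨅ i, Subgroup.normalizer (S.D {i} : Set G) := (Subgroup.closure_le _).2 (by
      rintro g ⟨-, h3, h4, n, hn⟩
      have h5 : Nat.Coprime (2 ^ 2) (orderOf g) := Nat.Coprime.coprime_dvd_right (orderOf_dvd_of_pow_eq_one hn)
        (Nat.Coprime.pow _ _ ((Nat.coprime_primes Nat.prime_two hp.1).2 (Ne.symm h2)))
      obtain ⟨k, hk⟩ := exists_pow_eq_self_of_coprime h5
      rw [← hk]
      exact pow_mem (e.2 (h.pow_four h3 h4)) k)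
    obtain ⟨i, k, hne⟩ := exists_pair_ne I
    obtain ⟨g, hg, h4⟩ := h.tr i k
    exact hne (S.toPS.D_single_inj ((e.1 (h3 hg) i).symm.trans h4))
  intro R hR h3 i k
  obtain ⟨g, hg, h4⟩ := h.tr i k
  obtain ⟨h5, h6, h7⟩ := mem_Np hg
  obtain ⟨r, hr, h8⟩ := maxP_mul (L := T ⊓ stabilizer G a ⊓ Subgroup.normalizer (S.X : Set G))
    (N := ⨅ i, Subgroup.normalizer (S.D {i} : Set G))
    (hR.mono (le_inf hR.le fun x hx => nm_iff.2
      (h.At.nm_of_le hR.isP (hR.le.trans inf_le_right) (S.toPS.X_mem ∅) h3 hx)) inf_le_left)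
    (fun x hx => nm_of_conj fun y hy => e.2 fun j => by
      obtain ⟨j', hj⟩ := h.perm (inv_smul_eq_iff.2 (show x • a = a from hx.1.2).symm) (nm_inv (nm_iff.1 hx.2)) j
      rw [← cj_cj_inv x (S.D {j}), hj]
      exact nm_cj (e.1 hy j'))
    (fun x hx => ⟨2, by
      rw [show p ^ 2 = 4 by rw [h2]; rfl]
      exact e.2 (h.pow_four hx.1.2 (nm_iff.1 hx.2))⟩) ⟨⟨h5, h6⟩, nm_iff.2 h7⟩
  exact ⟨r, hr, by rw [← h4, ← e.1 h8 i, ← cj_mul, mul_inv_cancel_left, e.1 h8 i]⟩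

theorem exists_R {b : Ω} (hX : S.X ≤ stabilizer G b) :
    ∃ R, S.X ≤ R ∧ MaxP p (T ⊓ stabilizer G a) R ∧ R ≤ stabilizer G b := by
  obtain ⟨R, h1, h2, h3⟩ := h.A.exists_S a b S.isP h.At.X_T h.At.X_fix hX
  exact ⟨R, h1, h2, h3.le.trans inf_le_right⟩

theorem univ_le_of_D (hR : RT S T a) {b : Ω} (hX : S.X ≤ stabilizer G b) {i : I} (h1 : S.D {i} ≤ stabilizer G b) :
    S.D Set.univ ≤ stabilizer G b := by
  obtain ⟨R, h2, h3, h4⟩ := h.exists_R hX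
  refine S.toPS.D_le hX fun k _ => ?_
  obtain ⟨r, hr, h5⟩ := hR R h3 h2 i k
  rw [← h5, ← show r • b = b from h4 hr]
  exact cj_le_stab.2 h1

theorem uniq_of_not (hR : RT S T a) {b : Ω} (hb : ¬ S.D Set.univ ≤ stabilizer G b) {P P' : Subgroup G}
    (hP : P ∈ S.toPS.Syl Set.univ) (hP' : P' ∈ S.toPS.Syl Set.univ) (h1 : P ≤ stabilizer G b)
    (h2 : P' ≤ stabilizer G b) : P = P' := by
  obtain ⟨e, he, rfl⟩ := hP
  have h3 := cj_le_stab'.1 h1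
  have h4 := S.toPS.mem_Syl_typ h3 (cj_mem_Cjs (inv_mem he) hP') (cj_le_stab.2 h2)
  have h5 : S.toPS.typ (stabilizer G (e⁻¹ • b)) = ∅ := Set.eq_empty_of_forall_notMem fun i hi => hb (by
    rw [← cj_of_mem he]
    exact cj_le_stab'.2 (h.univ_le_of_D hR h3 hi))
  rw [h5] at h4
  rw [← S.toPS.Syl_empty h4, cj_cj_inv]

theorem count (hR : RT S T a) {V Q : Subgroup G} (M : Md p T a V Q) (hQ : ∀ e ∈ S.D Set.univ, cj e Q = Q)
    (h3 : ∀ w ∈ Q, S.D Set.univ ≤ stabilizer G (w • a) → w ∈ V) (J : Set I) :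
    (Orb Q a ∩ Fx (S.toPS.V J)).ncard = S.toPS.W J * ((Orb Q a ∩ Fx S.X).ncard - 1) + 1 := by
  have := h.A.finite
  have h4 : ∀ K : Subgroup G, K ≤ S.X → a ∈ Orb Q a ∩ Fx K := fun K hK => ⟨self_mem_Orb _ _, hK.trans h.At.X_fix⟩
  have h5 : ∀ e ∈ S.D Set.univ, ∀ P : Subgroup G, ∀ b ∈ (Orb Q a ∩ Fx P) \ {a}, e • b ∈ (Orb Q a ∩ Fx (cj e P)) \ {a} := by
    rintro e he P _ ⟨⟨⟨w, hw, rfl⟩, h5⟩, h6⟩
    refine ⟨⟨⟨e * w * e⁻¹, nm_conj (hQ e he) hw, ?_⟩, cj_le_stab.2 h5⟩, fun h7 => h6 ?_⟩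
    · rw [mul_smul, mul_smul, show e⁻¹ • a = a from h.At.fix (inv_mem he)]
    · exact smul_left_cancel e (Eq.trans h7 (h.At.fix he).symm)
  rw [← Set.ncard_sdiff_singleton_add_one (h4 _ (S.toPS.V_le J)) (Set.toFinite _),
    ← Set.ncard_sdiff_singleton_of_mem (h4 _ le_rfl)]
  congr 1
  refine ncard_eq_mul (Set.toFinite _) (Set.toFinite _) (fun P => (Orb Q a ∩ Fx P) \ {a}) (fun b hb => ?_)
    (fun P hP b hb => ⟨⟨hb.1.1, (rad_le hP).trans hb.1.2⟩, hb.2⟩) ?_ ?_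
  · obtain ⟨P, hP, h6, h7⟩ := h.At.exists_Syl h.A (S.toPS.V_isP J) ((S.toPS.V_le J).trans (S.toPS.X_le _)) hb.1.2
    exact ⟨P, S.vx J P hP h6, ⟨hb.1.1, h7⟩, hb.2⟩
  · rintro P hP P' hP' _ ⟨⟨⟨w, hw, rfl⟩, h6⟩, h7⟩ h8
    exact h.uniq_of_not hR (fun h9 => h7 (M.fix (h3 w hw h9))) (S.toPS.Syl_mono (Set.subset_univ J) hP)
      (S.toPS.Syl_mono (Set.subset_univ J) hP') h6 h8.1.2
  · rintro _ ⟨e, he, rfl⟩
    have he' := S.toPS.le_univ J he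
    rw [← Set.ncard_image_of_injective ((Orb Q a ∩ Fx S.X) \ {a}) (MulAction.injective e)]
    congr 1
    ext b
    constructor
    · intro hb
      have h6 := h5 _ (inv_mem he') _ b hb
      rw [cj_inv_cj] at h6
      exact ⟨_, h6, smul_inv_smul e b⟩
    · rintro ⟨c, hc, rfl⟩
      exact h5 e he' _ c hc

theorem nopc [Nontrivial I] : NoPC S T := by
  by_contra hN
  have := h.A.finite
  have hR := h.rt
  obtain ⟨V, Q, M, h1, -, h3⟩ := h.exists_Md_of_not hN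
  have h4 : ∀ K : Subgroup G, K ≤ S.X → ∃ n, (Orb Q a ∩ Fx K).ncard = p ^ n := fun K hK => by
    have h5 : ∀ {w : G}, w ∈ Cm V Q K ↔ w ∈ Q ∧ K ≤ stabilizer G (w • a) :=
      M.mem_Cm (hK.trans h.At.X_fix) (fun x hx => h1 x (S.toPS.X_le _ (hK hx)))
    have h6 : Orb Q a ∩ Fx K = Orb (Cm V Q K) a := by
      ext b
      exact ⟨fun ⟨⟨w, hw, h6⟩, h7⟩ => ⟨w, h5.2 ⟨hw, h6 ▸ h7⟩, h6⟩,
        fun ⟨w, hw, h6⟩ => ⟨⟨w, hw.1, h6⟩, h6 ▸ (h5.1 hw).2⟩⟩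
    rw [h6]
    exact ncard_Orb_eq_pow (M.isP.to_le (Cm_le _ _ _)) a
  obtain ⟨b, hb⟩ := h4 _ le_rfl
  have h5 : 0 < b := Nat.pos_of_ne_zero (by
    rintro rfl
    have h5 := h.count hR M h1 h3 Set.univ
    rw [hb, h.At.V_univ h.A, pow_zero, Nat.sub_self, mul_zero, zero_add, Set.ncard_eq_one] at h5
    obtain ⟨c, hc⟩ := h5
    obtain ⟨w, hw, hw'⟩ := M.exists_not
    have h6 : w • a ∈ Orb Q a ∩ Fx (⊥ : Subgroup G) := ⟨⟨w, hw, rfl⟩, bot_le (a := stabilizer G _)⟩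
    have h7 : a ∈ Orb Q a ∩ Fx (⊥ : Subgroup G) := ⟨self_mem_Orb _ _, bot_le (a := stabilizer G _)⟩
    rw [hc] at h6 h7
    exact hw' (M.inf w hw (h6.trans h7.symm)))
  have h6 : ∀ i, S.toPS.W {i} = p ^ b + 1 := fun i => by
    obtain ⟨n, -, hn⟩ := PS.Split.exists_pow (S := S.toPS) (S.split i)
    obtain ⟨c, hc⟩ := h4 _ (S.toPS.V_le {i})
    have h6 := h.count hR M h1 h3 {i}
    rw [hc, hb, hn] at h6
    obtain ⟨r, hr⟩ : ∃ r, p ^ b = r + 1 := ⟨p ^ b - 1, by have := pow_pos hp.1.pos b; omega⟩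
    rw [hn, (arith_split hp.1 h5 (a := c) (n := n) (by rw [h6, hr, Nat.add_sub_cancel]; ring)).1]
  obtain ⟨i, k, hne⟩ := exists_pair_ne I
  obtain ⟨e, he, -⟩ := S.rk2 i k hne (S.split i) (S.split k)
  obtain ⟨d, hd⟩ := h4 _ (S.toPS.V_le {i, k})
  have h7 := h.count hR M h1 h3 {i, k}
  rw [hd, hb, show S.toPS.W {i, k} = _ from he, show nS (S.D {i}) S.X = _ from h6 i,
    show nS (S.D {k}) S.X = _ from h6 k, Nat.add_sub_cancel] at h7
  exact arith_two hp.1 h5 h7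

/-- the layer fixes only one point -/
theorem not_le [Nontrivial I] {b : Ω} (hb : b ≠ a) : ¬ S.D Set.univ ≤ stabilizer G b := fun h1 => by
  have := h.A.nrm
  obtain ⟨t, ht, rfl⟩ := h.exists_g b
  by_cases h2 : S.D Set.univ ≤ stabilizer G (t⁻¹ • a)
  · exact hb ((h.fixE h.nopc (g := 1) (g' := t) (by rwa [cj_one]) (by rw [one_smul]; exact cj_le_stab'.2 h2)).trans
      (one_smul _ _))
  obtain ⟨P, hP, h3⟩ := h.exists_Syl (t⁻¹ • a)
  have h4 : ∀ e ∈ S.D Set.univ, cj e (cj t P) = cj t P := fun e he => nm_cj_iff.2 (h.uniq_of_not h.rt h2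
    (h.At.cj_mem_Syl (by rw [mul_smul, mul_smul, h1 he, inv_smul_smul]) hP) hP (by
      rw [cj_le_stab', show (t⁻¹ * e * t)⁻¹ = t⁻¹ * e⁻¹ * t by group, mul_smul, mul_smul, smul_inv_smul,
        show e⁻¹ • a = a from h.At.fix (inv_mem he)]
      exact h3) h3)
  have h5 := isPGroup_cj (S.toPS.Syl_isP hP) t
  have h6 : cj t P = ⊥ := (Subgroup.eq_bot_iff_forall _).2 fun x hx => h.nopc x
    ((cj_mono t ((S.toPS.Syl_le hP).trans h.At.leT)).trans (cj_normal t T).le hx) (exists_pow_of_isP h5 hx)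
    fun e he => Subgroup.mem_centralizer_singleton_iff.1 ((C.top.le.trans (iSup_le fun k y hy =>
      Subgroup.mem_centralizer_singleton_iff.2 (h.cent_of_nm h5 (cj_le_stab'.2 h3)
        (fun z hz => h4 z (E_le C k hz)) x hx y hy).symm) : _ ≤ Subgroup.centralizer {x}) he) |>.symm
  obtain ⟨e, -, rfl⟩ := hP
  exact S.toPS.X_ne_bot (cj_eq_bot.1 (cj_eq_bot.1 h6))

theorem mem_Sy {g : G} {P : Subgroup G} : P ∈ Sy S a (g • a) ↔ cj g⁻¹ P ∈ S.toPS.Syl Set.univ := by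
  constructor
  · rintro ⟨x, hx, rfl⟩
    rw [← cj_mul]
    exact h.At.cj_mem_Syl (by rw [mul_smul, hx, inv_smul_smul]) (S.toPS.X_mem _)
  · rintro ⟨e, he, h1⟩
    exact ⟨g * e, by rw [mul_smul, h.At.fix he], by rw [cj_mul, ← h1, cj_cj_inv]⟩

omit h in
theorem cj_mem_Sy {b : Ω} {P : Subgroup G} (hP : P ∈ Sy S a b) (g : G) : cj g P ∈ Sy S a (g • b) := by
  obtain ⟨x, rfl, rfl⟩ := hP
  exact ⟨g * x, mul_smul _ _ _, (cj_mul _ _ _).symm⟩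

theorem Sy_le {b : Ω} {P : Subgroup G} (hP : P ∈ Sy S a b) : P ≤ stabilizer G b := by
  obtain ⟨x, rfl, rfl⟩ := hP
  exact cj_le_stab.2 h.At.X_fix

theorem exists_Sy (b c : Ω) : ∃ P ∈ Sy S a b, P ≤ stabilizer G c := by
  obtain ⟨t, -, rfl⟩ := h.exists_g b
  obtain ⟨P, hP, h1⟩ := h.exists_Syl (t⁻¹ • c)
  exact ⟨cj t P, h.mem_Sy.2 (by rwa [cj_inv_cj]), cj_le_stab'.2 h1⟩

theorem uniq [Nontrivial I] {b c : Ω} (hne : c ≠ b) {P P' : Subgroup G} (hP : P ∈ Sy S a b) (hP' : P' ∈ Sy S a b)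
    (h1 : P ≤ stabilizer G c) (h2 : P' ≤ stabilizer G c) : P = P' := by
  obtain ⟨t, -, rfl⟩ := h.exists_g b
  exact cj_inj t⁻¹ (h.uniq_of_not h.rt (h.not_le (b := t⁻¹ • c) fun h3 => hne (inv_smul_eq_iff.1 h3))
    (h.mem_Sy.1 hP) (h.mem_Sy.1 hP') (cj_le_stab.2 h1) (cj_le_stab.2 h2))

theorem nm_Sy [Nontrivial I] {b c : Ω} (hne : c ≠ b) {P : Subgroup G} (hP : P ∈ Sy S a b) (h1 : P ≤ stabilizer G c)
    {g : G} (h2 : g • b = b) (h3 : g • c = c) : cj g P = P :=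
  h.uniq hne (h2 ▸ cj_mem_Sy hP g) hP (h3 ▸ cj_le_stab.2 h1) h1

omit h in
theorem X_mem_Sy : S.X ∈ Sy S a a := ⟨1, one_smul _ _, (cj_one _).symm⟩

/-- no bad points -/
theorem nb [Nontrivial I] (hU : ∀ i, ∀ x ∈ S.X, ∀ y ∈ S.X, x * y * x⁻¹ * y⁻¹ ∈ S.toPS.V {i}) {b : Ω} (hb : b ≠ a)
    (h1 : S.X ≤ stabilizer G b) {P : Subgroup G} (hP : P ∈ Sy S a b) (h2 : P ≤ stabilizer G a) :
    (Fx P : Set Ω) = Fx S.X := by
  have := h.A.finite
  have := h.A.nrm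
  have n1 : ∀ g : G, g • a = a → g • b = b → cj g S.X = S.X := fun g => h.nm_Sy hb X_mem_Sy h1
  have n2 : ∀ g : G, g • a = a → g • b = b → cj g P = P := fun g a1 a2 => h.nm_Sy hb.symm hP h2 a2 a1
  have h3 := h.Sy_le hP
  obtain ⟨t, ht, rfl⟩ := hP
  by_cases h4 : (Fx (S.X ⊓ cj t S.X) : Set Ω) ⊆ Fx S.X
  · exact Set.eq_of_subset_of_ncard_le (fun c hc => h4 (inf_le_right.trans (mem_Fx.1 hc))) (ncard_Fx_cj t _).ge
      (Set.toFinite _)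
  obtain ⟨c, h5, h6⟩ := Set.not_subset.1 h4
  obtain ⟨P, hP, h7, h8⟩ := h.At.exists_Syl h.A (S.isP.to_le inf_le_left) (inf_le_left.trans (S.toPS.X_le _)) h5
  obtain ⟨i₀, h9⟩ := inf_le_V S hP fun h9 => h6 (h9 ▸ h8)
  have hY : ∀ k, S.X ⊓ cj t S.X ≤ S.toPS.V {k} := fun k => by
    obtain ⟨R, a1, a2, a3⟩ := h.exists_R h1
    obtain ⟨r, hr, a4⟩ := h.rt R a2 a1 i₀ k
    have a5 := n1 r (a2.le hr).2 (a3 hr)
    rw [← S.toPS.V_eq_of_cj a5 a4, ← nm_inf a5 (n2 r (a2.le hr).2 (a3 hr))]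
    exact cj_mono r ((le_inf inf_le_left h7).trans h9)
  suffices h10 : cj t S.X ≤ S.X by rw [Subgroup.eq_of_le_of_card_ge h10 (card_cj t _).ge]
  intro g hg
  have g1 : g • a = a := h2 hg
  have g2 := n1 g g1 (h3 hg)
  have g3 : ∀ k, ∀ u ∈ S.X, g * u * g⁻¹ * u⁻¹ ∈ S.toPS.V {k} := fun k u hu => hY k (Subgroup.mem_inf.2
    ⟨mul_mem (nm_conj g2 hu) (inv_mem hu), by
      simpa only [mul_assoc] using mul_mem hg (nm_conj (n2 u (h.At.X_fix hu) (h1 hu)) (inv_mem hg))⟩)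
  have g4 : ∀ i, cj g (S.D {i}) = S.D {i} := fun i => by
    obtain ⟨k, hk⟩ := h.perm g1 g2 i
    have a1 : S.toPS.V {i} ≤ S.toPS.V {k} := fun u hu => inv_mem_iff.1 ((mul_mem_cancel_left
      (S.toPS.V_eq_of_cj g2 hk ▸ conj_mem_cj g hu)).1 (g3 k u (S.toPS.V_le _ hu)))
    rw [hk, show k = i from S.toPS.V_le_iff a1 rfl]
  obtain ⟨P₀, o1, o2, o3, o4, o5⟩ := S.opp
  obtain ⟨u, hu, h10⟩ := o3 _ (h.At.cj_mem_Syl g1 o1) (by rw [← g2, ← cj_inf, o2, cj_bot])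
  rw [← cj_mul] at h10
  have k1 : (u * g) • a = a := by rw [mul_smul, g1, h.At.X_fix hu]
  have k2 : cj (u * g) S.X = S.X := nm_mul (cj_of_mem hu) g2
  have h11 := o5 (u * g) (h.At.nrmH _ k1) h10 fun i R hR => by
    obtain ⟨R₀, a1, a2, a3⟩ := o4 i
    have a4 : cj (u * g) R₀ = R₀ := by_contra fun a4 => a2 (cj_eq_bot.1 (by
      rw [cj_inf, h10]
      exact a3 _ (cj_mem_Cjs_nm (nm_mul (S.toPS.nm_X hu _) (g4 i)) k2 a1) a4))
    by_cases a5 : R = S.X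
    · rw [a5, k2]
    obtain ⟨x, hx, rfl⟩ := S.split i R₀ a1 (fun a6 => a2 (a6 ▸ o2)) R hR a5
    have a6 : x⁻¹ * (u * g * x * (u * g)⁻¹) ∈ R₀ := rad_le a1 (by
      have a6 := mul_mem (hU i _ (inv_mem hx) u hu) (nm_conj (S.toPS.nm_V (S.toPS.X_le {i} (mul_mem hu (inv_mem hx))))
        (g3 i x hx))
      convert a6 using 1
      group)
    calc cj (u * g) (cj x R₀) = cj x (cj (x⁻¹ * (u * g * x * (u * g)⁻¹)) (cj (u * g) R₀)) := by
          rw [← cj_mul, ← cj_mul, ← cj_mul]; congr 1; group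
      _ = _ := by rw [a4, cj_of_mem a6]
  have h12 := h.nopc (u * g) (mul_mem (h.At.X_T hu) ((cj_mono t h.At.X_T).trans (cj_normal t T).le hg))
    (exists_pow_of_isP (isP_sup S.isP (isPGroup_cj S.isP t) fun x hx => n2 x (h.At.X_fix hx) (h1 hx))
      (Subgroup.mul_mem_sup hu hg)) (h.At.comm_of_fix h.A h11)
  rw [eq_inv_of_mul_eq_one_right h12]
  exact inv_mem hu

/-- two points lie on one line -/
theorem lin [Nontrivial I] (hU : ∀ i, ∀ x ∈ S.X, ∀ y ∈ S.X, x * y * x⁻¹ * y⁻¹ ∈ S.toPS.V {i}) {x x' b b' : Ω}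
    (hne : b' ≠ b) {P P' : Subgroup G} (hP : P ∈ Sy S a x) (hP' : P' ∈ Sy S a x') (h1 : P ≤ stabilizer G b)
    (h2 : P ≤ stabilizer G b') (h3 : P' ≤ stabilizer G b) (h4 : P' ≤ stabilizer G b') : (Fx P : Set Ω) = Fx P' := by
  have key : ∀ {x : Ω} {P : Subgroup G}, P ∈ Sy S a x → P ≤ stabilizer G b →
      ∃ R ∈ Sy S a b, (Fx R : Set Ω) = Fx P := by
    intro x P hP h1
    by_cases h2 : b = x
    · exact ⟨P, h2 ▸ hP, rfl⟩
    obtain ⟨R, hR, h3⟩ := h.exists_Sy b x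
    obtain ⟨g, rfl, rfl⟩ := hP
    have h4 := h.nb hU (b := g⁻¹ • b) (fun h4 => h2 (inv_smul_eq_iff.1 h4)) (cj_le_stab'.1 h1) (cj_mem_Sy hR g⁻¹)
      (cj_le_stab'.2 (by rwa [inv_inv]))
    exact ⟨R, hR, by rw [Fx_cj, ← h4, ← Fx_cj, cj_cj_inv]⟩
  obtain ⟨R, hR, h5⟩ := key hP h1
  obtain ⟨R', hR', h6⟩ := key hP' h3
  rw [← h5, ← h6, h.uniq hne hR hR' (mem_Fx.1 (h5 ▸ h2)) (mem_Fx.1 (h6 ▸ h4))]

end Cx

end Cfsg.Agent.TH.Own.Tw
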