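import Mathlib
import Cfsg.Agent.TH.Own.TwoTy

/-!
# S3541, `BoxTwo`: the linear space is an affine plane; the assembly (helper72)
-/

set_option autoImplicit false
set_option linter.unusedSectionVars false
set_option linter.unusedVariables false

namespace Cfsg.Agent.TH.Own

open MulAction

namespace Tw

variable {G : Type*} [Group G] {p : ℕ} {I ι : Type*} {Ω : Type*} [MulAction G Ω] {T : Subgroup G} {m : ℕ}

/-- the action on `Q / V` -/
@[reducible] def actN {D Q V : Subgroup G} [(V.subgroupOf Q).Normal] (h1 : ∀ x ∈ D, cj x Q = Q)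
    (h2 : ∀ x ∈ D, cj x V = V) : MulDistribMulAction D (Q ⧸ V.subgroupOf Q) where
  smul e := Quotient.map' (fun w => ⟨e * w * (e : G)⁻¹, nm_conj (h1 e e.2) w.2⟩) fun a b hab => by
    rw [QuotientGroup.leftRel_apply] at hab ⊢
    have h3 : (e : G) * ((a : G)⁻¹ * b) * (e : G)⁻¹ ∈ V := nm_conj (h2 e e.2) hab
    show ((e : G) * a * (e : G)⁻¹)⁻¹ * (e * b * (e : G)⁻¹) ∈ V
    convert h3 using 1
    group
  one_smul a := Quotient.inductionOn' a fun a => congrArg Quotient.mk'' (Subtype.ext (by simp))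
  mul_smul e f a := Quotient.inductionOn' a fun a => congrArg Quotient.mk'' (Subtype.ext (by
    show ((e : G) * f) * a * ((e : G) * f)⁻¹ = e * (f * a * (f : G)⁻¹) * (e : G)⁻¹
    group))
  smul_mul e a b := Quotient.inductionOn₂' a b fun a b => congrArg Quotient.mk'' (Subtype.ext (by
    show (e : G) * (a * b) * (e : G)⁻¹ = e * a * (e : G)⁻¹ * (e * b * (e : G)⁻¹)
    group))
  smul_one e := congrArg Quotient.mk'' (Subtype.ext (by
    show (e : G) * 1 * (e : G)⁻¹ = 1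
    group))

variable [Finite G] [hp : Fact p.Prime]

namespace Cx

variable {a : Ω} {S : US G p I} {C : Comps S ι} (h : Cx T m a S C)

include h

theorem dvd_Fx : p ∣ (Fx S.X : Set Ω).ncard := by
  have := h.A.finite
  have := h.A.nrm
  obtain ⟨R, h1, hR⟩ := exists_maxP S.isP h.At.X_le
  obtain ⟨Q, h2, h3, h4, -, h5⟩ := h.A.gt a R (fun h2 => S.toPS.X_ne_bot (le_bot_iff.1 (h2 ▸ h1))) hR.isP
    (hR.le.trans inf_le_left) (hR.le.trans inf_le_right)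
  have h6 : (Fx Q : Set Ω) = ∅ := Set.eq_empty_of_forall_notMem fun c hc => by
    obtain ⟨t, -, rfl⟩ := h.exists_g c
    have h7 := hR.card_le (isPGroup_cj h2 t⁻¹) (le_inf ((cj_mono _ h3).trans (cj_normal _ T).le)
      (cj_le_stab'.2 (by rwa [inv_inv])))
    rw [card_cj] at h7
    exact h5 (Subgroup.eq_of_le_of_card_ge h4 h7 ▸ hR.le.trans inf_le_right)
  have h7 := modEq_fix h2 (Set.univ : Set Ω) Set.finite_univ fun _ _ _ _ => trivial
  have h8 := modEq_fix S.isP (Set.univ : Set Ω) Set.finite_univ fun _ _ _ _ => trivial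
  rw [h6, Set.inter_empty, Set.ncard_empty] at h7
  rw [Set.univ_inter] at h8
  exact Nat.modEq_zero_iff_dvd.1 (h8.symm.trans h7)

/-- the module of a node -/
theorem exists_K [Nontrivial I] (i : I) : ∃ K Q, Md p T a K Q ∧ S.toPS.V {i} ≤ K ∧ (∀ x ∈ S.D {i}, cj x K = K) ∧
    (∀ x ∈ S.D {i}, cj x Q = Q) ∧ ∀ b : Ω, S.X ≤ stabilizer G b → K ≤ stabilizer G b := by
  let L := T ⊓ stabilizer G a ⊓ Subgroup.normalizer (S.toPS.V {i} : Set G)
  obtain ⟨h1, h2, h3⟩ := Op_spec (p := p) L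
  have h4 : S.D {i} ≤ L := le_inf (h.At.D_le _) fun x hx => nm_iff.2 (S.toPS.nm_V hx)
  have h5 : S.toPS.V {i} ≤ Op p L := le_Op (((S.toPS.V_le _).trans (S.toPS.X_le _)).trans h4) (S.toPS.V_isP _)
    fun g hg => nm_iff.1 hg.2
  obtain ⟨Q, M, hQ⟩ := exists_Md h.A (V := Op p L) (fun h6 => S.toPS.V_ne_bot (J := {i}) (fun h7 => by
      obtain ⟨k, hk⟩ := exists_ne i
      exact hk (h7 ▸ Set.mem_univ k : k ∈ ({i} : Set I))) (le_bot_iff.1 (h6 ▸ h5))) h2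
    (h1.trans (inf_le_left.trans inf_le_left)) (h1.trans (inf_le_left.trans inf_le_right))
    fun Q a1 a2 a3 a4 a5 => by
      have a6 : ∀ g ∈ L, cj g Q = Q := fun g hg => a5 g hg.1.2 (h3 g hg)
      have a7 : ∀ g ∈ S.D {i}, cj g (Q ⊓ S.D Set.univ) = Q ⊓ S.D Set.univ := fun g hg =>
        nm_inf (a6 g (h4 hg)) (cj_of_mem (S.toPS.le_univ _ hg))
      have a8 : Q ⊓ S.D Set.univ = S.toPS.V {i} := le_antisymm (le_rad (S.toPS.maxP.le_of_nm (a1.to_le inf_le_left)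
        inf_le_right fun x hx => a7 x (S.toPS.X_le _ hx)) a7)
        (le_inf (h5.trans a4) ((S.toPS.V_le _).trans (S.toPS.X_le _)))
      exact le_Op (le_inf (le_inf a2 a3) fun w hw => nm_iff.2 (by
        rw [← a8]; exact nm_inf (cj_of_mem hw) (h.At.nrmH w (a3 hw)))) a1 a6
  refine ⟨_, Q, M, h5, fun x hx => h3 x (h4 hx), fun x hx => hQ x (h3 x (h4 hx)), fun b hb => ?_⟩
  obtain ⟨R, a1, a2, a3⟩ := h.exists_R hb
  obtain ⟨g, hg, a4⟩ := a2.exists_cj (isP_sup S.isP h2 fun x hx => h3 x (h4 (S.toPS.X_le _ hx)))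
    (sup_le h.At.X_le (h1.trans inf_le_left))
  have a5 : cj g S.X = S.X := by
    have a5 := a2.cj g
    rw [cj_of_mem hg] at a5
    rw [← h.At.inf_eq a2 (S.toPS.X_mem ∅) a1, cj_inf, h.At.nrmH g hg.2,
      h.At.inf_eq a5 (S.toPS.X_mem ∅) (le_sup_left.trans a4), h.At.inf_eq a2 (S.toPS.X_mem ∅) a1]
  obtain ⟨k, hk⟩ := h.perm ((T ⊓ stabilizer G a).inv_mem hg).2 (nm_inv a5) i
  obtain ⟨r, hr, a6⟩ := h.rt R a2 a1 k i
  have a7 := h3 (r * g⁻¹) ⟨(T ⊓ stabilizer G a).mul_mem (a2.le hr) (inv_mem hg), nm_iff.2 (S.toPS.V_eq_of_cj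
    (nm_mul (h.At.nm_of_le a2.isP (a2.le.trans inf_le_right) (S.toPS.X_mem ∅) a1 hr) (nm_inv a5))
    (by rw [cj_mul, hk, a6]))⟩
  rw [← a7, cj_mul]
  exact ((cj_mono r ((cj_le_iff _).2 (by rw [inv_inv]; exact le_sup_right.trans a4))).trans (cj_of_mem hr).le).trans a3

theorem ag_aux [Nontrivial I] (i : I) : (∀ x ∈ S.X, ∀ y ∈ S.X, x * y * x⁻¹ * y⁻¹ ∈ S.toPS.V {i}) ∧
    ((∀ i, ∀ x ∈ S.X, ∀ y ∈ S.X, x * y * x⁻¹ * y⁻¹ ∈ S.toPS.V {i}) → False) := by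
  have := h.A.finite
  obtain ⟨K, Q, M, h1, h2, h3, h4⟩ := h.exists_K i
  have : (K.subgroupOf Q).Normal := ⟨fun n hn x => nm_conj (x := (n : G)) (M.nm x x.2) hn⟩
  let _ := actN h3 h2
  let φ : Q ⧸ K.subgroupOf Q → Ω := Quotient.lift (fun w : Q => (w : G) • a) fun w w' hw => by
    have h5 : ((w : G)⁻¹ * w') • a = a := M.fix ((QuotientGroup.leftRel_apply (s := K.subgroupOf Q)).1 hw)
    rw [mul_smul, inv_smul_eq_iff] at h5
    exact h5.symm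
  have φ1 : Function.Injective φ := fun n n' => Quotient.inductionOn₂' n n' fun w w' h5 =>
    QuotientGroup.eq.2 (M.inf ((w : G)⁻¹ * w') (mul_mem (inv_mem w.2) w'.2) (by
      rw [mul_smul, inv_smul_eq_iff]
      exact Eq.symm h5))
  have φ2 : ∀ (e : S.D {i}) (n : Q ⧸ K.subgroupOf Q), φ (e • n) = (e : G) • φ n := fun e n =>
    Quotient.inductionOn' n fun w => by
      show ((e : G) * w * (e : G)⁻¹) • a = (e : G) • (w : G) • a
      rw [mul_smul, mul_smul, show (e : G)⁻¹ • a = a from h.At.D_fix _ (inv_mem e.2)]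
  have φ3 : ∀ {P : Subgroup G}, P ≤ S.D {i} → ∀ {n : Q ⧸ K.subgroupOf Q},
      n ∈ CC (S.D {i}) _ P ↔ P ≤ stabilizer G (φ n) := fun hP n =>
    ⟨fun h5 x hx => (φ2 ⟨x, hP hx⟩ n).symm.trans (congrArg φ (h5 ⟨x, hP hx⟩ hx)),
      fun h5 x hx => φ1 ((φ2 x n).trans (h5 hx))⟩
  have φ4 : φ 1 = a := one_smul G a
  have φ5 : ∀ n ∈ CC (S.D {i}) (Q ⧸ K.subgroupOf Q) (S.D {i}), n = 1 := fun n hn => φ1 (φ4.symm ▸ by_contra fun h5 =>
    h.not_le h5 (h.univ_le_of_D h.rt ((S.toPS.X_le _).trans ((φ3 le_rfl).1 hn)) ((φ3 le_rfl).1 hn)))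
  have cov : ∀ n : Q ⧸ K.subgroupOf Q, ∃ P ∈ S.toPS.Syl {i}, n ∈ CC (S.D {i}) _ P := fun n =>
    Quotient.inductionOn' n fun w => by
      obtain ⟨P, hP, h5, h6⟩ := h.At.exists_Syl h.A (S.toPS.V_isP {i}) ((S.toPS.V_le _).trans (S.toPS.X_le _))
        (h1.trans (M.fix_smul w.2))
      exact ⟨P, S.vx _ P hP h5, (φ3 (S.toPS.Syl_le (S.vx _ P hP h5))).2 h6⟩
  have sp : Sp p (S.D {i}) S.X (Q ⧸ K.subgroupOf Q) :=
    { mx := S.toPS.maxD _
      spl := S.split i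
      gen := S.gen _
      isP := M.isP.to_quotient _
      cov := cov
      act := by
        obtain ⟨w, hw, hw'⟩ := M.exists_not
        obtain ⟨_, ⟨e, he, rfl⟩, h5⟩ := cov (⟨w, hw⟩ : Q)
        have h6 := smul_mem_CC h5 (⟨e, he⟩ : S.D {i})⁻¹
        rw [Subgroup.coe_inv, cj_inv_cj] at h6
        exact ⟨_, h6, fun h7 => hw' ((QuotientGroup.eq_one_iff (⟨w, hw⟩ : Q)).1 (φ5 _ ((smul_mem_CC_D _).1 h7)))⟩ }
  refine ⟨fun x hx y hy => sp.comm_mem_rad hx hy, fun hU => ?_⟩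
  obtain ⟨n, hn0, hn⟩ := PS.Split.exists_pow (S := S.toPS) (S.split i)
  obtain ⟨h5, h6⟩ := sp.card_top hn
  rw [(Subgroup.eq_bot_iff_forall _).2 φ5, Subgroup.card_bot, mul_one] at h5 h6
  have h7 : 1 < p ^ n := Nat.one_lt_pow hn0.ne' hp.1.one_lt
  -- a point off the line
  obtain ⟨w, hw, h8⟩ : ∃ w ∈ Q, ¬ S.X ≤ stabilizer G (w • a) := by
    by_contra h8
    push Not at h8
    have h9 : CC (S.D {i}) (Q ⧸ K.subgroupOf Q) S.X = ⊤ := eq_top_iff.2 fun n _ =>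
      Quotient.inductionOn' n fun w => (φ3 (S.toPS.X_le _)).2 (h8 w w.2)
    rw [h9, Subgroup.card_top, h6] at h5
    nlinarith
  have h9 : (Fx S.X : Set Ω).ncard ≤ p ^ n + 1 := by
    have a1 : ∀ b : (Fx S.X : Set Ω), ∃ P ∈ S.toPS.Syl {i}, P ≤ stabilizer G (w⁻¹ • (b : Ω)) := fun b => by
      obtain ⟨P, hP, a1, a2⟩ := h.At.exists_Syl h.A (b := w⁻¹ • (b : Ω)) (S.toPS.V_isP {i})
        ((S.toPS.V_le _).trans (S.toPS.X_le _)) (h1.trans (le_stab_smul (M.nm _ (inv_mem hw)) (h4 b b.2)))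
      exact ⟨P, S.vx _ P hP a1, a2⟩
    choose f a2 a3 using a1
    rw [← hn, ← Nat.card_coe_set_eq]
    refine (Nat.card_le_card_of_injective (β := S.toPS.Syl {i}) (fun b => ⟨f b, a2 b⟩) fun b b' a4 => ?_).trans
      (Nat.card_coe_set_eq _).le
    have a5 : f b = f b' := congrArg Subtype.val a4
    have a6 : cj w (f b) ∈ Sy S a (w • a) := h.mem_Sy.2 (by
      rw [cj_inv_cj]; exact S.toPS.Syl_mono (Set.subset_univ _) (a2 b))
    by_contra a7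
    have a8 := h.lin hU (fun a8 => a7 (Subtype.ext a8)) a6 X_mem_Sy (cj_le_stab'.2 (a5 ▸ a3 b')) (cj_le_stab'.2 (a3 b))
      b'.2 b.2
    exact h8 (mem_Fx.1 (a8 ▸ h.Sy_le a6))
  have h10 : φ '' (CC (S.D {i}) (Q ⧸ K.subgroupOf Q) S.X) ⊆ Fx S.X := by
    rintro _ ⟨n, hn, rfl⟩
    exact (φ3 (S.toPS.X_le _)).1 hn
  have h11 : (φ '' (CC (S.D {i}) (Q ⧸ K.subgroupOf Q) S.X)).ncard = p ^ n := by
    rw [Set.ncard_image_of_injective _ φ1, ← Nat.card_coe_set_eq]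
    exact h5
  have h12 := Set.eq_of_subset_of_ncard_le h10 (by
    rw [h11]
    refine Nat.le_of_lt_succ (lt_of_le_of_ne h9 fun h12 => hp.1.one_lt.ne' (Nat.dvd_one.1 ?_))
    exact (Nat.dvd_add_right (dvd_pow_self p hn0.ne')).1 (h.dvd_Fx.trans (dvd_of_eq h12))) (Set.toFinite _)
  refine h.A.not_trans S.isP h.At.X_T h.At.X_fix fun b c hb hc h13 h14 => ?_
  obtain ⟨z, hz, rfl⟩ : b ∈ φ '' (CC (S.D {i}) (Q ⧸ K.subgroupOf Q) S.X) := h12 ▸ h13
  obtain ⟨z', hz', rfl⟩ : c ∈ φ '' (CC (S.D {i}) (Q ⧸ K.subgroupOf Q) S.X) := h12 ▸ h14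
  obtain ⟨d, -, h15⟩ := sp.trans hz (fun h15 => hb (by rw [φ5 _ h15, φ4])) hz' fun h15 => hc (by rw [φ5 _ h15, φ4])
  exact ⟨d, h.At.D_fix _ d.2, by rw [← φ2, ← inv_mul_eq_one.1 (φ5 _ h15)]⟩

theorem subsingleton : Subsingleton I := not_nontrivial_iff_subsingleton.1 fun _ => by
  obtain ⟨i, -⟩ := S.endn
  exact (h.ag_aux i).2 fun i => (h.ag_aux i).1

end Cx

/-- transitivity on the unfolded nodes -/
theorem ptrans_of_fold {I' : Type*} {a : Ω} {S : US G p I} {F : FS G p I'} {κ : I → I'} (hS : S.toPS.At T a)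
    (hF : F.At T a) (hκ : Fold S F κ a) (h : PTrans F.toPS T a) : PTrans S.toPS T a := by
  have h1 : ∀ g : G, g • a = a → cj g F.X = F.X → cj g S.X = S.X := fun g h1 h2 => by
    rw [← hκ.inf]; exact nm_inf h2 (hS.nrmH g h1)
  have h2 : Np p T a F.X ≤ Np p T a S.X :=
    Subgroup.closure_mono fun g hg => ⟨hg.1, hg.2.1, h1 g hg.2.1 hg.2.2.1, hg.2.2.2⟩
  have h3 : ∀ i, S.D {i} ≤ F.D {κ i} := fun i => by
    rw [hκ.D_eq]
    exact le_sup_of_le_left (S.mono (Set.singleton_subset_iff.2 rfl))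
  intro i k
  obtain ⟨g, hg, h4⟩ := h (κ i) (κ k)
  obtain ⟨-, h5, h6⟩ := mem_Np hg
  obtain ⟨j, hj⟩ := S.toPS.exists_perm (hS.nrmH g h5) (h1 g h5 h6) i
  have h7 : S.D {j} ≤ F.D {κ k} := by
    rw [← hj, ← h4]; exact cj_mono g (h3 i)
  have h8 : κ j = κ k := F.toPS.eq_of_single_le (by
    rw [hκ.D_eq]
    refine sup_le (S.toPS.D_le (hκ.inf.ge.trans (inf_le_left.trans (F.toPS.X_le _))) fun j' hj' => ?_) (F.toPS.X_le _)
    obtain ⟨x, hx, h8⟩ := hκ.fib j j' (Eq.symm hj')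
    rw [← h8, ← F.toPS.nm_X hx]
    exact cj_mono x h7)
  obtain ⟨x, hx, h9⟩ := hκ.fib j k h8
  exact ⟨x * g, mul_mem (h2 (Subgroup.subset_closure ⟨hF.toAt.X_T hx, hF.toAt.X_fix hx, cj_of_mem hx,
    exists_pow_of_isP F.isP hx⟩)) (h2 hg), by rw [cj_mul, hj, h9]⟩

end Tw

/-- [TWO] -/
theorem boxTwo : BoxTwo := by
  intro G _ _ Ω _ T p m a I ι I' _ _ _ S C F κ A hS hF hκ h
  have := Fact.mk A.prime
  exact Tw.Cx.subsingleton (C := C) ⟨A, hS, Tw.ptrans_of_fold hS hF hκ h⟩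

end Cfsg.Agent.TH.Own
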