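import Mathlib
import Cfsg.Agent.TH.Own.AmbOf
import Cfsg.Agent.TH.Own.Bld
import Cfsg.Agent.TH.Own.R1D
import Cfsg.Agent.TH.Own.Fold
import Cfsg.Agent.TH.Own.OneD
import Cfsg.Agent.TH.Own.Two
import Cfsg.Agent.TH.Own.RkMain

/-!
# S3541, `BoxOwn` (assembly)
-/

set_option autoImplicit false

namespace Cfsg.Agent.TH.Own

/-- **[OWN]** -/
theorem boxOwn : BoxOwn := boxOwn_of boxAmb boxBld boxR1D boxFold boxOne boxTwo boxRk1

end Cfsg.Agent.TH.Own
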